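import Cfsg.Agent.Omega.NOThreeL.RRed.Blk.Def
import Cfsg.Agent.Omega.IId.Cv.SplitTwo

/-!
# NO-3L, box R: minimal parabolics and blocks of rank one (#23492, (G2))

`Dec S L U N E R₀`, `One S L U N E z`, `S` a Sylow 2-subgroup of `G`, `R ≤ L` a minimal parabolic over `S`:

* `dich` : (K2) `R ≤ N(S ⊓ E₀)` or (K1) `R ≤ (R ⊓ E₀) ⊔ S`, where `E₀ = ⨆ E b`;
* `Dec.k2` : (K2) permutes the `z b`;
* `Dec.k1` : (K1) moving `z b` : `E b ≤ R ⊔ C`;
* `Dec.k1_eq` : then `R ≤ (⨆_{E b ≤ R ⊔ C} R ⊓ E b) ⊔ S`.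
-/

set_option autoImplicit false
set_option linter.unusedSectionVars false

namespace Cfsg.Agent.Omega.NOThreeL.RRed.Blk

open Subgroup Cfsg Cfsg.Agent.ZN
open Cfsg.Agent.MinSimple.MinParabolic (IsMinPar)
open scoped Pointwise

universe u v

variable {G : Type u} [Group G] {ι : Type v}

/-- **K1 / K2** for a normal subgroup `E₀` of `L`. -/
theorem dich [Finite G] {S : Sylow 2 G} {R E₀ : Subgroup G} (hR : IsMinPar (S : Subgroup G) R)
    (hE : R ≤ normalizer (E₀ : Set G)) :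
    R ≤ normalizer (((S : Subgroup G) ⊓ E₀ : Subgroup G) : Set G) ∨ (R ⊓ E₀) ⊔ (S : Subgroup G) = R := by
  have hn : R ≤ normalizer ((R ⊓ E₀ : Subgroup G) : Set G) := by
    intro r hr
    rw [mem_normalizer_iff]
    intro x
    constructor
    · rintro ⟨h1, h2⟩
      exact mem_inf.2 ⟨mul_mem (mul_mem hr h1) (inv_mem hr), (mem_normalizer_iff.1 (hE hr) x).1 h2⟩
    · rintro ⟨h1, h2⟩
      refine mem_inf.2 ⟨?_, (mem_normalizer_iff.1 (hE hr) x).2 h2⟩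
      have e : x = r⁻¹ * (r * x * r⁻¹) * r := by group
      rw [e]
      exact mul_mem (mul_mem (inv_mem hr) h1) hr
  rcases hR.sup_eq_or_inf_le S.isPGroup' (MinSimple.Basic.not_dvd_relIndex S hR.le) inf_le_left hn with h | h
  · exact Or.inr h
  · left
    have key : ∀ r ∈ R, ∀ x, x ∈ (S : Subgroup G) ⊓ E₀ → r * x * r⁻¹ ∈ (S : Subgroup G) ⊓ E₀ := by
      rintro r hr x ⟨hx1, hx2⟩
      have hx3 : x ∈ o2 R := h ⟨hx1, hR.le hx1, hx2⟩
      refine ⟨?_, (mem_normalizer_iff.1 (hE hr) x).1 hx2⟩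
      have h4 : r * x * r⁻¹ ∈ o2 R := (mem_normalizer_iff.1 (Cfsg.Agent.MinSimple.VModule.le_normalizer_o2 R hr) x).1 hx3
      exact MinSimple.VModule.o2_le_of_sylow S.isPGroup' (MinSimple.Basic.not_dvd_relIndex S hR.le) h4
    intro r hr
    rw [mem_normalizer_iff]
    intro x
    refine ⟨key r hr x, fun hx => ?_⟩
    have e : x = r⁻¹ * (r * x * r⁻¹) * r⁻¹⁻¹ := by group
    rw [e]
    exact key r⁻¹ (inv_mem hr) _ hx

theorem smul_of_mem {W : Subgroup G} {g : G} (hg : g ∈ normalizer (W : Set G)) : MulAut.conj g • W = W := by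
  ext x
  constructor
  · rintro ⟨w, hw, rfl⟩
    exact conj_of hg hw
  · intro hx
    refine ⟨g⁻¹ * x * g⁻¹⁻¹, conj_of (inv_mem hg) hx, ?_⟩
    change g * (g⁻¹ * x * g⁻¹⁻¹) * g⁻¹ = x
    group

/-- `L` normalises `E₀ = ⨆ E b`. -/
theorem Dec.iSup_normal {S L U : Subgroup G} {N E : ι → Subgroup G} {R₀ : Subgroup G} (h : Dec S L U N E R₀) :
    L ≤ normalizer ((⨆ b, E b : Subgroup G) : Set G) := by
  have key : ∀ g ∈ L, ∀ x ∈ ⨆ b, E b, g * x * g⁻¹ ∈ ⨆ b, E b := by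
    intro g hg x hx
    have h1 : MulAut.conj g • (⨆ b, E b) ≤ ⨆ b, E b := by
      rw [show MulAut.conj g • (⨆ b, E b) = ⨆ b, MulAut.conj g • E b from Subgroup.map_iSup _ _]
      refine iSup_le fun b => ?_
      obtain ⟨c, _, hc⟩ := h.perm g hg b
      rw [hc]; exact le_iSup E c
    exact h1 ((conj_smul rfl).1 hx)
  intro g hg
  rw [mem_normalizer_iff]
  intro x
  refine ⟨key g hg x, fun hx => ?_⟩
  have e : x = g⁻¹ * (g * x * g⁻¹) * g⁻¹⁻¹ := by group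
  rw [e]
  exact key g⁻¹ (inv_mem hg) _ hx

namespace Dec

variable {S L U : Subgroup G} {N E : ι → Subgroup G} {R₀ : Subgroup G} (h : Dec S L U N E R₀) {z : ι → G}
  (o : One S L U N E z)
include h

theorem E0L : (⨆ b, E b) ≤ L := iSup_le h.EL

/-- `⨆ E c` normalises every `N b`. -/
theorem E0N (b : ι) : (⨆ c, E c) ≤ normalizer (N b : Set G) := by
  refine iSup_le fun c => ?_
  by_cases hc : c = b
  · rw [hc]; exact h.EN b
  · exact (h.EC c b hc).trans (centralizer_le_normalizer _)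

theorem E0_smul {e : G} (he : e ∈ ⨆ c, E c) (b : ι) : MulAut.conj e • N b = N b :=
  smul_of_mem (h.E0N b he)

theorem E0R : (⨆ c, E c) ≤ centralizer (R₀ : Set G) := iSup_le h.ER

/-- The components of `e x e⁻¹`, `e ∈ ⨆ E c`. -/
theorem comp_E0 {e : G} (he : e ∈ ⨆ c, E c) {b : ι} {x n : G} (hn : IsC N R₀ b x n) :
    IsC N R₀ b (e * x * e⁻¹) (e * n * e⁻¹) := h.comp_conj (h.E0L he) (h.E0_smul he b) hn

/-- Elements of `⨆ E c` which agree on all blocks agree on `U`. -/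
theorem mem_C [Finite ι] {e : G} (he : e ∈ ⨆ c, E c) (hb : ∀ b, ∀ x ∈ N b, e * x * e⁻¹ = x) :
    e ∈ L ⊓ centralizer (U : Set G) := by
  refine ⟨h.E0L he, mem_centralizer_iff.2 ?_⟩
  have hle : U ≤ centralizer ({e} : Set G) := by
    rw [← h.sup]
    refine sup_le (iSup_le fun b x hx => ?_) fun x hx => ?_
    · rw [mem_centralizer_singleton_iff]
      have := hb b x hx
      calc x * e = (e * x * e⁻¹) * e := by rw [this]
        _ = e * x := by group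
    · rw [mem_centralizer_singleton_iff]
      exact mem_centralizer_iff.1 (h.E0R he) x hx
  intro x hx
  exact mem_centralizer_singleton_iff.1 (hle hx)

theorem C_normal : L ≤ normalizer ((L ⊓ centralizer (U : Set G) : Subgroup G) : Set G) := by
  have key : ∀ g ∈ L, ∀ x ∈ L ⊓ centralizer (U : Set G), g * x * g⁻¹ ∈ L ⊓ centralizer (U : Set G) := by
    rintro g hg x ⟨hx1, hx2⟩
    refine mem_inf.2 ⟨mul_mem (mul_mem hg hx1) (inv_mem hg), mem_centralizer_iff.2 fun u hu => ?_⟩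
    have h1 : g⁻¹ * u * g⁻¹⁻¹ ∈ U := conj_of (h.LU (inv_mem hg)) hu
    have h2 := mem_centralizer_iff.1 hx2 _ h1
    calc u * (g * x * g⁻¹) = g * ((g⁻¹ * u * g⁻¹⁻¹) * x) * g⁻¹ := by group
      _ = g * x * g⁻¹ * u := by rw [h2]; group
  intro g hg
  rw [mem_normalizer_iff]
  intro x
  refine ⟨key g hg x, fun hx => ?_⟩
  have e : x = g⁻¹ * (g * x * g⁻¹) * g⁻¹⁻¹ := by group
  rw [e]
  exact key g⁻¹ (inv_mem hg) _ hx

include o

/-- **(K2)** permutes the `z b`. -/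
theorem k2 {r : G} (hr : r ∈ L) (hn : r ∈ normalizer ((S ⊓ ⨆ b, E b : Subgroup G) : Set G)) {b c : ι}
    (hN : MulAut.conj r • N b = N c) : r * z b * r⁻¹ = z c := by
  obtain ⟨d, h1, h2⟩ := h.perm r hr b
  have e : d = c := h.Ninj (by rw [← h1, hN])
  subst e
  have h3 : r * z b * r⁻¹ ∈ N d := (conj_smul h1).1 (o.zN b)
  refine (o.fix d _ h3 fun s hs => ?_).resolve_left fun h4 => o.z1 b (conj_eq_one_iff.1 h4)
  have h5 : r⁻¹ * s * r⁻¹⁻¹ ∈ S ⊓ ⨆ b, E b := by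
    rw [mem_normalizer_iff] at hn
    rw [hn]
    have e : r * (r⁻¹ * s * r⁻¹⁻¹) * r⁻¹ = s := by group
    rw [e]
    exact ⟨hs.1, (le_iSup E d) hs.2⟩
  have h6 : r⁻¹ * s * r⁻¹⁻¹ ∈ E b := by
    rw [conj_smul h2]
    have e : r * (r⁻¹ * s * r⁻¹⁻¹) * r⁻¹ = s := by group
    rw [e]; exact hs.2
  have h7 := o.zS b _ ⟨h5.1, h6⟩
  calc s * (r * z b * r⁻¹) * s⁻¹ = r * ((r⁻¹ * s * r⁻¹⁻¹) * z b * (r⁻¹ * s * r⁻¹⁻¹)⁻¹) * r⁻¹ := by group
    _ = r * z b * r⁻¹ := by rw [h7]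

/-- **(K1)** moving `z b` contains `E b` modulo `C`. -/
theorem k1 [Finite ι] {R : Subgroup G} (hSR : S ≤ R) {b : ι}
    (hm : ∃ e ∈ R ⊓ ⨆ c, E c, e * z b * e⁻¹ ≠ z b) : E b ≤ (R ⊓ E b) ⊔ (L ⊓ centralizer (U : Set G)) := by
  have hC : E b ≤ normalizer ((L ⊓ centralizer (U : Set G) : Subgroup G) : Set G) := (h.EL b).trans h.C_normal
  refine o.gen b _ (sup_le inf_le_right (h.CE b)) (le_trans (inf_le_inf_right _ hSR) le_sup_left) le_sup_right ?_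
  have key : ∀ e ∈ E b, ∀ x ∈ (R ⊓ E b) ⊔ (L ⊓ centralizer (U : Set G)),
      e * x * e⁻¹ ∈ (R ⊓ E b) ⊔ (L ⊓ centralizer (U : Set G)) := by
    intro e he x hx
    obtain ⟨y, hy, c, hc, rfl⟩ := mem_sup_of (inf_le_right.trans hC) hx
    obtain ⟨k, hk, hke⟩ := o.full b (R ⊓ ⨆ c, E c) inf_le_right
      (le_inf (inf_le_left.trans hSR) (inf_le_right.trans (le_iSup E b))) hm e he
    have hkE : k ∈ ⨆ c, E c := hk.2
    have h1 : k * y * k⁻¹ ∈ R ⊓ E b := by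
      refine mem_inf.2 ⟨mul_mem (mul_mem hk.1 hy.1) (inv_mem hk.1), ?_⟩
      obtain ⟨d, h2, h3⟩ := h.perm k (h.E0L hkE) b
      have e4 : d = b := h.Ninj (by rw [← h2, h.E0_smul hkE b])
      subst e4
      exact (conj_smul h3).1 hy.2
    have h2 : (k * y * k⁻¹)⁻¹ * (e * y * e⁻¹) ∈ L ⊓ centralizer (U : Set G) := by
      have hm1 : (k * y * k⁻¹)⁻¹ * (e * y * e⁻¹) ∈ E b :=
        mul_mem (inv_mem h1.2) (mul_mem (mul_mem he hy.2) (inv_mem he))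
      refine h.mem_C ((le_iSup E b) hm1) fun d w hw => ?_
      by_cases hd : d = b
      · subst hd
        -- `e` and `k` agree on `N b`
        have a1 : ∀ v ∈ N d, k⁻¹ * v * k = e⁻¹ * v * e := by
          intro v hv
          have a2 : e⁻¹ * v * e⁻¹⁻¹ ∈ N d := conj_of (h.EN d (inv_mem he)) hv
          have a3 := hke _ a2
          have a4 : e * (e⁻¹ * v * e⁻¹⁻¹) * e⁻¹ = v := by group
          rw [a4] at a3
          calc k⁻¹ * v * k = k⁻¹ * (k * (e⁻¹ * v * e⁻¹⁻¹) * k⁻¹) * k := by rw [a3]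
            _ = e⁻¹ * v * e := by group
        have b1 : e⁻¹ * w * e⁻¹⁻¹ ∈ N d := conj_of (h.EN d (inv_mem he)) hw
        have b2 : y * (e⁻¹ * w * e⁻¹⁻¹) * y⁻¹ ∈ N d := conj_of (h.EN d hy.2) b1
        have b3 : e * (y * (e⁻¹ * w * e⁻¹⁻¹) * y⁻¹) * e⁻¹ ∈ N d := conj_of (h.EN d he) b2
        calc (k * y * k⁻¹)⁻¹ * (e * y * e⁻¹) * w * ((k * y * k⁻¹)⁻¹ * (e * y * e⁻¹))⁻¹
            = k * (y⁻¹ * (k⁻¹ * (e * (y * (e⁻¹ * w * e⁻¹⁻¹) * y⁻¹) * e⁻¹) * k) * y) * k⁻¹ := by group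
          _ = k * (e⁻¹ * w * e) * k⁻¹ := by rw [a1 _ b3]; group
          _ = w := by
            have c1 : e⁻¹ * w * e ∈ N d := by simpa using b1
            rw [hke _ c1]; group
      · exact cent ((h.EC b d (Ne.symm hd)) hm1) hw
    have e5 : e * (y * c) * e⁻¹ = (k * y * k⁻¹) * (((k * y * k⁻¹)⁻¹ * (e * y * e⁻¹)) * (e * c * e⁻¹)) := by group
    rw [e5]
    refine mul_mem (mem_sup_left h1) (mem_sup_right (mul_mem h2 ?_))
    exact conj_of (hC he) hc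
  intro e he
  rw [mem_normalizer_iff]
  intro x
  refine ⟨key e he x, fun hx => ?_⟩
  have e6 : x = e⁻¹ * (e * x * e⁻¹) * e⁻¹⁻¹ := by group
  rw [e6]
  exact key e⁻¹ (inv_mem he) _ hx

end Dec

end Cfsg.Agent.Omega.NOThreeL.RRed.Blk
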