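import Cfsg.Agent.Omega.NOThreeL.RRed.Blk.TypesGam

/-!
# NO-3L, box R: THEOREM TYPES (helper797, #24779), step (T4), abstract: `N` and `C_V(E)` depend only on the root group

* **`Bk.eq`** : two blocks `Bk e f C up lo` (over `F`), `Bk e' f' C' up' lo'` (over `F'`), `|F|, |F'| ≥ 4`, with the same
  root group `rt up = rt up'`: `C = C'`, `e(F) = e'(F')` and `e(F) + f(F) = e'(F') + f'(F')`.
* `Bk.fxd_rt` : `C_V(A) = e(F) + C`.
* `Bk.conj` : a conjugate of a block is a block.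
* **`Bk.inv`** : an element which normalises the root group normalises `C` and `N`.
-/

set_option autoImplicit false
set_option linter.unusedSectionVars false

namespace Cfsg.Agent.Omega.NOThreeL.RRed.Blk.TypesEq

open Cfsg.Agent.Omega.NOThreeL.RRed.NS (fxd mem_fxd)
open Cfsg.Agent.Omega.NOThreeL.RRed.Blk.TypesGam
open scoped Pointwise

universe u v w w'

variable {X : Type u} {V : Type v} [Group X] [AddCommGroup V] [DistribMulAction X V]

section one

variable {F : Type w} [Field F] {e f : F →+ V} {C : AddSubgroup V} {up lo : F → X}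
variable (h : Bk e f C up lo) (h2 : ∀ v : V, v + v = 0) (hf : ∀ x : X, (∀ v : V, x • v = v) → x = 1)
include h

/-- `C_V(A) = e(F) + C`, in the form `v ∈ C_V(A) ↔ py v = 0`. -/
theorem _root_.Cfsg.Agent.Omega.NOThreeL.RRed.Blk.TypesGam.Bk.mem_fxd_rt {v : V} :
    v ∈ (fxd (rt up) : AddSubgroup V) ↔ ∃ x, ∃ c ∈ C, v = e x + c := by
  rw [mem_fxd]
  constructor
  · intro hv
    obtain ⟨x, y, c, hc, rfl⟩ := h.dec v
    have e1 := hv _ (up_mem (up := up) 1)
    rw [smul_add, smul_add, h.up_e, h.up_f, h.up_c _ c hc, one_mul] at e1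
    have e2 : e (x + y) + f y + c = e x + f y + c := by
      rw [← e1, map_add]; abel
    have e3 := (h.uniq hc hc e2).1
    have e4 : y = 0 := by
      have : x + y = x + 0 := by rw [e3, add_zero]
      exact add_left_cancel this
    exact ⟨x, c, hc, by rw [e4, map_zero, add_zero]⟩
  · rintro ⟨x, c, hc, rfl⟩ a ha
    have h1 : rt up ≤ MulAction.stabilizer X (e x + c) := by
      refine (Subgroup.closure_le _).2 ?_
      rintro _ ⟨t, rfl⟩
      refine MulAction.mem_stabilizer_iff.2 ?_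
      rw [smul_add, h.up_e, h.up_c _ c hc]
    exact MulAction.mem_stabilizer_iff.1 (h1 ha)

theorem _root_.Cfsg.Agent.Omega.NOThreeL.RRed.Blk.TypesGam.Bk.tor_v (h2 : ∀ v : V, v + v = 0) (t : F) {c : F}
    (hc0 : c ≠ 0) (x y : F) {d : V} (hd : d ∈ C) :
    (up t * hh up lo c) • (e x + f y + d) = e (c * x + t * (c⁻¹ * y)) + f (c⁻¹ * y) + d := by
  have e1 : hh up lo c • (e x + f y + d) = e (c * x) + f (c⁻¹ * y) + d := by
    rw [smul_add, smul_add, h.hh_e h2 hc0, h.hh_f h2 hc0, h.hh_c c hd]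
  rw [mul_smul, e1, smul_add, smul_add, h.up_e, h.up_f, h.up_c _ d hd, map_add]
  abel

/-- the elements `up t * hh c`, `c ≠ 0, 1`: fixed points and commutator -/
theorem _root_.Cfsg.Agent.Omega.NOThreeL.RRed.Blk.TypesGam.Bk.fix_tor (h2 : ∀ v : V, v + v = 0) (t : F) {c : F}
    (hc0 : c ≠ 0) (hc1 : c ≠ 1) (v : V) : (up t * hh up lo c) • v = v ↔ v ∈ C := by
  constructor
  · intro hv
    obtain ⟨x, y, d, hd, rfl⟩ := h.dec v
    rw [h.tor_v h2 t hc0 x y hd] at hv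
    obtain ⟨e3, e4, -⟩ := h.uniq hd hd hv
    have hy : y = 0 := by
      by_contra hy
      apply hc1
      have e5 := mul_right_cancel₀ hy (e4.trans (one_mul y).symm)
      exact inv_eq_one.1 e5
    subst hy
    rw [mul_zero, mul_zero, add_zero] at e3
    have hx : x = 0 := by
      by_contra hx
      exact hc1 (mul_right_cancel₀ hx (e3.trans (one_mul x).symm))
    subst hx
    rw [map_zero, map_zero, add_zero, zero_add]
    exact hd
  · intro hv
    rw [mul_smul, h.hh_c c hv, h.up_c _ v hv]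

theorem _root_.Cfsg.Agent.Omega.NOThreeL.RRed.Blk.TypesGam.Bk.comm_tor (h2 : ∀ v : V, v + v = 0) (t : F) {c : F}
    (hc0 : c ≠ 0) (hc1 : c ≠ 1) (v : V) :
    (∃ w, (up t * hh up lo c) • w + w = v) ↔ v ∈ e.range ⊔ f.range := by
  have key : ∀ x y d, d ∈ C → (up t * hh up lo c) • (e x + f y + d) + (e x + f y + d)
      = e ((c + 1) * x + t * (c⁻¹ * y)) + f ((c⁻¹ + 1) * y) := by
    intro x y d hd
    rw [h.tor_v h2 t hc0 x y hd]
    have e1 : e (c * x + t * (c⁻¹ * y)) + f (c⁻¹ * y) + d + (e x + f y + d)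
        = (e (c * x + t * (c⁻¹ * y)) + e x) + (f (c⁻¹ * y) + f y) + (d + d) := by abel
    rw [e1, h2, add_zero, add_mul, add_mul, one_mul, one_mul, ← map_add, ← map_add]
    congr 2
    ring
  rw [AddSubgroup.mem_sup]
  constructor
  · rintro ⟨w, rfl⟩
    obtain ⟨x, y, d, hd, rfl⟩ := h.dec w
    rw [key x y d hd]
    exact ⟨_, ⟨_, rfl⟩, _, ⟨_, rfl⟩, rfl⟩
  · rintro ⟨_, ⟨a, rfl⟩, _, ⟨b, rfl⟩, rfl⟩
    have two := h.two h2
    have k1 : c + 1 ≠ 0 := by
      intro hk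
      apply hc1
      have : c + 1 = 1 + 1 := by rw [hk, two]
      exact add_right_cancel this
    have k2 : c⁻¹ + 1 ≠ 0 := by
      intro hk
      apply hc1
      have : c⁻¹ + 1 = 1 + 1 := by rw [hk, two]
      exact inv_eq_one.1 (add_right_cancel this)
    refine ⟨e ((c + 1)⁻¹ * (a + t * (c⁻¹ * ((c⁻¹ + 1)⁻¹ * b)))) + f ((c⁻¹ + 1)⁻¹ * b) + 0, ?_⟩
    rw [key _ _ 0 C.zero_mem, mul_inv_cancel_left₀ k1, mul_inv_cancel_left₀ k2]
    have e1 : a + t * (c⁻¹ * ((c⁻¹ + 1)⁻¹ * b)) + t * (c⁻¹ * ((c⁻¹ + 1)⁻¹ * b)) = a := by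
      rw [add_assoc, two, add_zero]
    rw [e1]

end one

section two

variable {F : Type w} [Field F] {e f : F →+ V} {C : AddSubgroup V} {up lo : F → X}
variable {F' : Type w'} [Field F'] {e' f' : F' →+ V} {C' : AddSubgroup V} {up' lo' : F' → X}

/-- the comparison of the two root groups -/
theorem exists_tau (h : Bk e f C up lo) (h' : Bk e' f' C' up' lo') (h2 : ∀ v : V, v + v = 0)
    (hf : ∀ x : X, (∀ v : V, x • v = v) → x = 1) (hrt : rt up = rt up') :
    ∃ τ : F' → F, (∀ t, up (τ t) = up' t) ∧ (∀ s t, τ (s + t) = τ s + τ t) ∧ Function.Bijective τ := by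
  have h1 : ∀ t' : F', ∃ t, up t = up' t' := fun t' =>
    (h.mem_rt h2 hf).1 (hrt ▸ up_mem (up := up') t')
  choose τ hτ using h1
  refine ⟨τ, hτ, fun s t => ?_, ?_, ?_⟩
  · apply h.up_inj
    rw [hτ, ← h.up_add hf, hτ, hτ, h'.up_add hf]
  · intro s t e1
    apply h'.up_inj
    rw [← hτ, e1, hτ]
  · intro t
    obtain ⟨s, hs⟩ := (h'.mem_rt h2 hf).1 (hrt ▸ up_mem (up := up) t)
    exact ⟨s, h.up_inj (by rw [hτ, hs])⟩

/-- The comparison data: `e'(x) = e(τ x · b)`, `py (f' y) = τ y · b / τ 1`, `τ(t y) τ 1 = τ t τ y`. -/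
theorem exists_cmp (h : Bk e f C up lo) (h' : Bk e' f' C' up' lo') (h2 : ∀ v : V, v + v = 0)
    (hf : ∀ x : X, (∀ v : V, x • v = v) → x = 1) (hrt : rt up = rt up') :
    ∃ (θ : F' →+* F) (a b : F), a ≠ 0 ∧ b ≠ 0 ∧ Function.Bijective θ ∧ (∀ t, up (a * θ t) = up' t) ∧
      (∀ x, e' x = e (a * θ x * b)) ∧ (∀ y, ∃ x, ∃ c ∈ C, f' y = e x + f (θ y * b) + c) := by
  obtain ⟨τ, hτ, hadd, hbij⟩ := exists_tau h h' h2 hf hrt
  have h1 : ∀ y, ∃ b x, ∃ c ∈ C, f' y = e x + f b + c := fun y => by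
    obtain ⟨x, b, c, hc, e1⟩ := h.dec (f' y)
    exact ⟨b, x, c, hc, e1⟩
  choose ψ px pc hpc hψ using h1
  -- `e'(t y) = e (τ t ψ y)`
  have k1 : ∀ t y, e' (t * y) = e (τ t * ψ y) := by
    intro t y
    have e1 := h'.up_f t y
    rw [← hτ, hψ y, smul_add, smul_add, h.up_e, h.up_f, h.up_c _ _ (hpc y)] at e1
    have e2 : e (px y) + f (ψ y) + pc y + e (τ t * ψ y) = e (px y) + f (ψ y) + pc y + e' (t * y) := by
      rw [← e1]; abel
    exact (add_left_cancel e2).symm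
  have inj : ∀ x y, e x = e y → x = y := by
    intro x y e1
    have e2 : e x + f 0 + 0 = e y + f 0 + 0 := by rw [e1]
    exact (h.uniq C.zero_mem C.zero_mem e2).1
  have inj' : ∀ x y, e' x = e' y → x = y := by
    intro x y e1
    have e2 : e' x + f' 0 + 0 = e' y + f' 0 + 0 := by rw [e1]
    exact (h'.uniq C'.zero_mem C'.zero_mem e2).1
  have k2 : ∀ t y, τ (t * y) * ψ 1 = τ t * ψ y := by
    intro t y
    apply inj
    rw [← k1, ← k1, mul_one]
  have τ0 : τ 0 = 0 := by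
    have := hadd 0 0
    rw [add_zero] at this
    exact (left_eq_add.1 this)
  have ha : τ 1 ≠ 0 := by
    intro h0
    exact one_ne_zero (hbij.1 (h0.trans τ0.symm))
  have hb : ψ 1 ≠ 0 := by
    intro h0
    have e1 := k1 1 1
    rw [h0, mul_zero, map_zero, mul_one] at e1
    exact one_ne_zero (inj' 1 0 (by rw [e1, map_zero]))
  have k3 : ∀ y, τ y * ψ 1 = τ 1 * ψ y := fun y => by
    have := k2 1 y
    rwa [one_mul] at this
  have k4 : ∀ t y, τ (t * y) * τ 1 = τ t * τ y := by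
    intro t y
    apply mul_right_cancel₀ hb
    calc τ (t * y) * τ 1 * ψ 1 = τ (t * y) * ψ 1 * τ 1 := by ring
      _ = τ t * ψ y * τ 1 := by rw [k2]
      _ = τ t * (τ 1 * ψ y) := by ring
      _ = τ t * (τ y * ψ 1) := by rw [k3]
      _ = τ t * τ y * ψ 1 := by ring
  let θ : F' →+* F :=
    { toFun := fun t => (τ 1)⁻¹ * τ t
      map_one' := inv_mul_cancel₀ ha
      map_mul' := fun s t => by
        change (τ 1)⁻¹ * τ (s * t) = (τ 1)⁻¹ * τ s * ((τ 1)⁻¹ * τ t)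
        apply mul_right_cancel₀ ha
        calc (τ 1)⁻¹ * τ (s * t) * τ 1 = (τ 1)⁻¹ * (τ (s * t) * τ 1) := by ring
          _ = (τ 1)⁻¹ * (τ s * τ t) := by rw [k4]
          _ = (τ 1)⁻¹ * τ s * ((τ 1)⁻¹ * τ 1 * τ t) := by rw [inv_mul_cancel₀ ha]; ring
          _ = (τ 1)⁻¹ * τ s * ((τ 1)⁻¹ * τ t) * τ 1 := by ring
      map_zero' := by
        change (τ 1)⁻¹ * τ 0 = 0
        rw [τ0, mul_zero]
      map_add' := fun s t => by
        change (τ 1)⁻¹ * τ (s + t) = (τ 1)⁻¹ * τ s + (τ 1)⁻¹ * τ t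
        rw [hadd, mul_add] }
  have hθ : ∀ t, τ 1 * θ t = τ t := fun t => mul_inv_cancel_left₀ ha (τ t)
  refine ⟨θ, τ 1, ψ 1, ha, hb, ⟨θ.injective, fun x => ?_⟩, fun t => ?_, fun x => ?_, fun y => ?_⟩
  · obtain ⟨t, ht⟩ := hbij.2 (τ 1 * x)
    exact ⟨t, mul_left_cancel₀ ha (by rw [hθ, ht])⟩
  · rw [hθ, hτ]
  · have := k1 x 1
    rw [mul_one] at this
    rw [this, hθ]
  · have e1 : ψ y = θ y * ψ 1 := by
      apply mul_left_cancel₀ ha
      rw [← k3, ← mul_assoc, hθ]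
    exact ⟨px y, pc y, hpc y, by rw [← e1]; exact hψ y⟩

variable [Finite F] [Finite V] [Finite X]

/-- The torus elements of the two blocks agree modulo the root group. -/
theorem exists_tor (h : Bk e f C up lo) (h' : Bk e' f' C' up' lo') (h2 : ∀ v : V, v + v = 0)
    (hf : ∀ x : X, (∀ v : V, x • v = v) → x = 1) (hno : NO X V) (h4 : 4 ≤ Nat.card F) (hrt : rt up = rt up')
    {θ : F' →+* F} {a b : F} (ha : a ≠ 0) (hb : b ≠ 0) (hbij : Function.Bijective θ)
    (he : ∀ x, e' x = e (a * θ x * b)) (hff : ∀ y, ∃ x, ∃ c ∈ C, f' y = e x + f (θ y * b) + c) {c : F'} (hc : c ≠ 0) :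
    ∃ t, hh up' lo' c = up t * hh up lo (θ c) := by
  have hθ : θ c ≠ 0 := (map_ne_zero θ).2 hc
  have fx : ∀ {v}, (∃ x, ∃ d ∈ C, v = e x + d) ↔ ∃ x, ∃ d ∈ C', v = e' x + d := fun {v} => by
    rw [← h.mem_fxd_rt, ← h'.mem_fxd_rt, hrt]
  -- `C`
  have k1 : ∀ d ∈ C, ∃ x, hh up' lo' c • d = d + e x := by
    intro d hd
    obtain ⟨x, d', hd', e1⟩ := (fx (v := d)).1 ⟨0, d, hd, by rw [map_zero, zero_add]⟩
    refine ⟨a * θ (c * x + x) * b, ?_⟩
    rw [← he]
    conv_lhs => rw [e1]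
    rw [smul_add, h'.hh_e h2 hc, h'.hh_c c hd', e1, map_add]
    have e2 : e' x + d' + (e' (c * x) + e' x) = e' (c * x) + d' + (e' x + e' x) := by abel
    rw [e2, h2, add_zero]
  -- `e`
  have k2 : ∀ x, hh up' lo' c • e x = e (θ c * x) := by
    intro x
    obtain ⟨x', hx'⟩ := hbij.2 (a⁻¹ * (x * b⁻¹))
    have e1 : a * θ x' * b = x := by
      rw [hx', mul_inv_cancel_left₀ ha, inv_mul_cancel_right₀ hb]
    rw [← e1, ← he, h'.hh_e h2 hc, he, map_mul θ]
    congr 1; ring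
  -- `f`
  have k3 : ∀ z, ∃ x, ∃ d ∈ C, hh up' lo' c • f z = f ((θ c)⁻¹ * z) + d + e x := by
    intro z
    obtain ⟨x, y, d, hd, e1⟩ := h'.dec (f z)
    obtain ⟨x1, d1, hd1, e2⟩ := hff y
    obtain ⟨x2, d2, hd2, e3⟩ := (fx (v := d)).2 ⟨0, d, hd, by rw [map_zero, zero_add]⟩
    have e4 : θ y * b = z := by
      have e5 : e (a * θ x * b + x1 + x2) + f (θ y * b) + (d1 + d2) = e 0 + f z + 0 := by
        rw [map_zero, zero_add, add_zero, e1, he, e2, e3, map_add, map_add]; abel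
      exact (h.uniq (C.add_mem hd1 hd2) C.zero_mem e5).2.1
    obtain ⟨x3, d3, hd3, e6⟩ := hff (c⁻¹ * y)
    refine ⟨a * θ (c * x) * b + x3 + x2, d3 + d2, C.add_mem hd3 hd2, ?_⟩
    rw [e1, smul_add, smul_add, h'.hh_e h2 hc, h'.hh_f h2 hc, h'.hh_c c hd, he, e6, e3, ← e4, map_mul θ c⁻¹ y,
      map_inv₀ θ c, map_add, map_add, mul_assoc (θ c)⁻¹ (θ y) b]
    abel
  have k4 : hh up' lo' c * (hh up lo (θ c))⁻¹ ∈ rt up := by
    refine h.gam h2 hf hno h4 (fun z => ?_) (fun d hd => ?_) fun z => ?_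
    · rw [mul_smul, h.hhi_e h2 hθ, k2, mul_inv_cancel_left₀ hθ]
    · rw [mul_smul, h.hhi_c _ hd]; exact k1 d hd
    · rw [mul_smul, h.hhi_f h2 hθ]
      obtain ⟨x, d, hd, e1⟩ := k3 (θ c * z)
      rw [inv_mul_cancel_left₀ hθ] at e1
      exact ⟨x, d, hd, e1⟩
  obtain ⟨t, ht⟩ := (h.mem_rt h2 hf).1 k4
  exact ⟨t, by rw [ht, inv_mul_cancel_right]⟩

/-- **(T4).** The block and its complement depend only on the root group. -/
theorem _root_.Cfsg.Agent.Omega.NOThreeL.RRed.Blk.TypesGam.Bk.eq (h : Bk e f C up lo) (h' : Bk e' f' C' up' lo')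
    (h2 : ∀ v : V, v + v = 0) (hf : ∀ x : X, (∀ v : V, x • v = v) → x = 1) (hno : NO X V) (h4 : 4 ≤ Nat.card F)
    (hrt : rt up = rt up') : C = C' ∧ e.range = e'.range ∧ e.range ⊔ f.range = e'.range ⊔ f'.range := by
  obtain ⟨θ, a, b, ha, hb, hbij, hup, he, hff⟩ := exists_cmp h h' h2 hf hrt
  have h1 : ∃ c0 : F, c0 ≠ 0 ∧ c0 ≠ 1 := by
    by_contra hcon
    push Not at hcon
    have h3 : Nat.card F ≤ 2 := by
      have : (Set.univ : Set F) ⊆ {0, 1} := fun x _ => by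
        by_cases hx : x = 0
        · exact Or.inl hx
        · exact Or.inr (hcon x hx)
      calc Nat.card F = Set.ncard (Set.univ : Set F) := (Set.ncard_univ F).symm
        _ ≤ Set.ncard ({0, 1} : Set F) := Set.ncard_le_ncard this
        _ ≤ 2 := by
          have := Set.ncard_insert_le (0 : F) {1}
          rwa [Set.ncard_singleton] at this
    omega
  obtain ⟨c0, hc0, hc1⟩ := h1
  obtain ⟨c, rfl⟩ := hbij.2 c0
  have hc0' : c ≠ 0 := by rintro rfl; exact hc0 (map_zero θ)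
  have hc1' : c ≠ 1 := by rintro rfl; exact hc1 (map_one θ)
  obtain ⟨t, ht⟩ := exists_tor h h' h2 hf hno h4 hrt ha hb hbij he hff hc0'
  have e0 : up' 0 * hh up' lo' c = up t * hh up lo (θ c) := by
    rw [h'.up_zero hf, one_mul, ht]
  refine ⟨?_, ?_, ?_⟩
  · ext v
    rw [← h.fix_tor h2 t hc0 hc1, ← h'.fix_tor h2 0 hc0' hc1', e0]
  · ext v
    constructor
    · rintro ⟨x, rfl⟩
      obtain ⟨x', hx'⟩ := hbij.2 (a⁻¹ * (x * b⁻¹))
      refine ⟨x', ?_⟩
      rw [he, hx', mul_inv_cancel_left₀ ha, inv_mul_cancel_right₀ hb]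
    · rintro ⟨x, rfl⟩
      exact ⟨_, (he x).symm⟩
  · ext v
    rw [← h.comm_tor h2 t hc0 hc1, ← h'.comm_tor h2 0 hc0' hc1', e0]

end two

section conj

variable {F : Type w} [Field F] {e f : F →+ V} {C : AddSubgroup V} {up lo : F → X}

/-- a conjugate of a block -/
theorem _root_.Cfsg.Agent.Omega.NOThreeL.RRed.Blk.TypesGam.Bk.conj (h : Bk e f C up lo) (g : X) :
    Bk ((DistribSMul.toAddMonoidHom V g).comp e) ((DistribSMul.toAddMonoidHom V g).comp f)
      (C.map (DistribSMul.toAddMonoidHom V g)) (fun t => g * up t * g⁻¹) (fun t => g * lo t * g⁻¹) where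
  dec := by
    intro v
    obtain ⟨x, y, c, hc, e1⟩ := h.dec (g⁻¹ • v)
    refine ⟨x, y, g • c, ⟨c, hc, rfl⟩, ?_⟩
    change v = g • e x + g • f y + g • c
    rw [← smul_add, ← smul_add, ← e1, smul_inv_smul]
  ind := by
    rintro x y ⟨c, hc, e1⟩
    have e2 : g • c = g • (e x + f y) := by
      rw [smul_add]; exact e1
    rw [smul_left_cancel_iff] at e2
    exact h.ind x y (e2 ▸ hc)
  up_e := fun t x => by
    change (g * up t * g⁻¹) • g • e x = g • e x
    rw [mul_smul, inv_smul_smul, mul_smul, h.up_e]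
  up_f := fun t x => by
    change (g * up t * g⁻¹) • g • f x = g • f x + g • e (t * x)
    rw [mul_smul, inv_smul_smul, mul_smul, h.up_f, smul_add]
  up_c := by
    rintro t _ ⟨c, hc, rfl⟩
    change (g * up t * g⁻¹) • g • c = g • c
    rw [mul_smul, inv_smul_smul, mul_smul, h.up_c t c hc]
  lo_e := fun t x => by
    change (g * lo t * g⁻¹) • g • e x = g • e x + g • f (t * x)
    rw [mul_smul, inv_smul_smul, mul_smul, h.lo_e, smul_add]
  lo_f := fun t x => by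
    change (g * lo t * g⁻¹) • g • f x = g • f x
    rw [mul_smul, inv_smul_smul, mul_smul, h.lo_f]
  lo_c := by
    rintro t _ ⟨c, hc, rfl⟩
    change (g * lo t * g⁻¹) • g • c = g • c
    rw [mul_smul, inv_smul_smul, mul_smul, h.lo_c t c hc]

theorem rt_conj (up : F → X) (g : X) : rt (fun t => g * up t * g⁻¹) = MulAut.conj g • rt up := by
  rw [rt, rt, Subgroup.smul_closure]
  congr 1
  ext x
  constructor
  · rintro ⟨t, rfl⟩
    exact ⟨up t, ⟨t, rfl⟩, rfl⟩
  · rintro ⟨_, ⟨t, rfl⟩, rfl⟩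
    exact ⟨t, rfl⟩

/-- **An element which normalises the root group normalises `C` and `N`.** -/
theorem _root_.Cfsg.Agent.Omega.NOThreeL.RRed.Blk.TypesGam.Bk.inv [Finite F] [Finite V] [Finite X]
    (h : Bk e f C up lo) (h2 : ∀ v : V, v + v = 0) (hf : ∀ x : X, (∀ v : V, x • v = v) → x = 1) (hno : NO X V)
    (h4 : 4 ≤ Nat.card F) {g : X} (hg : MulAut.conj g • rt up = rt up) :
    C.map (DistribSMul.toAddMonoidHom V g) = C ∧
      (e.range ⊔ f.range).map (DistribSMul.toAddMonoidHom V g) = e.range ⊔ f.range := by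
  obtain ⟨h1, -, h3⟩ := h.eq (h.conj g) h2 hf hno h4 (by rw [rt_conj, hg])
  refine ⟨h1.symm, ?_⟩
  rw [AddSubgroup.map_sup, h3, AddMonoidHom.range_comp, AddMonoidHom.range_comp]

end conj

end Cfsg.Agent.Omega.NOThreeL.RRed.Blk.TypesEq
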