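import Cfsg.Agent.Omega.NOThreeL.RRed.Blk.TypesNat
import Cfsg.Agent.Omega.NOThreeL.RRed.Blk.TypesEq

/-!
# NO-3L, box R: THEOREM TYPES (helper797, #24779): a natural block depends only on its line

* `XH Q` : the group induced by `H` on `U`, `ph Q : H →* XH Q`; `no_XH` : no over-offender;
* `map`, `cj` : transport of `TypesGam.Bk`;
* **`IsNB Q A R N C`** : `A ≤ H` acts on `U` as the root group of the natural block `N` (`|F| ≥ 4`), `R = [U, A]`, `U = N × C`;
* `IsNB.conj` : conjugation by `g ∈ H`;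
* **`IsNB.eq`** : `N`, `C` and the group induced by `A` depend only on the line `R`;
* **`isNB_of`** : the blocks of a natural module (`One M U A j`, `DD M j = 1`).
-/

set_option autoImplicit false
set_option linter.unusedSectionVars false

namespace Cfsg.Agent.Omega.NOThreeL.RRed.Blk.TypesNat

open Subgroup Cfsg Cfsg.Agent.ZN
open Cfsg.Agent.Omega.FFThm Cfsg.Agent.Lib.SL2Mat
open Cfsg.Agent.Omega.NatPair (ap)
open Cfsg.Agent.Omega.NO3S.ThmB Cfsg.Agent.Omega.NO3S.KeyRad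
open Cfsg.Agent.Omega.NOThreeL.RSplit (Nrm)
open Cfsg.Agent.Omega.NOThreeL.RRed.NS hiding rt
open Cfsg.Agent.Omega.NOThreeL.RRed.Blk.TypesGam (Bk rt NO)
open scoped Pointwise

universe u v w w'

/-! ### the faithful group -/

section XH

variable {G : Type u} [Group G] {H U : Subgroup G} (Q : Nrm H U)

/-- the group induced by `H` on `U` -/
def XH : Subgroup (AddMonoid.End Q.Mod)ˣ := (DistribMulAction.toAddMonoidEnd H Q.Mod).toHomUnits.range

/-- the homomorphism -/
def ph : H →* XH Q := (DistribMulAction.toAddMonoidEnd H Q.Mod).toHomUnits.rangeRestrict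

theorem ph_smul (x : H) (m : Q.Mod) : ph Q x • m = x • m := rfl

theorem XH_faith (x : XH Q) (hx : ∀ v : Q.Mod, x • v = v) : x = 1 :=
  Subtype.ext (Units.ext (AddMonoidHom.ext fun v => hx v))

theorem ph_eq {x y : H} : ph Q x = ph Q y ↔ ∀ m : Q.Mod, x • m = y • m := by
  constructor
  · intro h m
    rw [← ph_smul, ← ph_smul, h]
  · intro h
    exact Subtype.ext (Units.ext (AddMonoidHom.ext fun v => h v))

theorem ph_surj : Function.Surjective (ph Q) :=
  (DistribMulAction.toAddMonoidEnd H Q.Mod).toHomUnits.rangeRestrict_surjective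

instance [Finite G] : Finite (XH Q) := Finite.of_surjective (ph Q) (ph_surj Q)

theorem mem_ker {x : H} : x ∈ (ph Q).ker ↔ (x : G) ∈ centralizer (U : Set G) := by
  rw [MonoidHom.mem_ker, ← map_one (ph Q), ph_eq, mem_centralizer_iff]
  constructor
  · intro h u hu
    have h1 := h (Q.of u hu)
    rw [one_smul, smul_eq_iff, Nrm.val_of, mul_inv_eq_iff_eq_mul] at h1
    exact h1.symm
  · intro h m
    rw [one_smul, smul_eq_iff, mul_inv_eq_iff_eq_mul]
    exact (h _ (Q.val_mem m)).symm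

theorem no_XH [Finite G] (hno : NoOverM U H) : NO (XH Q) Q.Mod := by
  intro W hWc hW2
  have hsur := ph_surj Q
  set B : Subgroup H := W.comap (ph Q) with hB
  set A : Subgroup G := B.map H.subtype with hA
  have hAH : A ≤ H := by
    rintro _ ⟨y, -, rfl⟩
    exact y.2
  have hE : ElemM U A := by
    refine ⟨?_, ?_⟩
    · rintro _ ⟨x, hx, rfl⟩
      have h1 : ph Q (x ^ 2) = 1 := by
        rw [pow_two, map_mul]
        exact hW2 _ hx
      exact (mem_ker Q).1 h1
    · rintro _ ⟨x, hx, rfl⟩ _ ⟨y, hy, rfl⟩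
      have h1 : ph Q (x * y * x⁻¹ * y⁻¹) = 1 := by
        rw [map_mul, map_mul, map_mul, map_inv, map_inv, hWc _ hx _ hy]
        group
      exact (mem_ker Q).1 h1
  have h1 := hno A hAH hE
  -- orders
  have c1 : Nat.card A = Nat.card B :=
    (Nat.card_congr (Subgroup.equivMapOfInjective B H.subtype H.subtype_injective).toEquiv).symm
  have c2 : Nat.card B = Nat.card (ph Q).ker * Nat.card W := by
    have h2 := Subgroup.relIndex_mul_relIndex (⊥ : Subgroup H) (ph Q).ker B bot_le (fun x hx => by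
      rw [hB, mem_comap, MonoidHom.mem_ker.1 hx]
      exact one_mem _)
    rw [relIndex_bot_left, relIndex_bot_left, Subgroup.relIndex_ker, hB, Subgroup.map_comap_eq_self_of_surjective hsur] at h2
    exact h2.symm
  have c3 : Nat.card ↥(A ⊓ centralizer (U : Set G)) = Nat.card (ph Q).ker := by
    have h2 : A ⊓ centralizer (U : Set G) = (ph Q).ker.map H.subtype := by
      ext x
      constructor
      · rintro ⟨⟨y, hy, rfl⟩, hx⟩
        exact ⟨y, (mem_ker Q).2 hx, rfl⟩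
      · rintro ⟨y, hy, rfl⟩
        refine ⟨⟨y, ?_, rfl⟩, (mem_ker Q).1 hy⟩
        change ph Q y ∈ W
        rw [MonoidHom.mem_ker.1 hy]
        exact one_mem _
    rw [h2]
    exact (Nat.card_congr (Subgroup.equivMapOfInjective _ H.subtype H.subtype_injective).toEquiv).symm
  have c4 : Nat.card ↥(U ⊓ centralizer (A : Set G)) = Nat.card (fxd W : AddSubgroup Q.Mod) := by
    rw [← Nrm.card_ad (A := Q) (inf_le_left : U ⊓ centralizer (A : Set G) ≤ U)]
    have h2 : Q.ad (U ⊓ centralizer (A : Set G)) = (fxd W : AddSubgroup Q.Mod) := by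
      ext m
      rw [Nrm.mem_ad, mem_inf, mem_centralizer_iff]
      constructor
      · rintro ⟨-, h3⟩ x hx
        obtain ⟨y, rfl⟩ := hsur x
        rw [ph_smul, smul_eq_iff, mul_inv_eq_iff_eq_mul]
        exact h3 y ⟨y, hx, rfl⟩
      · intro h3
        refine ⟨Q.val_mem m, ?_⟩
        rintro _ ⟨y, hy, rfl⟩
        have h4 := h3 (ph Q y) hy
        rw [ph_smul, smul_eq_iff, mul_inv_eq_iff_eq_mul] at h4
        exact h4
    rw [h2]
  have c5 := AddSubgroup.card_mul_index (fxd W : AddSubgroup Q.Mod)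
  have c6 : Nat.card Q.Mod = Nat.card U := rfl
  rw [c1, c2, c3, c4, ← c6, ← c5] at h1
  have p1 : 0 < Nat.card (ph Q).ker := Nat.card_pos
  have p2 : 0 < Nat.card (fxd W : AddSubgroup Q.Mod) := Nat.card_pos
  refine Nat.le_of_mul_le_mul_left (c := Nat.card (ph Q).ker * Nat.card (fxd W : AddSubgroup Q.Mod)) ?_ (Nat.mul_pos p1 p2)
  calc _ = Nat.card (ph Q).ker * Nat.card W * Nat.card (fxd W : AddSubgroup Q.Mod) := by ring
    _ ≤ _ := h1
    _ = _ := by ring

end XH

/-! ### transport of `Bk` -/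

section tr

variable {X : Type u} {X' : Type v} {V : Type w} [Group X] [Group X'] [AddCommGroup V] [DistribMulAction X V]
  [DistribMulAction X' V] {F : Type w'} [Field F] {e f : F →+ V} {C : AddSubgroup V} {up lo : F → X}

theorem map (h : Bk e f C up lo) (φ : X →* X') (hφ : ∀ (x : X) (v : V), φ x • v = x • v) :
    Bk e f C (fun t => φ (up t)) (fun t => φ (lo t)) where
  dec := h.dec
  ind := h.ind
  up_e t x := by rw [hφ, h.up_e]
  up_f t x := by rw [hφ, h.up_f]
  up_c t c hc := by rw [hφ, h.up_c t c hc]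
  lo_e t x := by rw [hφ, h.lo_e]
  lo_f t x := by rw [hφ, h.lo_f]
  lo_c t c hc := by rw [hφ, h.lo_c t c hc]

/-- `g e` -/
def gm (g : X) (e : F →+ V) : F →+ V := (DistribSMul.toAddMonoidHom V g).comp e

theorem gm_apply (g : X) (e : F →+ V) (x : F) : gm g e x = g • e x := rfl

theorem gm_range (g : X) (e : F →+ V) : (gm g e).range = g • e.range := by
  ext v
  constructor
  · rintro ⟨x, rfl⟩
    exact ⟨e x, ⟨x, rfl⟩, rfl⟩
  · rintro ⟨_, ⟨x, rfl⟩, rfl⟩
    exact ⟨x, rfl⟩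

/-- conjugation -/
theorem cj (h : Bk e f C up lo) (g : X) :
    Bk (gm g e) (gm g f) (g • C) (fun t => g * up t * g⁻¹) (fun t => g * lo t * g⁻¹) where
  dec v := by
    obtain ⟨x, y, c, hc, hv⟩ := h.dec (g⁻¹ • v)
    refine ⟨x, y, g • c, ⟨c, hc, rfl⟩, ?_⟩
    rw [gm_apply, gm_apply, ← smul_add, ← smul_add, ← hv, smul_inv_smul]
  ind x y hxy := by
    refine h.ind x y ?_
    rw [gm_apply, gm_apply, ← smul_add, mem_smul', inv_smul_smul] at hxy
    exact hxy
  up_e t x := by rw [gm_apply, mul_smul, mul_smul, inv_smul_smul, h.up_e]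
  up_f t x := by rw [gm_apply, mul_smul, mul_smul, inv_smul_smul, h.up_f, smul_add]; rfl
  up_c t c hc := by
    rw [mem_smul'] at hc
    rw [mul_smul, mul_smul, h.up_c t _ hc, smul_inv_smul]
  lo_e t x := by rw [gm_apply, mul_smul, mul_smul, inv_smul_smul, h.lo_e, smul_add]; rfl
  lo_f t x := by rw [gm_apply, mul_smul, mul_smul, inv_smul_smul, h.lo_f]
  lo_c t c hc := by
    rw [mem_smul'] at hc
    rw [mul_smul, mul_smul, h.lo_c t _ hc, smul_inv_smul]

end tr

/-! ### natural blocks in `G` -/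

section nb

variable {G : Type u} [Group G] {H U : Subgroup G}

/-- `A` acts on `U` as the root group of the natural block `N`, `R = [U, A]`, `U = N × C`. -/
structure NB (Q : Nrm H U) (A R N C : Subgroup G) {F : Type} [Field F] (e f : F →+ Q.Mod) (up lo : F → H) : Prop where
  bk : Bk e f (Q.ad C) up lo
  upA : ∀ t, (up t : G) ∈ A
  Aup : ∀ a : H, (a : G) ∈ A → ∃ t, ∀ m : Q.Mod, a • m = up t • m
  AH : A ≤ H
  eR : e.range = Q.ad R
  eN : e.range ⊔ f.range = Q.ad N
  RU : R ≤ U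
  NU : N ≤ U
  CU : C ≤ U

namespace NB

variable {Q : Nrm H U} {A R N C : Subgroup G} {F : Type} [Field F] {e f : F →+ Q.Mod} {up lo : F → H}
  (h : NB Q A R N C e f up lo)
include h

/-- conjugation by `g ∈ H` -/
theorem conj (g : H) : NB Q (MulAut.conj (g : G) • A) (MulAut.conj (g : G) • R) (MulAut.conj (g : G) • N)
    (MulAut.conj (g : G) • C) (gm g e) (gm g f) (fun t => g * up t * g⁻¹) (fun t => g * lo t * g⁻¹) where
  bk := by
    have h1 := cj h.bk g
    rwa [Nrm.smul_ad] at h1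
  upA t := by
    have := conj_mem' (x := (g : G)) (h.upA t)
    exact this
  Aup a ha := by
    have h1 : ((g⁻¹ * a * g : H) : G) ∈ A := mem_conj.1 ha
    obtain ⟨t, ht⟩ := h.Aup _ h1
    refine ⟨t, fun m => ?_⟩
    have h2 := ht (g⁻¹ • m)
    rw [mul_smul, mul_smul, smul_inv_smul] at h2
    rw [mul_smul, mul_smul, ← h2, smul_inv_smul]
  AH := by
    intro x hx
    have h1 := h.AH (mem_conj.1 hx)
    have e1 : x = g * ((g : G)⁻¹ * x * g) * (g : G)⁻¹ := by group
    rw [e1]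
    exact mul_mem (mul_mem g.2 h1) (inv_mem g.2)
  eR := by rw [gm_range, h.eR, Nrm.smul_ad]
  eN := by
    rw [gm_range, gm_range, ← Nrm.smul_ad, ← h.eN]
    ext v
    constructor
    · intro hv
      obtain ⟨a, ha, b, hb, rfl⟩ := AddSubgroup.mem_sup.1 hv
      rw [mem_smul', smul_add]
      exact add_mem (AddSubgroup.mem_sup_left (mem_smul'.1 ha)) (AddSubgroup.mem_sup_right (mem_smul'.1 hb))
    · intro hv
      rw [mem_smul'] at hv
      obtain ⟨a, ha, b, hb, hab⟩ := AddSubgroup.mem_sup.1 hv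
      have e1 : v = g • a + g • b := by rw [← smul_add, hab, smul_inv_smul]
      rw [e1]
      refine add_mem (AddSubgroup.mem_sup_left ?_) (AddSubgroup.mem_sup_right ?_)
      · rw [mem_smul', inv_smul_smul]; exact ha
      · rw [mem_smul', inv_smul_smul]; exact hb
  RU := by
    rintro _ ⟨x, hx, rfl⟩
    exact Q.nrm' g.2 (h.RU hx)
  NU := by
    rintro _ ⟨x, hx, rfl⟩
    exact Q.nrm' g.2 (h.NU hx)
  CU := by
    rintro _ ⟨x, hx, rfl⟩
    exact Q.nrm' g.2 (h.CU hx)

/-- a root element moves every vector by an element of the line -/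
theorem sub_mem (t : F) (v : Q.Mod) : ∃ x, up t • v = v + e x := by
  obtain ⟨x, y, c, hc, rfl⟩ := h.bk.dec v
  refine ⟨t * y, ?_⟩
  rw [smul_add, smul_add, h.bk.up_e, h.bk.up_f, h.bk.up_c t c hc]
  abel

/-- the root groups of two blocks with the same line coincide on `U` -/
theorem le_rt [Finite G] [Finite F] (hU2 : IsElementaryAbelian 2 U) (hno : NoOverM U H) (hF : 4 ≤ Nat.card F) {A' N' C' : Subgroup G}
    {F' : Type} [Field F'] {e' f' : F' →+ Q.Mod} {up' lo' : F' → H} (h' : NB Q A' R N' C' e' f' up' lo') (t : F') :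
    ph Q (up' t) ∈ rt (fun t => ph Q (up t)) := by
  have h2 : ∀ v : Q.Mod, v + v = 0 := fun v => Nrm.ext (by
    rw [Nrm.val_add, Nrm.val_zero]
    have := hU2.2 _ (Q.val_mem v)
    rwa [pow_two] at this)
  refine Bk.gam (map h.bk (ph Q) (ph_smul Q)) h2 (fun x hx => XH_faith Q x hx) (no_XH Q hno) hF ?_ ?_ ?_
  · intro z
    have h3 : e z ∈ e'.range := by rw [h'.eR, ← h.eR]; exact ⟨z, rfl⟩
    obtain ⟨y, hy⟩ := h3
    rw [ph_smul, ← hy, h'.bk.up_e]
  · intro c _
    obtain ⟨x, hx⟩ := h'.sub_mem t c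
    have h3 : e' x ∈ e.range := by rw [h.eR, ← h'.eR]; exact ⟨x, rfl⟩
    obtain ⟨y, hy⟩ := h3
    exact ⟨y, by rw [ph_smul, hx, hy]⟩
  · intro z
    obtain ⟨x, hx⟩ := h'.sub_mem t (f z)
    have h3 : e' x ∈ e.range := by rw [h.eR, ← h'.eR]; exact ⟨x, rfl⟩
    obtain ⟨y, hy⟩ := h3
    exact ⟨y, 0, AddSubgroup.zero_mem _, by rw [ph_smul, hx, hy, add_zero]⟩

theorem rt_eq [Finite G] [Finite F] (hU2 : IsElementaryAbelian 2 U) (hno : NoOverM U H) (hF : 4 ≤ Nat.card F)
    {A' N' C' : Subgroup G} {F' : Type} [Field F'] [Finite F'] (hF' : 4 ≤ Nat.card F') {e' f' : F' →+ Q.Mod} {up' lo' : F' → H}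
    (h' : NB Q A' R N' C' e' f' up' lo') :
    rt (fun t => ph Q (up t)) = rt (fun t => ph Q (up' t)) := by
  apply le_antisymm
  · rw [rt, closure_le]
    rintro _ ⟨t, rfl⟩
    exact h'.le_rt hU2 hno hF' h t
  · rw [rt, closure_le]
    rintro _ ⟨t, rfl⟩
    exact h.le_rt hU2 hno hF h' t

/-- **A natural block depends only on its line.** -/
theorem eq [Finite G] [Finite F] (hU2 : IsElementaryAbelian 2 U) (hno : NoOverM U H) (hF : 4 ≤ Nat.card F)
    {A' N' C' : Subgroup G} {F' : Type} [Field F'] [Finite F'] (hF' : 4 ≤ Nat.card F') {e' f' : F' →+ Q.Mod}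
    {up' lo' : F' → H} (h' : NB Q A' R N' C' e' f' up' lo') :
    N = N' ∧ C = C' ∧ (∀ a ∈ A, ∃ a' ∈ A', ∀ u ∈ U, a * u * a⁻¹ = a' * u * a'⁻¹) := by
  have h2 : ∀ v : Q.Mod, v + v = 0 := fun v => Nrm.ext (by
    rw [Nrm.val_add, Nrm.val_zero]
    have := hU2.2 _ (Q.val_mem v)
    rwa [pow_two] at this)
  have hrt := h.rt_eq hU2 hno hF hF' h'
  obtain ⟨h3, -, h5⟩ := Bk.eq (map h.bk (ph Q) (ph_smul Q)) (map h'.bk (ph Q) (ph_smul Q)) h2
    (fun x hx => XH_faith Q x hx) (no_XH Q hno) hF hrt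
  rw [h.eN, h'.eN] at h5
  refine ⟨ad_inj Q h.NU h'.NU h5, ad_inj Q h.CU h'.CU h3, fun a ha => ?_⟩
  obtain ⟨t, ht⟩ := h.Aup ⟨a, h.AH ha⟩ ha
  have h6 : ph Q (up t) ∈ rt (fun t => ph Q (up' t)) := hrt ▸ subset_closure ⟨t, rfl⟩
  obtain ⟨t', ht'⟩ := ((map h'.bk (ph Q) (ph_smul Q)).mem_rt h2 (fun x hx => XH_faith Q x hx)).1 h6
  refine ⟨up' t', h'.upA t', fun u hu => ?_⟩
  have h7 := (ph_eq Q).1 ht' (Q.of u hu)
  rw [← ht] at h7
  exact (Nrm.ext_iff.1 h7).symm

end NB

/-- `A` acts on `U` as the root group of a natural block `N` over a field with at least four elements, `R = [U, A]`,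
`U = N × C`. -/
def IsNB (Q : Nrm H U) (A R N C : Subgroup G) : Prop :=
  ∃ (F : Type) (_ : Field F) (_ : Finite F) (_ : CharP F 2) (e f : F →+ Q.Mod) (up lo : F → H),
    4 ≤ Nat.card F ∧ NB Q A R N C e f up lo

theorem IsNB.conj {Q : Nrm H U} {A R N C : Subgroup G} (h : IsNB Q A R N C) {g : G} (hg : g ∈ H) :
    IsNB Q (MulAut.conj g • A) (MulAut.conj g • R) (MulAut.conj g • N) (MulAut.conj g • C) := by
  obtain ⟨F, i1, i2, i3, e, f, up, lo, hF, h⟩ := h
  exact ⟨F, i1, i2, i3, _, _, _, _, hF, h.conj ⟨g, hg⟩⟩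

/-- **A natural block depends only on its line.** -/
theorem IsNB.eq [Finite G] {Q : Nrm H U} {A R N C A' N' C' : Subgroup G} (h : IsNB Q A R N C) (h' : IsNB Q A' R N' C')
    (hU2 : IsElementaryAbelian 2 U) (hno : NoOverM U H) :
    N = N' ∧ C = C' ∧ (∀ a ∈ A, ∃ a' ∈ A', ∀ u ∈ U, a * u * a⁻¹ = a' * u * a'⁻¹) := by
  obtain ⟨F, i1, i2, i3, e, f, up, lo, hF, h⟩ := h
  obtain ⟨F', j1, j2, j3, e', f', up', lo', hF', h'⟩ := h'
  exact h.eq hU2 hno hF hF' h'

/-- **The blocks of a natural module.** -/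
theorem isNB_of [Finite G] {F : Type} [Field F] [Finite F] [CharP F 2] {S P V D : Subgroup G} {k : ℕ}
    {M : NatKM F S P V D k} (h : Nb M) (hF : 2 < Nat.card F) (Q : Nrm H U) (hPH : P ≤ H) (hVU : V ≤ U)
    {A : Subgroup G} {j : Fin k} (O : One M U A j) (hAP : A ≤ P) (hD : DD M j = ⊥) :
    ∃ p ∈ P, IsNB Q A (YY h j) (blk M j) (U ⊓ centralizer ((A ⊔ MulAut.conj p • A : Subgroup G) : Set G)) := by
  obtain ⟨e, f, up, lo, p, hp, hb, h1, -, h3, h4, h5⟩ := exists_bk h hF Q hPH hVU O hAP hD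
  have hF4 : 4 ≤ Nat.card F := by
    by_contra hcon
    have h6 : Nat.card F = 3 := by omega
    have h7 : (3 : ℕ) • (1 : F) = 0 := by rw [← h6]; exact card_nsmul_eq_zero'
    have h8 : (2 : ℕ) • (1 : F) = 0 := by rw [two_nsmul]; exact CharTwo.add_self_eq_zero 1
    have h9 : (3 : ℕ) • (1 : F) = (2 : ℕ) • (1 : F) + 1 := succ_nsmul _ _
    rw [h7, h8, zero_add] at h9
    exact zero_ne_one h9
  refine ⟨p, hp, F, inferInstance, inferInstance, inferInstance, e, f, up, lo, hF4, ?_⟩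
  have hC : Q.ad (U ⊓ centralizer ((A ⊔ MulAut.conj p • A : Subgroup G) : Set G)) =
      Q.ad (centralizer ((A ⊔ MulAut.conj p • A : Subgroup G) : Set G)) :=
    le_antisymm (Nrm.ad_mono inf_le_right) fun m hm => ⟨Q.val_mem m, hm⟩
  exact
    { bk := by rw [hC]; exact hb
      upA := h1
      Aup := fun a ha => h3 a ha
      AH := hAP.trans hPH
      eR := h4
      eN := h5
      RU := (YY_le_V h j).trans hVU
      NU := (blk_le h j).trans hVU
      CU := inf_le_left }

end nb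

end Cfsg.Agent.Omega.NOThreeL.RRed.Blk.TypesNat
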