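import Cfsg.Agent.Omega.NOThreeL.RRed.ClassMx
import Cfsg.Agent.Omega.NOThreeL.RRed.Blk.TypesLine

/-!
# NO-3L, box R: assembly of the blocks: a minimal exact offender with a transvection has order 2 modulo its kernel

* `mx_tv` : `A` minimal exact on `V`, `t ∈ A` a transvection on `V`: `A = ⟨t⟩ C_A(V)`;
* `card_im` : then the group induced by `A` on `V` (`XH Q`, `ph Q`) has order at most 2;
* **`card_le_two`** : `GOne S L P A`, `Mx (zl S L) A`, `P` of type `q = 2` or `S_n` (`Two2 S P`).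
-/

set_option autoImplicit false
set_option linter.unusedSectionVars false

namespace Cfsg.Agent.Omega.NOThreeL.RRed.Blk.AsmCard

open Subgroup Cfsg Cfsg.Agent.ZN
open Cfsg.Agent.Omega.FFThm (ElemM OffM NoOverM)
open Cfsg.Agent.Omega.NOThreeL.RSplit (Nrm)
open Cfsg.Agent.Omega.NOThreeL.RRed.Blk.TypesNat (XH ph ph_smul ph_eq mem_ker)
open scoped Pointwise

universe u

variable {G : Type u} [Group G]

theorem card_mul [Finite G] (D V : Subgroup G) : D.relIndex V * Nat.card ↥(V ⊓ D) = Nat.card V := by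
  have e := relIndex_inf_mul_relIndex (⊥ : Subgroup G) D V
  rw [relIndex_bot_left, bot_inf_eq, relIndex_bot_left, mul_comm, inf_comm] at e
  exact e

/-- `⟨t⟩ C_A(V)` -/
def Bt (V A : Subgroup G) (h : ElemM V A) {t : G} (ht : t ∈ A) : Subgroup G :=
  have hcj : ∀ x ∈ A, x ∈ centralizer (V : Set G) → t⁻¹ * x * t ∈ centralizer (V : Set G) := fun x hx hxC => by
    have h1 := h.comm t⁻¹ (inv_mem ht) x hx
    have e : t⁻¹ * x * t = (t⁻¹ * x * t⁻¹⁻¹ * x⁻¹) * x := by group
    rw [e]; exact mul_mem h1 hxC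
  { carrier := {x | x ∈ A ∧ (x ∈ centralizer (V : Set G) ∨ t⁻¹ * x ∈ centralizer (V : Set G))}
    mul_mem' := by
      rintro x y ⟨hx, hx'⟩ ⟨hy, hy'⟩
      refine ⟨mul_mem hx hy, ?_⟩
      rcases hx' with h1 | h1 <;> rcases hy' with h2 | h2
      · exact Or.inl (mul_mem h1 h2)
      · right
        have e : t⁻¹ * (x * y) = (t⁻¹ * x * t) * (t⁻¹ * y) := by group
        rw [e]; exact mul_mem (hcj x hx h1) h2
      · right
        have e : t⁻¹ * (x * y) = (t⁻¹ * x) * y := by group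
        rw [e]; exact mul_mem h1 h2
      · left
        have e : x * y = t ^ 2 * (t⁻¹ * (t⁻¹ * x) * t) * (t⁻¹ * y) := by rw [pow_two]; group
        rw [e]
        exact mul_mem (mul_mem (h.sq t ht) (hcj _ (mul_mem (inv_mem ht) hx) h1)) h2
    one_mem' := ⟨one_mem _, Or.inl (one_mem _)⟩
    inv_mem' := by
      rintro x ⟨hx, hx'⟩
      refine ⟨inv_mem hx, ?_⟩
      rcases hx' with h1 | h1
      · exact Or.inl (inv_mem h1)
      · right
        have e : t⁻¹ * x⁻¹ = (t⁻¹ * (t⁻¹ * x)⁻¹ * t) * (t ^ 2)⁻¹ := by rw [pow_two]; group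
        rw [e]
        exact mul_mem (hcj _ (inv_mem (mul_mem (inv_mem ht) hx)) (inv_mem h1)) (inv_mem (h.sq t ht)) }

theorem mem_Bt {V A : Subgroup G} {h : ElemM V A} {t : G} {ht : t ∈ A} {x : G} : x ∈ Bt V A h ht ↔
    x ∈ A ∧ (x ∈ centralizer (V : Set G) ∨ t⁻¹ * x ∈ centralizer (V : Set G)) := Iff.rfl

/-- **`A = ⟨t⟩ C_A(V)`.** -/
theorem mx_tv [Finite G] {V A : Subgroup G} (h : Mx V A) (hV : V ≤ centralizer (V : Set G))
    (hsq : ∀ v ∈ V, v ^ 2 = 1) {t c : G} (ht : t ∈ A) (hc : c ∈ V) (htv : Tv V c t)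
    (hne : t ∉ centralizer (V : Set G)) {a : G} (ha : a ∈ A) :
    a ∈ centralizer (V : Set G) ∨ t⁻¹ * a ∈ centralizer (V : Set G) := by
  set B := Bt V A h.toElemM ht with hB
  have htB : t ∈ B := ⟨ht, Or.inr (by rw [inv_mul_cancel]; exact one_mem _)⟩
  have hBA : B ≤ A := fun x hx => hx.1
  have hAB : A ⊓ centralizer (V : Set G) ≤ B := fun x hx => ⟨hx.1, Or.inl hx.2⟩
  -- `|B : C_B(V)| = 2`
  have h1 : (centralizer (V : Set G)).relIndex B = 2 := by
    rw [relIndex_eq_two_iff_exists_notMem_and]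
    refine ⟨t, htB, hne, fun b hb => ?_⟩
    rcases hb.2 with h2 | h2
    · exact Or.inr h2
    · left
      have h3 : t⁻¹ * (t⁻¹ * b) * t ∈ centralizer (V : Set G) := by
        have h4 := h.comm t⁻¹ (inv_mem ht) (t⁻¹ * b) (mul_mem (inv_mem ht) hb.1)
        have e : t⁻¹ * (t⁻¹ * b) * t = (t⁻¹ * (t⁻¹ * b) * t⁻¹⁻¹ * (t⁻¹ * b)⁻¹) * (t⁻¹ * b) := by group
        rw [e]; exact mul_mem h4 h2
      have e : b * t = t ^ 2 * (t⁻¹ * (t⁻¹ * b) * t) := by rw [pow_two]; group
      rw [e]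
      exact mul_mem (h.sq t ht) h3
  -- `|V : C_V(B)| = 2`
  have hfix : ∀ w ∈ V, t * w * t⁻¹ = w → w ∈ centralizer (B : Set G) := by
    intro w hw h2
    rw [mem_centralizer_iff]
    intro b hb
    have h3 : t * w = w * t := mul_inv_eq_iff_eq_mul.1 h2
    rcases hb.2 with h4 | h4
    · exact (mem_centralizer_iff.1 h4 w hw).symm
    · have h5 := mem_centralizer_iff.1 h4 w hw
      calc b * w = t * (t⁻¹ * b * w) := by group
        _ = t * (w * (t⁻¹ * b)) := by rw [h5]
        _ = (t * w) * (t⁻¹ * b) := by group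
        _ = (w * t) * (t⁻¹ * b) := by rw [h3]
        _ = w * b := by group
  have h2 : (centralizer (B : Set G)).relIndex V = 2 := by
    rw [relIndex_eq_two_iff_exists_notMem_and]
    obtain ⟨v, hv, hv1⟩ : ∃ v ∈ V, t * v * t⁻¹ ≠ v := by
      by_contra hcon
      push Not at hcon
      refine hne (mem_centralizer_iff.2 fun v hv => ?_)
      exact (mul_inv_eq_iff_eq_mul.1 (hcon v hv)).symm
    have hv2 := (htv v hv).resolve_left hv1
    refine ⟨v, hv, fun h3 => hv1 ?_, fun w hw => ?_⟩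
    · rw [mem_centralizer_iff.1 h3 t htB]; group
    · rcases htv w hw with h3 | h3
      · exact Or.inr (hfix w hw h3)
      · left
        refine hfix _ (mul_mem hw hv) ?_
        have hcv : c * v = v * c := (mem_centralizer_iff.1 (hV hc) v hv).symm
        have hcc : c * c = 1 := by rw [← pow_two]; exact hsq c hc
        calc t * (w * v) * t⁻¹ = (t * w * t⁻¹) * (t * v * t⁻¹) := by group
          _ = w * c * (v * c) := by rw [h3, hv2]
          _ = w * (c * v) * c := by group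
          _ = w * v * (c * c) := by rw [hcv]; group
          _ = w * v := by rw [hcc, mul_one]
  have c1 := card_mul (centralizer (V : Set G)) B
  have c2 := card_mul (centralizer (B : Set G)) V
  rw [h1] at c1
  rw [h2] at c2
  have h3 := h.min B hBA (by rw [← c1, ← c2]; ring) hAB
  rcases h3 with h4 | h4
  · exact absurd (h4 htB) hne
  · have h5 : a ∈ B := by rw [h4]; exact ha
    exact h5.2

/-- The group induced by `A`. -/
theorem card_im [Finite G] {H U A : Subgroup G} (Q : Nrm H U) {t : G} (htH : t ∈ H)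
    (h : ∀ a ∈ A, a ∈ centralizer (U : Set G) ∨ t⁻¹ * a ∈ centralizer (U : Set G)) :
    Nat.card ↥((A.subgroupOf H).map (ph Q)) ≤ 2 := by
  classical
  have h1 : (((A.subgroupOf H).map (ph Q) : Subgroup (XH Q)) : Set (XH Q)) ⊆ {1, ph Q ⟨t, htH⟩} := by
    rintro _ ⟨x, hx, rfl⟩
    rcases h x (mem_subgroupOf.1 hx) with h2 | h2
    · left
      exact MonoidHom.mem_ker.1 ((mem_ker Q).2 h2)
    · right
      have h3 : (⟨t, htH⟩ : H)⁻¹ * x ∈ (ph Q).ker := (mem_ker Q).2 h2
      rw [MonoidHom.mem_ker, map_mul, map_inv, inv_mul_eq_one] at h3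
      exact h3.symm
  calc Nat.card ↥((A.subgroupOf H).map (ph Q)) = Set.ncard (((A.subgroupOf H).map (ph Q) : Subgroup (XH Q)) : Set (XH Q)) :=
        rfl
    _ ≤ Set.ncard ({1, ph Q ⟨t, htH⟩} : Set (XH Q)) := Set.ncard_le_ncard h1 (Set.toFinite _)
    _ ≤ 2 := Set.ncard_insert_le _ _ |>.trans (by rw [Set.ncard_singleton])

/-- **Type `q = 2` or `S_n`: a minimal exact offender has order 2 modulo its kernel.** -/
theorem card_le_two [Finite G] (hG : IsCharacteristicTwoType G) {S : Sylow 2 G} {L P A : Subgroup G}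
    (g : GOne S L P A) (h : Mx (zl (S : Subgroup G) L) A) (h2 : Two2 S P)
    (hsq : ∀ v ∈ zl (S : Subgroup G) L, v ^ 2 = 1) {H : Subgroup G} (Q : Nrm H (zl (S : Subgroup G) L))
    (hAH : A ≤ H) : Nat.card ↥((A.subgroupOf H).map (ph Q)) ≤ 2 := by
  obtain ⟨t, ht, c, hc, -, htv, hn⟩ := g.tv hG h2
  exact card_im Q (hAH ht) fun a ha => mx_tv h g.comm hsq ht (g.VU hc) htv hn ha

end Cfsg.Agent.Omega.NOThreeL.RRed.Blk.AsmCard
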