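import Cfsg.Agent.Omega.NOThreeL.RRed.Blk.Split
import Cfsg.Agent.Omega.NOThreeL.VF.One

/-!
# `V_P` splits over `cv S P` for natural `SL₂(2)`-modules

* `triv` : an element of `P` which centralises `D = cv S P` and `V_P / D` centralises `V_P`;
* `splitBy_two` : `|F| = 2`, `NatK F S P (zl S P) (cv S P) k` : `V_P = V₀ × D`, `V₀` normal in `P`.
-/

set_option autoImplicit false
set_option linter.unusedSectionVars false

namespace Cfsg.Agent.Omega.NOThreeL.RRed.Blk.SplitTwo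

open Subgroup Cfsg Cfsg.Agent.ZN Cfsg.Agent.Omega.MinPar Cfsg.Agent.Omega.FFThm
open Cfsg.Agent.Omega.FrameFF (cv)
open Cfsg.Agent.Omega.NOThreeL.VF.Q (Sit k_def cj_eq k_eq_one k_one k_mul_left k_cj)
open Cfsg.Agent.Omega.NOThreeL.RTreeA (SplitBy)
open Cfsg.Agent.Lib.SL2Mat
open Cfsg.Agent.Omega.NatPair (ap ap_inv_ap ext2 ap_zero' ap_one')
open Cfsg.Agent.MinSimple.VModule (oddGen oddGen_le le_normalizer_oddGen zc_le_zl)

universe u

variable {G : Type u} [Group G]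

theorem norm_cent {X P : Subgroup G} (h : P ≤ normalizer (X : Set G)) :
    P ≤ normalizer (centralizer (X : Set G) : Set G) := by
  have key : ∀ p ∈ P, ∀ x ∈ centralizer (X : Set G), p * x * p⁻¹ ∈ centralizer (X : Set G) := by
    intro p hp x hx
    rw [mem_centralizer_iff] at hx ⊢
    intro y hy
    have h1 : p⁻¹ * y * p ∈ X := by
      have := (mem_normalizer_iff.1 (h (inv_mem hp)) y).1 hy
      rwa [inv_inv] at this
    have h2 := hx _ h1
    calc y * (p * x * p⁻¹) = p * (p⁻¹ * y * p * x) * p⁻¹ := by group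
      _ = p * (x * (p⁻¹ * y * p)) * p⁻¹ := by rw [h2]
      _ = p * x * p⁻¹ * y := by group
  intro p hp
  rw [mem_normalizer_iff]
  intro x
  refine ⟨key p hp x, fun hx => ?_⟩
  have h1 := key p⁻¹ (inv_mem hp) _ hx
  have e : p⁻¹ * (p * x * p⁻¹) * p⁻¹⁻¹ = x := by group
  rwa [e] at h1

/-- `D = cv S P` is normalised by `P`. -/
theorem conj_cv {S P : Subgroup G} {g d : G} (hg : g ∈ P) (hd : d ∈ cv S P) : g * d * g⁻¹ ∈ cv S P := by
  refine ⟨(mem_normalizer_iff.1 (le_normalizer_zl S P hg) _).1 hd.1, mem_centralizer_iff.2 fun o ho => ?_⟩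
  have h1 : g⁻¹ * o * g ∈ oddGen P := by
    have := (mem_normalizer_iff.1 (le_normalizer_oddGen P (inv_mem hg)) o).1 ho
    rwa [inv_inv] at this
  have h2 := mem_centralizer_iff.1 hd.2 _ h1
  calc o * (g * d * g⁻¹) = g * ((g⁻¹ * o * g) * d) * g⁻¹ := by group
    _ = g * (d * (g⁻¹ * o * g)) * g⁻¹ := by rw [h2]
    _ = g * d * g⁻¹ * o := by group

/-- the elements of `P` which centralise `D` and `V_P / D` -/
def Kr (S P : Subgroup G) : Subgroup G where
  carrier := {g | g ∈ P ∧ (∀ v ∈ zl S P, VF.Q.k g v ∈ cv S P) ∧ ∀ d ∈ cv S P, g * d = d * g}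
  one_mem' := ⟨one_mem _, fun v _ => by rw [k_one]; exact one_mem _, fun d _ => by rw [one_mul, mul_one]⟩
  mul_mem' := by
    rintro x y ⟨hx, hx1, hx2⟩ ⟨hy, hy1, hy2⟩
    refine ⟨mul_mem hx hy, fun v hv => ?_, fun d hd => ?_⟩
    · rw [k_mul_left]
      exact mul_mem (conj_cv hx (hy1 v hv)) (hx1 v hv)
    · rw [mul_assoc, hy2 d hd, ← mul_assoc, hx2 d hd, mul_assoc]
  inv_mem' := by
    rintro x ⟨hx, hx1, hx2⟩
    refine ⟨inv_mem hx, fun v hv => ?_, fun d hd => ?_⟩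
    · have hv' : x⁻¹ * v * x ∈ zl S P := by
        have := (mem_normalizer_iff.1 (le_normalizer_zl S P (inv_mem hx)) v).1 hv
        rwa [inv_inv] at this
      have h1 := hx1 _ hv'
      have e1 : VF.Q.k x (x⁻¹ * v * x) = (VF.Q.k x⁻¹ v)⁻¹ := by
        simp only [k_def]; group
      rw [e1] at h1
      exact (inv_mem_iff).1 h1
    · have h1 := hx2 d hd
      calc x⁻¹ * d = x⁻¹ * (d * x) * x⁻¹ := by group
        _ = x⁻¹ * (x * d) * x⁻¹ := by rw [h1]
        _ = d * x⁻¹ := by group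

theorem conj_Kr {S P : Subgroup G} {g x : G} (hg : g ∈ P) (hx : x ∈ Kr S P) : g * x * g⁻¹ ∈ Kr S P := by
  obtain ⟨hxP, hx1, hx2⟩ := hx
  have cj' : ∀ v ∈ zl S P, g⁻¹ * v * g ∈ zl S P := fun v hv => by
    have := (mem_normalizer_iff.1 (le_normalizer_zl S P (inv_mem hg)) v).1 hv
    rwa [inv_inv] at this
  refine ⟨mul_mem (mul_mem hg hxP) (inv_mem hg), fun v hv => ?_, fun d hd => ?_⟩
  · have e : v = g * (g⁻¹ * v * g) * g⁻¹ := by group
    rw [e, k_cj]
    exact conj_cv hg (hx1 _ (cj' v hv))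
  · have h1 : g⁻¹ * d * g ∈ cv S P := by
      have := conj_cv (inv_mem hg) hd
      rwa [inv_inv] at this
    have h2 := hx2 _ h1
    calc g * x * g⁻¹ * d = g * (x * (g⁻¹ * d * g)) * g⁻¹ := by group
      _ = g * (g⁻¹ * d * g * x) * g⁻¹ := by rw [h2]
      _ = d * (g * x * g⁻¹) := by group

/-- **Elements of `P` which centralise `D` and `V_P / D` centralise `V_P`.** -/
theorem triv [Finite G] (hc : IsCharacteristicTwoType G) {S : Sylow 2 G} {P : Subgroup G}
    (hP : IsPar (S : Subgroup G) P) : Kr (S : Subgroup G) P ≤ centralizer (zl (S : Subgroup G) P : Set G) := by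
  have hE := FFThm.elem_zl hc S hP.isLoc
  have s : Sit P (zl (S : Subgroup G) P) (cv (S : Subgroup G) P) :=
    { ab := fun x hx y hy => congrArg Subtype.val (hE.1.is_comm.comm ⟨x, hx⟩ ⟨y, hy⟩)
      sq := fun x hx => by rw [← pow_two]; exact hE.2 x hx
      VW := inf_le_left
      nW := le_normalizer_zl _ _ }
  have hKP : Kr (S : Subgroup G) P ≤ P := fun x hx => hx.1
  have hEl : ElemM (zl (S : Subgroup G) P) (Kr (S : Subgroup G) P) :=
    s.elemM hKP (fun x hx => hx.2.1) (fun x hx v hv => k_eq_one.2 (hx.2.2 v hv))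
  obtain ⟨B, hB, hB2, hBc⟩ := VF.exists_two (hKP.trans (le_normalizer_zl _ _)) hEl
  obtain ⟨g, hg, hgB⟩ := VF.exists_conj_le S hP.le hB2 (hB.trans hKP)
  rw [le_centralizer_iff]
  refine MinSimple.VModule.zl_le (fun z hz => ?_) ?_
  · rw [mem_centralizer_iff]
    intro a ha
    have hzV := zc_le_zl (S : Subgroup G) P hz
    obtain ⟨b, hb, hbc⟩ := hBc _ (conj_Kr (inv_mem hg) ha)
    have h1 : g * b * g⁻¹ * z = z * (g * b * g⁻¹) := (MinSimple.VModule.mem_zc.1 hz).2.1 _ (hgB b hb)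
    have hzV' : g⁻¹ * z * g ∈ zl (S : Subgroup G) P := by
      have := (mem_normalizer_iff.1 (le_normalizer_zl (S : Subgroup G) P (inv_mem hg)) z).1 hzV
      rwa [inv_inv] at this
    have h2 := mem_centralizer_iff.1 hbc _ hzV'
    set c := b⁻¹ * (g⁻¹ * a * g⁻¹⁻¹) with hcd
    have e1 : a = (g * b * g⁻¹) * (g * c * g⁻¹) := by rw [hcd]; group
    have h3 : g * c * g⁻¹ * z = z * (g * c * g⁻¹) := by
      calc g * c * g⁻¹ * z = g * (c * (g⁻¹ * z * g)) * g⁻¹ := by group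
        _ = g * (g⁻¹ * z * g * c) * g⁻¹ := by rw [h2]
        _ = z * (g * c * g⁻¹) := by group
    rw [e1, mul_assoc, h3, ← mul_assoc, h1, mul_assoc]
  · refine norm_cent ?_
    intro p hp
    rw [mem_normalizer_iff]
    intro x
    refine ⟨conj_Kr hp, fun hx => ?_⟩
    have h1 := conj_Kr (inv_mem hp) hx
    have e : p⁻¹ * (p * x * p⁻¹) * p⁻¹⁻¹ = x := by group
    rwa [e] at h1

/-! ### `SL₂(2)` -/

section two

variable {F : Type} [Field F] [CharP F 2]

theorem two_eq : (1 : F) + 1 = 0 := CharTwo.add_self_eq_zero 1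

/-- an element of order `3` -/
def qm (F : Type) [Field F] [CharP F 2] : Matrix.SpecialLinearGroup (Fin 2) F :=
  mk 0 1 1 1 (by
    have := two_eq (F := F)
    linear_combination -this)

theorem ap_qm_0 (x : Fin 2 → F) : ap (qm F) x 0 = x 1 := by
  rw [ap_zero', qm, mk_00, mk_01]; ring

theorem ap_qm_1 (x : Fin 2 → F) : ap (qm F) x 1 = x 0 + x 1 := by
  rw [ap_one', qm, mk_10, mk_11]; ring

theorem tr_qm (x : Fin 2 → F) : x + ap (qm F) x + ap (qm F) (ap (qm F) x) = 0 := by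
  have h2 := two_eq (F := F)
  apply ext2
  · rw [Pi.add_apply, Pi.add_apply, ap_qm_0, ap_qm_0, ap_qm_1]
    change _ = (0 : F)
    linear_combination (x 0 + x 1) * h2
  · rw [Pi.add_apply, Pi.add_apply, ap_qm_1, ap_qm_1, ap_qm_0, ap_qm_1]
    change _ = (0 : F)
    linear_combination (x 0 + 2 * x 1) * h2

/-- elements of order `3` commute with `qm` -/
theorem comm_qm (hF : ∀ x : F, x = 0 ∨ x = 1) {B : Matrix.SpecialLinearGroup (Fin 2) F}
    (hB : ∀ x, x + ap B x + ap B (ap B x) = 0) (x : Fin 2 → F) : ap B (ap (qm F) x) = ap (qm F) (ap B x) := by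
  have h2 := two_eq (F := F)
  have hd := det_eq B
  have e1 := congrFun (hB ![1, 0]) 0
  have e2 := congrFun (hB ![0, 1]) 1
  have e3 := congrFun (hB ![1, 0]) 1
  rw [Pi.add_apply, Pi.add_apply, ap_zero', ap_zero', ap_zero', ap_one'] at e1
  rw [Pi.add_apply, Pi.add_apply, ap_one', ap_one', ap_one', ap_zero'] at e2 e3
  simp only [Matrix.cons_val_zero, Matrix.cons_val_one, mul_one, mul_zero, add_zero, zero_add] at e1 e2 e3
  change _ = (0 : F) at e1 e2 e3
  have key : (ent B 0 0 + ent B 1 1 = 1) ∧ ent B 0 1 = 1 ∧ ent B 1 0 = 1 := by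
    generalize ent B 0 0 = a at *
    generalize ent B 0 1 = b at *
    generalize ent B 1 0 = c at *
    generalize ent B 1 1 = d at *
    have hb : b = 1 := by
      rcases hF b with rfl | rfl
      · exfalso
        rcases hF a with rfl | rfl
        · simp at e1
        · rcases hF d with rfl | rfl
          · simp at hd
          · apply one_ne_zero (α := F)
            linear_combination e1 - h2
      · rfl
    have hc : c = 1 := by
      rcases hF c with rfl | rfl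
      · exfalso
        rcases hF a with rfl | rfl
        · simp at e1
        · rcases hF d with rfl | rfl
          · simp at hd
          · apply one_ne_zero (α := F)
            linear_combination e1 - h2
      · rfl
    subst hb hc
    refine ⟨?_, rfl, rfl⟩
    linear_combination e3 - h2
  obtain ⟨k1, k2, k3⟩ := key
  have k4 : ent B 0 0 = 1 + ent B 1 1 := by linear_combination k1 - ent B 1 1 * h2
  apply ext2
  · rw [ap_zero' B, ap_qm_0, ap_qm_1, ap_qm_0, ap_one' B, k2, k3, k4]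
    linear_combination x 1 * h2
  · rw [ap_one' B, ap_qm_0, ap_qm_1, ap_qm_1, ap_zero' B, ap_one' B, k2, k3, k4]
    linear_combination (-x 0) * h2

end two

/-! ### The trace -/

/-- `v v^ρ v^(ρ²)` -/
def tr (ρ v : G) : G := v * (ρ * v * ρ⁻¹) * (ρ * (ρ * v * ρ⁻¹) * ρ⁻¹)

theorem tr_mul {V : Subgroup G} (ab : ∀ x ∈ V, ∀ y ∈ V, x * y = y * x) {ρ : G}
    (hρ : ∀ v ∈ V, ρ * v * ρ⁻¹ ∈ V) {v w : G} (hv : v ∈ V) (hw : w ∈ V) : tr ρ (v * w) = tr ρ v * tr ρ w := by
  have e1 : ρ * (v * w) * ρ⁻¹ = (ρ * v * ρ⁻¹) * (ρ * w * ρ⁻¹) := by group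
  have e2 : ρ * ((ρ * v * ρ⁻¹) * (ρ * w * ρ⁻¹)) * ρ⁻¹ =
      (ρ * (ρ * v * ρ⁻¹) * ρ⁻¹) * (ρ * (ρ * w * ρ⁻¹) * ρ⁻¹) := by group
  unfold tr
  rw [e1, e2]
  have m1 := hρ v hv
  have m2 := hρ w hw
  have m3 := hρ _ m1
  have m4 := hρ _ m2
  generalize ρ * v * ρ⁻¹ = v1 at *
  generalize ρ * w * ρ⁻¹ = w1 at *
  generalize ρ * v1 * ρ⁻¹ = v2 at *
  generalize ρ * w1 * ρ⁻¹ = w2 at *
  have h1 := ab w hw v1 m1
  have h2 := ab w hw v2 m3
  have h3 := ab w1 m2 v2 m3
  calc v * w * (v1 * w1) * (v2 * w2) = v * (w * v1) * (w1 * v2) * w2 := by group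
    _ = v * (v1 * w) * (v2 * w1) * w2 := by rw [h1, h3]
    _ = v * v1 * (w * v2) * w1 * w2 := by group
    _ = v * v1 * (v2 * w) * w1 * w2 := by rw [h2]
    _ = v * v1 * v2 * (w * w1 * w2) := by group

/-- **`V_P` splits, natural `SL₂(2)`-modules.** -/
theorem splitBy_two [Finite G] (hc : IsCharacteristicTwoType G) {S : Sylow 2 G} {P : Subgroup G}
    (hP : IsPar (S : Subgroup G) P) {F : Type} [Field F] [CharP F 2] (hF : ∀ x : F, x = 0 ∨ x = 1) {k : ℕ}
    (M : NatK F (S : Subgroup G) P (zl (S : Subgroup G) P) (cv (S : Subgroup G) P) k) :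
    ∃ V₀, SplitBy (S : Subgroup G) P (cv (S : Subgroup G) P) V₀ := by
  have hE := FFThm.elem_zl hc S hP.isLoc
  have ab : ∀ x ∈ zl (S : Subgroup G) P, ∀ y ∈ zl (S : Subgroup G) P, x * y = y * x :=
    fun x hx y hy => congrArg Subtype.val (hE.1.is_comm.comm ⟨x, hx⟩ ⟨y, hy⟩)
  have sq : ∀ x ∈ zl (S : Subgroup G) P, x * x = 1 := fun x hx => by rw [← pow_two]; exact hE.2 x hx
  have DV : cv (S : Subgroup G) P ≤ zl (S : Subgroup G) P := inf_le_left
  have cj : ∀ g ∈ P, ∀ v ∈ zl (S : Subgroup G) P, g * v * g⁻¹ ∈ zl (S : Subgroup G) P := fun g hg v hv =>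
    (mem_normalizer_iff.1 (le_normalizer_zl (S : Subgroup G) P hg) v).1 hv
  have e1 : M.e 1 = 0 := by
    have := M.mul 1 (one_mem _) 1 (one_mem _)
    rw [mul_one] at this
    exact left_eq_add.1 this
  have einv : ∀ v ∈ zl (S : Subgroup G) P, M.e v⁻¹ = - M.e v := fun v hv => by
    have := M.mul v⁻¹ (inv_mem hv) v hv
    rw [inv_mul_cancel, e1] at this
    exact eq_neg_of_add_eq_zero_left this.symm
  obtain ⟨ρ, hρP, hρ, hρD⟩ := M.lift fun _ => qm F
  have hρV : ∀ v ∈ zl (S : Subgroup G) P, ρ * v * ρ⁻¹ ∈ zl (S : Subgroup G) P := cj ρ hρP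
  have trV : ∀ r ∈ P, ∀ v ∈ zl (S : Subgroup G) P, tr r v ∈ zl (S : Subgroup G) P := fun r hr v hv =>
    mul_mem (mul_mem hv (cj r hr v hv)) (cj r hr _ (cj r hr v hv))
  -- `tr ρ v ∈ D`
  have htrD : ∀ v ∈ zl (S : Subgroup G) P, tr ρ v ∈ cv (S : Subgroup G) P := by
    intro v hv
    rw [← M.ker _ (trV ρ hρP v hv)]
    funext i
    unfold tr
    rw [M.mul _ (mul_mem hv (hρV v hv)) _ (hρV _ (hρV v hv)), M.mul _ hv _ (hρV v hv), Pi.add_apply, Pi.add_apply,
      hρ _ (hρV v hv) i, hρ v hv i]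
    exact tr_qm _
  have htrd : ∀ d ∈ cv (S : Subgroup G) P, tr ρ d = d := by
    intro d hd
    have h1 : ρ * d * ρ⁻¹ = d := by rw [hρD d hd, mul_inv_cancel_right]
    unfold tr
    rw [h1, h1, sq d (DV hd), one_mul]
  let V₀ : Subgroup G :=
    { carrier := {v | v ∈ zl (S : Subgroup G) P ∧ tr ρ v = 1}
      one_mem' := ⟨one_mem _, by unfold tr; group⟩
      mul_mem' := by
        rintro a b ⟨ha, ha'⟩ ⟨hb, hb'⟩
        exact ⟨mul_mem ha hb, by rw [tr_mul ab hρV ha hb, ha', hb', one_mul]⟩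
      inv_mem' := by
        rintro a ⟨ha, ha'⟩
        refine ⟨inv_mem ha, ?_⟩
        have h1 := tr_mul ab hρV ha (inv_mem ha)
        rw [mul_inv_cancel, ha', one_mul] at h1
        rw [← h1]; unfold tr; group }
  have hV0 : ∀ v, v ∈ V₀ ↔ v ∈ zl (S : Subgroup G) P ∧ tr ρ v = 1 := fun v => Iff.rfl
  have key : ∀ p ∈ P, ∀ v ∈ V₀, p * v * p⁻¹ ∈ V₀ := by
    intro p hp v hv
    obtain ⟨hvV, hv1⟩ := (hV0 v).1 hv
    rw [hV0]
    refine ⟨cj p hp v hvV, ?_⟩
    -- `r = p⁻¹ ρ p`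
    set r := p⁻¹ * ρ * p with hr
    have hrP : r ∈ P := mul_mem (mul_mem (inv_mem hp) hρP) hp
    have etr : tr ρ (p * v * p⁻¹) = p * tr r v * p⁻¹ := by
      unfold tr
      rw [hr]; group
    obtain ⟨B, hB⟩ := M.norm p⁻¹ (inv_mem hp) ρ hρP (fun _ => qm F) hρ
    rw [inv_inv] at hB
    have hB' : ∀ v ∈ zl (S : Subgroup G) P, ∀ i, M.e (r * v * r⁻¹) i = ap (B i) (M.e v i) := hB
    have hrV : ∀ v ∈ zl (S : Subgroup G) P, r * v * r⁻¹ ∈ zl (S : Subgroup G) P := cj r hrP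
    have hrD : ∀ d ∈ cv (S : Subgroup G) P, r * d = d * r := by
      intro d hd
      have h1 := hρD _ (conj_cv hp hd)
      calc r * d = p⁻¹ * (ρ * (p * d * p⁻¹)) * p := by rw [hr]; group
        _ = p⁻¹ * (p * d * p⁻¹ * ρ) * p := by rw [h1]
        _ = d * r := by rw [hr]; group
    have htrr : ∀ u ∈ zl (S : Subgroup G) P, tr r u ∈ cv (S : Subgroup G) P := by
      intro u hu
      have h1 : tr r u = p⁻¹ * tr ρ (p * u * p⁻¹) * p := by
        unfold tr; rw [hr]; group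
      rw [h1]
      have := conj_cv (inv_mem hp) (htrD _ (cj p hp u hu))
      rwa [inv_inv] at this
    -- the relation on the coordinates
    have hrel : ∀ i x, x + ap (B i) x + ap (B i) (ap (B i) x) = 0 := by
      intro i x
      obtain ⟨u, hu, hue⟩ := M.surj (Pi.single i x)
      have h1 := (M.ker _ (DV (htrr u hu))).2 (htrr u hu)
      have h2 := congrFun h1 i
      unfold tr at h2
      rw [M.mul _ (mul_mem hu (hrV u hu)) _ (hrV _ (hrV u hu)), M.mul _ hu _ (hrV u hu), Pi.add_apply, Pi.add_apply,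
        hB' _ (hrV u hu) i, hB' u hu i, hue, Pi.single_eq_same] at h2
      exact h2
    -- `r` and `ρ` commute on `V`
    have hcom : ∀ u ∈ zl (S : Subgroup G) P, r * (ρ * u * ρ⁻¹) * r⁻¹ = ρ * (r * u * r⁻¹) * ρ⁻¹ := by
      intro u hu
      have hK : (ρ * r)⁻¹ * (r * ρ) ∈ Kr (S : Subgroup G) P := by
        refine ⟨mul_mem (inv_mem (mul_mem hρP hrP)) (mul_mem hrP hρP), fun v hv => ?_, fun d hd => ?_⟩
        · rw [k_def, ← M.ker _ (mul_mem (cj _ (mul_mem (inv_mem (mul_mem hρP hrP)) (mul_mem hrP hρP)) v hv)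
            (inv_mem hv))]
          set g := (ρ * r)⁻¹ * (r * ρ) with hg
          have hgP : g ∈ P := mul_mem (inv_mem (mul_mem hρP hrP)) (mul_mem hrP hρP)
          have h3 : M.e (g * v * g⁻¹) = M.e v := by
            funext i
            have h4 : M.e (ρ * (r * (g * v * g⁻¹) * r⁻¹) * ρ⁻¹) i = M.e (r * (ρ * v * ρ⁻¹) * r⁻¹) i := by
              congr 1
              rw [hg]; group
            rw [hρ _ (hrV _ (cj g hgP v hv)) i, hB' _ (cj g hgP v hv) i, hB' _ (hρV v hv) i, hρ v hv i,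
              comm_qm hF (hrel i)] at h4
            beta_reduce at h4
            have h5 := congrArg (ap (qm F)⁻¹) h4
            rw [ap_inv_ap, ap_inv_ap] at h5
            have h6 := congrArg (ap (B i)⁻¹) h5
            rwa [ap_inv_ap, ap_inv_ap] at h6
          rw [M.mul _ (cj g hgP v hv) _ (inv_mem hv), h3, einv v hv, add_neg_cancel]
        · have h1 := hρD d hd
          have h2 := hrD d hd
          have h3 : r * ρ * d = d * (r * ρ) := by rw [mul_assoc, h1, ← mul_assoc, h2, mul_assoc]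
          have h4 : ρ * r * d = d * (ρ * r) := by rw [mul_assoc, h2, ← mul_assoc, h1, mul_assoc]
          calc (ρ * r)⁻¹ * (r * ρ) * d = (ρ * r)⁻¹ * (r * ρ * d) := by group
            _ = (ρ * r)⁻¹ * (d * (ρ * r)) * (ρ * r)⁻¹ * (r * ρ) := by rw [h3]; group
            _ = (ρ * r)⁻¹ * (ρ * r * d) * (ρ * r)⁻¹ * (r * ρ) := by rw [h4]
            _ = d * ((ρ * r)⁻¹ * (r * ρ)) := by group
      have h1 := mem_centralizer_iff.1 (triv hc hP hK) u hu
      calc r * (ρ * u * ρ⁻¹) * r⁻¹ = ρ * r * ((ρ * r)⁻¹ * (r * ρ) * u) * (r * ρ)⁻¹ := by group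
        _ = ρ * r * (u * ((ρ * r)⁻¹ * (r * ρ))) * (r * ρ)⁻¹ := by rw [h1]
        _ = ρ * (r * u * r⁻¹) * ρ⁻¹ := by group
    -- `v = [ρ, u]`
    set u := ρ * v * ρ⁻¹ with hu
    have huV : u ∈ zl (S : Subgroup G) P := hρV v hvV
    have hve : v = (ρ * u * ρ⁻¹) * u⁻¹ := by
      have h1 : v * u * (ρ * u * ρ⁻¹) = 1 := hv1
      have h2 : ρ * u * ρ⁻¹ = (v * u)⁻¹ := eq_inv_of_mul_eq_one_right h1
      have h3 : (v * u)⁻¹ = v * u := inv_eq_of_mul_eq_one_right (sq _ (mul_mem hvV huV))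
      rw [h2, h3, mul_inv_cancel_right]
    have h1 : tr r (ρ * u * ρ⁻¹) = ρ * tr r u * ρ⁻¹ := by
      have h2 := hcom u huV
      have h3 := hcom _ (hrV u huV)
      unfold tr
      rw [h2, h3]; group
    have h2 : tr r (ρ * u * ρ⁻¹) = tr r u := by
      rw [h1, hρD _ (htrr u huV), mul_inv_cancel_right]
    have h3 : tr r v = 1 := by
      have h4 := tr_mul ab hrV hvV huV
      have h5 : v * u = ρ * u * ρ⁻¹ := by
        rw [hve]; group
      rw [h5, h2] at h4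
      exact (right_eq_mul.1 h4)
    rw [etr, h3]; group
  refine ⟨V₀, fun v hv => hv.1, ?_, ?_, ?_⟩
  · intro p hp
    rw [mem_normalizer_iff]
    intro x
    refine ⟨key p hp x, fun hx => ?_⟩
    have h1 := key p⁻¹ (inv_mem hp) _ hx
    have e : p⁻¹ * (p * x * p⁻¹) * p⁻¹⁻¹ = x := by group
    rwa [e] at h1
  · rw [eq_bot_iff]
    rintro x ⟨hx1, hx2⟩
    rw [mem_bot, ← htrd x hx2]
    exact hx1.2
  · intro v hv
    have h1 := htrD v hv
    have h2 : v * (tr ρ v)⁻¹ ∈ V₀ := by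
      refine ⟨mul_mem hv (inv_mem (DV h1)), ?_⟩
      rw [tr_mul ab hρV hv (inv_mem (DV h1)), htrd _ (inv_mem h1), mul_inv_cancel]
    have e : v = v * (tr ρ v)⁻¹ * tr ρ v := by group
    rw [e]
    exact mul_mem_sup h2 h1

end Cfsg.Agent.Omega.NOThreeL.RRed.Blk.SplitTwo
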