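import Cfsg.Agent.Omega.NOThreeL.RRed.Blk.SplitSym
import Cfsg.Agent.Omega.NOThreeL.RRed.Blk.SplitTwo

/-!
# NO-3L, box R, BLOCK THEOREM: `zl S L = N × C_U(O²(P))` for every member of `P*(S)` with an exact offender

* `sp_of_concl` : from the conclusion of the FF theorem for `P` (natural `SL₂(F)`-modules with `|F| ≥ 4` are assumed to
  split over `cv S P`);
* `exists_sp` : with `VF.one`.
-/

set_option autoImplicit false

namespace Cfsg.Agent.Omega.NOThreeL.RRed.Blk.SplitAll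

open Subgroup Cfsg Cfsg.Agent.ZN Cfsg.Agent.Omega.MinPar Cfsg.Agent.Omega.FFThm
open Cfsg.Agent.Omega.FrameFF (cv)
open Cfsg.Agent.Omega.NOThreeL.RTreeA (SplitBy Splits)
open Cfsg.Agent.Omega.NOThreeL.RRed.Blk.Split (Sp)

universe u

variable {G : Type u} [Group G] [Finite G]

/-- Natural modules over fields with at least four elements split. -/
def BigSplits (S P : Subgroup G) : Prop :=
  ∀ (F : Type) [Field F] [Finite F] [CharP F 2] (k : ℕ), 0 < k → 4 ≤ Nat.card F →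
    Nonempty (NatKM F S P (zl S P) (cv S P) k) → Splits S P (cv S P)

theorem card_field (F : Type) [Field F] [Finite F] [CharP F 2] : (∀ x : F, x = 0 ∨ x = 1) ∨ 4 ≤ Nat.card F := by
  rcases Cfsg.Agent.Omega.FrameFF.two_le_card (F := F) with h | h
  · left
    intro x
    by_contra hcon
    push Not at hcon
    have h1 : ({0, 1, x} : Set F).ncard = 3 := by
      rw [Set.ncard_insert_of_notMem, Set.ncard_pair]
      · exact fun h2 => hcon.2 h2.symm
      · simp only [Set.mem_insert_iff, Set.mem_singleton_iff, not_or]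
        exact ⟨zero_ne_one, fun h2 => hcon.1 h2.symm⟩
    have h2 := Set.ncard_le_ncard (Set.subset_univ ({0, 1, x} : Set F)) (Set.toFinite _)
    rw [h1, Set.ncard_univ, h] at h2
    omega
  · exact Or.inr h

/-- **`U = N × C_U(O²(P))`.** -/
theorem sp_of_concl (hc : IsCharacteristicTwoType G) {S : Sylow 2 G} {L P A : Subgroup G}
    (hL : IsLoc (S : Subgroup G) L) (hP : IsParS (S : Subgroup G) P) (hPL : P ≤ L)
    (no : NoOverM (zl (S : Subgroup G) L) L) (noP : NoOverM (zl (S : Subgroup G) P) P)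
    (hA : A ≤ (S : Subgroup G)) (off : OffM (zl (S : Subgroup G) L) A)
    (hne : ¬ A ≤ centralizer (zl (S : Subgroup G) P : Set G))
    (hAC : A ⊓ centralizer (zl (S : Subgroup G) P : Set G) ≤ centralizer (zl (S : Subgroup G) L : Set G))
    (hcon : ConclM (S : Subgroup G) P) (hbig : BigSplits (S : Subgroup G) P) :
    ∃ V₀, SplitBy (S : Subgroup G) P (cv (S : Subgroup G) P) V₀ ∧ Sp L P (zl (S : Subgroup G) L) V₀ A := by
  rcases hcon with ⟨F, _, _, _, k, hk, ⟨M⟩⟩ | ⟨k, m, hk, hm, ⟨M⟩⟩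
  · rcases card_field F with h2 | h4
    · obtain ⟨V₀, hV⟩ := SplitTwo.splitBy_two hc hP.toIsPar h2 M.toNatK
      exact ⟨V₀, hV, Split.nat hc hL hP hPL no noP hA off hne hAC M hV⟩
    · obtain ⟨V₀, hV⟩ := hbig F k hk h4 ⟨M⟩
      exact ⟨V₀, hV, Split.nat hc hL hP hPL no noP hA off hne hAC M hV⟩
  · obtain ⟨-, V₀, hV⟩ := SplitSym.splitBy hc hP.toIsPar hk (by omega) M.toSymK
    exact ⟨V₀, hV, SplitSym.sp hc hL hP hPL no noP hA off hne hAC hk (by omega) M hV⟩

/-- **With `VF.one`.** -/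
theorem exists_sp (hFF : StmtM.{u}) (hc : IsCharacteristicTwoType G) {S : Sylow 2 G} {L : Subgroup G}
    (hL : IsLoc (S : Subgroup G) L) (hgen : L ≤ sSup {P | IsParS (S : Subgroup G) P ∧ P ≤ L})
    (hoff : ∃ A ≤ L, OffM (zl (S : Subgroup G) L) A)
    (hbig : ∀ P, IsParS (S : Subgroup G) P → P ≤ L → BigSplits (S : Subgroup G) P) :
    NoOverM (zl (S : Subgroup G) L) L ∧ ∃ P, IsParS (S : Subgroup G) P ∧ P ≤ L ∧ ∃ A ≤ (S : Subgroup G),
      OffM (zl (S : Subgroup G) L) A ∧ OffM (zl (S : Subgroup G) P) A ∧ ConclM (S : Subgroup G) P ∧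
      ∃ V₀, SplitBy (S : Subgroup G) P (cv (S : Subgroup G) P) V₀ ∧ Sp L P (zl (S : Subgroup G) L) V₀ A := by
  obtain ⟨no, P, hP, hPL, A, hA, offL, offP, hAC, hcon⟩ := VF.one hFF hc S hL hgen hoff
  have noP := (hFF G S P (⟨hP.le, S.isPGroup', fun Q _ hQ hle => S.is_maximal' hQ hle⟩) hP.toIsMinPar (hP.isLoc.char2 S hc)
    ⟨A, hA.trans hP.le, offP⟩).1
  exact ⟨no, P, hP, hPL, A, hA, offL, offP, hcon,
    sp_of_concl hc hL hP hPL no noP hA offL offP.ne hAC hcon (hbig P hP hPL)⟩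

end Cfsg.Agent.Omega.NOThreeL.RRed.Blk.SplitAll
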