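import Cfsg.Agent.Omega.NOThreeL.RRed.Blk.AsmDef
import Cfsg.Agent.Omega.NOThreeL.RRed.Blk.TypesLine
import Cfsg.Agent.Omega.NOThreeL.RRed.Blk.SplitAll
import Cfsg.Agent.Omega.NOThreeL.RRed.NS.GOne
import Cfsg.Agent.Omega.NOThreeL.RRed.ClassInst

/-!
# NO-3L, box R: assembly of the natural blocks, the active `P ∈ P*(S)` (part common to all types)

`U = zl S L`, `P ≤ L`.

* `EE S U = {A ≤ S : Mx U A}`, `EP S P U` : those which move `V_P`, `KP S P U = ⟨A^P : A ∈ EP⟩`;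
* `im Q A` : the image in `XH Q` (`Q : Nrm L U`), `mem_im`, `im_mono`, `im_cj`, `card_im`, `brk_im`, `fxd_im`;
* `Cr S L P U V₀` : `U = V₀ × C_U(O²(P))` (`Split.Sp`) for all `A ∈ EP`; `cr_of`;
* **`Cr.ac`** : `Asm.Ac`, all fields but `typ`.
-/

set_option autoImplicit false
set_option linter.unusedSectionVars false

namespace Cfsg.Agent.Omega.NOThreeL.RRed.Blk.AsmCore

open Subgroup Cfsg Cfsg.Agent.ZN Cfsg.Agent.Omega.MinPar
open Cfsg.Agent.Omega.FFThm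
open Cfsg.Agent.Omega.FrameFF (cv)
open Cfsg.Agent.Omega.NOThreeL.RSplit (Nrm)
open Cfsg.Agent.Omega.NOThreeL.RRed.NS (fxd brk mem_fxd smul_eq_iff conj_eq_cj)
open Cfsg.Agent.Omega.NOThreeL.RRed.Blk.Split (Sp ncl mem_ncl)
open Cfsg.Agent.Omega.NOThreeL.RRed.Blk.SplitAbs
open Cfsg.Agent.Omega.NOThreeL.RRed.Blk.TypesNat (XH ph ph_smul XH_faith ph_eq ph_surj no_XH)
open Cfsg.Agent.Omega.NOThreeL.RRed.Blk.Asm (Ac NB)
open Cfsg.Agent.MinSimple.VModule (oddGen)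
open scoped Pointwise

universe u

variable {G : Type u} [Group G]

/-- the minimal exact offenders on `U` in `S` -/
def EE (S U : Subgroup G) : Set (Subgroup G) := {A | A ≤ S ∧ Mx U A}

/-- those which move `V_P` -/
def EP (S P U : Subgroup G) : Set (Subgroup G) := {A | A ∈ EE S U ∧ ¬ A ≤ centralizer (zl S P : Set G)}

/-- `⟨A^P : A ∈ EP⟩` -/
def KP (S P U : Subgroup G) : Subgroup G := closure {x | ∃ p ∈ P, ∃ A ∈ EP S P U, ∃ a ∈ A, x = p * a * p⁻¹}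

section basic

variable {S P U : Subgroup G}

theorem mem_KP {p a : G} {A : Subgroup G} (hp : p ∈ P) (hA : A ∈ EP S P U) (ha : a ∈ A) : p * a * p⁻¹ ∈ KP S P U :=
  subset_closure ⟨p, hp, A, hA, a, ha, rfl⟩

theorem le_KP {A : Subgroup G} (hA : A ∈ EP S P U) : A ≤ KP S P U := fun a ha => by
  have := mem_KP P.one_mem hA ha
  simpa using this

theorem ncl_le_KP {A : Subgroup G} (hA : A ∈ EP S P U) : ncl P A ≤ KP S P U := by
  rw [ncl, closure_le]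
  rintro _ ⟨p, hp, a, ha, rfl⟩
  exact mem_KP hp hA ha

theorem KP_le (SP : S ≤ P) : KP S P U ≤ P := by
  rw [KP, closure_le]
  rintro _ ⟨p, hp, A, hA, a, ha, rfl⟩
  exact mul_mem (mul_mem hp (SP (hA.1.1 ha))) (inv_mem hp)

theorem KP_cj {p x : G} (hp : p ∈ P) (hx : x ∈ KP S P U) : p * x * p⁻¹ ∈ KP S P U := by
  have hle : KP S P U ≤ (KP S P U).comap (MulAut.conj p).toMonoidHom := by
    refine (closure_le _).2 ?_
    rintro _ ⟨q, hq, A, hA, a, ha, rfl⟩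
    rw [SetLike.mem_coe, mem_comap]
    change p * (q * a * q⁻¹) * p⁻¹ ∈ _
    have e : p * (q * a * q⁻¹) * p⁻¹ = (p * q) * a * (p * q)⁻¹ := by group
    rw [e]
    exact mem_KP (mul_mem hp hq) hA ha
  exact hle hx

theorem KP_norm : P ≤ normalizer (KP S P U : Set G) := by
  intro p hp
  rw [mem_normalizer_iff]
  refine fun x => ⟨KP_cj hp, fun hx => ?_⟩
  have h1 := KP_cj (inv_mem hp) hx
  have e : p⁻¹ * (p * x * p⁻¹) * p⁻¹⁻¹ = x := by group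
  rwa [e] at h1

theorem EE_cj [Finite G] {s : G} (hs : s ∈ S) (hU : s ∈ normalizer (U : Set G)) {A : Subgroup G} (hA : A ∈ EE S U) :
    MulAut.conj s • A ∈ EE S U := by
  rw [conj_eq_cj]
  refine ⟨?_, CI.mx_conj hA.2 hU⟩
  intro x hx
  rw [ChoiceBase.mem_cj] at hx
  have h1 := hA.1 hx
  have e : x = s * (s⁻¹ * x * s) * s⁻¹ := by group
  rw [e]
  exact mul_mem (mul_mem hs h1) (inv_mem hs)

theorem EP_cj [Finite G] (SP : S ≤ P) {s : G} (hs : s ∈ S) (hU : s ∈ normalizer (U : Set G)) {A : Subgroup G}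
    (hA : A ∈ EP S P U) : MulAut.conj s • A ∈ EP S P U := by
  refine ⟨EE_cj hs hU hA.1, fun h1 => hA.2 ?_⟩
  have hV : s ∈ normalizer (zl S P : Set G) := le_normalizer_zl _ _ (SP hs)
  rw [conj_eq_cj] at h1
  have h3 : ChoiceBase.cj s (centralizer (zl S P : Set G)) = centralizer (zl S P : Set G) := by
    rw [ChoiceBase.cj_centralizer, ChoiceBase.cj_eq_of_mem_normalizer hV]
  rw [← h3] at h1
  exact Cfsg.Agent.Omega.NO3S.ThmB.cj_le_cj_iff.1 h1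

end basic

/-! ### The image in `XH Q` -/

section im

variable {H U : Subgroup G} (Q : Nrm H U)

/-- the image in `XH Q` -/
def im (A : Subgroup G) : Subgroup (XH Q) := (A.subgroupOf H).map (ph Q)

theorem mem_im {A : Subgroup G} {x : XH Q} : x ∈ im Q A ↔ ∃ a : H, (a : G) ∈ A ∧ ph Q a = x := Iff.rfl

theorem ph_mem_im {A : Subgroup G} {a : H} (ha : (a : G) ∈ A) : ph Q a ∈ im Q A := ⟨a, ha, rfl⟩

theorem im_mono {A B : Subgroup G} (h : A ≤ B) : im Q A ≤ im Q B := by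
  rintro _ ⟨a, ha, rfl⟩
  exact ⟨a, h ha, rfl⟩

theorem im_smul {A : Subgroup G} {N : AddSubgroup Q.Mod} : (∀ x ∈ im Q A, ∀ m ∈ N, x • m = m) ↔
    ∀ a ∈ A, a ∈ H → ∀ m ∈ N, a * Q.val m * a⁻¹ = Q.val m := by
  constructor
  · intro h a ha haH m hm
    have h1 := h _ (ph_mem_im Q (a := ⟨a, haH⟩) ha) m hm
    rw [ph_smul, smul_eq_iff] at h1
    exact h1
  · rintro h _ ⟨a, ha, rfl⟩ m hm
    rw [ph_smul, smul_eq_iff]
    exact h a ha a.2 m hm

theorem im_cj {A : Subgroup G} (g : H) : im Q (MulAut.conj (g : G) • A) = MulAut.conj (ph Q g) • im Q A := by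
  ext x
  rw [NS.mem_conj]
  constructor
  · rintro ⟨a, ha, rfl⟩
    have h1 := NS.mem_conj.1 ha
    exact ⟨g⁻¹ * a * g, h1, by simp⟩
  · rintro ⟨a, ha, h1⟩
    refine ⟨g * a * g⁻¹, NS.conj_mem' ha, ?_⟩
    rw [map_mul, map_mul, h1, map_inv]
    group

/-- `[Q, K] ≤ N` -/
theorem brk_im {K N : Subgroup G} (h : ∀ x ∈ K, ∀ w ∈ U, x * w * x⁻¹ * w⁻¹ ∈ N) : brk Q.Mod (im Q K) ≤ Q.ad N := by
  rw [brk, AddSubgroup.closure_le]
  rintro _ ⟨_, ⟨a, ha, rfl⟩, v, rfl⟩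
  rw [ph_smul]
  refine Nrm.mem_ad.2 ?_
  rw [Nrm.val_sub, Nrm.val_smul]
  exact h a ha _ (Q.val_mem v)

theorem fxd_im {K : Subgroup G} (hK : K ≤ H) {m : Q.Mod} :
    m ∈ (fxd (im Q K) : AddSubgroup Q.Mod) ↔ Q.val m ∈ centralizer (K : Set G) := by
  rw [mem_fxd, mem_centralizer_iff]
  constructor
  · intro h x hx
    have h1 := h _ (ph_mem_im Q (a := ⟨x, hK hx⟩) hx)
    rw [ph_smul, smul_eq_iff] at h1
    exact mul_inv_eq_iff_eq_mul.1 h1
  · rintro h _ ⟨a, ha, rfl⟩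
    rw [ph_smul, smul_eq_iff]
    exact mul_inv_eq_iff_eq_mul.2 (h a ha)

theorem im_le_of {A : Subgroup G} {B : Subgroup (XH Q)} (h : A ≤ (B.comap (ph Q)).map H.subtype) : im Q A ≤ B := by
  rintro _ ⟨a, ha, rfl⟩
  obtain ⟨b, hb, h1⟩ := h (show (a : G) ∈ A from ha)
  obtain rfl : b = a := Subtype.ext h1
  exact hb

/-- `|A| = |A : C_A(U)| |C_A(U)|` -/
theorem card_im [Finite G] {A : Subgroup G} (hA : A ≤ H) :
    Nat.card (im Q A) * Nat.card ↥(A ⊓ centralizer (U : Set G)) = Nat.card A := by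
  have h1 : Nat.card ((A.subgroupOf H).map (ph Q)) = (ph Q).ker.relIndex (A.subgroupOf H) :=
    (Subgroup.relIndex_ker _ _).symm
  have h2 : Nat.card (A.subgroupOf H) = Nat.card A := Nat.card_congr (subgroupOfEquivOfLe hA).toEquiv
  have h3 : Nat.card ((ph Q).ker ⊓ A.subgroupOf H : Subgroup H) = Nat.card ↥(A ⊓ centralizer (U : Set G)) := by
    have e : (A ⊓ centralizer (U : Set G)).subgroupOf H = (ph Q).ker ⊓ A.subgroupOf H := by
      ext x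
      rw [mem_subgroupOf, mem_inf, mem_inf, TypesNat.mem_ker, mem_subgroupOf]
      exact and_comm
    rw [← e]
    exact Nat.card_congr (subgroupOfEquivOfLe (inf_le_left.trans hA)).toEquiv
  have h4 := Subgroup.relIndex_mul_relIndex (⊥ : Subgroup H) ((ph Q).ker ⊓ A.subgroupOf H) (A.subgroupOf H) bot_le
    inf_le_right
  rw [relIndex_bot_left, relIndex_bot_left, inf_relIndex_right, h3, h2, ← h1] at h4
  rw [mul_comm]
  exact h4

end im

/-! ### The common part -/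

/-- The input: `U = V₀ × C_U(O²(P))` for all `A ∈ EP`. -/
structure Cr (S L P U V₀ : Subgroup G) : Prop where
  SP : S ≤ P
  PL : P ≤ L
  LU : L ≤ normalizer (U : Set G)
  VV : V₀ ≤ zl S P
  PK : P ≤ KP S P U ⊔ S
  sp : ∀ A ∈ EP S P U, Sp L P U V₀ A
  ne : (EP S P U).Nonempty

namespace Cr

variable {S L P U V₀ : Subgroup G} (c : Cr S L P U V₀)
include c

theorem SL : S ≤ L := c.SP.trans c.PL

theorem KL : KP S P U ≤ L := (KP_le c.SP).trans c.PL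

theorem dec {p : G} (hp : p ∈ P) : ∃ k ∈ KP S P U, ∃ s ∈ S, p = k * s := by
  have h1 : p⁻¹ ∈ S ⊔ KP S P U := by rw [sup_comm]; exact c.PK (inv_mem hp)
  have h3 : p⁻¹ ∈ ((S ⊔ KP S P U : Subgroup G) : Set G) := h1
  rw [coe_mul_of_left_le_normalizer_right _ _ (c.SP.trans KP_norm)] at h3
  obtain ⟨s, hs, k, hk, h2⟩ := h3
  refine ⟨k⁻¹, inv_mem hk, s⁻¹, inv_mem hs, ?_⟩
  rw [← inv_inj, ← h2, mul_inv_rev, inv_inv, inv_inv]

/-- `KP` is generated by the `KP`-conjugates of the members of `EP` -/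
theorem KP_gen [Finite G] : KP S P U ≤ closure {x | ∃ g ∈ KP S P U, ∃ A ∈ EP S P U, ∃ a ∈ A, x = g * a * g⁻¹} := by
  refine (closure_le _).2 ?_
  rintro _ ⟨p, hp, A, hA, a, ha, rfl⟩
  obtain ⟨k, hk, s, hs, rfl⟩ := c.dec hp
  have e : k * s * a * (k * s)⁻¹ = k * (s * a * s⁻¹) * k⁻¹ := by group
  rw [e]
  exact subset_closure ⟨k, hk, _, EP_cj c.SP hs (c.LU (c.SL hs)) hA, _, NS.conj_mem' ha, rfl⟩

/-- `[U, KP] ≤ V₀` -/
theorem comm {x w : G} (hx : x ∈ KP S P U) (hw : w ∈ U) : x * w * x⁻¹ * w⁻¹ ∈ V₀ := by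
  obtain ⟨A₀, hA₀⟩ := c.ne
  have sp := c.sp A₀ hA₀
  have hUx : ∀ x ∈ P, ∀ w ∈ U, x * w * x⁻¹ ∈ U := fun x hx w hw => (mem_normalizer_iff.1 (c.LU (c.PL hx)) w).1 hw
  unfold KP at hx
  induction hx using closure_induction generalizing w with
  | mem x hx =>
    obtain ⟨p, hp, A, hA, a, ha, rfl⟩ := hx
    exact (c.sp A hA).kN _ (mem_ncl hp ha) w hw
  | one => simp
  | mul x y hx hy h1 h2 =>
    have hyP : y ∈ P := KP_le c.SP hy
    have e : x * y * w * (x * y)⁻¹ * w⁻¹ = (x * (y * w * y⁻¹) * x⁻¹ * (y * w * y⁻¹)⁻¹) * (y * w * y⁻¹ * w⁻¹) := by group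
    rw [e]
    exact mul_mem (h1 (hUx y hyP w hw)) (h2 hw)
  | inv x hx h1 =>
    have hxP : x ∈ P := KP_le c.SP hx
    have hw' : x⁻¹ * w * x ∈ U := by
      have := hUx _ (inv_mem hxP) w hw
      rwa [inv_inv] at this
    have e : x⁻¹ * w * x⁻¹⁻¹ * w⁻¹ = (x * (x⁻¹ * w * x) * x⁻¹ * (x⁻¹ * w * x)⁻¹)⁻¹ := by group
    rw [e]
    exact inv_mem (h1 hw')

/-- `C_{V₀}(KP) = 1` -/
theorem cap {v : G} (hv : v ∈ V₀) (h : v ∈ centralizer (KP S P U : Set G)) : v = 1 := by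
  obtain ⟨A₀, hA₀⟩ := c.ne
  have sp := c.sp A₀ hA₀
  have h1 : v ∈ V₀ ⊓ centralizer (oddGen P : Set G) :=
    mem_inf.2 ⟨hv, centralizer_le (sp.odd.trans (ncl_le_KP hA₀)) h⟩
  rwa [sp.inf, mem_bot] at h1

variable (Q : Nrm L U)

theorem brk_le : brk Q.Mod (im Q (KP S P U)) ≤ Q.ad V₀ := brk_im Q fun _ hx _ hw => c.comm hx hw

/-- **`Ac`** -/
theorem ac [Finite G] (typ : (∀ A ∈ EP S P U, Nat.card (im Q A) ≤ 3) ∨ ∀ A ∈ EP S P U, 4 ≤ Nat.card (im Q A) ∧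
    ∃ N C : AddSubgroup Q.Mod, NB (im Q A) N C ∧ N ≤ brk Q.Mod (im Q (KP S P U)) ∧
      (∀ k ∈ KP S P U, ∀ hk : k ∈ L, ∀ m ∈ N, (⟨k, hk⟩ : L) • m ∈ N) ∧
      ∀ A' ∈ EP S P U, im Q A' ≠ im Q A → ∀ a ∈ A', ∀ ha : a ∈ L, ∀ m ∈ N, (⟨a, ha⟩ : L) • m = m) :
    Ac (im Q S) (im Q '' EE S U) (im Q P) (im Q (KP S P U)) (im Q '' EP S P U) Q.Mod where
  gen := by
    rintro _ ⟨p, hp, rfl⟩
    obtain ⟨k, hk, s, hs, h1⟩ := c.dec (show (p : G) ∈ P from hp)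
    have h2 : p = (⟨k, c.KL hk⟩ : L) * ⟨s, c.SL hs⟩ := Subtype.ext h1
    rw [h2, map_mul]
    exact mul_mem (mem_sup_left (ph_mem_im Q hk)) (mem_sup_right (ph_mem_im Q hs))
  EPE := by
    rintro _ ⟨A, hA, rfl⟩
    exact ⟨A, hA.1, rfl⟩
  EPK := by
    rintro _ ⟨A, hA, rfl⟩
    exact im_mono Q (le_KP hA)
  spl m h1 h2 := by
    rw [fxd_im Q c.KL] at h2
    exact Nrm.eq_zero_iff.2 (c.cap (c.brk_le Q h1) h2)
  dich := by
    rintro _ ⟨A, hA, rfl⟩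
    by_cases h : A ≤ centralizer (zl S P : Set G)
    · right
      rw [im_smul]
      intro a ha _ m hm
      have h1 : Q.val m ∈ zl S P := c.VV (c.brk_le Q hm)
      have h2 := mem_centralizer_iff.1 (h ha) _ h1
      rw [← h2, mul_inv_cancel_right]
    · exact Or.inl ⟨A, ⟨hA, h⟩, rfl⟩
  genK := by
    apply im_le_of
    refine c.KP_gen.trans ?_
    rw [closure_le]
    rintro _ ⟨g, hg, A, hA, a, ha, rfl⟩
    have haL : a ∈ L := c.SL (hA.1.1 ha)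
    refine ⟨⟨g, c.KL hg⟩ * ⟨a, haL⟩ * ⟨g, c.KL hg⟩⁻¹, ?_, rfl⟩
    rw [SetLike.mem_coe, mem_comap, map_mul, map_mul, map_inv]
    exact subset_closure ⟨_, ph_mem_im Q hg, _, ⟨A, hA, rfl⟩, _, ph_mem_im Q ha, rfl⟩
  typ := by
    rcases typ with h | h
    · left
      rintro _ ⟨A, hA, rfl⟩
      exact h A hA
    · right
      rintro _ ⟨A, hA, rfl⟩
      obtain ⟨h1, N, C, h2, h3, h4, h5⟩ := h A hA
      refine ⟨h1, N, C, h2, h3, ?_, ?_⟩
      · rintro _ ⟨k, hk, rfl⟩ m hm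
        rw [ph_smul]
        exact h4 k hk k.2 m hm
      · rintro _ ⟨A', hA', rfl⟩ hne _ ⟨a, ha, rfl⟩ m hm
        rw [ph_smul]
        exact h5 A' hA' hne a ha a.2 m hm

end Cr

/-- `P = KP S` -/
theorem le_KP_sup [Finite G] (hc : IsCharacteristicTwoType G) {S : Sylow 2 G} {P U : Subgroup G}
    (hP : IsParS (S : Subgroup G) P) (ne : (EP (S : Subgroup G) P U).Nonempty) :
    P ≤ KP (S : Subgroup G) P U ⊔ (S : Subgroup G) := by
  obtain ⟨A, hA⟩ := ne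
  rcases hP.toIsMinPar.sup_eq_or_inf_le S.isPGroup' (MinSimple.Basic.not_dvd_relIndex S hP.le) (KP_le hP.le)
    KP_norm with h | h
  · exact h.ge
  · exfalso
    have h1 : A ≤ o2 P := (le_inf hA.1.1 (le_KP hA)).trans h
    rw [← hP.inf_centralizer S hc] at h1
    exact hA.2 (h1.trans inf_le_right)

/-- `exact_split` for the members of `EP` -/
theorem cent_of_EP [Finite G] (hc : IsCharacteristicTwoType G) {S : Sylow 2 G} {L P A : Subgroup G}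
    (hL : IsLoc (S : Subgroup G) L) (hP : IsParS (S : Subgroup G) P) (hPL : P ≤ L)
    (no : NoOverM (zl (S : Subgroup G) L) L) (hA : A ∈ EP (S : Subgroup G) P (zl (S : Subgroup G) L)) :
    A ⊓ centralizer (zl (S : Subgroup G) P : Set G) ≤ centralizer (zl (S : Subgroup G) L : Set G) ∧
      OffM (zl (S : Subgroup G) P) A ∧ ConclM (S : Subgroup G) P ∧ NoOverM (zl (S : Subgroup G) P) P := by
  have hE := FFThm.elem_zl hc S hL
  have hcomm : zl (S : Subgroup G) L ≤ centralizer (zl (S : Subgroup G) L : Set G) := fun x hx =>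
    mem_centralizer_iff.2 fun y hy => congrArg Subtype.val (hE.1.is_comm.comm ⟨y, hy⟩ ⟨x, hx⟩)
  obtain ⟨h1, -, h2, h3, -⟩ := exact_split hc hP hPL no hcomm hA.1.1 hA.1.2.toElemM hA.1.2.exact hA.2
  have hVW : zl (S : Subgroup G) P ≤ zl (S : Subgroup G) L := NOThreeL.Star.zl_mono _ hPL
  have noP := (FFBr.ffthmM G (S : Subgroup G) P (CaseTwo.syl_of_sylow S hP.le) hP.toIsMinPar (hP.isLoc.char2 S hc)
    ⟨A, hA.1.1.trans hP.le, h2⟩).1
  refine ⟨?_, h2, h3, noP⟩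
  rcases hA.1.2.min _ inf_le_left h1 (inf_le_inf_left _ (centralizer_le hVW)) with h4 | h4
  · exact h4
  · exact absurd (inf_eq_left.1 h4) hA.2

/-- **the instance** -/
theorem cr_of [Finite G] (hc : IsCharacteristicTwoType G) {S : Sylow 2 G} {L P V₀ : Subgroup G}
    (hP : IsParS (S : Subgroup G) P) (hPL : P ≤ L)
    (hV : V₀ ≤ zl (S : Subgroup G) P) (ne : (EP (S : Subgroup G) P (zl (S : Subgroup G) L)).Nonempty)
    (sp : ∀ A ∈ EP (S : Subgroup G) P (zl (S : Subgroup G) L), Sp L P (zl (S : Subgroup G) L) V₀ A) :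
    Cr (S : Subgroup G) L P (zl (S : Subgroup G) L) V₀ where
  SP := hP.le
  PL := hPL
  LU := le_normalizer_zl _ _
  VV := hV
  PK := le_KP_sup hc hP ne
  sp := sp
  ne := ne

end Cfsg.Agent.Omega.NOThreeL.RRed.Blk.AsmCore
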