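import Cfsg.Agent.Omega.NOThreeL.RRed.Blk.TypesNorm

/-!
# NO-3L, box R: the blocks of a natural module as `Asm.NB`

`im Q A` = the image of `A` in `XH Q`.

* `IsNB.nb` : `IsNB Q A R N C` ⟹ `Asm.NB (im Q A) (Q.ad N) (Q.ad C)`, `4 ≤ |im Q A|`;
* **`nb_of`** : `M : NatKM F S P V D k`, `2 < |F|`, `One M U A j`, `DD M j = 1` ⟹
  `Asm.NB (im Q A) (Q.ad (blk M j)) (Q.ad (C_U(⟨A, A^p⟩)))`.
-/

set_option autoImplicit false
set_option linter.unusedSectionVars false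

namespace Cfsg.Agent.Omega.NOThreeL.RRed.Blk.TypesNat

open Subgroup Cfsg Cfsg.Agent.ZN
open Cfsg.Agent.Omega.FFThm Cfsg.Agent.Lib.SL2Mat
open Cfsg.Agent.Omega.NO3S.ThmB Cfsg.Agent.Omega.NO3S.KeyRad
open Cfsg.Agent.Omega.NOThreeL.RSplit (Nrm)
open Cfsg.Agent.Omega.NOThreeL.RRed.NS hiding rt
open Cfsg.Agent.Omega.NOThreeL.RRed.Blk.TypesGam (Bk rt NO)
open scoped Pointwise

universe u

variable {G : Type u} [Group G] {H U : Subgroup G}

/-- the image of `A` in `XH Q` -/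
def im (Q : Nrm H U) (A : Subgroup G) : Subgroup (XH Q) := (A.subgroupOf H).map (ph Q)

theorem mem_im {Q : Nrm H U} {A : Subgroup G} {x : XH Q} : x ∈ im Q A ↔ ∃ a : H, (a : G) ∈ A ∧ ph Q a = x := by
  constructor
  · rintro ⟨a, ha, rfl⟩
    exact ⟨a, mem_subgroupOf.1 ha, rfl⟩
  · rintro ⟨a, ha, rfl⟩
    exact ⟨a, mem_subgroupOf.2 ha, rfl⟩

theorem im_mono {Q : Nrm H U} {A B : Subgroup G} (h : A ≤ B) : im Q A ≤ im Q B := by
  intro x hx
  obtain ⟨a, ha, rfl⟩ := mem_im.1 hx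
  exact mem_im.2 ⟨a, h ha, rfl⟩

theorem im_conj (Q : Nrm H U) (h : H) (A : Subgroup G) :
    im Q (MulAut.conj (h : G) • A) = MulAut.conj (ph Q h) • im Q A := by
  ext x
  rw [mem_conj, mem_im, mem_im]
  constructor
  · rintro ⟨a, ha, rfl⟩
    refine ⟨h⁻¹ * a * h, mem_conj.1 ha, ?_⟩
    rw [map_mul, map_mul, map_inv]
  · rintro ⟨a, ha, h1⟩
    refine ⟨h * a * h⁻¹, conj_mem' ha, ?_⟩
    rw [map_mul, map_mul, map_inv, h1]
    group

/-- the fixed points of the image -/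
theorem fxd_im (Q : Nrm H U) {A : Subgroup G} (hA : A ≤ H) :
    (fxd (im Q A) : AddSubgroup Q.Mod) = Q.ad (centralizer (A : Set G)) := by
  ext m
  rw [mem_fxd, Nrm.mem_ad, mem_centralizer_iff]
  constructor
  · intro h a ha
    have h1 := h (ph Q ⟨a, hA ha⟩) (mem_im.2 ⟨_, ha, rfl⟩)
    rw [ph_smul, smul_eq_iff, mul_inv_eq_iff_eq_mul] at h1
    exact h1
  · intro h x hx
    obtain ⟨a, ha, rfl⟩ := mem_im.1 hx
    rw [ph_smul, smul_eq_iff, mul_inv_eq_iff_eq_mul]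
    exact h a ha

theorem NB.rt_eq_im [Finite G] {Q : Nrm H U} {A R N C : Subgroup G} {F : Type} [Field F] {e f : F →+ Q.Mod} {up lo : F → H}
    (h : NB Q A R N C e f up lo) : rt (fun t => ph Q (up t)) = im Q A := by
  apply le_antisymm
  · rw [rt, closure_le]
    rintro _ ⟨t, rfl⟩
    exact mem_im.2 ⟨up t, h.upA t, rfl⟩
  · intro x hx
    obtain ⟨a, ha, rfl⟩ := mem_im.1 hx
    obtain ⟨t, ht⟩ := h.Aup a ha
    rw [(ph_eq Q).2 ht]
    exact subset_closure ⟨t, rfl⟩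

theorem two_of (Q : Nrm H U) (hU2 : IsElementaryAbelian 2 U) (v : Q.Mod) : v + v = 0 := Nrm.ext (by
  rw [Nrm.val_add, Nrm.val_zero]
  have := hU2.2 _ (Q.val_mem v)
  rwa [pow_two] at this)

/-- the adaptor -/
theorem IsNB.nb [Finite G] {Q : Nrm H U} {A R N C : Subgroup G} (h : IsNB Q A R N C) (hU2 : IsElementaryAbelian 2 U) :
    Asm.NB (im Q A) (Q.ad N) (Q.ad C) ∧ 4 ≤ Nat.card (im Q A) := by
  obtain ⟨F, i1, i2, i3, e, f, up, lo, hF, h⟩ := h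
  have h1 := h.rt_eq_im
  refine ⟨⟨F, i1, i2, e, f, _, _, map h.bk (ph Q) (ph_smul Q), h1, h.eN⟩, ?_⟩
  rw [← h1, (map h.bk (ph Q) (ph_smul Q)).card_rt (two_of Q hU2) (fun x hx => XH_faith Q x hx)]
  exact hF

/-- **The blocks of a natural module, module level.** -/
theorem nb_of [Finite G] {F : Type} [Field F] [Finite F] [CharP F 2] {S P V D : Subgroup G} {k : ℕ}
    {M : NatKM F S P V D k} (h : Nb M) (hF : 2 < Nat.card F) (Q : Nrm H U) (hU2 : IsElementaryAbelian 2 U) (hPH : P ≤ H)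
    (hVU : V ≤ U) {A : Subgroup G} {j : Fin k} (O : One M U A j) (hAP : A ≤ P) (hD : DD M j = ⊥) :
    ∃ p ∈ P, IsNB Q A (YY h j) (blk M j) (U ⊓ centralizer ((A ⊔ MulAut.conj p • A : Subgroup G) : Set G)) ∧
      Asm.NB (im Q A) (Q.ad (blk M j)) (Q.ad (centralizer ((A ⊔ MulAut.conj p • A : Subgroup G) : Set G))) ∧
      4 ≤ Nat.card (im Q A) := by
  obtain ⟨p, hp, h1⟩ := isNB_of h hF Q hPH hVU O hAP hD
  obtain ⟨h2, h3⟩ := h1.nb hU2
  have hC : Q.ad (U ⊓ centralizer ((A ⊔ MulAut.conj p • A : Subgroup G) : Set G)) =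
      Q.ad (centralizer ((A ⊔ MulAut.conj p • A : Subgroup G) : Set G)) :=
    le_antisymm (Nrm.ad_mono inf_le_right) fun m hm => ⟨Q.val_mem m, hm⟩
  rw [hC] at h2
  exact ⟨p, hp, h1, h2, h3⟩

/-- `|im Q A| = |F|` -/
theorem card_im [Finite G] {F : Type} [Field F] [Finite F] [CharP F 2] {S P V D : Subgroup G} {k : ℕ}
    {M : NatKM F S P V D k} (h : Nb M) (hF : 2 < Nat.card F) (Q : Nrm H U) (hU2 : IsElementaryAbelian 2 U) (hPH : P ≤ H)
    (hVU : V ≤ U) {A : Subgroup G} {j : Fin k} (O : One M U A j) (hAP : A ≤ P) (hD : DD M j = ⊥) :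
    Nat.card (im Q A) = Nat.card F := by
  obtain ⟨e, f, up, lo, p, hp, hb, h1, -, h3, h4, h5⟩ := exists_bk h hF Q hPH hVU O hAP hD
  have h6 : rt (fun t => ph Q (up t)) = im Q A := by
    apply le_antisymm
    · rw [rt, closure_le]
      rintro _ ⟨t, rfl⟩
      exact mem_im.2 ⟨up t, h1 t, rfl⟩
    · intro x hx
      obtain ⟨a, ha, rfl⟩ := mem_im.1 hx
      obtain ⟨t, ht⟩ := h3 a ha
      rw [(ph_eq Q).2 ht]
      exact subset_closure ⟨t, rfl⟩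
  rw [← h6, (map hb (ph Q) (ph_smul Q)).card_rt (two_of Q hU2) (fun x hx => XH_faith Q x hx)]

/-- `[V, im A] = [U, A]` -/
theorem brk_im (Q : Nrm H U) {A : Subgroup G} (hA : A ≤ H) : brk Q.Mod (im Q A) = Q.ad (closure (covs U A)) := by
  have h1 : (A.subgroupOf H).map H.subtype = A := (subgroupOf_map_subtype _ _).trans (inf_eq_left.2 hA)
  have h2 := brk_eq Q (A.subgroupOf H)
  rw [h1] at h2
  rw [← h2, brk, brk]
  congr 1
  ext m
  constructor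
  · rintro ⟨x, hx, v, rfl⟩
    obtain ⟨a, ha, rfl⟩ := mem_im.1 hx
    exact ⟨a, mem_subgroupOf.2 ha, v, rfl⟩
  · rintro ⟨a, ha, v, rfl⟩
    exact ⟨ph Q a, mem_im.2 ⟨a, mem_subgroupOf.1 ha, rfl⟩, v, rfl⟩

end Cfsg.Agent.Omega.NOThreeL.RRed.Blk.TypesNat
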