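import Cfsg.Agent.Omega.NOThreeL.RRed.Blk.Asm
import Cfsg.Agent.Omega.NOThreeL.RRed.Blk.AsmCore
import Cfsg.Agent.Omega.NOThreeL.RRed.Blk.AsmOf
import Cfsg.Agent.Omega.NOThreeL.RRed.Blk.AsmCard
import Cfsg.Agent.Omega.NOThreeL.RRed.Blk.AsmSp
import Cfsg.Agent.Omega.NOThreeL.RRed.NS.Wide

/-!
# NO-3L, box R: every natural block is a block of an active `P ∈ P*(S)` (field `mov` of `NBs`)

`U = Wd S = V*`, `H = MZ S = M₀`, `im Q A` = the image in `XH Q`, `FF` : a set of images of minimal exact offenders,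
`4 ≤ |D|`, `N D`, `C D` : the block of `D ∈ FF` and its complement. In `G` : the block `un Q (N D)`, the line
`un Q (brk Q.Mod D)`, `q = |D|`.

* `Nat4 S P` : `P` is natural over `F`, `|F| ≥ 4`, `DD M j = 1`, every minimal exact offender which moves `V_P` acts on one
  block, and all blocks occur;
* **`nat4_of`** : `P` active, `|im Q A| ≥ 4` for one minimal exact offender moving `V_P` ⟹ `Nat4`;
* `One.blk_eq` : the block, the line and the order;
* **`src_of`** : field `src`; **`mov_of`** : field `mov` (mixed types allowed).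
-/

set_option autoImplicit false
set_option linter.unusedSectionVars false

namespace Cfsg.Agent.Omega.NOThreeL.RRed.Blk.AsmMv

open Subgroup Cfsg Cfsg.Agent.ZN Cfsg.Agent.Omega.MinPar
open Cfsg.Agent.Omega.FFThm (NatKM SymKM OffM ElemM NoOverM StmtM ConclM)
open Cfsg.Agent.Omega.FrameFF (cv)
open Cfsg.Agent.Omega.NO3S.ThmB Cfsg.Agent.Omega.NO3S.KeyRad
open Cfsg.Agent.Omega.NOThreeL.RSplit (Nrm)
open Cfsg.Agent.Omega.NOThreeL.RRed.NS hiding rt
open Cfsg.Agent.Omega.NOThreeL.RRed.WideTree (Act MvAct)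
open Cfsg.Agent.Omega.NOThreeL.RTree (RB)
open Cfsg.Agent.Omega.NOThreeL.Merge (MZ le_MZ isLoc_MZ)
open Cfsg.Agent.Omega.NOThreeL.RRed.Blk.TypesNat (XH ph ph_smul XH_faith ph_eq ph_surj no_XH two_of)
open Cfsg.Agent.Omega.NOThreeL.RRed.Blk.Asm (Es)
open Cfsg.Agent.Omega.NOThreeL.RRed.Blk.AsmCore (EP KP im ph_mem_im)
open scoped Pointwise

universe u

variable {G : Type u} [Group G]

/-- back to `G` and forth -/
theorem un_ad {H U : Subgroup G} (Q : Nrm H U) {B : Subgroup G} (hB : B ≤ U) : un Q (Q.ad B) = B := by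
  ext x
  constructor
  · rintro ⟨m, hm, rfl⟩
    exact hm
  · intro hx
    exact ⟨Q.of x (hB hx), hx, rfl⟩

variable [Finite G] {S : Sylow 2 G} {P : Subgroup G}

/-- the hypothesis (NO) -/
theorem no_of (B : RB S) (a : Act (S : Subgroup G) P) : NoOverM (Wd (S : Subgroup G)) (MZ (S : Subgroup G)) := by
  obtain ⟨-, A, hA, hM, -⟩ := a
  obtain ⟨P₁, A₁, g⟩ := exists_gOne B.ctx.char2 (isLoc_MZ B.ctx B.full B.data.noff) (gen_MZ' S)
    ⟨A, hA.trans (isLoc_MZ B.ctx B.full B.data.noff).le, hM.off⟩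
  exact g.no

theorem EP_ne (B : RB S) (a : Act (S : Subgroup G) P) : (EP (S : Subgroup G) P (Wd (S : Subgroup G))).Nonempty := by
  obtain ⟨hP, A, hA, hM, hn⟩ := a
  refine ⟨A, ⟨hA, hM⟩, fun h1 => hn ?_⟩
  rw [← hP.inf_centralizer S B.ctx.char2]
  exact le_inf hA h1

theorem act_of_EP {A : Subgroup G} (B : RB S) (hP : IsParS (S : Subgroup G) P)
    (hA : A ∈ EP (S : Subgroup G) P (Wd (S : Subgroup G))) : Act (S : Subgroup G) P :=
  ⟨hP, A, hA.1.1, hA.1.2, fun h1 => hA.2 (by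
    rw [← hP.inf_centralizer S B.ctx.char2] at h1
    exact h1.trans inf_le_right)⟩

/-- `P` is natural over `F`, `|F| ≥ 4`, with trivial radical, and the minimal exact offenders act on the blocks. -/
def Nat4 (S P : Subgroup G) : Prop :=
  ∃ (F : Type) (_ : Field F) (_ : Finite F) (_ : CharP F 2) (k : ℕ) (_ : 0 < k)
    (M : NatKM F S P (zl S P) (cv S P) k) (_ : Nb M), 4 ≤ Nat.card F ∧ (∀ j, DD M j = ⊥) ∧
      (∀ A ∈ EP S P (Wd S), ∃ j, NO3S.ThmB.One M (Wd S) A j) ∧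
      ∀ A ∈ EP S P (Wd S), ∀ j, ∃ s ∈ S, MulAut.conj s • A ∈ EP S P (Wd S) ∧ NO3S.ThmB.One M (Wd S) (MulAut.conj s • A) j

/-- **`P` is natural.** -/
theorem nat4_of (B : RB S) (mv : MvAct (S : Subgroup G)) (hP : IsParS (S : Subgroup G) P)
    (Q : Nrm (MZ (S : Subgroup G)) (Wd (S : Subgroup G))) {A : Subgroup G}
    (hA : A ∈ EP (S : Subgroup G) P (Wd (S : Subgroup G))) (h4 : 4 ≤ Nat.card (im Q A)) : Nat4 (S : Subgroup G) P := by
  have a := act_of_EP B hP hA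
  have hc := B.ctx.char2
  have hL := isLoc_MZ B.ctx B.full B.data.noff
  have hU2 := elem_Wd B
  have hPL : P ≤ MZ (S : Subgroup G) := le_MZ hP
  have hPU := par_le_norm hP
  have hVU : zl (S : Subgroup G) P ≤ Wd (S : Subgroup G) := Star.zl_mono _ hPL
  have no := no_of B a
  have hcomm := AsmSp.comm_zl hc hL
  have g := AsmSp.gone_mx hc hP hPL no hcomm hA.1.1 hA.1.2 hA.2
  have hcard : ¬ Two2 S P := fun h2 => by
    have h3 := AsmCard.card_le_two hc g hA.1.2 h2 (fun v hv => hU2.2 v hv) Q (hA.1.1.trans hL.le)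
    have h5 : Nat.card (im Q A) ≤ 2 := h3
    omega
  rcases g.concl with ⟨F, i1, i2, i3, k, hk, ⟨M⟩⟩ | ⟨k, m, hk, hm, ⟨M⟩⟩
  · have hF : 4 ≤ Nat.card F := by
      rcases SplitAll.card_field F with h2 | h2
      · have h3 : Nat.card F = 2 := Nat.card_eq_two_iff.2 ⟨0, 1, zero_ne_one, Set.eq_univ_of_forall fun x => by
          rcases h2 x with h5 | h5 <;> simp [h5]⟩
        exact absurd (Or.inl ⟨F, i1, i3, k, h3, hk, ⟨M⟩⟩) hcard
      · exact h2
    have h := Inst.nb hc hP M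
    have hD : ∀ j, DD M j = ⊥ := fun j => by
      rw [eq_bot_iff, ← act_inf_eq_bot B mv a M (by omega)]
      exact inf_le_inf_right _ (le_iSup (fun j => blk M j) j)
    have key : ∀ A ∈ EP (S : Subgroup G) P (Wd (S : Subgroup G)), Tt (Wd (S : Subgroup G)) A ∧
        ∃ j, NO3S.ThmB.One M (Wd (S : Subgroup G)) A j := fun A hA => by
      have t : Tt (Wd (S : Subgroup G)) A := tt_of_mx hA.1.2 no (hA.1.1.trans hL.le)
      exact ⟨t, t.one h hU2 hVU hA.1.1 hA.2⟩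
    refine ⟨F, i1, i2, i3, k, hk, M, h, hF, hD, fun A hA => (key A hA).2, fun A hA j => ?_⟩
    obtain ⟨t, i, O⟩ := key A hA
    obtain ⟨s, hs, -, -, O'⟩ := exists_cj h hU2 hVU hPU hA.1.1 t O j
    rw [← conj_eq_cj] at O'
    exact ⟨s, hs, AsmCore.EP_cj hP.le hs (hPU (hP.le hs)) hA, O'⟩
  · exact absurd (Or.inr ⟨k, m, hk, hm, ⟨M⟩⟩) hcard

section blk

variable {F : Type} [Field F] [Finite F] [CharP F 2] {k : ℕ}
  {M : NatKM F (S : Subgroup G) P (zl (S : Subgroup G) P) (cv (S : Subgroup G) P) k}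

/-- **the block, the line and the order** -/
theorem blk_eq (B : RB S) (a : Act (S : Subgroup G) P) (h : Nb M) (hF : 4 ≤ Nat.card F)
    (Q : Nrm (MZ (S : Subgroup G)) (Wd (S : Subgroup G))) {A : Subgroup G} {j : Fin k} (hD : DD M j = ⊥)
    (hA : A ≤ (S : Subgroup G)) (O : NO3S.ThmB.One M (Wd (S : Subgroup G)) A j) {N C : AddSubgroup Q.Mod}
    (hN : Asm.NB (im Q A) N C) :
    un Q N = blk M j ∧ un Q (brk Q.Mod (im Q A)) = YY h j ∧ Nat.card (im Q A) = Nat.card F := by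
  have hP := a.1
  have hL := isLoc_MZ B.ctx B.full B.data.noff
  have hU2 := elem_Wd B
  have hPL : P ≤ MZ (S : Subgroup G) := le_MZ hP
  have hVU : zl (S : Subgroup G) P ≤ Wd (S : Subgroup G) := Star.zl_mono _ hPL
  have hAP : A ≤ P := hA.trans hP.le
  have hF2 : 2 < Nat.card F := by omega
  obtain ⟨p, hp, -, hNB, h4⟩ := TypesNat.nb_of h hF2 Q hU2 hPL hVU O hAP hD
  have e1 := (hNB.uniq (two_of Q hU2) (fun x hx => XH_faith Q x hx) (no_XH Q (no_of B a)) hN h4).1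
  refine ⟨?_, ?_, TypesNat.card_im h hF2 Q hU2 hPL hVU O hAP hD⟩
  · rw [← e1]
    exact un_ad Q ((blk_le h j).trans hVU)
  · obtain ⟨l, g, Cc⟩ := exists_cd h hF2 j
    have e2 : brk Q.Mod (im Q A) = Q.ad (closure (covs (Wd (S : Subgroup G)) A)) :=
      TypesNat.brk_im Q (hA.trans hL.le)
    rw [e2, YY_eq h Cc O hAP hVU hF2]
    exact un_ad Q ((YY_le_V h j).trans hVU)

end blk

section fam

variable (B : RB S) (mv : MvAct (S : Subgroup G)) (Q : Nrm (MZ (S : Subgroup G)) (Wd (S : Subgroup G)))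
  {FF : Set (Subgroup (XH Q))} {N C : Subgroup (XH Q) → AddSubgroup Q.Mod}
include B mv

/-- **the field `src`** for one active `P` with a member in `FF` -/
theorem src_one (hn : ∀ D ∈ FF, Asm.NB D (N D) (C D)) (h4 : ∀ D ∈ FF, 4 ≤ Nat.card D)
    (hS : ∀ s ∈ im Q (S : Subgroup G), ∀ D ∈ FF, MulAut.conj s • D ∈ FF) (hP : IsParS (S : Subgroup G) P)
    {A : Subgroup G} (hA : A ∈ EP (S : Subgroup G) P (Wd (S : Subgroup G))) (hAF : im Q A ∈ FF) :
    ∃ (F : Type) (_ : Field F) (_ : Finite F) (_ : CharP F 2) (k : ℕ) (_ : 0 < k)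
      (M : NatKM F (S : Subgroup G) P (zl (S : Subgroup G) P) (cv (S : Subgroup G) P) k) (h : Nb M),
      (∀ j, DD M j = ⊥) ∧ (∀ j, ∃ D ∈ FF, un Q (N D) = blk M j ∧ un Q (brk Q.Mod D) = YY h j ∧
        Nat.card D = Nat.card F) ∧
      ∃ j, un Q (N (im Q A)) = blk M j ∧ un Q (brk Q.Mod (im Q A)) = YY h j ∧ Nat.card (im Q A) = Nat.card F := by
  have a := act_of_EP B hP hA
  obtain ⟨F, i1, i2, i3, k, hk, M, h, hF, hD, h1, h2⟩ := nat4_of B mv hP Q hA (h4 _ hAF)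
  refine ⟨F, i1, i2, i3, k, hk, M, h, hD, fun j => ?_, ?_⟩
  · obtain ⟨s, hs, hA', O⟩ := h2 A hA j
    have hL := isLoc_MZ B.ctx B.full B.data.noff
    have e : im Q (MulAut.conj s • A) = MulAut.conj (ph Q ⟨s, hL.le hs⟩) • im Q A := AsmCore.im_cj Q ⟨s, hL.le hs⟩
    have h3 : im Q (MulAut.conj s • A) ∈ FF := by
      rw [e]
      exact hS _ (ph_mem_im Q hs) _ hAF
    exact ⟨_, h3, blk_eq B a h hF Q (hD j) hA'.1.1 O (hn _ h3)⟩
  · obtain ⟨j, O⟩ := h1 A hA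
    exact ⟨j, blk_eq B a h hF Q (hD j) hA.1.1 O (hn _ hAF)⟩

/-- **The field `src`**, all minimal exact offenders in `FF`. -/
theorem src_of (hn : ∀ D ∈ FF, Asm.NB D (N D) (C D)) (h4 : ∀ D ∈ FF, 4 ≤ Nat.card D)
    (hS : ∀ s ∈ im Q (S : Subgroup G), ∀ D ∈ FF, MulAut.conj s • D ∈ FF)
    (hFF : ∀ A ∈ AsmCore.EE (S : Subgroup G) (Wd (S : Subgroup G)), im Q A ∈ FF) (a : Act (S : Subgroup G) P) :
    ∃ (F : Type) (_ : Field F) (_ : Finite F) (_ : CharP F 2) (k : ℕ) (_ : 0 < k)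
      (M : NatKM F (S : Subgroup G) P (zl (S : Subgroup G) P) (cv (S : Subgroup G) P) k) (h : Nb M),
      (∀ j, DD M j = ⊥) ∧ ∀ j, ∃ D ∈ FF, un Q (N D) = blk M j ∧ un Q (brk Q.Mod D) = YY h j ∧
        Nat.card D = Nat.card F := by
  obtain ⟨A, hA⟩ := EP_ne B a
  obtain ⟨F, i1, i2, i3, k, hk, M, h, h1, h2, -⟩ := src_one B mv Q hn h4 hS a.1 hA (hFF A hA.1)
  exact ⟨F, i1, i2, i3, k, hk, M, h, h1, h2⟩

/-- every member of `FF` moves `V_P` for some active `P` -/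
theorem exists_EP (E : Es (im Q (S : Subgroup G)) (im Q '' AsmCore.EE (S : Subgroup G) (Wd (S : Subgroup G))) Q.Mod)
    (hAc : ∀ P, Act (S : Subgroup G) P → Asm.Ac (im Q (S : Subgroup G)) (im Q '' AsmCore.EE (S : Subgroup G) (Wd (S : Subgroup G)))
      (im Q P) (im Q (KP (S : Subgroup G) P (Wd (S : Subgroup G)))) (im Q '' EP (S : Subgroup G) P (Wd (S : Subgroup G)))
      Q.Mod)
    (hn : ∀ D ∈ FF, Asm.GB (im Q '' AsmCore.EE (S : Subgroup G) (Wd (S : Subgroup G))) D (N D) (C D))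
    (h4 : ∀ D ∈ FF, 4 ≤ Nat.card D) (hS : ∀ s ∈ im Q (S : Subgroup G), ∀ D ∈ FF, MulAut.conj s • D ∈ FF)
    (hsub : FF ⊆ im Q '' AsmCore.EE (S : Subgroup G) (Wd (S : Subgroup G))) {D : Subgroup (XH Q)} (hD : D ∈ FF) :
    ∃ P, Act (S : Subgroup G) P ∧ ∃ A ∈ EP (S : Subgroup G) P (Wd (S : Subgroup G)), im Q A = D := by
  have hL := isLoc_MZ B.ctx B.full B.data.noff
  have hSH : (S : Subgroup G) ≤ MZ (S : Subgroup G) := hL.le
  have hU2 := elem_Wd B
  have no : NoOverM (Wd (S : Subgroup G)) (MZ (S : Subgroup G)) := by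
    obtain ⟨A, hA, -⟩ := hsub hD
    obtain ⟨P₁, A₁, g⟩ := exists_gOne B.ctx.char2 hL (gen_MZ' S) ⟨A, hA.1.trans hSH, hA.2.off⟩
    exact g.no
  have h2 := two_of Q hU2
  have hf : ∀ x : XH Q, (∀ v : Q.Mod, x • v = v) → x = 1 := fun x hx => XH_faith Q x hx
  have hno := no_XH Q no
  set W : AddSubgroup Q.Mod := ⨆ s : im Q (S : Subgroup G), N (MulAut.conj (s : XH Q) • D) with hW
  -- `S` permutes the blocks
  have hperm : ∀ s ∈ im Q (S : Subgroup G), ∀ D ∈ FF, ∀ m ∈ N D, s • m ∈ N (MulAut.conj s • D) := by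
    intro s hs D hD m hm
    have h5 := ((hn D hD).nb.conj s).uniq h2 hf hno (hn _ (hS s hs D hD)).nb (by rw [Asm.conj_ne_bot]; exact h4 D hD)
    rw [← h5.1]
    exact AddSubgroup.mem_map.2 ⟨m, hm, rfl⟩
  have hWS : ∀ s ∈ im Q (S : Subgroup G), ∀ m ∈ W, s • m ∈ W := by
    intro s hs m hm
    have h5 : W ≤ W.comap (DistribSMul.toAddMonoidHom Q.Mod s) := by
      refine iSup_le fun t x hx => ?_
      rw [AddSubgroup.mem_comap]
      have h6 := hperm s hs _ (hS _ t.2 D hD) x hx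
      rw [← mul_smul, ← map_mul] at h6
      exact le_iSup (fun t : im Q (S : Subgroup G) => N (MulAut.conj (t : XH Q) • D)) ⟨s * t, mul_mem hs t.2⟩ h6
    exact h5 hm
  have hW0 : un Q W ≠ ⊥ := by
    intro h5
    apply (hn D hD).nb.ne_bot
    rw [eq_bot_iff]
    intro m hm
    have h6 : m ∈ W := by
      have h7 : N (MulAut.conj ((1 : im Q (S : Subgroup G)) : XH Q) • D) ≤ W :=
        le_iSup (fun t : im Q (S : Subgroup G) => N (MulAut.conj (t : XH Q) • D)) 1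
      rw [OneMemClass.coe_one, map_one, one_smul] at h7
      exact h7 hm
    have h7 : Q.val m ∈ un Q W := (val_mem_un Q).2 h6
    rw [h5, Subgroup.mem_bot] at h7
    exact AddSubgroup.mem_bot.2 (Nrm.eq_zero_iff.2 h7)
  have hWU : un Q W ≤ Wd (S : Subgroup G) := by
    rintro _ ⟨m, -, rfl⟩
    exact Q.val_mem m
  have hUS : Wd (S : Subgroup G) ≤ (S : Subgroup G) :=
    ((hL.zl_le S B.ctx.char2).trans (MinSimple.VModule.zc_le _)).trans (hL.o2_le S)
  have hcj : ∀ s ∈ (S : Subgroup G), ∀ x ∈ un Q W, s * x * s⁻¹ ∈ un Q W := by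
    rintro s hs _ ⟨m, hm, rfl⟩
    have h5 := hWS (ph Q ⟨s, hSH hs⟩) (ph_mem_im Q hs) m hm
    rw [ph_smul] at h5
    exact ⟨_, h5, rfl⟩
  have hSN : (S : Subgroup G) ≤ normalizer (un Q W : Set G) := by
    intro s hs
    refine mem_normalizer_iff.2 fun x => ⟨hcj s hs x, fun hx => ?_⟩
    have h5 := hcj s⁻¹ (inv_mem hs) _ hx
    have e : s⁻¹ * (s * x * s⁻¹) * s⁻¹⁻¹ = x := by group
    rwa [e] at h5
  have hf2 : Fact (Nat.Prime 2) := ⟨Nat.prime_two⟩
  have h5 := PLocal.OffenderStep.inf_centralizer_ne_bot _ (S : Subgroup G) (S.isPGroup'.to_le (hWU.trans hUS))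
    S.isPGroup' hSN hW0
  obtain ⟨z, hz1⟩ := Subgroup.ne_bot_iff_exists_ne_one.1 h5
  have hz : (z : G) ∈ zc (S : Subgroup G) :=
    ChoiceBase.mem_zc.2 ⟨hUS (hWU z.2.1), hU2.2 _ (hWU z.2.1), fun y hy => mem_centralizer_iff.1 z.2.2 y hy⟩
  obtain ⟨P, a, hPz⟩ := mv z hz fun h6 => hz1 (Subtype.ext h6)
  refine ⟨P, a, ?_⟩
  have hac := hAc P a
  -- some conjugate of `D` is in `EP`
  have hex : ∃ s ∈ im Q (S : Subgroup G), MulAut.conj s • D ∈ im Q '' EP (S : Subgroup G) P (Wd (S : Subgroup G)) := by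
    by_contra hcon
    push Not at hcon
    apply hPz
    have hKW : ∀ x ∈ im Q (KP (S : Subgroup G) P (Wd (S : Subgroup G))), ∀ m ∈ W, x • m = m := by
      intro x hx
      have h6 : W ≤ (fxd (im Q (KP (S : Subgroup G) P (Wd (S : Subgroup G)))) : AddSubgroup Q.Mod) := by
        refine iSup_le fun s => ?_
        have hs := hS _ s.2 D hD
        have h7 := Asm.ind h2 hf hno (hn _ hs).nb (h4 _ hs)
          (K := im Q (KP (S : Subgroup G) P (Wd (S : Subgroup G))))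
          (B₀ := im Q '' EP (S : Subgroup G) P (Wd (S : Subgroup G))) (fun B' hB => E.el B' (hac.EPE hB))
          (fun B' hB => E.exact B' (hac.EPE hB)) (fun B' hB => E.quad B' (hac.EPE hB)) hac.EPK
          (fun B' hB => (hn _ hs).oth B' (hac.EPE hB) fun e => hcon s s.2 (e ▸ hB))
          ((hac.dich _ (hsub hs)).resolve_left (hcon s s.2)) hac.spl hac.genK
        exact fun m hm y hy => h7.1 y hy m hm
      exact fun m hm => h6 hm x hx
    refine (AsmCore.le_KP_sup B.ctx.char2 a.1 (EP_ne B a)).trans (sup_le ?_ ?_)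
    · intro x hx
      have hxH : x ∈ MZ (S : Subgroup G) := le_MZ a.1 (AsmCore.KP_le a.1.le hx)
      obtain ⟨m, hm, hmz⟩ := z.2.1
      have h6 := hKW (ph Q ⟨x, hxH⟩) (ph_mem_im Q hx) m hm
      rw [ph_smul, smul_eq_iff, hmz] at h6
      rw [mem_centralizer_singleton_iff]
      exact mul_inv_eq_iff_eq_mul.1 h6
    · intro s hs
      rw [mem_centralizer_singleton_iff]
      exact mem_centralizer_iff.1 z.2.2 s hs
  obtain ⟨s, ⟨t, ht, rfl⟩, A, hA, hAD⟩ := hex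
  have htS : (t : G) ∈ (S : Subgroup G) := ht
  refine ⟨MulAut.conj (t : G)⁻¹ • A, AsmCore.EP_cj a.1.le (inv_mem htS) (par_le_norm a.1 (a.1.le (inv_mem htS))) hA, ?_⟩
  have e : im Q (MulAut.conj ((t⁻¹ : MZ (S : Subgroup G)) : G) • A) = MulAut.conj (ph Q t⁻¹) • im Q A :=
    AsmCore.im_cj Q t⁻¹
  rw [InvMemClass.coe_inv] at e
  rw [e, hAD, map_inv, ← mul_smul, ← map_mul, inv_mul_cancel, map_one, one_smul]

/-- **The field `mov`.** -/
theorem mov_of (E : Es (im Q (S : Subgroup G)) (im Q '' AsmCore.EE (S : Subgroup G) (Wd (S : Subgroup G))) Q.Mod)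
    (hAc : ∀ P, Act (S : Subgroup G) P → Asm.Ac (im Q (S : Subgroup G)) (im Q '' AsmCore.EE (S : Subgroup G) (Wd (S : Subgroup G)))
      (im Q P) (im Q (KP (S : Subgroup G) P (Wd (S : Subgroup G)))) (im Q '' EP (S : Subgroup G) P (Wd (S : Subgroup G)))
      Q.Mod)
    (hn : ∀ D ∈ FF, Asm.GB (im Q '' AsmCore.EE (S : Subgroup G) (Wd (S : Subgroup G))) D (N D) (C D))
    (h4 : ∀ D ∈ FF, 4 ≤ Nat.card D) (hS : ∀ s ∈ im Q (S : Subgroup G), ∀ D ∈ FF, MulAut.conj s • D ∈ FF)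
    (hsub : FF ⊆ im Q '' AsmCore.EE (S : Subgroup G) (Wd (S : Subgroup G))) {D : Subgroup (XH Q)} (hD : D ∈ FF) :
    ∃ P, Act (S : Subgroup G) P ∧ ∃ (F : Type) (_ : Field F) (_ : Finite F) (_ : CharP F 2) (k : ℕ) (_ : 0 < k)
      (M : NatKM F (S : Subgroup G) P (zl (S : Subgroup G) P) (cv (S : Subgroup G) P) k) (h : Nb M),
      (∀ j, DD M j = ⊥) ∧ (∀ j, ∃ D ∈ FF, un Q (N D) = blk M j ∧ un Q (brk Q.Mod D) = YY h j ∧
        Nat.card D = Nat.card F) ∧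
      ∃ j, un Q (N D) = blk M j ∧ un Q (brk Q.Mod D) = YY h j ∧ Nat.card D = Nat.card F := by
  obtain ⟨P, a, A, hA, rfl⟩ := exists_EP B mv Q E hAc hn h4 hS hsub hD
  exact ⟨P, a, src_one B mv Q (fun D hD => (hn D hD).nb) h4 hS a.1 hA hD⟩

end fam

end Cfsg.Agent.Omega.NOThreeL.RRed.Blk.AsmMv
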