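import Cfsg.Agent.Omega.NOThreeL.RRed.Blk.GamD

/-!
# NO-3L, box R: nonsplit natural blocks, module level definitions (helper19, #26867)

`X` acts on `V` (additive).

* `NBd D N C L Z` : `D ≤ X` is the root group of a natural block `N = L ⊕ L⁻ ⊕ Z`, `V = L ⊕ L⁻ ⊕ C`, `Z ≤ C` (`Z = 0`: split);
* `GBd EE D N C L Z` : moreover all other members of `EE` centralise `N`.
-/

set_option autoImplicit false
set_option linter.unusedSectionVars false

namespace Cfsg.Agent.Omega.NOThreeL.RRed.Blk.AsmN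

open Cfsg.Agent.Omega.NOThreeL.RRed.Blk.TypesGam (rt)
open Cfsg.Agent.Omega.NOThreeL.RRed.Blk.GamD (BkD)

universe u v

variable {X : Type u} {V : Type v} [Group X] [AddCommGroup V] [DistribMulAction X V]

/-- `D` is the root group of the natural block `N = L ⊕ L⁻ ⊕ Z`, `V = L ⊕ L⁻ ⊕ C`, `Z ≤ C`. -/
structure NBd (D : Subgroup X) (N C L Z : AddSubgroup V) : Prop where
  ex : ∃ (F : Type) (_ : Field F) (_ : Finite F) (e f d : F →+ V) (up lo : F → X),
    BkD e f d C up lo ∧ rt up = D ∧ (e.range ⊔ f.range) ⊔ d.range = N ∧ e.range = L ∧ d.range = Z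

/-- a natural block which is centralised by the other members of `EE` -/
structure GBd (EE : Set (Subgroup X)) (D : Subgroup X) (N C L Z : AddSubgroup V) : Prop where
  nb : NBd D N C L Z
  oth : ∀ A ∈ EE, A ≠ D → ∀ a ∈ A, ∀ m ∈ N, a • m = m

end Cfsg.Agent.Omega.NOThreeL.RRed.Blk.AsmN
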