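import Cfsg.Agent.Omega.NOThreeL.RRed.Blk.AsmSmall

/-!
# NO-3L, box R, blocks with a radical (#26560): the type of an active `P ∈ P*(S)` (helper263, #27786)

`U = zl S L`, `P ≤ L ≤ H`, `Q : Nrm H U`.

* **`nat_or_small`** : `P` is natural over `F`, `4 ≤ |F|`, or the members of `EP S P U` induce groups of order at most 3 on `U`.
-/

set_option autoImplicit false
set_option linter.unusedSectionVars false

namespace Cfsg.Agent.Omega.NOThreeL.RRed.Blk.AcNSmall

open Subgroup Cfsg Cfsg.Agent.ZN Cfsg.Agent.Omega.MinPar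
open Cfsg.Agent.Omega.FFThm
open Cfsg.Agent.Omega.FrameFF (cv two_le_card)
open Cfsg.Agent.Omega.NOThreeL.RSplit (Nrm)
open Cfsg.Agent.Omega.NOThreeL.RRed.Blk.AsmCore (im EP KP cent_of_EP)

universe u

variable {G : Type u} [Group G] [Finite G] {S : Sylow 2 G} {L P H : Subgroup G}

/-- the two types, with all members of `EP` small in the second case -/
theorem nat_or_small' (hc : IsCharacteristicTwoType G) (hL : IsLoc (S : Subgroup G) L)
    (hP : IsParS (S : Subgroup G) P) (hPL : P ≤ L) (LH : L ≤ H) (no : NoOverM (zl (S : Subgroup G) L) L)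
    (Q : Nrm H (zl (S : Subgroup G) L)) :
    (∃ (F : Type) (_ : Field F) (_ : Finite F) (_ : CharP F 2) (k : ℕ)
      (_ : NatKM F (S : Subgroup G) P (zl (S : Subgroup G) P) (cv (S : Subgroup G) P) k), 4 ≤ Nat.card F) ∨
      ∀ A ∈ EP (S : Subgroup G) P (zl (S : Subgroup G) L), Nat.card (im Q A) ≤ 2 := by
  rcases (EP (S : Subgroup G) P (zl (S : Subgroup G) L)).eq_empty_or_nonempty with he | ⟨A, hA⟩
  · right
    intro A hA
    rw [he] at hA
    exact hA.elim
  obtain ⟨-, -, hcon, -⟩ := cent_of_EP hc hL hP hPL no hA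
  have hE := FFThm.elem_zl hc S hL
  have key : Two2 S P → ∀ A ∈ EP (S : Subgroup G) P (zl (S : Subgroup G) L), Nat.card (im Q A) ≤ 2 := fun h2 A hA =>
    AsmCard.card_le_two hc (AsmSmall.gone_of_EP hc hL hP hPL no hA) hA.1.2 h2 hE.2 Q
      (((hA.1.1.trans hP.le).trans hPL).trans LH)
  rcases hcon with ⟨F, i1, i2, i3, k, hk, ⟨M⟩⟩ | ⟨k, m, hk, hm, hM⟩
  · rcases two_le_card (F := F) with h2 | h4
    · exact Or.inr (key (Or.inl ⟨F, i1, i3, k, h2, hk, ⟨M⟩⟩))
    · exact Or.inl ⟨F, i1, i2, i3, k, M, h4⟩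
  · exact Or.inr (key (Or.inr ⟨k, m, hk, hm, hM⟩))

/-- **the two types** -/
theorem nat_or_small (hc : IsCharacteristicTwoType G) (hL : IsLoc (S : Subgroup G) L)
    (hP : IsParS (S : Subgroup G) P) (hPL : P ≤ L) (LH : L ≤ H) (noH : NoOverM (zl (S : Subgroup G) L) H)
    (Q : Nrm H (zl (S : Subgroup G) L)) :
    (∃ (F : Type) (_ : Field F) (_ : Finite F) (_ : CharP F 2) (k : ℕ)
      (_ : NatKM F (S : Subgroup G) P (zl (S : Subgroup G) P) (cv (S : Subgroup G) P) k), 4 ≤ Nat.card F) ∨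
      ∀ A ∈ EP (S : Subgroup G) P (zl (S : Subgroup G) L), Nat.card (im Q A) ≤ 3 :=
  (nat_or_small' hc hL hP hPL LH (fun A hA hE => noH A (hA.trans LH) hE) Q).imp_right
    fun h A hA => (h A hA).trans (by norm_num)

end Cfsg.Agent.Omega.NOThreeL.RRed.Blk.AcNSmall
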