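import Cfsg.Agent.Omega.NOThreeL.RRed.Blk.GamD
import Cfsg.Agent.Omega.NOThreeL.RRed.Blk.TypesEq

/-!
# NO-3L, natural blocks with a radical (helper855, #26560, (T4n)): `l`, `M`, `C_V(E)` depend only on the root group

* **`BkD.eq`** : two blocks `BkD e f d C up lo` (over `F`, `|F| > 2`, `d ≠ 0`), `BkD e' f' d' C' up' lo'` (over `F'`) with
  the same root group `rt up = rt up'` and `d'(F') ≤ C`, `d(F) ≤ C'` (for instance `d(F) = d'(F')`): `C = C'`,
  `e(F) = e'(F')`, `d(F) = d'(F')`, `e(F) + f(F) + d(F) = e'(F') + f'(F') + d'(F')`.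
* `exists_cmp` : the comparison: `up' t = up (a θ t)`, `e' x = e (a θ x b)`, `d' x = d (a b² θ x)`,
  `f' y = e x + f (θ y b) + c`;  `exists_tor` : the torus elements agree modulo the root group.
* `BkD.mem_fxd_rt`, `BkD.fix_tor`, `BkD.comm_tor`; `BkD.conj` : a conjugate of a block is a block;
  **`BkD.inv`** : an element which normalises the root group and `d(F)` normalises `C`, `e(F)` and `M`.
-/

set_option autoImplicit false
set_option linter.unusedSectionVars false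

namespace Cfsg.Agent.Omega.NOThreeL.RRed.Blk.GamD

open Cfsg.Agent.Omega.NOThreeL.RRed.NS (fxd mem_fxd)
open Cfsg.Agent.Omega.NOThreeL.RRed.Blk.TypesGam (NO rt up_mem card_le_of Dat wt hh)
open scoped Pointwise

universe u v w w'

variable {X : Type u} {V : Type v} [Group X] [AddCommGroup V] [DistribMulAction X V]

section one

variable {F : Type w} [Field F] {e f d : F →+ V} {C : AddSubgroup V} {up lo : F → X}
variable (h : BkD e f d C up lo)
include h

/-- `C_V(A) = e(F) + C` -/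
theorem BkD.mem_fxd_rt {v : V} : v ∈ (fxd (rt up) : AddSubgroup V) ↔ ∃ x, ∃ c ∈ C, v = e x + c := by
  rw [mem_fxd]
  constructor
  · intro hv
    obtain ⟨x, y, c, hc, rfl⟩ := h.dec v
    have e1 := hv _ (up_mem (up := up) 1)
    rw [smul_add, smul_add, h.up_e, h.up_f, h.up_c _ c hc, one_mul, one_mul] at e1
    have e2 : e (x + y) + f y + (d (y ^ 2) + c) = e x + f y + c := by
      rw [← e1, map_add]; abel
    have e3 := (h.uniq (C.add_mem (h.dC _) hc) hc e2).1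
    have e4 : y = 0 := by
      have : x + y = x + 0 := by rw [e3, add_zero]
      exact add_left_cancel this
    exact ⟨x, c, hc, by rw [e4, map_zero, add_zero]⟩
  · rintro ⟨x, c, hc, rfl⟩ a ha
    have h1 : rt up ≤ MulAction.stabilizer X (e x + c) := by
      refine (Subgroup.closure_le _).2 ?_
      rintro _ ⟨t, rfl⟩
      refine MulAction.mem_stabilizer_iff.2 ?_
      rw [smul_add, h.up_e, h.up_c _ c hc]
    exact MulAction.mem_stabilizer_iff.1 (h1 ha)

section torus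

variable (h2 : ∀ v : V, v + v = 0)
include h2

theorem BkD.tor_v (t : F) {c : F} (hc0 : c ≠ 0) (x y : F) {r : V} (hr : r ∈ C) :
    (up t * hh up lo c) • (e x + f y + r)
      = e (c * x + t * (c⁻¹ * y)) + f (c⁻¹ * y) + (d (t * (c⁻¹ * y) ^ 2) + r) := by
  have e1 : hh up lo c • (e x + f y + r) = e (c * x) + f (c⁻¹ * y) + r := by
    rw [smul_add, smul_add, h.hh_e h2 hc0, h.hh_f h2 hc0, h.hh_c c hr]
  rw [mul_smul, e1, smul_add, smul_add, h.up_e, h.up_f, h.up_c _ r hr, map_add]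
  abel

/-- the elements `up t * hh c`, `c ≠ 0, 1`: fixed points -/
theorem BkD.fix_tor (t : F) {c : F} (hc0 : c ≠ 0) (hc1 : c ≠ 1) (v : V) :
    (up t * hh up lo c) • v = v ↔ v ∈ C := by
  constructor
  · intro hv
    obtain ⟨x, y, r, hr, rfl⟩ := h.dec v
    rw [h.tor_v h2 t hc0 x y hr] at hv
    obtain ⟨e3, e4, -⟩ := h.uniq (C.add_mem (h.dC _) hr) hr hv
    have hy : y = 0 := by
      by_contra hy
      apply hc1
      have e5 := mul_right_cancel₀ hy (e4.trans (one_mul y).symm)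
      exact inv_eq_one.1 e5
    subst hy
    rw [mul_zero, mul_zero, add_zero] at e3
    have hx : x = 0 := by
      by_contra hx
      exact hc1 (mul_right_cancel₀ hx (e3.trans (one_mul x).symm))
    subst hx
    rw [map_zero, map_zero, add_zero, zero_add]
    exact hr
  · intro hv
    rw [mul_smul, h.hh_c c hv, h.up_c _ v hv]

/-- commutators, modulo `D` -/
theorem BkD.comm_tor (t : F) {c : F} (hc0 : c ≠ 0) (hc1 : c ≠ 1) (v : V) :
    (∃ w, ∃ s, (up t * hh up lo c) • w + w + d s = v) ↔ v ∈ e.range ⊔ f.range ⊔ d.range := by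
  have two := h.two h2
  have key : ∀ x y r, r ∈ C → (up t * hh up lo c) • (e x + f y + r) + (e x + f y + r)
      = e ((c + 1) * x + t * (c⁻¹ * y)) + f ((c⁻¹ + 1) * y) + d (t * (c⁻¹ * y) ^ 2) := by
    intro x y r hr
    rw [h.tor_v h2 t hc0 x y hr]
    have e1 : e (c * x + t * (c⁻¹ * y)) + f (c⁻¹ * y) + (d (t * (c⁻¹ * y) ^ 2) + r) + (e x + f y + r)
        = (e (c * x + t * (c⁻¹ * y)) + e x) + (f (c⁻¹ * y) + f y) + d (t * (c⁻¹ * y) ^ 2) + (r + r) := by abel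
    rw [e1, h2, add_zero, ← map_add, ← map_add]
    congr 3 <;> ring
  constructor
  · rintro ⟨w, s, rfl⟩
    obtain ⟨x, y, r, hr, rfl⟩ := h.dec w
    rw [key x y r hr]
    exact add_mem (add_mem (AddSubgroup.mem_sup_left (add_mem (AddSubgroup.mem_sup_left ⟨_, rfl⟩)
      (AddSubgroup.mem_sup_right ⟨_, rfl⟩))) (AddSubgroup.mem_sup_right ⟨_, rfl⟩))
      (AddSubgroup.mem_sup_right ⟨_, rfl⟩)
  · intro hv
    obtain ⟨v1, hv1, _, ⟨s, rfl⟩, rfl⟩ := AddSubgroup.mem_sup.1 hv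
    obtain ⟨_, ⟨a, rfl⟩, _, ⟨b, rfl⟩, rfl⟩ := AddSubgroup.mem_sup.1 hv1
    have k1 : c + 1 ≠ 0 := by
      intro hk
      apply hc1
      have : c + 1 = 1 + 1 := by rw [hk, two]
      exact add_right_cancel this
    have k2 : c⁻¹ + 1 ≠ 0 := by
      intro hk
      apply hc1
      have : c⁻¹ + 1 = 1 + 1 := by rw [hk, two]
      exact inv_eq_one.1 (add_right_cancel this)
    refine ⟨e ((c + 1)⁻¹ * (a + t * (c⁻¹ * ((c⁻¹ + 1)⁻¹ * b)))) + f ((c⁻¹ + 1)⁻¹ * b) + 0,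
      s + t * (c⁻¹ * ((c⁻¹ + 1)⁻¹ * b)) ^ 2, ?_⟩
    rw [key _ _ 0 C.zero_mem, mul_inv_cancel_left₀ k1, mul_inv_cancel_left₀ k2]
    have e1 : a + t * (c⁻¹ * ((c⁻¹ + 1)⁻¹ * b)) + t * (c⁻¹ * ((c⁻¹ + 1)⁻¹ * b)) = a := by
      rw [add_assoc, two, add_zero]
    rw [e1, map_add d]
    have e3 : ∀ p q r r' : V, p + q + r + (r' + r) = p + q + r' := fun p q r r' => by
      have : p + q + r + (r' + r) = p + q + r' + (r + r) := by abel
      rw [this, h2, add_zero]
    exact e3 _ _ _ _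

end torus

end one

section two

variable {F : Type w} [Field F] {e f d : F →+ V} {C : AddSubgroup V} {up lo : F → X}
variable {F' : Type w'} [Field F'] {e' f' d' : F' →+ V} {C' : AddSubgroup V} {up' lo' : F' → X}

/-- the comparison of the two root groups -/
theorem exists_tau (h : BkD e f d C up lo) (h' : BkD e' f' d' C' up' lo') (h2 : ∀ v : V, v + v = 0)
    (hf : ∀ x : X, (∀ v : V, x • v = v) → x = 1) (hrt : rt up = rt up') :
    ∃ τ : F' → F, (∀ t, up (τ t) = up' t) ∧ (∀ s t, τ (s + t) = τ s + τ t) ∧ Function.Bijective τ := by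
  have h1 : ∀ t' : F', ∃ t, up t = up' t' := fun t' =>
    (h.mem_rt h2 hf).1 (hrt ▸ up_mem (up := up') t')
  choose τ hτ using h1
  refine ⟨τ, hτ, fun s t => ?_, ?_, ?_⟩
  · apply h.up_inj
    rw [hτ, ← h.up_add hf, hτ, hτ, h'.up_add hf]
  · intro s t e1
    apply h'.up_inj
    rw [← hτ, e1, hτ]
  · intro t
    obtain ⟨s, hs⟩ := (h'.mem_rt h2 hf).1 (hrt ▸ up_mem (up := up) t)
    exact ⟨s, h.up_inj (by rw [hτ, hs])⟩

/-- The comparison data: `up' t = up (a θ t)`, `e' x = e (a θ x b)`, `d' x = d (a b² θ x)`. -/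
theorem exists_cmp [Finite F'] (h : BkD e f d C up lo) (h' : BkD e' f' d' C' up' lo') (h2 : ∀ v : V, v + v = 0)
    (hf : ∀ x : X, (∀ v : V, x • v = v) → x = 1) (h4 : 2 < Nat.card F') (hrt : rt up = rt up')
    (hd' : ∀ x, d' x ∈ C) :
    ∃ (θ : F' →+* F) (a b : F), a ≠ 0 ∧ b ≠ 0 ∧ Function.Bijective θ ∧ (∀ t, up (a * θ t) = up' t) ∧
      (∀ x, e' x = e (a * θ x * b)) ∧ (∀ y, ∃ x, ∃ c ∈ C, f' y = e x + f (θ y * b) + c) ∧
      (∀ x, d' x = d (a * b ^ 2 * θ x)) := by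
  obtain ⟨τ, hτ, hadd, hbij⟩ := exists_tau h h' h2 hf hrt
  have h1 : ∀ y, ∃ b x, ∃ c ∈ C, f' y = e x + f b + c := fun y => by
    obtain ⟨x, b, c, hc, e1⟩ := h.dec (f' y)
    exact ⟨b, x, c, hc, e1⟩
  choose ψ px pc hpc hψ using h1
  -- `e'(t y) + d'(t y²) = e (τ t ψ y) + d (τ t ψ y²)`
  have k0 : ∀ t y, e' (t * y) + d' (t * y ^ 2) = e (τ t * ψ y) + d (τ t * ψ y ^ 2) := by
    intro t y
    have e1 := h'.up_f t y
    rw [← hτ, hψ y, smul_add, smul_add, h.up_e, h.up_f, h.up_c _ _ (hpc y)] at e1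
    have e2 : e (px y) + f (ψ y) + pc y + (e (τ t * ψ y) + d (τ t * ψ y ^ 2))
        = e (px y) + f (ψ y) + pc y + (e' (t * y) + d' (t * y ^ 2)) := by
      have e3 : e (px y) + f (ψ y) + pc y + (e (τ t * ψ y) + d (τ t * ψ y ^ 2))
          = e (px y) + (f (ψ y) + e (τ t * ψ y) + d (τ t * ψ y ^ 2)) + pc y := by abel
      rw [e3, e1]; abel
    exact (add_left_cancel e2).symm
  -- the components of `e'`
  have h3 : ∀ s, ∃ x, ∃ l ∈ C, e' s = e x + l := by
    intro s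
    have e1 := k0 s 1
    rw [mul_one, one_pow, mul_one] at e1
    refine ⟨τ s * ψ 1, d (τ s * ψ 1 ^ 2) + d' s, C.add_mem (h.dC _) (hd' _), ?_⟩
    have e2 : e' s = e' s + d' s + d' s := by rw [add_assoc, h2, add_zero]
    rw [e2, e1, add_assoc]
  choose χ lam hlam hχ using h3
  have uq : ∀ {x y : F} {c c' : V}, c ∈ C → c' ∈ C → e x + c = e y + c' → x = y ∧ c = c' := by
    intro x y c c' hc hc' e1
    have e2 : e x + f 0 + c = e y + f 0 + c' := by
      rw [map_zero, add_zero, add_zero]; exact e1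
    obtain ⟨h5, -, h6⟩ := h.uniq hc hc' e2
    exact ⟨h5, h6⟩
  have k1 : ∀ t y, χ (t * y) = τ t * ψ y ∧ lam (t * y) + d' (t * y ^ 2) = d (τ t * ψ y ^ 2) := by
    intro t y
    have e1 := k0 t y
    rw [hχ, add_assoc] at e1
    exact uq (C.add_mem (hlam _) (hd' _)) (h.dC _) e1
  have τ0 : τ 0 = 0 := by
    have := hadd 0 0
    rw [add_zero] at this
    exact (left_eq_add.1 this)
  have ha : τ 1 ≠ 0 := by
    intro h0
    exact one_ne_zero (hbij.1 (h0.trans τ0.symm))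
  have hb : ψ 1 ≠ 0 := by
    intro h0
    have e1 := k0 1 1
    rw [h0, mul_zero, mul_one, map_zero, one_pow, mul_one, zero_pow two_ne_zero, mul_zero, map_zero, add_zero] at e1
    have e3 : e' 1 + f' 0 ∈ C' := by
      rw [map_zero, add_zero]
      have e4 : e' 1 = e' 1 + d' 1 + d' 1 := by rw [add_assoc, h2, add_zero]
      rw [e4, e1, zero_add]; exact h'.dC 1
    exact one_ne_zero (h'.ind 1 0 e3).1
  have k2 : ∀ t y, τ (t * y) * ψ 1 = τ t * ψ y := by
    intro t y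
    rw [← (k1 t y).1, ← (k1 (t * y) 1).1, mul_one]
  have k3 : ∀ y, τ y * ψ 1 = τ 1 * ψ y := fun y => by
    have := k2 1 y
    rwa [one_mul] at this
  have k4 : ∀ t y, τ (t * y) * τ 1 = τ t * τ y := by
    intro t y
    apply mul_right_cancel₀ hb
    calc τ (t * y) * τ 1 * ψ 1 = τ (t * y) * ψ 1 * τ 1 := by ring
      _ = τ t * ψ y * τ 1 := by rw [k2]
      _ = τ t * (τ 1 * ψ y) := by ring
      _ = τ t * (τ y * ψ 1) := by rw [k3]
      _ = τ t * τ y * ψ 1 := by ring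
  let θ : F' →+* F :=
    { toFun := fun t => (τ 1)⁻¹ * τ t
      map_one' := inv_mul_cancel₀ ha
      map_mul' := fun s t => by
        change (τ 1)⁻¹ * τ (s * t) = (τ 1)⁻¹ * τ s * ((τ 1)⁻¹ * τ t)
        apply mul_right_cancel₀ ha
        calc (τ 1)⁻¹ * τ (s * t) * τ 1 = (τ 1)⁻¹ * (τ (s * t) * τ 1) := by ring
          _ = (τ 1)⁻¹ * (τ s * τ t) := by rw [k4]
          _ = (τ 1)⁻¹ * τ s * ((τ 1)⁻¹ * τ 1 * τ t) := by rw [inv_mul_cancel₀ ha]; ring
          _ = (τ 1)⁻¹ * τ s * ((τ 1)⁻¹ * τ t) * τ 1 := by ring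
      map_zero' := by
        change (τ 1)⁻¹ * τ 0 = 0
        rw [τ0, mul_zero]
      map_add' := fun s t => by
        change (τ 1)⁻¹ * τ (s + t) = (τ 1)⁻¹ * τ s + (τ 1)⁻¹ * τ t
        rw [hadd, mul_add] }
  have hθ : ∀ t, τ 1 * θ t = τ t := fun t => mul_inv_cancel_left₀ ha (τ t)
  have hψθ : ∀ y, ψ y = θ y * ψ 1 := fun y => by
    apply mul_left_cancel₀ ha
    rw [← k3, ← mul_assoc, hθ]
  -- the `D`-part
  have k5 : ∀ t y, d' (t * y ^ 2) + d (τ 1 * ψ 1 ^ 2 * θ (t * y ^ 2)) = lam (t * y) := by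
    intro t y
    have e1 := (k1 t y).2
    have e2 : τ t * ψ y ^ 2 = τ 1 * ψ 1 ^ 2 * θ (t * y ^ 2) := by
      rw [hψθ y, ← hθ t, map_mul θ, map_pow θ]; ring
    rw [← e2, ← e1]
    have e3 : d' (t * y ^ 2) + (lam (t * y) + d' (t * y ^ 2))
        = lam (t * y) + (d' (t * y ^ 2) + d' (t * y ^ 2)) := by abel
    rw [e3, h2, add_zero]
  have k6 : ∀ s y, y ≠ 0 → d' (s * y) + d (τ 1 * ψ 1 ^ 2 * θ (s * y)) = lam s := by
    intro s y hy
    have e1 := k5 (s * y⁻¹) y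
    have e2 : s * y⁻¹ * y ^ 2 = s * y := by
      rw [pow_two, mul_assoc, inv_mul_cancel_left₀ hy]
    rw [e2, inv_mul_cancel_right₀ hy] at e1
    exact e1
  obtain ⟨z, hz0, hz1⟩ : ∃ z : F', z ≠ 0 ∧ z ≠ 1 := by
    by_contra hcon
    push Not at hcon
    have h3 : Nat.card F' ≤ 2 := by
      have : (Set.univ : Set F') ⊆ {0, 1} := fun x _ => by
        by_cases hx : x = 0
        · exact Or.inl hx
        · exact Or.inr (hcon x hx)
      calc Nat.card F' = Set.ncard (Set.univ : Set F') := (Set.ncard_univ F').symm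
        _ ≤ Set.ncard ({0, 1} : Set F') := Set.ncard_le_ncard this
        _ ≤ 2 := by
          have := Set.ncard_insert_le (0 : F') {1}
          rwa [Set.ncard_singleton] at this
    omega
  have two' := h'.two h2
  have hz2 : z + 1 ≠ 0 := by
    intro hk
    apply hz1
    have : z + 1 = 1 + 1 := by rw [hk, two']
    exact add_right_cancel this
  have k7 : lam 1 = 0 := by
    have e1 := k6 1 (z + 1) hz2
    have e2 := k6 1 z hz0
    have e3 := k6 1 1 one_ne_zero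
    rw [one_mul] at e1 e2 e3
    rw [map_add d', map_add θ, mul_add, map_add d] at e1
    have e4 : lam 1 = lam 1 + lam 1 := by
      calc lam 1 = d' z + d' 1 + (d (τ 1 * ψ 1 ^ 2 * θ z) + d (τ 1 * ψ 1 ^ 2 * θ 1)) := e1.symm
        _ = (d' z + d (τ 1 * ψ 1 ^ 2 * θ z)) + (d' 1 + d (τ 1 * ψ 1 ^ 2 * θ 1)) := by abel
        _ = lam 1 + lam 1 := by rw [e2, e3]
    rw [h2] at e4
    exact e4
  have k8 : ∀ x, d' x = d (τ 1 * ψ 1 ^ 2 * θ x) := by
    intro x
    by_cases hx : x = 0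
    · rw [hx, map_zero, map_zero θ, mul_zero, map_zero]
    · have e1 := k6 1 x hx
      rw [one_mul, k7] at e1
      have e2 : d' x + d (τ 1 * ψ 1 ^ 2 * θ x) + d (τ 1 * ψ 1 ^ 2 * θ x) = d' x := by
        rw [add_assoc, h2, add_zero]
      rw [← e2, e1, zero_add]
  refine ⟨θ, τ 1, ψ 1, ha, hb, ⟨θ.injective, fun x => ?_⟩, fun t => ?_, fun x => ?_, fun y => ?_, k8⟩
  · obtain ⟨t, ht⟩ := hbij.2 (τ 1 * x)
    exact ⟨t, mul_left_cancel₀ ha (by rw [hθ, ht])⟩
  · rw [hθ, hτ]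
  · have e1 : lam x = 0 := by
      by_cases hx : x = 0
      · subst hx
        have e2 := k6 0 1 one_ne_zero
        rw [zero_mul, map_zero, map_zero θ, mul_zero, map_zero, add_zero] at e2
        exact e2.symm
      · have e2 := k6 x x⁻¹ (inv_ne_zero hx)
        rw [← e2, mul_inv_cancel₀ hx]
        have e3 := k6 1 1 one_ne_zero
        rw [one_mul] at e3
        rw [e3, k7]
    have e2 := (k1 x 1).1
    rw [mul_one] at e2
    rw [hχ x, e1, add_zero, e2, hθ]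
  · exact ⟨px y, pc y, hpc y, by rw [← hψθ]; exact hψ y⟩

variable [Finite F] [Finite V] [Finite X]

/-- the conclusion of `BkD.gam` -/
def Gam (e f d : F →+ V) (C : AddSubgroup V) (up : F → X) : Prop :=
  ∀ g : X, (∀ z, g • e z = e z) → (∀ z, g • d z = d z) → (∀ c ∈ C, ∃ x, g • c = c + e x) →
    (∀ z, ∃ x, ∃ c ∈ C, g • f z = f z + c + e x) → g ∈ rt up

/-- The torus elements of the two blocks agree modulo the root group. -/
theorem exists_tor (h : BkD e f d C up lo) (h' : BkD e' f' d' C' up' lo') (h2 : ∀ v : V, v + v = 0)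
    (hf : ∀ x : X, (∀ v : V, x • v = v) → x = 1) (hg : Gam e f d C up) (hrt : rt up = rt up')
    (hd1 : ∀ x, d x ∈ C') {θ : F' →+* F} {a b : F} (ha : a ≠ 0) (hb : b ≠ 0) (hbij : Function.Bijective θ)
    (he : ∀ x, e' x = e (a * θ x * b)) (hff : ∀ y, ∃ x, ∃ c ∈ C, f' y = e x + f (θ y * b) + c) {c : F'} (hc : c ≠ 0) :
    ∃ t, hh up' lo' c = up t * hh up lo (θ c) := by
  have hθ : θ c ≠ 0 := (map_ne_zero θ).2 hc
  have fx : ∀ {v}, (∃ x, ∃ r ∈ C, v = e x + r) ↔ ∃ x, ∃ r ∈ C', v = e' x + r := fun {v} => by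
    rw [← h.mem_fxd_rt, ← h'.mem_fxd_rt, hrt]
  -- `C`
  have k1 : ∀ r ∈ C, ∃ x, hh up' lo' c • r = r + e x := by
    intro r hr
    obtain ⟨x, r', hr', e1⟩ := (fx (v := r)).1 ⟨0, r, hr, by rw [map_zero, zero_add]⟩
    refine ⟨a * θ (c * x + x) * b, ?_⟩
    rw [← he]
    conv_lhs => rw [e1]
    rw [smul_add, h'.hh_e h2 hc, h'.hh_c c hr', e1, map_add]
    have e2 : e' x + r' + (e' (c * x) + e' x) = e' (c * x) + r' + (e' x + e' x) := by abel
    rw [e2, h2, add_zero]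
  -- `e`
  have k2 : ∀ x, hh up' lo' c • e x = e (θ c * x) := by
    intro x
    obtain ⟨x', hx'⟩ := hbij.2 (a⁻¹ * (x * b⁻¹))
    have e1 : a * θ x' * b = x := by
      rw [hx', mul_inv_cancel_left₀ ha, inv_mul_cancel_right₀ hb]
    rw [← e1, ← he, h'.hh_e h2 hc, he, map_mul θ]
    congr 1; ring
  -- `f`
  have k3 : ∀ z, ∃ x, ∃ r ∈ C, hh up' lo' c • f z = f ((θ c)⁻¹ * z) + r + e x := by
    intro z
    obtain ⟨x, y, r, hr, e1⟩ := h'.dec (f z)
    obtain ⟨x1, r1, hr1, e2⟩ := hff y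
    obtain ⟨x2, r2, hr2, e3⟩ := (fx (v := r)).2 ⟨0, r, hr, by rw [map_zero, zero_add]⟩
    have e4 : θ y * b = z := by
      have e5 : e (a * θ x * b + x1 + x2) + f (θ y * b) + (r1 + r2) = e 0 + f z + 0 := by
        rw [map_zero, zero_add, add_zero, e1, he, e2, e3, map_add, map_add]; abel
      exact (h.uniq (C.add_mem hr1 hr2) C.zero_mem e5).2.1
    obtain ⟨x3, r3, hr3, e6⟩ := hff (c⁻¹ * y)
    refine ⟨a * θ (c * x) * b + x3 + x2, r3 + r2, C.add_mem hr3 hr2, ?_⟩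
    rw [e1, smul_add, smul_add, h'.hh_e h2 hc, h'.hh_f h2 hc, h'.hh_c c hr, he, e6, e3, ← e4, map_mul θ c⁻¹ y,
      map_inv₀ θ c, map_add, map_add, mul_assoc (θ c)⁻¹ (θ y) b]
    abel
  have k4 : hh up' lo' c * (hh up lo (θ c))⁻¹ ∈ rt up := by
    refine hg _ (fun z => ?_) (fun z => ?_) (fun r hr => ?_) fun z => ?_
    · rw [mul_smul, h.hhi_e h2 hθ, k2, mul_inv_cancel_left₀ hθ]
    · rw [mul_smul, h.hhi_c _ (h.dC z), h'.hh_c c (hd1 z)]
    · rw [mul_smul, h.hhi_c _ hr]; exact k1 r hr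
    · rw [mul_smul, h.hhi_f h2 hθ]
      obtain ⟨x, r, hr, e1⟩ := k3 (θ c * z)
      rw [inv_mul_cancel_left₀ hθ] at e1
      exact ⟨x, r, hr, e1⟩
  obtain ⟨t, ht⟩ := (h.mem_rt h2 hf).1 k4
  exact ⟨t, by rw [ht, inv_mul_cancel_right]⟩

/-- **(T4n).** `C`, `l`, `D` and `M` depend only on the root group, if `D ≤ C'` and `D' ≤ C`. -/
theorem BkD.eq (h : BkD e f d C up lo) (h' : BkD e' f' d' C' up' lo') (h2 : ∀ v : V, v + v = 0)
    (hf : ∀ x : X, (∀ v : V, x • v = v) → x = 1) (hno : NO X V) (hd : ∃ x, d x ≠ 0) (h4 : 2 < Nat.card F)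
    (hrt : rt up = rt up') (hd' : ∀ x, d' x ∈ C) (hd1 : ∀ x, d x ∈ C') :
    C = C' ∧ e.range = e'.range ∧ d.range = d'.range ∧
      e.range ⊔ f.range ⊔ d.range = e'.range ⊔ f'.range ⊔ d'.range := by
  have hg : Gam e f d C up := fun g ge gd gc gf => h.gam h2 hf hno hd h4 ge gd gc gf
  obtain ⟨τ, -, -, hτb⟩ := exists_tau h h' h2 hf hrt
  have : Finite F' := Finite.of_injective τ hτb.1
  have hcF : Nat.card F' = Nat.card F := Nat.card_congr (Equiv.ofBijective τ hτb)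
  obtain ⟨θ, a, b, ha, hb, hbij, hup, he, hff, hdd⟩ := exists_cmp h h' h2 hf (hcF ▸ h4) hrt hd'
  obtain ⟨c0, hc0, hc1⟩ : ∃ c0 : F, c0 ≠ 0 ∧ c0 ≠ 1 := by
    by_contra hcon
    push Not at hcon
    have h3 : Nat.card F ≤ 2 := by
      have : (Set.univ : Set F) ⊆ {0, 1} := fun x _ => by
        by_cases hx : x = 0
        · exact Or.inl hx
        · exact Or.inr (hcon x hx)
      calc Nat.card F = Set.ncard (Set.univ : Set F) := (Set.ncard_univ F).symm
        _ ≤ Set.ncard ({0, 1} : Set F) := Set.ncard_le_ncard this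
        _ ≤ 2 := by
          have := Set.ncard_insert_le (0 : F) {1}
          rwa [Set.ncard_singleton] at this
    omega
  obtain ⟨c, rfl⟩ := hbij.2 c0
  have hc0' : c ≠ 0 := by rintro rfl; exact hc0 (map_zero θ)
  have hc1' : c ≠ 1 := by rintro rfl; exact hc1 (map_one θ)
  obtain ⟨t, ht⟩ := exists_tor h h' h2 hf hg hrt hd1 ha hb hbij he hff hc0'
  have e0 : up' 0 * hh up' lo' c = up t * hh up lo (θ c) := by
    rw [h'.up_zero hf, one_mul, ht]
  have hab : a * b ^ 2 ≠ 0 := mul_ne_zero ha (pow_ne_zero _ hb)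
  have hdr : ∀ x, ∃ y, d' y = d x := by
    intro x
    obtain ⟨y, hy⟩ := hbij.2 ((a * b ^ 2)⁻¹ * x)
    exact ⟨y, by rw [hdd, hy, mul_inv_cancel_left₀ hab]⟩
  refine ⟨?_, ?_, ?_, ?_⟩
  · ext v
    rw [← h.fix_tor h2 t hc0 hc1, ← h'.fix_tor h2 0 hc0' hc1', e0]
  · ext v
    constructor
    · rintro ⟨x, rfl⟩
      obtain ⟨x', hx'⟩ := hbij.2 (a⁻¹ * (x * b⁻¹))
      refine ⟨x', ?_⟩
      rw [he, hx', mul_inv_cancel_left₀ ha, inv_mul_cancel_right₀ hb]
    · rintro ⟨x, rfl⟩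
      exact ⟨_, (he x).symm⟩
  · ext v
    constructor
    · rintro ⟨x, rfl⟩
      exact hdr x
    · rintro ⟨x, rfl⟩
      exact ⟨_, (hdd x).symm⟩
  · ext v
    rw [← h.comm_tor h2 t hc0 hc1, ← h'.comm_tor h2 0 hc0' hc1', e0]
    constructor
    · rintro ⟨w, s, rfl⟩
      obtain ⟨l, hl⟩ := hdr s
      exact ⟨w, l, by rw [hl]⟩
    · rintro ⟨w, s, rfl⟩
      exact ⟨w, _, by rw [hdd]⟩

end two

section conj

variable {F : Type w} [Field F] {e f d : F →+ V} {C : AddSubgroup V} {up lo : F → X}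

/-- a conjugate of a block -/
theorem BkD.conj (h : BkD e f d C up lo) (g : X) :
    BkD ((DistribSMul.toAddMonoidHom V g).comp e) ((DistribSMul.toAddMonoidHom V g).comp f)
      ((DistribSMul.toAddMonoidHom V g).comp d)
      (C.map (DistribSMul.toAddMonoidHom V g)) (fun t => g * up t * g⁻¹) (fun t => g * lo t * g⁻¹) where
  dec := by
    intro v
    obtain ⟨x, y, c, hc, e1⟩ := h.dec (g⁻¹ • v)
    refine ⟨x, y, g • c, ⟨c, hc, rfl⟩, ?_⟩
    change v = g • e x + g • f y + g • c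
    rw [← smul_add, ← smul_add, ← e1, smul_inv_smul]
  ind := by
    rintro x y ⟨c, hc, e1⟩
    have e2 : g • c = g • (e x + f y) := by
      rw [smul_add]; exact e1
    rw [smul_left_cancel_iff] at e2
    exact h.ind x y (e2 ▸ hc)
  dC := fun x => ⟨d x, h.dC x, rfl⟩
  up_e := fun t x => by
    change (g * up t * g⁻¹) • g • e x = g • e x
    rw [mul_smul, inv_smul_smul, mul_smul, h.up_e]
  up_f := fun t x => by
    change (g * up t * g⁻¹) • g • f x = g • f x + g • e (t * x) + g • d (t * x ^ 2)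
    rw [mul_smul, inv_smul_smul, mul_smul, h.up_f, smul_add, smul_add]
  up_c := by
    rintro t _ ⟨c, hc, rfl⟩
    change (g * up t * g⁻¹) • g • c = g • c
    rw [mul_smul, inv_smul_smul, mul_smul, h.up_c t c hc]
  lo_e := fun t x => by
    change (g * lo t * g⁻¹) • g • e x = g • e x + g • f (t * x) + g • d (t * x ^ 2)
    rw [mul_smul, inv_smul_smul, mul_smul, h.lo_e, smul_add, smul_add]
  lo_f := fun t x => by
    change (g * lo t * g⁻¹) • g • f x = g • f x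
    rw [mul_smul, inv_smul_smul, mul_smul, h.lo_f]
  lo_c := by
    rintro t _ ⟨c, hc, rfl⟩
    change (g * lo t * g⁻¹) • g • c = g • c
    rw [mul_smul, inv_smul_smul, mul_smul, h.lo_c t c hc]

/-- **An element which normalises the root group and moves `D` inside `C` normalises `C`, `l`, `D` and `M`.** -/
theorem BkD.inv [Finite F] [Finite V] [Finite X] (h : BkD e f d C up lo) (h2 : ∀ v : V, v + v = 0)
    (hf : ∀ x : X, (∀ v : V, x • v = v) → x = 1) (hno : NO X V) (hd : ∃ x, d x ≠ 0) (h4 : 2 < Nat.card F) {g : X}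
    (hg : MulAut.conj g • rt up = rt up) (hd' : ∀ x, g • d x ∈ C) (hd1 : ∀ x, g⁻¹ • d x ∈ C) :
    C.map (DistribSMul.toAddMonoidHom V g) = C ∧ e.range.map (DistribSMul.toAddMonoidHom V g) = e.range ∧
      d.range.map (DistribSMul.toAddMonoidHom V g) = d.range ∧
      (e.range ⊔ f.range ⊔ d.range).map (DistribSMul.toAddMonoidHom V g) = e.range ⊔ f.range ⊔ d.range := by
  obtain ⟨h1, h5, h6, h7⟩ := h.eq (h.conj g) h2 hf hno hd h4 (by rw [TypesEq.rt_conj, hg]) hd' fun x =>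
    ⟨g⁻¹ • d x, hd1 x, smul_inv_smul g _⟩
  refine ⟨h1.symm, ?_, ?_, ?_⟩
  · rw [← AddMonoidHom.range_comp]; exact h5.symm
  · rw [← AddMonoidHom.range_comp]; exact h6.symm
  · rw [AddSubgroup.map_sup, AddSubgroup.map_sup, h7, AddMonoidHom.range_comp, AddMonoidHom.range_comp,
      AddMonoidHom.range_comp]

end conj

end Cfsg.Agent.Omega.NOThreeL.RRed.Blk.GamD
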