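import Cfsg.Agent.Omega.NOThreeL.RRed.Blk.TypesEq

/-!
# NO-3L, box R: THEOREM TYPES (helper797, #24779), (T4) for `|F| ≥ 8`: `E = ⟨up, lo⟩` depends only on the root group

* `clo up lo` = the group generated by the root elements (`SL₂(F)`).
* **`Bk.clo_eq`** : two blocks with the same root group, `4 < |F|`: `clo up lo = clo up' lo'`.
* **`Bk.clo_inv`** : an element which normalises the root group normalises `clo up lo`.

For `|F| = 4` this is false: the group `⟨E, E'⟩` may be `A₆` or `A₇` on `N` (order `2⁴`).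
-/

set_option autoImplicit false
set_option linter.unusedSectionVars false

namespace Cfsg.Agent.Omega.NOThreeL.RRed.Blk.TypesClo

open Cfsg.Agent.Omega.NOThreeL.RRed.NS (fxd mem_fxd)
open Cfsg.Agent.Omega.NOThreeL.RRed.Blk.TypesGam
open Cfsg.Agent.Omega.NOThreeL.RRed.Blk.TypesEq
open scoped Pointwise

universe u v w w'

/-- the group generated by the root elements -/
def clo {X : Type u} [Group X] {F : Type w} (up lo : F → X) : Subgroup X :=
  Subgroup.closure (Set.range up ∪ Set.range lo)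

theorem up_mem_clo {X : Type u} [Group X] {F : Type w} (up lo : F → X) (t : F) : up t ∈ clo up lo :=
  Subgroup.subset_closure (Or.inl ⟨t, rfl⟩)

theorem lo_mem_clo {X : Type u} [Group X] {F : Type w} (up lo : F → X) (t : F) : lo t ∈ clo up lo :=
  Subgroup.subset_closure (Or.inr ⟨t, rfl⟩)

/-- The field computation: an additive `γ` with `γ (c⁻¹ z) = c γ z + z γ c` vanishes if `|F| > 4`. -/
theorem cocycle {F : Type w} [Field F] [Finite F] (two : ∀ x : F, x + x = 0) (h8 : 4 < Nat.card F) {γ : F → F}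
    (hadd : ∀ x y, γ (x + y) = γ x + γ y) (hγ : ∀ c z, c ≠ 0 → γ (c⁻¹ * z) = c * γ z + z * γ c) (z : F) : γ z = 0 := by
  have h0 : γ 0 = 0 := by
    have := hadd 0 0
    rw [add_zero] at this
    exact left_eq_add.1 this
  have h1 : γ 1 = 0 := by
    have := hγ 1 1 one_ne_zero
    rw [inv_one, one_mul, one_mul] at this
    rw [two] at this
    exact this
  have hi : ∀ c, c ≠ 0 → γ c⁻¹ = γ c := by
    intro c hc
    have := hγ c 1 hc
    rw [mul_one, one_mul, h1, mul_zero, zero_add] at this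
    exact this
  -- `γ (c z) = c⁻¹ γ z + z γ c`
  have k1 : ∀ c z, c ≠ 0 → γ (c * z) = c⁻¹ * γ z + z * γ c := by
    intro c z hc
    have := hγ c⁻¹ z (inv_ne_zero hc)
    rw [inv_inv, hi c hc] at this
    exact this
  have k2 : ∀ c z, c ≠ 0 → z ≠ 0 → (c + c⁻¹) * γ z = (z + z⁻¹) * γ c := by
    intro c z hc hz
    have e1 := k1 c z hc
    have e2 := k1 z c hz
    rw [mul_comm z c] at e2
    have e3 : c⁻¹ * γ z + z * γ c = z⁻¹ * γ c + c * γ z := by rw [← e1, e2]
    have e4 : (c + c⁻¹) * γ z = c⁻¹ * γ z + z * γ c + z * γ c + c * γ z := by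
      rw [add_mul, add_assoc (c⁻¹ * γ z), two, add_zero]; ring
    rw [e4, e3]
    have e5 : z⁻¹ * γ c + c * γ z + z * γ c + c * γ z = (z + z⁻¹) * γ c + (c * γ z + c * γ z) := by ring
    rw [e5, two, add_zero]
  -- an element outside `0, 1` and the roots of `z² + z + 1`
  have k3 : ∃ c : F, c ≠ 0 ∧ c ≠ 1 ∧ c * c + c + 1 ≠ 0 := by
    by_contra hcon
    push Not at hcon
    let p : Polynomial F := Polynomial.X ^ 2 + Polynomial.X + 1
    have hp : p.natDegree = 2 := by
      have : p.Monic ∧ p.natDegree = 2 := by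
        constructor
        · change (Polynomial.X ^ 2 + Polynomial.X + 1 : Polynomial F).Monic
          monicity!
        · change (Polynomial.X ^ 2 + Polynomial.X + 1 : Polynomial F).natDegree = 2
          compute_degree!
      exact this.2
    have hp0 : p ≠ 0 := by
      intro h
      rw [h, Polynomial.natDegree_zero] at hp
      omega
    classical
    have h3 : (Set.univ : Set F) ⊆ ({0, 1} : Set F) ∪ (p.roots.toFinset : Set F) := by
      intro x _
      by_cases hx : x = 0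
      · exact Or.inl (Or.inl hx)
      by_cases hx1 : x = 1
      · exact Or.inl (Or.inr hx1)
      refine Or.inr ?_
      rw [Finset.mem_coe, Multiset.mem_toFinset, Polynomial.mem_roots hp0, Polynomial.IsRoot.def]
      have := hcon x hx hx1
      change (Polynomial.X ^ 2 + Polynomial.X + 1 : Polynomial F).eval x = 0
      simp only [Polynomial.eval_add, Polynomial.eval_pow, Polynomial.eval_X, Polynomial.eval_one]
      rw [pow_two]; exact this
    have h4 : Nat.card F ≤ 4 := by
      calc Nat.card F = Set.ncard (Set.univ : Set F) := (Set.ncard_univ F).symm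
        _ ≤ Set.ncard (({0, 1} : Set F) ∪ (p.roots.toFinset : Set F)) := Set.ncard_le_ncard h3
        _ ≤ Set.ncard ({0, 1} : Set F) + Set.ncard (p.roots.toFinset : Set F) := Set.ncard_union_le _ _
        _ ≤ 2 + 2 := by
          refine Nat.add_le_add ?_ ?_
          · have := Set.ncard_insert_le (0 : F) {1}
            rwa [Set.ncard_singleton] at this
          · rw [Set.ncard_coe_finset]
            exact (Multiset.toFinset_card_le _).trans ((Polynomial.card_roots' p).trans hp.le)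
    omega
  obtain ⟨c, hc0, hc1, hc2⟩ := k3
  have k4 : c + 1 ≠ 0 := by
    intro h
    apply hc1
    have : c + 1 = 1 + 1 := by rw [h, two]
    exact add_right_cancel this
  have k5 : c + c⁻¹ ≠ 0 := by
    intro h
    have e1 : (c + 1) * (c + 1) = c * (c + c⁻¹) + (c + c) := by
      field_simp
      ring
    rw [h, mul_zero, zero_add, two] at e1
    exact k4 (mul_self_eq_zero.1 e1)
  -- `γ c = 0`
  have k6 : γ c = 0 := by
    by_contra hn
    have e1 := k2 c (c + 1) hc0 k4
    rw [hadd, h1, add_zero] at e1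
    have e2 := mul_right_cancel₀ hn e1
    apply hc2
    have e3 : c * (c + 1) * (c + c⁻¹) = c * (c + 1) * (c + 1 + (c + 1)⁻¹) := by rw [e2]
    have e4 : c * (c + 1) * (c + c⁻¹) = (c + 1) * (c * c + 1) := by field_simp
    have e5 : c * (c + 1) * (c + 1 + (c + 1)⁻¹) = c * ((c + 1) * (c + 1) + 1) := by field_simp
    rw [e4, e5] at e3
    have e6 : (c + 1) * (c * c + 1) = c * ((c + 1) * (c + 1) + 1) + (c * c + c + 1) - (c * c + c * c) - (c + c) := by
      ring
    rw [e6, two, two, sub_zero, sub_zero] at e3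
    exact (add_eq_left.1 e3)
  by_cases hz : z = 0
  · rw [hz, h0]
  · have e1 := k2 c z hc0 hz
    rw [k6, mul_zero] at e1
    exact (mul_eq_zero.1 e1).resolve_left k5

variable {X : Type u} {V : Type v} [Group X] [AddCommGroup V] [DistribMulAction X V]
variable {F : Type w} [Field F] {e f : F →+ V} {C : AddSubgroup V} {up lo : F → X}
variable {F' : Type w'} [Field F'] {e' f' : F' →+ V} {C' : AddSubgroup V} {up' lo' : F' → X}
variable [Finite F] [Finite V] [Finite X]

theorem _root_.Cfsg.Agent.Omega.NOThreeL.RRed.Blk.TypesGam.Bk.clo_le (h : Bk e f C up lo) (h' : Bk e' f' C' up' lo')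
    (h2 : ∀ v : V, v + v = 0) (hf : ∀ x : X, (∀ v : V, x • v = v) → x = 1) (hno : NO X V) (h8 : 4 < Nat.card F)
    (hrt : rt up = rt up') : clo up' lo' ≤ clo up lo := by
  obtain ⟨hC, -, hN⟩ := h.eq h' h2 hf hno h8.le hrt
  obtain ⟨θ, a, b, ha, hb, hbij, hup, he, hff⟩ := exists_cmp h h' h2 hf hrt
  have two := h.two h2
  -- `f' y = e (α y) + f (θ y b)`
  have k1 : ∀ y, ∃ x, f' y = e x + f (θ y * b) := by
    intro y
    obtain ⟨x, c, hc, e1⟩ := hff y
    refine ⟨x, ?_⟩
    have e2 : f' y ∈ e.range ⊔ f.range := by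
      rw [hN]; exact AddSubgroup.mem_sup_right ⟨y, rfl⟩
    obtain ⟨_, ⟨x1, rfl⟩, _, ⟨y1, rfl⟩, e3⟩ := AddSubgroup.mem_sup.1 e2
    have e4 : e x + f (θ y * b) + c = e x1 + f y1 + 0 := by rw [← e1, ← e3, add_zero]
    have e5 := (h.uniq hc C.zero_mem e4).2.2
    rw [e1, e5, add_zero]
  choose α hα using k1
  have αadd : ∀ x y, α (x + y) = α x + α y := by
    intro x y
    have e1 : e (α (x + y)) + f (θ (x + y) * b) + 0 = e (α x + α y) + f (θ x * b + θ y * b) + 0 := by
      rw [← hα, map_add f', hα x, hα y, map_add e, map_add f]; abel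
    exact (h.uniq C.zero_mem C.zero_mem e1).1
  -- the torus
  have k2 : ∀ c : F', c ≠ 0 → ∃ t, ∀ y, α (c⁻¹ * y) = θ c * α y + t * ((θ c)⁻¹ * (θ y * b)) := by
    intro c hc
    obtain ⟨t, ht⟩ := exists_tor h h' h2 hf hno h8.le hrt ha hb hbij he hff hc
    refine ⟨t, fun y => ?_⟩
    have hθ : θ c ≠ 0 := (map_ne_zero θ).2 hc
    have e1 := h'.hh_f h2 hc y
    rw [ht, hα, hα] at e1
    have e2 := h.tor_v h2 t hθ (α y) (θ y * b) C.zero_mem
    rw [add_zero, e1] at e2
    have e3 : e (α (c⁻¹ * y)) + f (θ (c⁻¹ * y) * b) + 0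
        = e (θ c * α y + t * ((θ c)⁻¹ * (θ y * b))) + f ((θ c)⁻¹ * (θ y * b)) + 0 := by
      rw [add_zero]; exact e2
    exact (h.uniq C.zero_mem C.zero_mem e3).1
  let φ := Equiv.ofBijective θ hbij
  have hφ : ∀ x, θ (φ.symm x) = x := fun x => φ.apply_symm_apply x
  have hφ' : ∀ x y, φ.symm (x + y) = φ.symm x + φ.symm y := by
    intro x y
    apply hbij.1
    rw [hφ, map_add θ, hφ, hφ]
  have hφm : ∀ x y, φ.symm (x * y) = φ.symm x * φ.symm y := by
    intro x y
    apply hbij.1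
    rw [hφ, map_mul θ, hφ, hφ]
  have hφi : ∀ x, φ.symm x⁻¹ = (φ.symm x)⁻¹ := by
    intro x
    apply hbij.1
    rw [hφ, map_inv₀ θ, hφ]
  have hφ1 : φ.symm 1 = 1 := by
    apply hbij.1
    rw [hφ, map_one θ]
  -- `γ z = β z + β 1 z`
  have k3 : ∀ z, α (φ.symm z) + α 1 * z = 0 := by
    refine cocycle two h8 (γ := fun z => α (φ.symm z) + α 1 * z) (fun x y => ?_) fun c z hc => ?_
    · rw [hφ', αadd]; ring
    · have hc' : φ.symm c ≠ 0 := by
        intro h0
        apply hc
        rw [← hφ c, h0, map_zero]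
      obtain ⟨t, ht⟩ := k2 (φ.symm c) hc'
      have e1 := ht (φ.symm z)
      have e2 := ht (φ.symm c)
      rw [hφ, hφ] at e1
      rw [inv_mul_cancel₀ hc', hφ, inv_mul_cancel_left₀ hc] at e2
      -- `t b = α 1 + c β c`
      have e3 : t * b = α 1 + c * α (φ.symm c) := by
        rw [e2]
        have : c * α (φ.symm c) + t * b + c * α (φ.symm c) = t * b + (c * α (φ.symm c) + c * α (φ.symm c)) := by ring
        rw [this, two, add_zero]
      have e4 : t * (c⁻¹ * (z * b)) = c⁻¹ * z * (t * b) := by ring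
      rw [hφm, hφi, e1, e4, e3]
      have e5 : c * α (φ.symm z) + c⁻¹ * z * (α 1 + c * α (φ.symm c)) + α 1 * (c⁻¹ * z)
          = c * α (φ.symm z) + (c⁻¹ * c) * (z * α (φ.symm c)) + (c⁻¹ * z * α 1 + c⁻¹ * z * α 1) := by ring
      have e6 : c * (α (φ.symm z) + α 1 * z) + z * (α (φ.symm c) + α 1 * c)
          = c * α (φ.symm z) + z * α (φ.symm c) + (c * z * α 1 + c * z * α 1) := by ring
      rw [e5, e6, two, two, inv_mul_cancel₀ hc, one_mul]
  have k4 : ∀ y, α y = α 1 * θ y := by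
    intro y
    have e1 := k3 (θ y)
    have e2 : φ.symm (θ y) = y := φ.symm_apply_apply y
    rw [e2] at e1
    have e3 : α y + α 1 * θ y = α 1 * θ y + α 1 * θ y := by rw [e1, two]
    exact add_right_cancel e3
  -- `lo' t = up s * lo r * (up s)⁻¹`
  have k5 : ∀ y, f' y = up (α 1 * b⁻¹) • f (θ y * b) := by
    intro y
    rw [h.up_f, hα, k4]
    have : α 1 * b⁻¹ * (θ y * b) = α 1 * θ y := by
      field_simp
    rw [this]; abel
  have k6 : ∀ t, lo' t = up (α 1 * b⁻¹) * lo (a⁻¹ * θ t) * (up (α 1 * b⁻¹))⁻¹ := by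
    intro t
    refine h'.ext hf (fun x => ?_) (fun y => ?_) fun c hc => ?_
    · have e1 : (up (α 1 * b⁻¹))⁻¹ • e (a * θ x * b) = e (a * θ x * b) := by
        rw [inv_smul_eq_iff, h.up_e]
      rw [h'.lo_e, mul_smul, mul_smul, he, e1, h.lo_e, smul_add, h.up_e, k5, map_mul θ]
      congr 3
      field_simp
    · rw [h'.lo_f, k5, mul_smul, mul_smul, inv_smul_smul, h.lo_f]
    · have hc' : c ∈ C := hC ▸ hc
      have e1 : (up (α 1 * b⁻¹))⁻¹ • c = c := by
        rw [inv_smul_eq_iff, h.up_c _ c hc']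
      rw [h'.lo_c _ c hc, mul_smul, mul_smul, e1, h.lo_c _ c hc', h.up_c _ c hc']
  refine (Subgroup.closure_le _).2 ?_
  rintro x (⟨t, rfl⟩ | ⟨t, rfl⟩)
  · rw [← hup]; exact up_mem_clo up lo _
  · rw [k6]
    exact mul_mem (mul_mem (up_mem_clo up lo _) (lo_mem_clo up lo _)) (inv_mem (up_mem_clo up lo _))

/-- **(T4), `|F| ≥ 8`.** `E` depends only on the root group. -/
theorem _root_.Cfsg.Agent.Omega.NOThreeL.RRed.Blk.TypesGam.Bk.clo_eq (h : Bk e f C up lo) (h' : Bk e' f' C' up' lo')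
    (h2 : ∀ v : V, v + v = 0) (hf : ∀ x : X, (∀ v : V, x • v = v) → x = 1) (hno : NO X V) (h8 : 4 < Nat.card F)
    (hrt : rt up = rt up') : clo up lo = clo up' lo' := by
  obtain ⟨θ, a, b, ha, hb, hbij, -⟩ := exists_cmp h h' h2 hf hrt
  have : Finite F' := Finite.of_injective θ hbij.1
  have hc : Nat.card F' = Nat.card F := Nat.card_congr (Equiv.ofBijective θ hbij)
  exact le_antisymm (h'.clo_le h h2 hf hno (hc ▸ h8) hrt.symm) (h.clo_le h' h2 hf hno h8 hrt)

theorem clo_conj (up lo : F → X) (g : X) :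
    clo (fun t => g * up t * g⁻¹) (fun t => g * lo t * g⁻¹) = MulAut.conj g • clo up lo := by
  rw [clo, clo, Subgroup.smul_closure, Set.smul_set_union]
  congr 2
  · ext x
    constructor
    · rintro ⟨t, rfl⟩
      exact ⟨up t, ⟨t, rfl⟩, rfl⟩
    · rintro ⟨_, ⟨t, rfl⟩, rfl⟩
      exact ⟨t, rfl⟩
  · ext x
    constructor
    · rintro ⟨t, rfl⟩
      exact ⟨lo t, ⟨t, rfl⟩, rfl⟩
    · rintro ⟨_, ⟨t, rfl⟩, rfl⟩
      exact ⟨t, rfl⟩

/-- **`|F| ≥ 8`: an element which normalises the root group normalises `E`.** -/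
theorem _root_.Cfsg.Agent.Omega.NOThreeL.RRed.Blk.TypesGam.Bk.clo_inv (h : Bk e f C up lo)
    (h2 : ∀ v : V, v + v = 0) (hf : ∀ x : X, (∀ v : V, x • v = v) → x = 1) (hno : NO X V) (h8 : 4 < Nat.card F)
    {g : X} (hg : MulAut.conj g • rt up = rt up) : MulAut.conj g • clo up lo = clo up lo := by
  rw [← clo_conj]
  exact (h.clo_eq (h.conj g) h2 hf hno h8 (by rw [rt_conj, hg])).symm

end Cfsg.Agent.Omega.NOThreeL.RRed.Blk.TypesClo
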