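import Cfsg.Agent.Omega.NOThreeL.RRed.Blk.TypesAbs
import Cfsg.Agent.Omega.NOThreeL.RRed.Blk.TypesClo

/-!
# NO-3L, box R: THEOREM TYPES (#24779), (T3) for a natural block (`Bk`) and an arbitrary group `K'`

`Bk e f C up lo` a natural block over `F`, `|F| ≥ 4`, `V = N ⊕ C`, `N = e(F) ⊕ f(F)`, `A = rt up`, `E = clo up lo`.

* `sit`, `Bk.dt` : the data of `TypesAbs`;
* `Bk.fxd_clo` : `C_V(E) = C`; `Bk.brk_rt` : `[V, A] = e(F)`; `Bk.brk_clo` : `[V, E] = N`;
* `Bk.cent_clo` : `B` exact, quadratic, commutes with `A`, centralises `N`: `E` commutes with `B` and centralises `[V, B]`;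
* **`Bk.away`** : `K'` generated by the `K'`-conjugates of exact quadratic groups `B ∈ GG` which commute with `A` and
  centralise `N`; `A` centralises `[V, K']`; `[V, K'] ∩ C_V(K') = 0`. Then `[V, K'] ≤ C` and `K'` centralises `N`;
* `Bk.away_comm` : moreover `E` and `K'` commute.
-/

set_option autoImplicit false
set_option linter.unusedSectionVars false

namespace Cfsg.Agent.Omega.NOThreeL.RRed.Blk.Types

open Subgroup
open scoped Pointwise
open Cfsg.Agent.Omega.NOThreeL.RRed.NS (fxd brk mem_fxd)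
open Cfsg.Agent.Omega.NOThreeL.RRed.Blk.TypesGam (NO Bk rt up_mem hh wt)
open Cfsg.Agent.Omega.NOThreeL.RRed.Blk.TypesClo (clo up_mem_clo lo_mem_clo)

universe u v w w'

section pure

variable {H : Type u} {M : Type v} [Group H] [AddCommGroup M] [DistribMulAction H M]

theorem card_fxd_cj (x : H) (A : Subgroup H) :
    Nat.card (fxd (MulAut.conj x • A) : AddSubgroup M) = Nat.card (fxd A : AddSubgroup M) := by
  refine Nat.card_congr ⟨fun m => ⟨x⁻¹ • m.1, (fxd_cj x A).1 m.2⟩, fun m => ⟨x • m.1, (fxd_cj x A).2 ?_⟩, fun m => ?_,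
    fun m => ?_⟩
  · rw [inv_smul_smul]; exact m.2
  · exact Subtype.ext (smul_inv_smul _ _)
  · exact Subtype.ext (inv_smul_smul _ _)

theorem brk_mono {A B : Subgroup H} (h : A ≤ B) : brk M A ≤ brk M B := brk_le fun _ ha m => sub_mem_brk (h ha) m

theorem fxd_anti {A B : Subgroup H} (h : A ≤ B) : (fxd B : AddSubgroup M) ≤ fxd A := fun _ hm =>
  mem_fxd.2 fun a ha => mem_fxd.1 hm a (h ha)

/-- exact: `|M : C_M(B)| ≤ |B|` -/
theorem ex_of [Finite M] {B : Subgroup H} (h : (fxd B : AddSubgroup M).index ≤ Nat.card B) :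
    Nat.card M ≤ Nat.card B * Nat.card (fxd B : AddSubgroup M) := by
  rw [← (fxd B : AddSubgroup M).card_mul_index, mul_comm]
  exact Nat.mul_le_mul_right _ h

end pure

variable {X : Type u} {V : Type v} [Group X] [AddCommGroup V] [DistribMulAction X V]

theorem sit [Finite V] (h2 : ∀ v : V, v + v = 0) (hf : ∀ x : X, (∀ v : V, x • v = v) → x = 1) (hno : NO X V) :
    Sit V (⊤ : Subgroup X) where
  faith := fun x _ => hf x
  ch := h2
  no := fun F _ hsq hcm => by
    have h1 := hno F hcm hsq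
    rw [← (fxd F : AddSubgroup V).card_mul_index, mul_comm]
    exact Nat.mul_le_mul_left _ h1

variable {F : Type w} [Field F] {e f : F →+ V} {C : AddSubgroup V} {up lo : F → X}

/-- `[V, A] = e(F)` -/
theorem Bk.brk_rt (h : Bk e f C up lo) (h2 : ∀ v : V, v + v = 0) (hf : ∀ x : X, (∀ v : V, x • v = v) → x = 1) :
    brk V (rt up) = e.range := by
  apply le_antisymm
  · apply brk_le
    intro a ha m
    obtain ⟨t, rfl⟩ := (h.mem_rt h2 hf).1 ha
    obtain ⟨x, y, c, hc, rfl⟩ := h.dec m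
    rw [smul_add, smul_add, h.up_e, h.up_f, h.up_c t c hc]
    exact ⟨t * y, by abel⟩
  · rintro _ ⟨x, rfl⟩
    have h1 := sub_mem_brk (M := V) (up_mem (up := up) x) (f 1)
    rw [h.up_f, mul_one] at h1
    have e1 : f 1 + e x - f 1 = e x := by abel
    rwa [e1] at h1

/-- `C_V(E) = C` -/
theorem Bk.fxd_clo (h : Bk e f C up lo) : (fxd (clo up lo) : AddSubgroup V) = C := by
  apply le_antisymm
  · intro m hm
    rw [mem_fxd] at hm
    obtain ⟨x, y, c, hc, rfl⟩ := h.dec m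
    have h1 := hm _ (up_mem_clo up lo 1)
    have h3 := hm _ (lo_mem_clo up lo 1)
    rw [smul_add, smul_add, h.up_e, h.up_f, h.up_c 1 c hc, one_mul] at h1
    rw [smul_add, smul_add, h.lo_e, h.lo_f, h.lo_c 1 c hc, one_mul] at h3
    have e1 : e (x + y) + f y + c = e x + f y + c := by
      rw [map_add, ← h1]; abel
    have e2 : e x + f (x + y) + c = e x + f y + c := by
      rw [map_add, ← h3]; abel
    have e3 := (h.uniq hc hc e1).1
    have e4 := (h.uniq hc hc e2).2.1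
    have hy : y = 0 := by simpa using e3
    have hx : x = 0 := by simpa using e4
    rw [hx, hy, map_zero, map_zero, zero_add, zero_add]
    exact hc
  · intro c hc
    rw [mem_fxd]
    intro g hg
    have h1 : clo up lo ≤ MulAction.stabilizer X c := by
      rw [clo, closure_le]
      rintro _ (⟨t, rfl⟩ | ⟨t, rfl⟩)
      · exact MulAction.mem_stabilizer_iff.2 (h.up_c t c hc)
      · exact MulAction.mem_stabilizer_iff.2 (h.lo_c t c hc)
    exact MulAction.mem_stabilizer_iff.1 (h1 hg)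

/-- `[V, E] ≤ N` -/
theorem Bk.brk_clo (h : Bk e f C up lo) : brk V (clo up lo) ≤ e.range ⊔ f.range := by
  apply brk_le
  intro g hg
  have key : ∀ x y : F, ∀ t : F, up t • (e x + f y) ∈ e.range ⊔ f.range ∧ lo t • (e x + f y) ∈ e.range ⊔ f.range := by
    intro x y t
    constructor
    · rw [smul_add, h.up_e, h.up_f]
      have e1 : e x + (f y + e (t * y)) = e (x + t * y) + f y := by rw [map_add]; abel
      rw [e1]
      exact AddSubgroup.add_mem_sup ⟨_, rfl⟩ ⟨_, rfl⟩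
    · rw [smul_add, h.lo_e, h.lo_f]
      have e1 : e x + f (t * x) + f y = e x + f (t * x + y) := by rw [map_add]; abel
      rw [e1]
      exact AddSubgroup.add_mem_sup ⟨_, rfl⟩ ⟨_, rfl⟩
  -- `E` maps `N` into itself and is trivial modulo `N`
  have h1 : ∀ g ∈ clo up lo, ∀ m : V, g • m - m ∈ e.range ⊔ f.range := by
    intro g hg
    unfold clo at hg
    induction hg using Subgroup.closure_induction with
    | mem g hg =>
      intro m
      obtain ⟨x, y, c, hc, rfl⟩ := h.dec m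
      rcases hg with ⟨t, rfl⟩ | ⟨t, rfl⟩
      · rw [smul_add, h.up_c t c hc]
        have e1 : up t • (e x + f y) + c - (e x + f y + c) = up t • (e x + f y) - (e x + f y) := by abel
        rw [e1]
        exact sub_mem (key x y t).1 (AddSubgroup.add_mem_sup ⟨_, rfl⟩ ⟨_, rfl⟩)
      · rw [smul_add, h.lo_c t c hc]
        have e1 : lo t • (e x + f y) + c - (e x + f y + c) = lo t • (e x + f y) - (e x + f y) := by abel
        rw [e1]
        exact sub_mem (key x y t).2 (AddSubgroup.add_mem_sup ⟨_, rfl⟩ ⟨_, rfl⟩)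
    | one => intro m; rw [one_smul, sub_self]; exact zero_mem _
    | mul a b _ _ ha hb =>
      intro m
      have e1 : (a * b) • m - m = (a • (b • m) - b • m) + (b • m - m) := by rw [mul_smul]; abel
      rw [e1]; exact add_mem (ha _) (hb _)
    | inv a _ ha =>
      intro m
      have e1 : a⁻¹ • m - m = -(a • (a⁻¹ • m) - a⁻¹ • m) := by rw [smul_inv_smul]; abel
      rw [e1]; exact neg_mem (ha _)
  exact h1 g hg

theorem Bk.el (h : Bk e f C up lo) (h2 : ∀ v : V, v + v = 0) (hf : ∀ x : X, (∀ v : V, x • v = v) → x = 1) :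
    El (rt up) where
  sq := by
    intro x hx
    obtain ⟨t, rfl⟩ := (h.mem_rt h2 hf).1 hx
    have h1 := h.up_inv h2 hf t
    calc up t * up t = up t * (up t)⁻¹ := by rw [h1]
      _ = 1 := mul_inv_cancel _
  cm := by
    intro x hx y hy
    obtain ⟨s, rfl⟩ := (h.mem_rt h2 hf).1 hx
    obtain ⟨t, rfl⟩ := (h.mem_rt h2 hf).1 hy
    rw [h.up_add hf, h.up_add hf, add_comm]

theorem Bk.exact [Finite F] [Finite V] (h : Bk e f C up lo) (h2 : ∀ v : V, v + v = 0)
    (hf : ∀ x : X, (∀ v : V, x • v = v) → x = 1) :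
    Nat.card V ≤ Nat.card (rt up) * Nat.card (fxd (rt up) : AddSubgroup V) := by
  rw [h.card_rt h2 hf]
  have h1 : Function.Surjective (fun p : F × (fxd (rt up) : AddSubgroup V) => f p.1 + (p.2 : V)) := by
    intro v
    obtain ⟨x, y, c, hc, rfl⟩ := h.dec v
    have h3 : e x + c ∈ (fxd (rt up) : AddSubgroup V) := (TypesGam.Bk.mem_fxd_rt h).2 ⟨x, c, hc, rfl⟩
    exact ⟨(y, ⟨e x + c, h3⟩), by show f y + (e x + c) = _; abel⟩
  have h3 := Nat.card_le_card_of_surjective _ h1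
  rwa [Nat.card_prod] at h3

/-- the torus conjugates of the root elements -/
theorem Bk.hh_conj (h : Bk e f C up lo) (h2 : ∀ v : V, v + v = 0) (hf : ∀ x : X, (∀ v : V, x • v = v) → x = 1)
    {c : F} (hc : c ≠ 0) (t : F) : hh up lo c * up t * (hh up lo c)⁻¹ = up (c * c * t) := by
  refine h.ext hf (fun z => ?_) (fun z => ?_) fun d hd => ?_
  · rw [mul_smul, mul_smul, h.hhi_e h2 hc, h.up_e, h.hh_e h2 hc, h.up_e, mul_inv_cancel_left₀ hc]
  · rw [mul_smul, mul_smul, h.hhi_f h2 hc, h.up_f, smul_add, h.hh_f h2 hc, h.hh_e h2 hc, h.up_f,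
      inv_mul_cancel_left₀ hc]
    congr 2; ring
  · rw [mul_smul, mul_smul, h.hhi_c c hd, h.up_c t d hd, h.hh_c c hd, h.up_c _ d hd]

/-- the Weyl element conjugates `up` to `lo` -/
theorem Bk.wt_conj (h : Bk e f C up lo) (h2 : ∀ v : V, v + v = 0) (hf : ∀ x : X, (∀ v : V, x • v = v) → x = 1)
    (t : F) : wt up lo 1 * up t * (wt up lo 1)⁻¹ = lo t := by
  have h1 : wt up lo 1 * up t = lo t * wt up lo 1 := by
    refine h.ext hf (fun z => ?_) (fun z => ?_) fun d hd => ?_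
    · rw [mul_smul, mul_smul, h.up_e, h.wt_e h2 one_ne_zero, h.lo_f]
    · rw [mul_smul, mul_smul, h.up_f, smul_add, h.wt_f h2 one_ne_zero, h.wt_e h2 one_ne_zero, h.lo_e]
      rw [inv_one, one_mul, one_mul]
    · rw [mul_smul, mul_smul, h.up_c t d hd, h.wt_c 1 hd, h.lo_c t d hd]
  rw [h1]; group

/-- the data of (T3) -/
theorem Bk.dt [Finite F] [Finite V] [Finite X] (h : Bk e f C up lo) (h2 : ∀ v : V, v + v = 0)
    (hf : ∀ x : X, (∀ v : V, x • v = v) → x = 1) {c : F} (hc0 : c ≠ 0) (hc1 : c ≠ 1) :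
    Dt ⊤ (rt up) (e.range ⊔ f.range) C (hh up lo c) where
  DX := le_top
  el := Bk.el h h2 hf
  ex := Bk.exact h h2 hf
  qd := by
    rw [Bk.brk_rt h h2 hf]
    rintro _ ⟨x, rfl⟩
    exact (TypesGam.Bk.mem_fxd_rt h).2 ⟨x, 0, zero_mem _, (add_zero _).symm⟩
  fD := by
    intro m hm
    obtain ⟨x, c, hc, rfl⟩ := (TypesGam.Bk.mem_fxd_rt h).1 hm
    refine AddSubgroup.add_mem_sup ?_ hc
    rw [Bk.brk_rt h h2 hf]; exact ⟨x, rfl⟩
  CD := fun c hc => (TypesGam.Bk.mem_fxd_rt h).2 ⟨0, c, hc, by rw [map_zero, zero_add]⟩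
  RN := by rw [Bk.brk_rt h h2 hf]; exact le_sup_left
  τX := mem_top _
  τD := by
    refine Subgroup.eq_of_le_of_card_ge ?_ (card_cj _ _).ge
    intro x hx
    obtain ⟨t, ht⟩ := (h.mem_rt h2 hf).1 (mem_cj.1 hx)
    have e1 : x = hh up lo c * up t * (hh up lo c)⁻¹ := by rw [ht]; group
    rw [e1, Bk.hh_conj h h2 hf hc0]
    exact up_mem _
  τC := fun d hd => h.hh_c c hd
  τN := by
    intro n hn
    obtain ⟨_, ⟨x, rfl⟩, _, ⟨y, rfl⟩, rfl⟩ := AddSubgroup.mem_sup.1 hn
    rw [smul_add, h.hh_e h2 hc0, h.hh_f h2 hc0]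
    exact AddSubgroup.add_mem_sup ⟨_, rfl⟩ ⟨_, rfl⟩
  fp := by
    intro n hn he
    obtain ⟨_, ⟨x, rfl⟩, _, ⟨y, rfl⟩, rfl⟩ := AddSubgroup.mem_sup.1 hn
    rw [smul_add, h.hh_e h2 hc0, h.hh_f h2 hc0] at he
    have e1 : e (c * x) + f (c⁻¹ * y) + 0 = e x + f y + 0 := by rw [add_zero, add_zero]; exact he
    obtain ⟨h3, h4, -⟩ := h.uniq (zero_mem _) (zero_mem _) e1
    have hx : x = 0 := by
      have e5 : (c - 1) * x = 0 := by rw [sub_mul, h3, one_mul, sub_self]
      exact (mul_eq_zero.1 e5).resolve_left (sub_ne_zero.2 hc1)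
    have hy : y = 0 := by
      have e5 : y = c * y := by
        calc y = c * (c⁻¹ * y) := (mul_inv_cancel_left₀ hc0 y).symm
          _ = c * y := by rw [h4]
      have e6 : (c - 1) * y = 0 := by rw [sub_mul, one_mul, ← e5, sub_self]
      exact (mul_eq_zero.1 e6).resolve_left (sub_ne_zero.2 hc1)
    rw [hx, hy, map_zero, map_zero, add_zero]

/-- **(T1) for `E`** -/
theorem Bk.cent_clo [Finite F] [Finite V] [Finite X] (h : Bk e f C up lo) (h2 : ∀ v : V, v + v = 0)
    (hf : ∀ x : X, (∀ v : V, x • v = v) → x = 1) (hno : NO X V) {B : Subgroup X} (hB : El B)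
    (hBx : (fxd B : AddSubgroup V).index ≤ Nat.card B) (hBq : brk V B ≤ fxd B)
    (hBN : e.range ⊔ f.range ≤ (fxd B : AddSubgroup V)) (hc : ∀ a ∈ rt up, ∀ b ∈ B, a * b = b * a) :
    (∀ k ∈ clo up lo, ∀ d ∈ B, k * d = d * k) ∧ brk V B ≤ C := by
  have hw : wt up lo 1 ∈ clo up lo := by
    unfold wt
    exact mul_mem (mul_mem (up_mem_clo up lo _) (lo_mem_clo up lo _)) (up_mem_clo up lo _)
  have h1 := (sit h2 hf hno).cent (D := B) (K := clo up lo) le_top hB (ex_of hBx) hBq le_top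
    ((Bk.brk_clo h).trans hBN) (by
      conv_lhs => rw [clo]
      rw [closure_le]
      rintro _ (⟨t, rfl⟩ | ⟨t, rfl⟩)
      · exact subset_closure ⟨1, one_mem _, up t, fun d hd => hc _ (up_mem t) d hd, by group⟩
      · exact subset_closure ⟨wt up lo 1, hw, up t, fun d hd => hc _ (up_mem t) d hd, (Bk.wt_conj h h2 hf t).symm⟩)
  exact ⟨h1.1, h1.2.trans (Bk.fxd_clo h).le⟩

/-- `2 < |F|` gives a torus element -/
theorem exists_ne01 [Finite F] (h4 : 4 ≤ Nat.card F) : ∃ t : F, t ≠ 0 ∧ t ≠ 1 := by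
  by_contra hcon
  push Not at hcon
  have h1 : (Set.univ : Set F) ⊆ {0, 1} := by
    intro x _
    by_cases hx : x = 0
    · exact Or.inl hx
    · exact Or.inr (hcon x hx)
  have h2 := Set.ncard_le_ncard h1 (Set.toFinite _)
  rw [Set.ncard_univ] at h2
  have h3 : ({0, 1} : Set F).ncard ≤ 2 := (Set.ncard_insert_le _ _).trans (by rw [Set.ncard_singleton])
  omega

/-- **(T3)** -/
theorem Bk.away [Finite F] [Finite V] [Finite X] (h : Bk e f C up lo) (h2 : ∀ v : V, v + v = 0)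
    (hf : ∀ x : X, (∀ v : V, x • v = v) → x = 1) (hno : NO X V) (h4 : 4 ≤ Nat.card F) {K' : Subgroup X}
    (GG : Set (Subgroup X)) (hBK : ∀ B ∈ GG, B ≤ K') (hB : ∀ B ∈ GG, El B)
    (hBx : ∀ B ∈ GG, (fxd B : AddSubgroup V).index ≤ Nat.card B) (hBq : ∀ B ∈ GG, brk V B ≤ fxd B)
    (gen : K' ≤ closure {x | ∃ g ∈ K', ∃ B ∈ GG, ∃ b ∈ B, x = g * b * g⁻¹}) (a1 : brk V K' ≤ fxd (rt up))
    (a2 : ∀ B ∈ GG, ∀ a ∈ rt up, ∀ b ∈ B, a * b = b * a)
    (a3 : ∀ B ∈ GG, e.range ⊔ f.range ≤ (fxd B : AddSubgroup V)) (spl : brk V K' ⊓ fxd K' = ⊥) :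
    (∀ k ∈ K', ∀ a ∈ rt up, k * a = a * k) ∧ brk V K' ≤ C ∧ e.range ⊔ f.range ≤ (fxd K' : AddSubgroup V) := by
  classical
  obtain ⟨c, hc0, hc1⟩ := exists_ne01 (F := F) h4
  have S := sit h2 hf hno
  have T := Bk.dt h h2 hf hc0 hc1
  -- (T1) for `K'`
  have h1 := S.cent (D := rt up) (K := K') le_top T.el T.ex T.qd le_top a1 (gen.trans (by
    rw [closure_le]
    rintro _ ⟨g, hg, B, hBG, b, hb, rfl⟩
    exact subset_closure ⟨g, hg, b, fun d hd => (a2 B hBG d hd b hb).symm, rfl⟩))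
  -- the data for the conjugates of `B`
  have hBd : ∀ B ∈ GG, ∀ g ∈ K', Bd ⊤ (rt up) (MulAut.conj g • B) V := by
    intro B hBG g hg
    have hle : MulAut.conj g • B ≤ K' := by
      intro x hx
      have e1 : x = g * (g⁻¹ * x * g) * g⁻¹ := by group
      rw [e1]
      exact mul_mem (mul_mem hg (hBK B hBG (mem_cj.1 hx))) (inv_mem hg)
    refine ⟨le_top, (hB B hBG).cj g, ?_, ?_, ?_, ?_, ?_, ?_⟩
    · rw [card_cj, card_fxd_cj]
      exact ex_of (hBx B hBG)
    · intro m hm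
      exact (fxd_cj g B).2 (hBq B hBG (brk_cj hm))
    · exact fun d hd b hb => (h1.1 b (hle hb) d hd).symm
    · exact (brk_mono hle).trans a1
    · exact h1.2.trans (fxd_anti hle)
    · intro y hy hy'
      have h5 : y ∈ brk V K' ⊓ (fxd K' : AddSubgroup V) := AddSubgroup.mem_inf.2 ⟨brk_mono hle hy, h1.2 hy'⟩
      rw [spl] at h5
      exact AddSubgroup.mem_bot.1 h5
  -- `K'` normalises `C`
  have hkeep : ∀ k ∈ closure {x | ∃ g ∈ K', ∃ B ∈ GG, ∃ b ∈ B, x = g * b * g⁻¹}, ∀ c ∈ C, k • c ∈ C := by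
    intro k hk
    induction hk using Subgroup.closure_induction with
    | mem x hx =>
      obtain ⟨g, hg, B, hBG, b, hb, rfl⟩ := hx
      intro c hc
      refine T.keep S (hBd B hBG g hg) ?_ hc
      rw [mem_cj]; convert hb using 1; group
    | one => intro c hc; rw [one_smul]; exact hc
    | mul x y _ _ ihx ihy => intro c hc; rw [mul_smul]; exact ihx _ (ihy _ hc)
    | inv x _ ih =>
      intro c hc
      have hfin : Finite (C : Set V) := inferInstance
      have hinj : Function.Injective (fun z : C => (⟨x • z.1, ih _ z.2⟩ : C)) := by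
        intro z z' hz
        have e1 : x • z.1 = x • z'.1 := congrArg Subtype.val hz
        exact Subtype.ext (MulAction.injective x e1)
      obtain ⟨z, hz⟩ := (Finite.injective_iff_surjective.1 hinj) ⟨c, hc⟩
      have e1 : x • z.1 = c := congrArg Subtype.val hz
      rw [← e1, inv_smul_smul]; exact z.2
  -- `[V, K'] ≤ C`
  have hC : brk V K' ≤ C := by
    apply brk_le
    intro k hk
    have hk' := gen hk
    clear hk
    induction hk' using Subgroup.closure_induction with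
    | mem x hx =>
      obtain ⟨g, hg, B, hBG, b, hb, rfl⟩ := hx
      intro m
      have h5 := (Bk.cent_clo h h2 hf hno (hB B hBG) (hBx B hBG) (hBq B hBG) (a3 B hBG) (a2 B hBG)).2
        (sub_mem_brk hb (g⁻¹ • m))
      have e1 : (g * b * g⁻¹) • m - m = g • (b • (g⁻¹ • m) - g⁻¹ • m) := by
        rw [smul_sub, mul_smul, mul_smul, smul_inv_smul]
      rw [e1]
      exact hkeep g (gen hg) _ h5
    | one => intro m; rw [one_smul, sub_self]; exact zero_mem _
    | mul x y _ _ ihx ihy =>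
      intro m
      have e1 : (x * y) • m - m = (x • (y • m) - y • m) + (y • m - m) := by rw [mul_smul]; abel
      rw [e1]; exact add_mem (ihx _) (ihy _)
    | inv x _ ih =>
      intro m
      have e1 : x⁻¹ • m - m = -(x • (x⁻¹ • m) - x⁻¹ • m) := by rw [smul_inv_smul]; abel
      rw [e1]; exact neg_mem (ih _)
  refine ⟨h1.1, hC, ?_⟩
  -- `K'` centralises `N`
  intro n hn
  rw [mem_fxd]
  intro k hk
  have h6 : closure {x | ∃ g ∈ K', ∃ B ∈ GG, ∃ b ∈ B, x = g * b * g⁻¹} ≤ MulAction.stabilizer X n := by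
    rw [closure_le]
    rintro _ ⟨g, hg, B, hBG, b, hb, rfl⟩
    refine MulAction.mem_stabilizer_iff.2 (T.kill S (hBd B hBG g hg) ((brk_mono ?_).trans hC) ?_ hn)
    · intro x hx
      have e1 : x = g * (g⁻¹ * x * g) * g⁻¹ := by group
      rw [e1]
      exact mul_mem (mul_mem hg (hBK B hBG (mem_cj.1 hx))) (inv_mem hg)
    · rw [mem_cj]; convert hb using 1; group
  exact MulAction.mem_stabilizer_iff.1 (h6 (gen hk))

/-- `[V, K'] ≤ C` and `K'` centralises `N`: `E` commutes with `K'` -/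
theorem Bk.comm_clo (h : Bk e f C up lo) (h2 : ∀ v : V, v + v = 0) (hf : ∀ x : X, (∀ v : V, x • v = v) → x = 1)
    (hno : NO X V) [Finite V] {K' : Subgroup X} (hC : brk V K' ≤ C)
    (hN : e.range ⊔ f.range ≤ (fxd K' : AddSubgroup V)) : ∀ k ∈ K', ∀ x ∈ clo up lo, k * x = x * k := by
  intro k hk x hx
  refine (sit h2 hf hno).comm_of (mem_top _) (mem_top _) (fun m => ?_) fun m => ?_
  · exact mem_fxd.1 ((Bk.fxd_clo h).ge (hC (sub_mem_brk hk m))) x hx
  · exact mem_fxd.1 (hN (Bk.brk_clo h (sub_mem_brk hx m))) k hk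

/-- `[V, E] = N` -/
theorem Bk.brk_clo_eq (h : Bk e f C up lo) : brk V (clo up lo) = e.range ⊔ f.range := by
  refine le_antisymm (Bk.brk_clo h) (sup_le ?_ ?_)
  · rintro _ ⟨x, rfl⟩
    have h1 := sub_mem_brk (M := V) (up_mem_clo up lo x) (f 1)
    rw [h.up_f, mul_one] at h1
    have e1 : f 1 + e x - f 1 = e x := by abel
    rwa [e1] at h1
  · rintro _ ⟨x, rfl⟩
    have h1 := sub_mem_brk (M := V) (lo_mem_clo up lo x) (e 1)
    rw [h.lo_e, mul_one] at h1
    have e1 : e 1 + f x - e 1 = f x := by abel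
    rwa [e1] at h1

theorem rt_le_clo (up lo : F → X) : rt up ≤ clo up lo := by
  rw [rt, closure_le]
  rintro _ ⟨t, rfl⟩
  exact up_mem_clo up lo t

/-- `E` is generated by the `E`-conjugates of `A` -/
theorem Bk.clo_gen (h : Bk e f C up lo) (h2 : ∀ v : V, v + v = 0) (hf : ∀ x : X, (∀ v : V, x • v = v) → x = 1) :
    clo up lo ≤ closure {x | ∃ g ∈ clo up lo, ∃ B ∈ ({rt up} : Set (Subgroup X)), ∃ b ∈ B, x = g * b * g⁻¹} := by
  have hw : wt up lo 1 ∈ clo up lo := by
    unfold wt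
    exact mul_mem (mul_mem (up_mem_clo up lo _) (lo_mem_clo up lo _)) (up_mem_clo up lo _)
  conv_lhs => rw [clo]
  rw [closure_le]
  rintro _ (⟨t, rfl⟩ | ⟨t, rfl⟩)
  · exact subset_closure ⟨1, one_mem _, rt up, rfl, up t, up_mem t, by group⟩
  · exact subset_closure ⟨wt up lo 1, hw, rt up, rfl, up t, up_mem t, (Bk.wt_conj h h2 hf t).symm⟩

/-- **the pair statement.** two natural blocks, `|F| ≥ 4`; the root groups `A`, `A'` commute, `A'` centralises `N`, `A`
centralises `N'`: `E` and `E'` commute, `N' ≤ C`, `N ≤ C'`. -/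
theorem Bk.pair [Finite F] [Finite V] [Finite X] (h : Bk e f C up lo) (h2 : ∀ v : V, v + v = 0)
    (hf : ∀ x : X, (∀ v : V, x • v = v) → x = 1) (hno : NO X V) (h4 : 4 ≤ Nat.card F) {F' : Type w'} [Field F'] [Finite F']
    {e' f' : F' →+ V} {C' : AddSubgroup V} {up' lo' : F' → X} (h' : Bk e' f' C' up' lo')
    (p1 : ∀ a ∈ rt up, ∀ b ∈ rt up', a * b = b * a) (p2 : e.range ⊔ f.range ≤ (fxd (rt up') : AddSubgroup V))
    (p3 : e'.range ⊔ f'.range ≤ (fxd (rt up) : AddSubgroup V)) :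
    (∀ k ∈ clo up' lo', ∀ x ∈ clo up lo, k * x = x * k) ∧ e'.range ⊔ f'.range ≤ C ∧ e.range ⊔ f.range ≤ C' := by
  have h1 := Bk.away h h2 hf hno h4 (K' := clo up' lo') {rt up'} (by rintro _ rfl; exact rt_le_clo up' lo')
    (by rintro _ rfl; exact Bk.el h' h2 hf)
    (by
      rintro _ rfl
      have h5 := Bk.exact h' h2 hf
      rw [← (fxd (rt up') : AddSubgroup V).card_mul_index, mul_comm] at h5
      exact Nat.le_of_mul_le_mul_right h5 Nat.card_pos)
    (by
      rintro _ rfl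
      rw [Bk.brk_rt h' h2 hf]
      rintro _ ⟨x, rfl⟩
      exact (TypesGam.Bk.mem_fxd_rt h').2 ⟨x, 0, zero_mem _, (add_zero _).symm⟩)
    (Bk.clo_gen h' h2 hf) ((Bk.brk_clo h').trans p3) (by rintro _ rfl; exact p1) (by rintro _ rfl; exact p2)
    (by
      rw [Bk.fxd_clo h', Bk.brk_clo_eq h', AddSubgroup.eq_bot_iff_forall]
      intro v hv
      obtain ⟨hv1, hv2⟩ := AddSubgroup.mem_inf.1 hv
      obtain ⟨_, ⟨x, rfl⟩, _, ⟨y, rfl⟩, rfl⟩ := AddSubgroup.mem_sup.1 hv1
      have e1 : e' x + f' y + 0 = e' 0 + f' 0 + (e' x + f' y) := by simp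
      obtain ⟨h6, h7, -⟩ := h'.uniq (zero_mem _) hv2 e1
      rw [h6, h7, map_zero, map_zero, add_zero])
  refine ⟨Bk.comm_clo h h2 hf hno h1.2.1 h1.2.2, (Bk.brk_clo_eq h').ge.trans h1.2.1, h1.2.2.trans (Bk.fxd_clo h').le⟩

end Cfsg.Agent.Omega.NOThreeL.RRed.Blk.Types
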