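import Cfsg.Agent.Omega.NOThreeL.RRed.Blk.TThreeN
import Cfsg.Agent.Omega.NOThreeL.RRed.Blk.GamD
import Cfsg.Agent.Omega.NOThreeL.RRed.Blk.TypesAway

/-!
# NO-3L, box R: nonsplit natural blocks (helper855, #26560), (T3n) over `GamD.BkD`

`BkD e f d C up lo` a natural block with radical `d(F) ≤ C`, `|F| > 2`, `M = e(F) + f(F) + d(F)`, `A = rt up`,
`E = clo up lo`.

* `brk_rt` : `[V, A] = e(F) + d(F)`; `fxd_rt` : `C_V(A) = e(F) + C`; `fxd_clo` : `C_V(E) = C`; `brk_clo_eq` : `[V, E] = M`;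
* `dtN` : the data of `TypesAbsN`;
* **`away`** : `K` generated by the `K`-conjugates of exact groups `B ∈ B₀` which centralise `M`, `A` centralises
  `[V, K]`: `K` centralises `M`, `[V, K] ≤ C`, `K` commutes with `E`;
* **`pair`** : two blocks whose root groups centralise each other's `M`.
-/

set_option autoImplicit false
set_option linter.unusedSectionVars false

namespace Cfsg.Agent.Omega.NOThreeL.RRed.Blk.TThreeD

open Subgroup
open scoped Pointwise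
open Cfsg.Agent.Omega.NOThreeL.RRed.NS (fxd brk mem_fxd)
open Cfsg.Agent.Omega.NOThreeL.RRed.Blk.TypesGam (NO rt up_mem hh wt)
open Cfsg.Agent.Omega.NOThreeL.RRed.Blk.TypesClo (clo up_mem_clo lo_mem_clo)
open Cfsg.Agent.Omega.NOThreeL.RRed.Blk.Types (Sit El sub_mem_brk brk_le mem_cj card_cj exists_ne01 rt_le_clo)
open Cfsg.Agent.Omega.NOThreeL.RRed.Blk.TypesN (DtN)
open Cfsg.Agent.Omega.NOThreeL.RRed.Blk.GamD

universe u v w w'

variable {X : Type u} {V : Type v} [Group X] [AddCommGroup V] [DistribMulAction X V]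
variable {F : Type w} [Field F] {e f d : F →+ V} {C : AddSubgroup V} {up lo : F → X}

/-- `C_V(A) = e(F) + C` -/
theorem mem_fxd_rt (h : BkD e f d C up lo) {v : V} :
    v ∈ (fxd (rt up) : AddSubgroup V) ↔ ∃ x, ∃ c ∈ C, v = e x + c := by
  rw [mem_fxd]
  constructor
  · intro hv
    obtain ⟨x, y, c, hc, rfl⟩ := h.dec v
    have h1 := hv _ (up_mem (up := up) 1)
    rw [smul_add, smul_add, h.up_e, h.up_f, h.up_c 1 c hc, one_mul, one_mul] at h1
    have e1 : e (x + y) + f y + (d (y ^ 2) + c) = e x + f y + c := by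
      rw [map_add, ← h1]; abel
    have e3 := (h.uniq (add_mem (h.dC _) hc) hc e1).1
    have hy : y = 0 := by simpa using e3
    refine ⟨x, c, hc, ?_⟩
    rw [hy, map_zero, add_zero]
  · rintro ⟨x, c, hc, rfl⟩ a ha
    have h1 : rt up ≤ MulAction.stabilizer X (e x + c) := by
      rw [rt, closure_le]
      rintro _ ⟨t, rfl⟩
      rw [SetLike.mem_coe, MulAction.mem_stabilizer_iff, smul_add, h.up_e, h.up_c t c hc]
    exact MulAction.mem_stabilizer_iff.1 (h1 ha)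

/-- `e(F) + d(F) ≤ [V, A]` if `|F| > 2` -/
theorem le_brk_rt (h : BkD e f d C up lo) (h2 : ∀ v : V, v + v = 0) {c : F} (hc0 : c ≠ 0) (hc1 : c ≠ 1) :
    e.range ⊔ d.range ≤ brk V (rt up) := by
  have key : ∀ t s : F, t ≠ 0 → e s + d (t⁻¹ * s ^ 2) ∈ brk V (rt up) := by
    intro t s ht
    have h1 := sub_mem_brk (M := V) (up_mem (up := up) t) (f (t⁻¹ * s))
    rw [h.up_f, mul_inv_cancel_left₀ ht] at h1
    have e0 : t * (t⁻¹ * s) ^ 2 = t⁻¹ * s ^ 2 := by field_simp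
    rw [e0] at h1
    have e1 : f (t⁻¹ * s) + e s + d (t⁻¹ * s ^ 2) - f (t⁻¹ * s) = e s + d (t⁻¹ * s ^ 2) := by abel
    rwa [e1] at h1
  have hd : ∀ x : F, d x ∈ brk V (rt up) := by
    intro x
    have hne : c⁻¹ - 1 ≠ 0 := by
      intro h0
      have h1 : c⁻¹ = 1 := sub_eq_zero.1 h0
      exact hc1 (inv_eq_one.1 h1)
    -- `(c⁻¹ - 1) s² = x`: squares are everything; use additivity instead
    have h1 : ∀ s : F, d ((c⁻¹ - 1) * s ^ 2) ∈ brk V (rt up) := by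
      intro s
      have h3 := sub_mem (key c s hc0) (key 1 s one_ne_zero)
      have e1 : e s + d (c⁻¹ * s ^ 2) - (e s + d (1⁻¹ * s ^ 2)) = d ((c⁻¹ - 1) * s ^ 2) := by
        rw [sub_mul, map_sub, inv_one]; abel
      rwa [e1] at h3
    have h3 : ∀ s : F, ∀ t : F, t ≠ 0 → d ((c⁻¹ - 1) * s ^ 2 * t) ∈ brk V (rt up) := by
      intro s t ht
      have h4 := sub_mem (key (c * t⁻¹) s (mul_ne_zero hc0 (inv_ne_zero ht))) (key t⁻¹ s (inv_ne_zero ht))
      have e1 : e s + d ((c * t⁻¹)⁻¹ * s ^ 2) - (e s + d (t⁻¹⁻¹ * s ^ 2)) = d ((c⁻¹ - 1) * s ^ 2 * t) := by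
        have e2 : (c⁻¹ - 1) * s ^ 2 * t = (c * t⁻¹)⁻¹ * s ^ 2 - t⁻¹⁻¹ * s ^ 2 := by
          rw [mul_inv, inv_inv]; ring
        rw [e2, map_sub]; abel
      rwa [e1] at h4
    by_cases hx : x = 0
    · rw [hx, map_zero]; exact zero_mem _
    · have h4 := h3 1 ((c⁻¹ - 1)⁻¹ * x) (mul_ne_zero (inv_ne_zero hne) hx)
      rw [one_pow, mul_one, mul_inv_cancel_left₀ hne] at h4
      exact h4
  refine sup_le ?_ ?_
  · rintro _ ⟨x, rfl⟩
    have h1 := sub_mem (key 1 x one_ne_zero) (hd (1⁻¹ * x ^ 2))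
    rwa [add_sub_cancel_right] at h1
  · rintro _ ⟨x, rfl⟩
    exact hd x

/-- `[V, A] ≤ e(F) + d(F)` -/
theorem brk_rt_le (h : BkD e f d C up lo) (h2 : ∀ v : V, v + v = 0) (hf : ∀ x : X, (∀ v : V, x • v = v) → x = 1) :
    brk V (rt up) ≤ e.range ⊔ d.range := by
  apply brk_le
  intro a ha m
  obtain ⟨t, rfl⟩ := (h.mem_rt h2 hf).1 ha
  obtain ⟨x, y, c, hc, rfl⟩ := h.dec m
  rw [smul_add, smul_add, h.up_e, h.up_f, h.up_c t c hc]
  have e1 : e x + (f y + e (t * y) + d (t * y ^ 2)) + c - (e x + f y + c) = e (t * y) + d (t * y ^ 2) := by abel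
  rw [e1]
  exact AddSubgroup.add_mem_sup ⟨_, rfl⟩ ⟨_, rfl⟩

theorem brk_rt (h : BkD e f d C up lo) (h2 : ∀ v : V, v + v = 0) (hf : ∀ x : X, (∀ v : V, x • v = v) → x = 1)
    {c : F} (hc0 : c ≠ 0) (hc1 : c ≠ 1) : brk V (rt up) = e.range ⊔ d.range :=
  le_antisymm (brk_rt_le h h2 hf) (le_brk_rt h h2 hc0 hc1)

/-- `C_V(E) = C` -/
theorem fxd_clo (h : BkD e f d C up lo) : (fxd (clo up lo) : AddSubgroup V) = C := by
  apply le_antisymm
  · intro m hm
    rw [mem_fxd] at hm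
    obtain ⟨x, y, c, hc, rfl⟩ := h.dec m
    have h1 := hm _ (up_mem_clo up lo 1)
    have h3 := hm _ (lo_mem_clo up lo 1)
    rw [smul_add, smul_add, h.up_e, h.up_f, h.up_c 1 c hc, one_mul, one_mul] at h1
    rw [smul_add, smul_add, h.lo_e, h.lo_f, h.lo_c 1 c hc, one_mul, one_mul] at h3
    have e1 : e (x + y) + f y + (d (y ^ 2) + c) = e x + f y + c := by
      rw [map_add, ← h1]; abel
    have e2 : e x + f (x + y) + (d (x ^ 2) + c) = e x + f y + c := by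
      rw [map_add, ← h3]; abel
    have e3 := (h.uniq (add_mem (h.dC _) hc) hc e1).1
    have e4 := (h.uniq (add_mem (h.dC _) hc) hc e2).2.1
    have hy : y = 0 := by simpa using e3
    have hx : x = 0 := by simpa using e4
    rw [hx, hy, map_zero, map_zero, zero_add, zero_add]
    exact hc
  · intro c hc
    rw [mem_fxd]
    intro g hg
    have h1 : clo up lo ≤ MulAction.stabilizer X c := by
      rw [clo, closure_le]
      rintro _ (⟨t, rfl⟩ | ⟨t, rfl⟩)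
      · exact MulAction.mem_stabilizer_iff.2 (h.up_c t c hc)
      · exact MulAction.mem_stabilizer_iff.2 (h.lo_c t c hc)
    exact MulAction.mem_stabilizer_iff.1 (h1 hg)

/-- `[V, E] ≤ M` -/
theorem brk_clo (h : BkD e f d C up lo) : brk V (clo up lo) ≤ e.range ⊔ f.range ⊔ d.range := by
  have inr : ∀ x y z : F, e x + f y + d z ∈ e.range ⊔ f.range ⊔ d.range := fun x y z =>
    AddSubgroup.add_mem_sup (AddSubgroup.add_mem_sup ⟨_, rfl⟩ ⟨_, rfl⟩) ⟨_, rfl⟩
  have h1 : ∀ g ∈ clo up lo, ∀ m : V, g • m - m ∈ e.range ⊔ f.range ⊔ d.range := by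
    intro g hg
    unfold clo at hg
    induction hg using Subgroup.closure_induction with
    | mem g hg =>
      intro m
      obtain ⟨x, y, c, hc, rfl⟩ := h.dec m
      rcases hg with ⟨t, rfl⟩ | ⟨t, rfl⟩
      · rw [smul_add, smul_add, h.up_e, h.up_f, h.up_c t c hc]
        have e1 : e x + (f y + e (t * y) + d (t * y ^ 2)) + c - (e x + f y + c)
            = e (t * y) + f 0 + d (t * y ^ 2) := by rw [map_zero]; abel
        rw [e1]
        exact inr _ _ _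
      · rw [smul_add, smul_add, h.lo_e, h.lo_f, h.lo_c t c hc]
        have e1 : e x + f (t * x) + d (t * x ^ 2) + f y + c - (e x + f y + c)
            = e 0 + f (t * x) + d (t * x ^ 2) := by rw [map_zero]; abel
        rw [e1]
        exact inr _ _ _
    | one => intro m; rw [one_smul, sub_self]; exact zero_mem _
    | mul a b _ _ ha hb =>
      intro m
      have e1 : (a * b) • m - m = (a • (b • m) - b • m) + (b • m - m) := by rw [mul_smul]; abel
      rw [e1]; exact add_mem (ha _) (hb _)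
    | inv a _ ha =>
      intro m
      have e1 : a⁻¹ • m - m = -(a • (a⁻¹ • m) - a⁻¹ • m) := by rw [smul_inv_smul]; abel
      rw [e1]; exact neg_mem (ha _)
  exact brk_le h1

/-- `[V, E] = M` if `|F| > 2` -/
theorem brk_clo_eq (h : BkD e f d C up lo) (h2 : ∀ v : V, v + v = 0) {c : F} (hc0 : c ≠ 0) (hc1 : c ≠ 1) :
    brk V (clo up lo) = e.range ⊔ f.range ⊔ d.range := by
  have hup : rt up ≤ clo up lo := rt_le_clo up lo
  have hlo : rt lo ≤ clo up lo := by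
    rw [rt, closure_le]
    rintro _ ⟨t, rfl⟩
    exact lo_mem_clo up lo t
  have h1 := (le_brk_rt h h2 hc0 hc1).trans (TThreeN.brkMono hup)
  have h3 := (le_brk_rt h.swap h2 hc0 hc1).trans (TThreeN.brkMono hlo)
  refine le_antisymm (brk_clo h) (sup_le (sup_le ?_ ?_) ?_)
  · exact le_sup_left.trans h1
  · exact le_sup_left.trans h3
  · exact le_sup_right.trans h1

theorem el (h : BkD e f d C up lo) (h2 : ∀ v : V, v + v = 0) (hf : ∀ x : X, (∀ v : V, x • v = v) → x = 1) :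
    El (rt up) where
  sq := by
    intro x hx
    obtain ⟨t, rfl⟩ := (h.mem_rt h2 hf).1 hx
    rw [h.up_add hf, h.two h2, h.up_zero hf]
  cm := by
    intro x hx y hy
    obtain ⟨s, rfl⟩ := (h.mem_rt h2 hf).1 hx
    obtain ⟨t, rfl⟩ := (h.mem_rt h2 hf).1 hy
    rw [h.up_add hf, h.up_add hf, add_comm]

theorem exact [Finite F] [Finite V] (h : BkD e f d C up lo) (h2 : ∀ v : V, v + v = 0)
    (hf : ∀ x : X, (∀ v : V, x • v = v) → x = 1) :
    Nat.card V ≤ Nat.card (rt up) * Nat.card (fxd (rt up) : AddSubgroup V) := by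
  rw [h.card_rt h2 hf]
  have h1 : Function.Surjective (fun p : F × (fxd (rt up) : AddSubgroup V) => f p.1 + (p.2 : V)) := by
    intro v
    obtain ⟨x, y, c, hc, rfl⟩ := h.dec v
    have h3 : e x + c ∈ (fxd (rt up) : AddSubgroup V) := (mem_fxd_rt h).2 ⟨x, c, hc, rfl⟩
    exact ⟨(y, ⟨e x + c, h3⟩), by show f y + (e x + c) = _; abel⟩
  have h3 := Nat.card_le_card_of_surjective _ h1
  rwa [Nat.card_prod] at h3

theorem quad (h : BkD e f d C up lo) (h2 : ∀ v : V, v + v = 0) (hf : ∀ x : X, (∀ v : V, x • v = v) → x = 1) :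
    brk V (rt up) ≤ (fxd (rt up) : AddSubgroup V) := by
  refine (brk_rt_le h h2 hf).trans (sup_le ?_ ?_)
  · rintro _ ⟨x, rfl⟩
    exact (mem_fxd_rt h).2 ⟨x, 0, zero_mem _, (add_zero _).symm⟩
  · rintro _ ⟨x, rfl⟩
    exact (mem_fxd_rt h).2 ⟨0, d x, h.dC x, by rw [map_zero, zero_add]⟩

/-- the torus conjugates of the root elements -/
theorem hh_conj (h : BkD e f d C up lo) (h2 : ∀ v : V, v + v = 0) (hf : ∀ x : X, (∀ v : V, x • v = v) → x = 1)
    {c : F} (hc : c ≠ 0) (t : F) : hh up lo c * up t * (hh up lo c)⁻¹ = up (c * c * t) := by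
  refine h.ext hf (fun z => ?_) (fun z => ?_) fun x hx => ?_
  · rw [mul_smul, mul_smul, h.hhi_e h2 hc, h.up_e, h.hh_e h2 hc, h.up_e, mul_inv_cancel_left₀ hc]
  · rw [mul_smul, mul_smul, h.hhi_f h2 hc, h.up_f, smul_add, smul_add, h.hh_f h2 hc, h.hh_e h2 hc, h.hh_c _ (h.dC _), h.up_f,
      inv_mul_cancel_left₀ hc]
    congr 2
    · congr 1; ring
    · ring
  · rw [mul_smul, mul_smul, h.hhi_c c hx, h.up_c t x hx, h.hh_c c hx, h.up_c _ x hx]

/-- the Weyl element conjugates `up` to `lo` -/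
theorem wt_conj (h : BkD e f d C up lo) (h2 : ∀ v : V, v + v = 0) (hf : ∀ x : X, (∀ v : V, x • v = v) → x = 1)
    (t : F) : wt up lo 1 * up t * (wt up lo 1)⁻¹ = lo t := by
  have h1 : wt up lo 1 * up t = lo t * wt up lo 1 := by
    refine h.ext hf (fun z => ?_) (fun z => ?_) fun x hx => ?_
    · rw [mul_smul, mul_smul, h.up_e, h.wt_e h2 one_ne_zero, h.lo_f]
    · rw [mul_smul, mul_smul, h.up_f, smul_add, smul_add, h.wt_f h2 one_ne_zero, h.wt_e h2 one_ne_zero, h.wt_c 1 (h.dC _),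
        h.lo_e]
      rw [inv_one, one_mul, one_mul]
    · rw [mul_smul, mul_smul, h.up_c t x hx, h.wt_c 1 hx, h.lo_c t x hx]
  rw [h1]; group

/-- `E` is generated by the `E`-conjugates of `A` -/
theorem clo_gen (h : BkD e f d C up lo) (h2 : ∀ v : V, v + v = 0) (hf : ∀ x : X, (∀ v : V, x • v = v) → x = 1) :
    clo up lo ≤ closure {x | ∃ g ∈ clo up lo, ∃ a ∈ rt up, x = g * a * g⁻¹} := by
  have hw : wt up lo 1 ∈ clo up lo := by
    unfold wt
    exact mul_mem (mul_mem (up_mem_clo up lo _) (lo_mem_clo up lo _)) (up_mem_clo up lo _)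
  conv_lhs => rw [clo]
  rw [closure_le]
  rintro _ (⟨t, rfl⟩ | ⟨t, rfl⟩)
  · exact subset_closure ⟨1, one_mem _, up t, up_mem t, by group⟩
  · exact subset_closure ⟨wt up lo 1, hw, up t, up_mem t, (wt_conj h h2 hf t).symm⟩

/-- the data of (T3n) -/
theorem dtN [Finite F] [Finite V] [Finite X] (h : BkD e f d C up lo) (h2 : ∀ v : V, v + v = 0)
    (hf : ∀ x : X, (∀ v : V, x • v = v) → x = 1) {c : F} (hc0 : c ≠ 0) (hc1 : c ≠ 1) :
    DtN ⊤ (rt up) e.range (e.range ⊔ f.range) C (hh up lo c) where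
  DX := le_top
  el := el h h2 hf
  ex := exact h h2 hf
  qd := quad h h2 hf
  fD := by
    intro m hm
    obtain ⟨x, c, hc, rfl⟩ := (mem_fxd_rt h).1 hm
    exact AddSubgroup.add_mem_sup ⟨x, rfl⟩ hc
  LD := le_sup_left.trans (le_brk_rt h h2 hc0 hc1)
  CD := fun c hc => (mem_fxd_rt h).2 ⟨0, c, hc, by rw [map_zero, zero_add]⟩
  LN := le_sup_left
  τX := mem_top _
  τD := by
    refine Subgroup.eq_of_le_of_card_ge ?_ (card_cj _ _).ge
    intro x hx
    obtain ⟨t, ht⟩ := (h.mem_rt h2 hf).1 (mem_cj.1 hx)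
    have e1 : x = hh up lo c * up t * (hh up lo c)⁻¹ := by rw [ht]; group
    rw [e1, hh_conj h h2 hf hc0]
    exact up_mem _
  τC := fun x hx => h.hh_c c hx
  τL := by
    rintro _ ⟨x, rfl⟩
    rw [h.hh_e h2 hc0]
    exact ⟨_, rfl⟩
  τN := by
    intro n hn
    obtain ⟨_, ⟨x, rfl⟩, _, ⟨y, rfl⟩, rfl⟩ := AddSubgroup.mem_sup.1 hn
    rw [smul_add, h.hh_e h2 hc0, h.hh_f h2 hc0]
    exact AddSubgroup.add_mem_sup ⟨_, rfl⟩ ⟨_, rfl⟩
  fp := by
    intro n hn he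
    obtain ⟨_, ⟨x, rfl⟩, _, ⟨y, rfl⟩, rfl⟩ := AddSubgroup.mem_sup.1 hn
    rw [smul_add, h.hh_e h2 hc0, h.hh_f h2 hc0] at he
    have e1 : e (c * x) + f (c⁻¹ * y) + 0 = e x + f y + 0 := by rw [add_zero, add_zero]; exact he
    obtain ⟨h3, h4, -⟩ := h.uniq (zero_mem _) (zero_mem _) e1
    have hx : x = 0 := by
      have e5 : (c - 1) * x = 0 := by rw [sub_mul, h3, one_mul, sub_self]
      exact (mul_eq_zero.1 e5).resolve_left (sub_ne_zero.2 hc1)
    have hy : y = 0 := by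
      have e5 : y = c * y := by
        calc y = c * (c⁻¹ * y) := (mul_inv_cancel_left₀ hc0 y).symm
          _ = c * y := by rw [h4]
      have e6 : (c - 1) * y = 0 := by rw [sub_mul, one_mul, ← e5, sub_self]
      exact (mul_eq_zero.1 e6).resolve_left (sub_ne_zero.2 hc1)
    rw [hx, hy, map_zero, map_zero, add_zero]

theorem inf_NC (h : BkD e f d C up lo) : ∀ m ∈ e.range ⊔ f.range, m ∈ C → m = 0 := by
  intro m hm hc
  obtain ⟨_, ⟨x, rfl⟩, _, ⟨y, rfl⟩, rfl⟩ := AddSubgroup.mem_sup.1 hm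
  obtain ⟨rfl, rfl⟩ := h.ind x y hc
  rw [map_zero, map_zero, add_zero]

/-- a root element with `[V, a] ≤ C` is trivial -/
theorem sep (h : BkD e f d C up lo) (h2 : ∀ v : V, v + v = 0) (hf : ∀ x : X, (∀ v : V, x • v = v) → x = 1) :
    ∀ a ∈ rt up, (∀ m : V, a • m - m ∈ C) → a = 1 := by
  intro a ha hm
  obtain ⟨t, rfl⟩ := (h.mem_rt h2 hf).1 ha
  have h1 := hm (f 1)
  rw [h.up_f, mul_one] at h1
  have e1 : e t + f 0 = (f 1 + e t + d (t * 1 ^ 2) - f 1) - d (t * 1 ^ 2) := by rw [map_zero]; abel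
  have h3 : e t + f 0 ∈ C := by rw [e1]; exact sub_mem h1 (h.dC _)
  rw [(h.ind t 0 h3).1, h.up_zero hf]

/-- **(T3n)**, the K-version. -/
theorem away [Finite F] [Finite V] [Finite X] (h : BkD e f d C up lo) (h2 : ∀ v : V, v + v = 0)
    (hf : ∀ x : X, (∀ v : V, x • v = v) → x = 1) (hno : NO X V) (h4 : 4 ≤ Nat.card F) {K : Subgroup X}
    {B₀ : Set (Subgroup X)} (hel : ∀ B ∈ B₀, El B)
    (hex : ∀ B ∈ B₀, Nat.card V ≤ Nat.card B * Nat.card (fxd B : AddSubgroup V)) (hqd : ∀ B ∈ B₀, brk V B ≤ fxd B)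
    (hBK : ∀ B ∈ B₀, B ≤ K) (hBN : ∀ B ∈ B₀, ∀ b ∈ B, ∀ n ∈ e.range ⊔ f.range ⊔ d.range, b • n = n)
    (hDK : ∀ a ∈ rt up, ∀ m ∈ brk V K, a • m = m)
    (gen : K ≤ closure {x | ∃ g ∈ K, ∃ B ∈ B₀, ∃ b ∈ B, x = g * b * g⁻¹}) :
    (∀ k ∈ K, ∀ n ∈ e.range ⊔ f.range ⊔ d.range, k • n = n) ∧ brk V K ≤ C ∧ ∀ k ∈ K, ∀ x ∈ clo up lo, k * x = x * k := by
  obtain ⟨c, hc0, hc1⟩ := exists_ne01 (F := F) h4
  have S := Types.sit h2 hf hno
  obtain ⟨h1, h3, h5, -⟩ := TThreeN.away S (dtN h h2 hf hc0 hc1) (inf_NC h) (sep h h2 hf) (rt_le_clo up lo) (brk_clo h)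
    (fxd_clo h).le (clo_gen h h2 hf) hel hex hqd hBK hBN hDK gen
  have h6 : ∀ k ∈ K, ∀ n ∈ e.range ⊔ f.range ⊔ d.range, k • n = n := by
    intro k hk n hn
    obtain ⟨a, ha, b, hb, rfl⟩ := AddSubgroup.mem_sup.1 hn
    rw [smul_add, h1 k hk a ha, h3 k hk b (le_brk_rt h h2 hc0 hc1 (AddSubgroup.mem_sup_right hb))]
  exact ⟨h6, h5, TThreeN.comm S (brk_clo h) (fxd_clo h).ge h5 h6⟩

/-- **(T3n)**, the pair version: two natural blocks (with radicals). -/
theorem pair [Finite F] [Finite V] [Finite X] (h : BkD e f d C up lo) (h2 : ∀ v : V, v + v = 0)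
    (hf : ∀ x : X, (∀ v : V, x • v = v) → x = 1) (hno : NO X V) (h4 : 4 ≤ Nat.card F) {F' : Type w'} [Field F'] [Finite F']
    {e' f' d' : F' →+ V} {C' : AddSubgroup V} {up' lo' : F' → X} (h' : BkD e' f' d' C' up' lo') (h4' : 4 ≤ Nat.card F')
    (p2 : ∀ b ∈ rt up', ∀ n ∈ e.range ⊔ f.range ⊔ d.range, b • n = n)
    (p3 : ∀ a ∈ rt up, ∀ n ∈ e'.range ⊔ f'.range ⊔ d'.range, a • n = n) :
    (∀ k ∈ clo up' lo', ∀ x ∈ clo up lo, k * x = x * k) ∧ e'.range ⊔ f'.range ⊔ d'.range ≤ C ∧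
      e.range ⊔ f.range ⊔ d.range ≤ C' := by
  obtain ⟨c', hc0', hc1'⟩ := exists_ne01 (F := F') h4'
  have h1 := away h h2 hf hno h4 (K := clo up' lo') (B₀ := {rt up'}) (by rintro _ rfl; exact el h' h2 hf)
    (by rintro _ rfl; exact exact h' h2 hf) (by rintro _ rfl; exact quad h' h2 hf)
    (by rintro _ rfl; exact rt_le_clo up' lo') (by rintro _ rfl; exact p2)
    (fun a ha m hm => p3 a ha m (brk_clo h' hm))
    ((clo_gen h' h2 hf).trans (closure_mono (by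
      rintro x ⟨g, hg, b, hb, rfl⟩
      exact ⟨g, hg, rt up', rfl, b, hb, rfl⟩)))
  refine ⟨h1.2.2, (brk_clo_eq h' h2 hc0' hc1').ge.trans h1.2.1, fun n hn => ?_⟩
  exact (fxd_clo h').le (mem_fxd.2 fun k hk => h1.1 k hk n hn)

end Cfsg.Agent.Omega.NOThreeL.RRed.Blk.TThreeD
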