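import Cfsg.Agent.Omega.NOThreeL.RRed.Blk.L1N
import Cfsg.Agent.Omega.NOThreeL.RRed.Ex.InstB
import Cfsg.Agent.Omega.NOThreeL.RRed.Ex.Dict
import Cfsg.Agent.Omega.NOThreeL.RRed.Ex.Nat
import Cfsg.Agent.Omega.NO3S.ThmB.Inst

/-!
# NO-3L, box R, nonsplit natural blocks: two atoms of one block have the same image (263 #27786)

`P ∈ P*(S)` natural, `P ≤ L ≤ H`, `Q : Nrm H (zl S L)`, `NoOverM (zl S L) H`.

* **`same_im`** : `A, A' ∈ EP S P (zl S L)` acting as the root group of the same block `j`: `im Q A' = im Q A`.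
-/

set_option autoImplicit false
set_option linter.unusedSectionVars false

namespace Cfsg.Agent.Omega.NOThreeL.RRed.Blk.AcNSame

open Subgroup Cfsg Cfsg.Agent.ZN Cfsg.Agent.Omega.MinPar
open Cfsg.Agent.Omega.FFThm
open Cfsg.Agent.Omega.FrameFF (cv)
open Cfsg.Agent.Omega.NO3S.ThmB Cfsg.Agent.Omega.NO3S.KeyRad
open Cfsg.Agent.Omega.NOThreeL.RSplit (Nrm)
open Cfsg.Agent.Omega.NOThreeL.RRed.NS
open Cfsg.Agent.Omega.NOThreeL.RRed.Ex
open Cfsg.Agent.Omega.NOThreeL.RRed.Blk.Types (Sit El)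
open Cfsg.Agent.Omega.NOThreeL.RRed.Blk.TypesNat (XH ph ph_smul)
open Cfsg.Agent.Omega.NOThreeL.RRed.Blk.AsmCore
open scoped Pointwise

universe u

variable {G : Type u} [Group G] [Finite G] {S : Sylow 2 G} {L P H : Subgroup G}

/-- `InstB.split` for `Q : Nrm H U`, `L ≤ H` -/
theorem splitH (hc : IsCharacteristicTwoType G) (hP : IsParS (S : Subgroup G) P) (hPL : P ≤ L) (LH : L ≤ H)
    (noH : NoOverM (zl (S : Subgroup G) L) H) (Q : Nrm H (zl (S : Subgroup G) L)) :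
    ∀ A ≤ im Q (S : Subgroup G), El A → Xa Q.Mod A → ¬ Fx (Q.ad (zl (S : Subgroup G) P)) A →
      Xa Q.Mod (cw (Q.ad (zl (S : Subgroup G) P)) A) := by
  intro A' hA' hE hX hF
  obtain ⟨A, hA, rfl⟩ := InstB.exists_im Q hA'
  have hAL : A ≤ L := (hA.trans hP.le).trans hPL
  have hAH : A ≤ H := hAL.trans LH
  have hWU : zl (S : Subgroup G) P ≤ zl (S : Subgroup G) L := NOThreeL.Star.zl_mono _ hPL
  have hcomm : zl (S : Subgroup G) L ≤ centralizer (zl (S : Subgroup G) L : Set G) := fun x hx =>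
    mem_centralizer_iff.2 fun y hy => Q.ab y hy x hx
  have hEM := InstB.elemM_of Q hAH hE
  have hex := InstB.exa_of Q hAH noH hEM hX
  have hne : ¬ A ≤ centralizer (zl (S : Subgroup G) P : Set G) := fun h => hF ((InstB.fx_im Q hWU hAH).2 h)
  obtain ⟨h1, -⟩ := exact_split hc hP hPL (fun B hB => noH B (hB.trans LH)) hcomm hA hEM hex hne
  rw [InstB.cw_im Q hWU]
  exact InstB.xa_of Q (inf_le_left.trans hAH) h1

/-- one half -/
theorem im_le (hc : IsCharacteristicTwoType G) (hL : IsLoc (S : Subgroup G) L) (hP : IsParS (S : Subgroup G) P)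
    (hPL : P ≤ L) (LH : L ≤ H) (noH : NoOverM (zl (S : Subgroup G) L) H) (Q : Nrm H (zl (S : Subgroup G) L))
    {F : Type} [Field F] [Finite F] [CharP F 2] {k : ℕ}
    (M : NatKM F (S : Subgroup G) P (zl (S : Subgroup G) P) (cv (S : Subgroup G) P) k) {A A' : Subgroup G}
    (hA : A ∈ EP (S : Subgroup G) P (zl (S : Subgroup G) L))
    (hA' : A' ∈ EP (S : Subgroup G) P (zl (S : Subgroup G) L)) {j : Fin k} (O : NO3S.ThmB.One M (zl (S : Subgroup G) L) A j)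
    (O' : NO3S.ThmB.One M (zl (S : Subgroup G) L) A' j) : im Q A' ≤ im Q A := by
  have h := Inst.nb hc hP M
  have hE := FFThm.elem_zl hc S hL
  have hPH : P ≤ H := hPL.trans LH
  have hVU : zl (S : Subgroup G) P ≤ zl (S : Subgroup G) L := NOThreeL.Star.zl_mono _ hPL
  have hAS := hA.1.1
  have hAS' := hA'.1.1
  have hAP : A ≤ P := hAS.trans hP.le
  have hAP' : A' ≤ P := hAS'.trans hP.le
  have tA := tt_of_mx hA.1.2 noH (hAP.trans hPH)
  have tA' := tt_of_mx hA'.1.2 noH (hAP'.trans hPH)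
  have hfull : ∀ {B : Subgroup G}, B ≤ H → NO3S.ThmB.One M (zl (S : Subgroup G) L) B j → ∀ m : Q.Mod,
      ∃ w ∈ Q.ad (zl (S : Subgroup G) P), ∃ c ∈ (fxd (im Q B) : AddSubgroup Q.Mod), m = w + c := by
    intro B hB OB m
    obtain ⟨v, hv, -, c, hcU, hca, e⟩ := OB.full (Q.val m) (Q.val_mem m)
    refine ⟨Q.of v (hVU hv), hv, Q.of c hcU, ?_, ?_⟩
    · rw [fxd_im Q hB, Nrm.val_of, mem_centralizer_iff]
      exact hca
    · exact Nrm.ext (by rw [Nrm.val_add]; exact e)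
  have hq : ∀ {B C : Subgroup G}, B ≤ (S : Subgroup G) → C ≤ (S : Subgroup G) →
      NO3S.ThmB.One M (zl (S : Subgroup G) L) B j → Tt (zl (S : Subgroup G) L) C →
      brk Q.Mod (im Q B) ≤ (fxd (im Q C) : AddSubgroup Q.Mod) := by
    intro B C hB hC OB tC
    refine Types.brk_le ?_
    rintro _ ⟨b, hb, rfl⟩ m
    rw [fxd_im Q ((hC.trans hP.le).trans hPH), mem_centralizer_iff]
    intro c hc'
    rw [ph_smul, Nrm.val_sub, Nrm.val_smul]
    exact comm_Y h OB hB hE hVU hC tC hc' (Q.val_mem m) hb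
  rintro _ ⟨b', hb', rfl⟩
  obtain ⟨β, hβ⟩ := O'.act b' hb'
  obtain ⟨b, hb, hβ'⟩ := O.all β
  have hbP : b ∈ P := hAP hb
  have key := L1N.l1 (M := Q.Mod) (Dict.sit Q noH fun v hv => by
      have := hE.2 v hv
      rwa [pow_two] at this) (S := im Q (S : Subgroup G)) (P := im Q P) (W := Q.ad (zl (S : Subgroup G) P))
    (im_mono Q hP.le) (by
      rintro _ ⟨p, hp, rfl⟩ w hw
      rw [ph_smul]
      refine Nrm.mem_ad.2 ?_
      rw [Nrm.val_smul]
      exact (mem_normalizer_iff.1 (MinSimple.VModule.le_normalizer_zl (S : Subgroup G) P hp) _).1 hw)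
    (B := im Q A) (B' := im Q A') (im_mono Q hAS) (im_mono Q hAS')
    ((Dict.el_iff Q (hAP.trans hPH)).2 hA.1.2.toElemM) ((Dict.el_iff Q (hAP'.trans hPH)).2 hA'.1.2.toElemM)
    (InstB.xa_of Q (hAP.trans hPH) hA.1.2.exact) (InstB.xa_of Q (hAP'.trans hPH) hA'.1.2.exact)
    (fun h1 => hA.2 ((InstB.fx_im Q hVU (hAP.trans hPH)).1 h1)) (splitH hc hP hPL LH noH Q)
    (hfull (hAP.trans hPH) O) (hfull (hAP'.trans hPH) O') (hq hAS hAS O tA) (hq hAS hAS' O tA') (hq hAS' hAS O' tA)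
    (by
      rintro _ ⟨a, ha, rfl⟩ m hm
      have hm' : (a : G) * Q.val m ≠ Q.val m * a := fun h1 => hm (by
        rw [ph_smul, smul_eq_iff, mul_inv_eq_iff_eq_mul]; exact h1)
      obtain ⟨p, hp, c, hc', d, hd, h1⟩ := nat_out h O hVU hAS ha (Q.val_mem m) hm'
      refine ⟨ph Q ⟨p, hPH hp⟩, ph_mem_im Q hp, ph Q ⟨c, hPH (hAP hc')⟩, ph_mem_im Q hc', fun h2 => h1 ?_⟩
      rw [fxd_im Q (hAP.trans hPH), mem_centralizer_iff] at h2
      have h3 := h2 d hd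
      have e : ph Q (⟨p, hPH hp⟩ : H) * ph Q (⟨c, hPH (hAP hc')⟩ : H) * (ph Q (⟨p, hPH hp⟩ : H))⁻¹ =
          ph Q ((⟨p, hPH hp⟩ : H) * ⟨c, hPH (hAP hc')⟩ * (⟨p, hPH hp⟩ : H)⁻¹) := by rw [map_mul, map_mul, map_inv]
      rw [e, ph_smul, ph_smul, Nrm.val_smul, Nrm.val_sub, Nrm.val_smul] at h3
      exact h3)
    (b := ph Q ⟨b, hPH hbP⟩) (b' := ph Q b') (ph_mem_im Q hb) (ph_mem_im Q hb') (by
      intro w hw
      rw [ph_smul, ph_smul, Nrm.ext_iff, Nrm.val_smul, Nrm.val_smul]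
      exact h.same (hAP' hb') hbP hβ hβ' hw)
  rw [key]
  exact ph_mem_im Q hb

/-- **Two atoms of one block have the same image.** -/
theorem same_im (hc : IsCharacteristicTwoType G) (hL : IsLoc (S : Subgroup G) L) (hP : IsParS (S : Subgroup G) P)
    (hPL : P ≤ L) (LH : L ≤ H) (noH : NoOverM (zl (S : Subgroup G) L) H) (Q : Nrm H (zl (S : Subgroup G) L))
    {F : Type} [Field F] [Finite F] [CharP F 2] {k : ℕ}
    (M : NatKM F (S : Subgroup G) P (zl (S : Subgroup G) P) (cv (S : Subgroup G) P) k) {A A' : Subgroup G}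
    (hA : A ∈ EP (S : Subgroup G) P (zl (S : Subgroup G) L))
    (hA' : A' ∈ EP (S : Subgroup G) P (zl (S : Subgroup G) L)) {j : Fin k} (O : NO3S.ThmB.One M (zl (S : Subgroup G) L) A j)
    (O' : NO3S.ThmB.One M (zl (S : Subgroup G) L) A' j) : im Q A' = im Q A :=
  le_antisymm (im_le hc hL hP hPL LH noH Q M hA hA' O O') (im_le hc hL hP hPL LH noH Q M hA' hA O' O)

end Cfsg.Agent.Omega.NOThreeL.RRed.Blk.AcNSame
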