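import Cfsg.Agent.Omega.NOThreeL.RRed.Blk.TypesNorm
import Cfsg.Agent.Omega.NOThreeL.RRed.Blk.AsmNDef
import Cfsg.Agent.Omega.NOThreeL.RRed.Blk.EqD

/-!
# NO-3L, box R: nonsplit natural blocks (`GamD.BkD`): transport and conjugation

* `mapD`, `cjD`, `BkD_tr` : `BkD` under a homomorphism, conjugation, a pair of isomorphisms;
* `NBd_tr`, `NBd_cj`, `GBd_tr`, `GBd_cj` : the same for `AsmN.NBd`, `AsmN.GBd`; `NBd_brk` : `[V, D] = L + Z`, `NBd_fxd` :
  `C_V(D) = L + C`; **`NBd_eq`** : same `D`, same `Z` ⟹ same `N`, `C`, `L` (split or not); **`NBd_perm`**, `NBd_permg`;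
* **`IsNBD Q A R D N C`** : `A ≤ H` acts on `U` as the root group of such a block (`R` the line, `D` the radical);
  `IsNBD.conj` (`g ∈ H`), `IsNBD.conjN` (`n ∈ N(U) ∩ N(H)`), `IsNBD.toNBd` (over `XH Q`), `IsNBD.comm` (`[U, A] = R D`),
  `IsNBD.cent` (`C_U(A) = R C`), **`IsNBD.eq`**, **`IsNBD.perm`**, `IsNB.toD`.
-/

set_option autoImplicit false
set_option linter.unusedSectionVars false

namespace Cfsg.Agent.Omega.NOThreeL.RRed.Blk.TypesNat

open Subgroup Cfsg Cfsg.Agent.ZN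
open Cfsg.Agent.Omega.FFThm Cfsg.Agent.Lib.SL2Mat
open Cfsg.Agent.Omega.NO3S.ThmB Cfsg.Agent.Omega.NO3S.KeyRad
open Cfsg.Agent.Omega.NOThreeL.RSplit (Nrm)
open Cfsg.Agent.Omega.NOThreeL.RRed.NS hiding rt
open Cfsg.Agent.Omega.NOThreeL.RRed.Blk.TypesGam (Bk rt NO)
open Cfsg.Agent.Omega.NOThreeL.RRed.Blk.GamD (BkD)
open scoped Pointwise

universe u v w w'

/-! ### transport of `BkD` -/

section mapD

variable {X : Type u} {X' : Type v} {V : Type w} [Group X] [Group X'] [AddCommGroup V] [DistribMulAction X V]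
  [DistribMulAction X' V] {F : Type w'} [Field F] {e f d : F →+ V} {C : AddSubgroup V} {up lo : F → X}

theorem mapD (h : BkD e f d C up lo) (φ : X →* X') (hφ : ∀ (x : X) (v : V), φ x • v = x • v) :
    BkD e f d C (fun t => φ (up t)) (fun t => φ (lo t)) where
  dC := h.dC
  dec := h.dec
  ind := h.ind
  up_e t x := by rw [hφ, h.up_e]
  up_f t x := by rw [hφ, h.up_f]
  up_c t c hc := by rw [hφ, h.up_c t c hc]
  lo_e t x := by rw [hφ, h.lo_e]
  lo_f t x := by rw [hφ, h.lo_f]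
  lo_c t c hc := by rw [hφ, h.lo_c t c hc]

/-- conjugation -/
theorem cjD (h : BkD e f d C up lo) (g : X) :
    BkD (gm g e) (gm g f) (gm g d) (g • C) (fun t => g * up t * g⁻¹) (fun t => g * lo t * g⁻¹) where
  dC x := ⟨d x, h.dC x, rfl⟩
  dec v := by
    obtain ⟨x, y, c, hc, hv⟩ := h.dec (g⁻¹ • v)
    refine ⟨x, y, g • c, ⟨c, hc, rfl⟩, ?_⟩
    rw [gm_apply, gm_apply, ← smul_add, ← smul_add, ← hv, smul_inv_smul]
  ind x y hxy := by
    refine h.ind x y ?_
    rw [gm_apply, gm_apply, ← smul_add, mem_smul', inv_smul_smul] at hxy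
    exact hxy
  up_e t x := by rw [gm_apply, mul_smul, mul_smul, inv_smul_smul, h.up_e]
  up_f t x := by rw [gm_apply, mul_smul, mul_smul, inv_smul_smul, h.up_f, smul_add, smul_add]; rfl
  up_c t c hc := by
    rw [mem_smul'] at hc
    rw [mul_smul, mul_smul, h.up_c t _ hc, smul_inv_smul]
  lo_e t x := by rw [gm_apply, mul_smul, mul_smul, inv_smul_smul, h.lo_e, smul_add, smul_add]; rfl
  lo_f t x := by rw [gm_apply, mul_smul, mul_smul, inv_smul_smul, h.lo_f]
  lo_c t c hc := by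
    rw [mem_smul'] at hc
    rw [mul_smul, mul_smul, h.lo_c t _ hc, smul_inv_smul]

end mapD

section trD

variable {X : Type u} {X' : Type v} {V : Type w} {V' : Type w} [Group X] [Group X'] [AddCommGroup V] [AddCommGroup V']
  [DistribMulAction X V] [DistribMulAction X' V']

/-- transport by a pair of isomorphisms (also from `(X, V)` to `(X', V')`) -/
theorem BkD_tr {F : Type w'} [Field F] {e f d : F →+ V} {C : AddSubgroup V} {up lo : F → X}
    (h : BkD e f d C up lo) (τ : V ≃+ V') (σ : X → X') (hτ : ∀ (x : X) (v : V), τ (x • v) = σ x • τ v) :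
    BkD (τ.toAddMonoidHom.comp e) (τ.toAddMonoidHom.comp f) (τ.toAddMonoidHom.comp d) (C.map τ.toAddMonoidHom)
      (fun t => σ (up t)) (fun t => σ (lo t)) where
  dC x := ⟨d x, h.dC x, rfl⟩
  dec v := by
    obtain ⟨x, y, c, hc, hv⟩ := h.dec (τ.symm v)
    refine ⟨x, y, τ c, ⟨c, hc, rfl⟩, ?_⟩
    change v = τ (e x) + τ (f y) + τ c
    rw [← map_add, ← map_add, ← hv, τ.apply_symm_apply]
  ind x y hxy := by
    obtain ⟨c, hc, h1⟩ := hxy
    have h2 : τ c = τ (e x + f y) := by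
      rw [map_add]
      exact h1
    exact h.ind x y (τ.injective h2 ▸ hc)
  up_e t x := by
    change σ (up t) • τ (e x) = τ (e x)
    rw [← hτ, h.up_e]
  up_f t x := by
    change σ (up t) • τ (f x) = τ (f x) + τ (e (t * x)) + τ (d _)
    rw [← hτ, h.up_f, map_add, map_add]
  up_c t c hc := by
    obtain ⟨c, hc, rfl⟩ := hc
    change σ (up t) • τ c = τ c
    rw [← hτ, h.up_c t c hc]
  lo_e t x := by
    change σ (lo t) • τ (e x) = τ (e x) + τ (f (t * x)) + τ (d _)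
    rw [← hτ, h.lo_e, map_add, map_add]
  lo_f t x := by
    change σ (lo t) • τ (f x) = τ (f x)
    rw [← hτ, h.lo_f]
  lo_c t c hc := by
    obtain ⟨c, hc, rfl⟩ := hc
    change σ (lo t) • τ c = τ c
    rw [← hτ, h.lo_c t c hc]

end trD

/-! ### `AsmN.NBd`, `AsmN.GBd` -/

section nbd

variable {X : Type u} {X' : Type v} {V : Type w} {V' : Type w} [Group X] [Group X'] [AddCommGroup V] [AddCommGroup V']
  [DistribMulAction X V] [DistribMulAction X' V']

theorem map_rt' {F : Type w'} {up : F → X} (σ : X →* X') : rt (fun t => σ (up t)) = (rt up).map σ := by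
  rw [rt, rt, MonoidHom.map_closure]
  congr 1
  ext y
  constructor
  · rintro ⟨t, rfl⟩
    exact ⟨up t, ⟨t, rfl⟩, rfl⟩
  · rintro ⟨_, ⟨t, rfl⟩, rfl⟩
    exact ⟨t, rfl⟩

/-- transport of `NBd` by a pair `(τ, σ)` -/
theorem NBd_tr {D : Subgroup X} {N C L Z : AddSubgroup V} (h : AsmN.NBd D N C L Z) (τ : V ≃+ V') (σ : X →* X')
    (hτ : ∀ (x : X) (v : V), τ (x • v) = σ x • τ v) :
    AsmN.NBd (D.map σ) (N.map τ.toAddMonoidHom) (C.map τ.toAddMonoidHom) (L.map τ.toAddMonoidHom)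
      (Z.map τ.toAddMonoidHom) := by
  obtain ⟨F, i1, i2, e, f, d, up, lo, hb, rfl, rfl, rfl, rfl⟩ := h.ex
  refine ⟨F, i1, i2, _, _, _, _, _, BkD_tr hb τ σ hτ, map_rt' σ, ?_, ?_, ?_⟩
  · rw [AddSubgroup.map_sup, AddSubgroup.map_sup, AddMonoidHom.range_comp, AddMonoidHom.range_comp,
      AddMonoidHom.range_comp]
  · exact AddMonoidHom.range_comp _ _
  · exact AddMonoidHom.range_comp _ _

theorem GBd_tr {EE : Set (Subgroup X)} {D : Subgroup X} {N C L Z : AddSubgroup V} (h : AsmN.GBd EE D N C L Z)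
    (τ : V ≃+ V') (σ : X ≃* X') (hτ : ∀ (x : X) (v : V), τ (x • v) = σ x • τ v) {EE' : Set (Subgroup X')}
    (hE : ∀ A' ∈ EE', ∃ A ∈ EE, A' = A.map σ.toMonoidHom) :
    AsmN.GBd EE' (D.map σ.toMonoidHom) (N.map τ.toAddMonoidHom) (C.map τ.toAddMonoidHom) (L.map τ.toAddMonoidHom)
      (Z.map τ.toAddMonoidHom) where
  nb := NBd_tr h.nb τ σ.toMonoidHom hτ
  oth := by
    intro A' hA' hne
    obtain ⟨A, hA, rfl⟩ := hE A' hA'
    rintro _ ⟨a, ha, rfl⟩ _ ⟨m, hm, rfl⟩
    have h1 := h.oth A hA (fun h2 => hne (h2 ▸ rfl)) a ha m hm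
    change σ a • τ m = τ m
    rw [← hτ, h1]

end nbd

section cjnb

variable {X : Type u} {V : Type w} [Group X] [AddCommGroup V] [DistribMulAction X V]

theorem map_smulA (g : X) (N : AddSubgroup V) :
    N.map (DistribMulAction.toAddEquiv V g).toAddMonoidHom = g • N := rfl

/-- conjugation by `g ∈ X` -/
theorem NBd_cj {D : Subgroup X} {N C L Z : AddSubgroup V} (h : AsmN.NBd D N C L Z) (g : X) :
    AsmN.NBd (MulAut.conj g • D) (g • N) (g • C) (g • L) (g • Z) := by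
  refine NBd_tr h (DistribMulAction.toAddEquiv V g) (MulAut.conj g).toMonoidHom fun x v => ?_
  change g • x • v = (g * x * g⁻¹) • g • v
  rw [mul_smul, mul_smul, inv_smul_smul]

theorem GBd_cj {EE : Set (Subgroup X)} {D : Subgroup X} {N C L Z : AddSubgroup V} (h : AsmN.GBd EE D N C L Z) (g : X)
    {EE' : Set (Subgroup X)} (hE : ∀ A' ∈ EE', ∃ A ∈ EE, A' = MulAut.conj g • A) :
    AsmN.GBd EE' (MulAut.conj g • D) (g • N) (g • C) (g • L) (g • Z) := by
  refine GBd_tr h (DistribMulAction.toAddEquiv V g) (MulAut.conj g) (fun x v => ?_) hE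
  change g • x • v = (g * x * g⁻¹) • g • v
  rw [mul_smul, mul_smul, inv_smul_smul]

end cjnb

/-! ### the line, the fixed space -/

section lin

variable {X : Type u} {V : Type w} [Group X] [AddCommGroup V] [DistribMulAction X V]

theorem BkD_sub {F : Type w'} [Field F] {e f d : F →+ V} {C : AddSubgroup V} {up lo : F → X} (h : BkD e f d C up lo)
    (t x y : F) {c : V} (hc : c ∈ C) : up t • (e x + f y + c) - (e x + f y + c) = e (t * y) + d (t * y ^ 2) := by
  rw [smul_add, smul_add, h.up_e, h.up_f, h.up_c t c hc]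
  abel

/-- `[V, D] = L + Z` -/
theorem BkD_brk {F : Type w'} [Field F] {e f d : F →+ V} {C : AddSubgroup V} {up lo : F → X} (h : BkD e f d C up lo)
    (h2 : ∀ v : V, v + v = 0) (hf : ∀ x : X, (∀ v : V, x • v = v) → x = 1) (h4 : 2 < Nat.card F) :
    brk V (rt up) = e.range ⊔ d.range := by
  have hfin : Finite F := Nat.finite_of_card_ne_zero (by omega)
  apply le_antisymm
  · rw [brk, AddSubgroup.closure_le]
    rintro _ ⟨a, ha, v, rfl⟩
    obtain ⟨t, rfl⟩ := (h.mem_rt h2 hf).1 ha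
    obtain ⟨x, y, c, hc, rfl⟩ := h.dec v
    rw [BkD_sub h t x y hc]
    exact add_mem (AddSubgroup.mem_sup_left ⟨_, rfl⟩) (AddSubgroup.mem_sup_right ⟨_, rfl⟩)
  · have key : ∀ t y : F, e (t * y) + d (t * y ^ 2) ∈ brk V (rt up) := by
      intro t y
      have h1 := BkD_sub h t 0 y C.zero_mem
      rw [← h1]
      exact AddSubgroup.subset_closure ⟨_, TypesGam.up_mem t, _, rfl⟩
    -- `e s + d (s y)`, `y ≠ 0`
    have k2 : ∀ s y : F, y ≠ 0 → e s + d (s * y) ∈ brk V (rt up) := by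
      intro s y hy
      have h1 := key (s * y⁻¹) y
      have e1 : s * y⁻¹ * y = s := by field_simp
      have e2 : s * y⁻¹ * y ^ 2 = s * y := by field_simp
      rwa [e1, e2] at h1
    have k3 : ∀ s, d s ∈ brk V (rt up) := by
      intro s
      obtain ⟨x, hx0, hx1⟩ : ∃ x : F, x ≠ 0 ∧ x ≠ 1 := by
        by_contra hcon
        push Not at hcon
        have h1 : Nat.card F ≤ 2 := by
          have h3 : (Set.univ : Set F) ⊆ {0, 1} := fun x _ => by
            by_cases hx : x = 0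
            · exact Or.inl hx
            · exact Or.inr (hcon x hx)
          have h4 := Set.ncard_le_ncard h3 (Set.toFinite _)
          rw [Set.ncard_univ] at h4
          exact h4.trans ((Set.ncard_insert_le 0 {1}).trans (by rw [Set.ncard_singleton]))
        omega
      have hx2 : x + 1 ≠ 0 := by
        intro h3
        apply hx1
        have h5 := h.two h2 (1 : F)
        exact add_right_cancel (h3.trans h5.symm)
      have h3 := add_mem (k2 s x hx0) (k2 s (x + 1) hx2)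
      have e1 : e s + d (s * x) + (e s + d (s * (x + 1))) = d s := by
        have e2 : s * (x + 1) = s * x + s := by ring
        rw [e2, map_add]
        have e3 : e s + d (s * x) + (e s + (d (s * x) + d s)) = (e s + e s) + (d (s * x) + d (s * x)) + d s := by abel
        rw [e3, h2, h2, add_zero, zero_add]
      rwa [e1] at h3
    refine sup_le ?_ ?_
    · rintro _ ⟨s, rfl⟩
      have h3 := sub_mem (k2 s 1 one_ne_zero) (k3 (s * 1))
      rwa [add_sub_cancel_right] at h3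
    · rintro _ ⟨s, rfl⟩
      exact k3 s

/-- `C_V(D) = L + C` -/
theorem BkD_fxd {F : Type w'} [Field F] {e f d : F →+ V} {C : AddSubgroup V} {up lo : F → X} (h : BkD e f d C up lo)
    (h2 : ∀ v : V, v + v = 0) (hf : ∀ x : X, (∀ v : V, x • v = v) → x = 1) :
    (fxd (rt up) : AddSubgroup V) = e.range ⊔ C := by
  apply le_antisymm
  · intro v hv
    obtain ⟨x, y, c, hc, rfl⟩ := h.dec v
    have h1 := hv _ (TypesGam.up_mem 1)
    have h3 := BkD_sub h 1 x y hc
    rw [h1, sub_self, one_mul, one_mul] at h3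
    have h5 : e y + f 0 ∈ C := by
      have e1 : e y + f 0 = - d (y ^ 2) := by
        rw [map_zero, add_zero]
        exact eq_neg_of_add_eq_zero_left h3.symm
      rw [e1]
      exact neg_mem (h.dC _)
    obtain ⟨rfl, -⟩ := h.ind _ _ h5
    rw [map_zero, add_zero]
    exact add_mem (AddSubgroup.mem_sup_left ⟨_, rfl⟩) (AddSubgroup.mem_sup_right hc)
  · refine sup_le ?_ ?_
    · rintro _ ⟨s, rfl⟩ a ha
      obtain ⟨t, rfl⟩ := (h.mem_rt h2 hf).1 ha
      exact h.up_e t s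
    · rintro c hc a ha
      obtain ⟨t, rfl⟩ := (h.mem_rt h2 hf).1 ha
      exact h.up_c t c hc

theorem NBd_brk {D : Subgroup X} {N C L Z : AddSubgroup V} (h : AsmN.NBd D N C L Z) (h2 : ∀ v : V, v + v = 0)
    (hf : ∀ x : X, (∀ v : V, x • v = v) → x = 1) (h4 : 2 < Nat.card D) : brk V D = L ⊔ Z := by
  obtain ⟨F, i1, i2, e, f, d, up, lo, hb, rfl, rfl, rfl, rfl⟩ := h.ex
  rw [hb.card_rt h2 hf] at h4
  exact BkD_brk hb h2 hf h4

theorem NBd_fxd {D : Subgroup X} {N C L Z : AddSubgroup V} (h : AsmN.NBd D N C L Z) (h2 : ∀ v : V, v + v = 0)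
    (hf : ∀ x : X, (∀ v : V, x • v = v) → x = 1) : (fxd D : AddSubgroup V) = L ⊔ C := by
  obtain ⟨F, i1, i2, e, f, d, up, lo, hb, rfl, rfl, rfl, rfl⟩ := h.ex
  exact BkD_fxd hb h2 hf

/-- a nonsplit or split block depends only on its root group and its radical -/
theorem NBd_eq [Finite X] [Finite V] {D : Subgroup X} {N C L Z N' C' L' : AddSubgroup V} (h : AsmN.NBd D N C L Z)
    (h' : AsmN.NBd D N' C' L' Z) (h2 : ∀ v : V, v + v = 0) (hf : ∀ x : X, (∀ v : V, x • v = v) → x = 1)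
    (hno : NO X V) (h4 : 4 ≤ Nat.card D) : N = N' ∧ C = C' ∧ L = L' := by
  obtain ⟨F, i1, i2, e, f, d, up, lo, hb, hD, rfl, rfl, rfl⟩ := h.ex
  obtain ⟨F', j1, j2, e', f', d', up', lo', hb', hD', rfl, rfl, hdd⟩ := h'.ex
  have hcF : 4 ≤ Nat.card F := by
    rw [← hb.card_rt h2 hf, hD]
    exact h4
  have m1 : ∀ x, d' x ∈ d.range := fun x => hdd ▸ ⟨x, rfl⟩
  have m2 : ∀ x, d x ∈ d'.range := fun x => hdd.symm ▸ ⟨x, rfl⟩
  by_cases hd : ∃ x, d x ≠ 0
  · obtain ⟨h5, h6, -, h7⟩ := hb.eq hb' h2 hf hno hd (by omega) (hD.trans hD'.symm)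
      (fun x => by obtain ⟨y, hy⟩ := m1 x; rw [← hy]; exact hb.dC y)
      (fun x => by obtain ⟨y, hy⟩ := m2 x; rw [← hy]; exact hb'.dC y)
    exact ⟨h7, h5, h6⟩
  · push Not at hd
    have hd' : ∀ x, d' x = 0 := fun x => by
      obtain ⟨y, hy⟩ := m1 x
      rw [← hy, hd]
    have b : Bk e f C up lo :=
      { dec := hb.dec
        ind := hb.ind
        up_e := hb.up_e
        up_f := fun t x => by rw [hb.up_f, hd, add_zero]
        up_c := hb.up_c
        lo_e := fun t x => by rw [hb.lo_e, hd, add_zero]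
        lo_f := hb.lo_f
        lo_c := hb.lo_c }
    have b' : Bk e' f' C' up' lo' :=
      { dec := hb'.dec
        ind := hb'.ind
        up_e := hb'.up_e
        up_f := fun t x => by rw [hb'.up_f, hd', add_zero]
        up_c := hb'.up_c
        lo_e := fun t x => by rw [hb'.lo_e, hd', add_zero]
        lo_f := hb'.lo_f
        lo_c := hb'.lo_c }
    obtain ⟨h5, h6, h7⟩ := b.eq b' h2 hf hno hcF (hD.trans hD'.symm)
    refine ⟨?_, h5, h6⟩
    rw [h7, hdd]

end lin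

/-- **conjugate root groups with conjugate radicals have conjugate blocks** -/
theorem NBd_perm {X : Type u} {X' : Type v} {V : Type w} {V' : Type w} [Group X] [Group X'] [AddCommGroup V]
    [AddCommGroup V'] [DistribMulAction X V] [DistribMulAction X' V'] [Finite X'] [Finite V'] {D : Subgroup X}
    {N C L Z : AddSubgroup V} (h : AsmN.NBd D N C L Z) (τ : V ≃+ V') (σ : X →* X')
    (hτ : ∀ (x : X) (v : V), τ (x • v) = σ x • τ v) {D' : Subgroup X'} {N' C' L' Z' : AddSubgroup V'}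
    (h' : AsmN.NBd D' N' C' L' Z') (h2 : ∀ v : V', v + v = 0) (hf : ∀ x : X', (∀ v : V', x • v = v) → x = 1)
    (hno : NO X' V') (h4 : 4 ≤ Nat.card D') (hD : D.map σ = D') (hZ : Z.map τ.toAddMonoidHom = Z') :
    N.map τ.toAddMonoidHom = N' ∧ C.map τ.toAddMonoidHom = C' ∧ L.map τ.toAddMonoidHom = L' := by
  have h1 := NBd_tr h τ σ hτ
  rw [hD, hZ] at h1
  exact NBd_eq h1 h' h2 hf hno h4

/-- the same for `g ∈ X` -/
theorem NBd_permg {X : Type u} {V : Type w} [Group X] [AddCommGroup V] [DistribMulAction X V] [Finite X] [Finite V]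
    {D D' : Subgroup X} {N C L Z N' C' L' Z' : AddSubgroup V} (h : AsmN.NBd D N C L Z) (h' : AsmN.NBd D' N' C' L' Z')
    (h2 : ∀ v : V, v + v = 0) (hf : ∀ x : X, (∀ v : V, x • v = v) → x = 1) (hno : NO X V) (h4 : 4 ≤ Nat.card D')
    (g : X) (hD : MulAut.conj g • D = D') (hZ : g • Z = Z') : g • N = N' ∧ g • C = C' ∧ g • L = L' := by
  have h1 := NBd_cj h g
  rw [hD, hZ] at h1
  exact NBd_eq h1 h' h2 hf hno h4

/-! ### group level -/

section isnbd

variable {G : Type u} [Group G] {H U : Subgroup G}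

/-- `A` acts on `U` as the root group of the natural block `N = R R⁻ D`, `U = R R⁻ × C`, `D ≤ C`. -/
structure NBD (Q : Nrm H U) (A R D N C : Subgroup G) {F : Type} [Field F] (e f d : F →+ Q.Mod) (up lo : F → H) :
    Prop where
  bk : BkD e f d (Q.ad C) up lo
  upA : ∀ t, (up t : G) ∈ A
  Aup : ∀ a : H, (a : G) ∈ A → ∃ t, ∀ m : Q.Mod, a • m = up t • m
  AH : A ≤ H
  eR : e.range = Q.ad R
  dD : d.range = Q.ad D
  eN : (e.range ⊔ f.range) ⊔ d.range = Q.ad N
  RU : R ≤ U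
  DU : D ≤ U
  NU : N ≤ U
  CU : C ≤ U

/-- `A` acts on `U` as the root group of a natural block `N` over a field with at least four elements,
`N = R R⁻ D`, `U = R R⁻ × C`, `D ≤ C`; `D = 1` : split. -/
def IsNBD (Q : Nrm H U) (A R D N C : Subgroup G) : Prop :=
  ∃ (F : Type) (_ : Field F) (_ : Finite F) (_ : CharP F 2) (e f d : F →+ Q.Mod) (up lo : F → H),
    4 ≤ Nat.card F ∧ NBD Q A R D N C e f d up lo

variable {Q : Nrm H U} {A R D N C : Subgroup G} {n : G}

theorem NBD.conjN {F : Type} [Field F] {e f d : F →+ Q.Mod} {up lo : F → H} (h : NBD Q A R D N C e f d up lo)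
    (hU : n ∈ normalizer (U : Set G)) (hH : n ∈ normalizer (H : Set G)) :
    NBD Q (MulAut.conj n • A) (MulAut.conj n • R) (MulAut.conj n • D) (MulAut.conj n • N) (MulAut.conj n • C)
      ((tau Q hU).toAddMonoidHom.comp e) ((tau Q hU).toAddMonoidHom.comp f) ((tau Q hU).toAddMonoidHom.comp d)
      (fun t => cjH hH (up t)) (fun t => cjH hH (lo t)) where
  bk := by
    have h1 := BkD_tr h.bk (tau Q hU) (cjH hH) fun x v => tau_smul Q hU hH x v
    rw [map_tau] at h1
    exact h1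
  upA t := conj_mem' (h.upA t)
  Aup a ha := by
    have h0 : n⁻¹ * (a : G) * n ∈ A := mem_conj.1 ha
    obtain ⟨t, ht⟩ := h.Aup ⟨_, h.AH h0⟩ h0
    refine ⟨t, fun m => ?_⟩
    have h2 := congrArg (tau Q hU) (ht ((tau Q hU).symm m))
    rw [tau_smul Q hU hH, tau_smul Q hU hH, (tau Q hU).apply_symm_apply] at h2
    have h3 : cjH hH ⟨_, h.AH h0⟩ = a := by
      apply Subtype.ext
      change n * (n⁻¹ * (a : G) * n) * n⁻¹ = a
      group
    rwa [h3] at h2
  AH := by
    intro x hx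
    have h1 := (mem_normalizer_iff.1 hH _).1 (h.AH (mem_conj.1 hx))
    have e1 : n * (n⁻¹ * x * n) * n⁻¹ = x := by group
    rwa [e1] at h1
  eR := by rw [AddMonoidHom.range_comp, h.eR, map_tau]
  dD := by rw [AddMonoidHom.range_comp, h.dD, map_tau]
  eN := by
    rw [AddMonoidHom.range_comp, AddMonoidHom.range_comp, AddMonoidHom.range_comp, ← AddSubgroup.map_sup,
      ← AddSubgroup.map_sup, h.eN, map_tau]
  RU := conj_le_U hU h.RU
  DU := conj_le_U hU h.DU
  NU := conj_le_U hU h.NU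
  CU := conj_le_U hU h.CU

theorem IsNBD.conjN (h : IsNBD Q A R D N C) (hU : n ∈ normalizer (U : Set G)) (hH : n ∈ normalizer (H : Set G)) :
    IsNBD Q (MulAut.conj n • A) (MulAut.conj n • R) (MulAut.conj n • D) (MulAut.conj n • N) (MulAut.conj n • C) := by
  obtain ⟨F, i1, i2, i3, e, f, d, up, lo, hF, h⟩ := h
  exact ⟨F, i1, i2, i3, _, _, _, _, _, hF, h.conjN hU hH⟩

/-- conjugation by `g ∈ H` -/
theorem IsNBD.conj (h : IsNBD Q A R D N C) {g : G} (hg : g ∈ H) :
    IsNBD Q (MulAut.conj g • A) (MulAut.conj g • R) (MulAut.conj g • D) (MulAut.conj g • N) (MulAut.conj g • C) :=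
  h.conjN (Q.nrm hg) (le_normalizer hg)

theorem IsNBD.AH (h : IsNBD Q A R D N C) : A ≤ H := by
  obtain ⟨F, i1, i2, i3, e, f, d, up, lo, hF, h⟩ := h
  exact h.AH

theorem IsNBD.NU (h : IsNBD Q A R D N C) : N ≤ U := by
  obtain ⟨F, i1, i2, i3, e, f, d, up, lo, hF, h⟩ := h
  exact h.NU

theorem IsNBD.CU (h : IsNBD Q A R D N C) : C ≤ U := by
  obtain ⟨F, i1, i2, i3, e, f, d, up, lo, hF, h⟩ := h
  exact h.CU

theorem IsNBD.RN (h : IsNBD Q A R D N C) : R ≤ N := by
  obtain ⟨F, i1, i2, i3, e, f, d, up, lo, hF, h⟩ := h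
  intro x hx
  have h1 : Q.of x (h.RU hx) ∈ e.range := by rw [h.eR]; exact hx
  have h2 : Q.of x (h.RU hx) ∈ Q.ad N := by
    rw [← h.eN]
    exact AddSubgroup.mem_sup_left (AddSubgroup.mem_sup_left h1)
  exact h2

theorem IsNBD.DN (h : IsNBD Q A R D N C) : D ≤ N := by
  obtain ⟨F, i1, i2, i3, e, f, d, up, lo, hF, h⟩ := h
  intro x hx
  have h1 : Q.of x (h.DU hx) ∈ d.range := by rw [h.dD]; exact hx
  have h2 : Q.of x (h.DU hx) ∈ Q.ad N := by
    rw [← h.eN]
    exact AddSubgroup.mem_sup_right h1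
  exact h2

theorem IsNBD.DC (h : IsNBD Q A R D N C) : D ≤ C := by
  obtain ⟨F, i1, i2, i3, e, f, d, up, lo, hF, h⟩ := h
  intro x hx
  have h1 : Q.of x (h.DU hx) ∈ d.range := by rw [h.dD]; exact hx
  obtain ⟨y, hy⟩ := h1
  have h2 := h.bk.dC y
  rw [hy] at h2
  exact h2

/-- module level, over the group induced by `H` on `U` -/
theorem IsNBD.toNBd (h : IsNBD Q A R D N C) :
    AsmN.NBd ((A.subgroupOf H).map (ph Q)) (Q.ad N) (Q.ad C) (Q.ad R) (Q.ad D) := by
  obtain ⟨F, i1, i2, i3, e, f, d, up, lo, hF, h⟩ := h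
  refine ⟨F, i1, i2, e, f, d, fun t => ph Q (up t), fun t => ph Q (lo t), mapD h.bk (ph Q) (ph_smul Q), ?_, h.eN, h.eR,
    h.dD⟩
  apply le_antisymm
  · rw [rt, closure_le]
    rintro _ ⟨t, rfl⟩
    exact ⟨up t, mem_subgroupOf.2 (h.upA t), rfl⟩
  · rintro _ ⟨a, ha, rfl⟩
    obtain ⟨t, ht⟩ := h.Aup a (mem_subgroupOf.1 ha)
    rw [(ph_eq Q).2 ht]
    exact subset_closure ⟨t, rfl⟩

theorem two_ofN {U : Subgroup G} (Q : Nrm H U) (hU2 : IsElementaryAbelian 2 U) (v : Q.Mod) : v + v = 0 :=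
  Nrm.ext (by
    rw [Nrm.val_add, Nrm.val_zero]
    have := hU2.2 _ (Q.val_mem v)
    rwa [pow_two] at this)

theorem IsNBD.card4 (h : IsNBD Q A R D N C) (hU2 : IsElementaryAbelian 2 U) :
    4 ≤ Nat.card ((A.subgroupOf H).map (ph Q)) := by
  obtain ⟨F, i1, i2, i3, e, f, d, up, lo, hF, h⟩ := h
  have b := mapD h.bk (ph Q) (ph_smul Q)
  have h1 : rt (fun t => ph Q (up t)) = (A.subgroupOf H).map (ph Q) := by
    apply le_antisymm
    · rw [rt, closure_le]
      rintro _ ⟨t, rfl⟩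
      exact ⟨up t, mem_subgroupOf.2 (h.upA t), rfl⟩
    · rintro _ ⟨a, ha, rfl⟩
      obtain ⟨t, ht⟩ := h.Aup a (mem_subgroupOf.1 ha)
      rw [(ph_eq Q).2 ht]
      exact subset_closure ⟨t, rfl⟩
  rw [← h1, b.card_rt (two_ofN Q hU2) (fun x hx => XH_faith Q x hx)]
  exact hF

/-- **a block depends only on its root group (as a group acting on `U`) and its radical** -/
theorem IsNBD.eq' [Finite G] {A' R' N' C' : Subgroup G} (h : IsNBD Q A R D N C) (h' : IsNBD Q A' R' D N' C')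
    (hU2 : IsElementaryAbelian 2 U) (hno : NoOverM U H)
    (hA : (A.subgroupOf H).map (ph Q) = (A'.subgroupOf H).map (ph Q)) : R = R' ∧ N = N' ∧ C = C' := by
  have h1 := h.toNBd
  have h3 := h'.toNBd
  rw [← hA] at h3
  obtain ⟨h5, h6, h7⟩ := NBd_eq h1 h3 (two_ofN Q hU2) (fun x hx => XH_faith Q x hx) (no_XH Q hno) (h.card4 hU2)
  have k : ∀ {R D N C A : Subgroup G}, IsNBD Q A R D N C → R ≤ U := by
    rintro R D N C A ⟨F, i1, i2, i3, e, f, d, up, lo, hF, h⟩
    exact h.RU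
  exact ⟨ad_inj Q (k h) (k h') h7, ad_inj Q h.NU h'.NU h5, ad_inj Q h.CU h'.CU h6⟩

theorem IsNBD.eq [Finite G] {R' N' C' : Subgroup G} (h : IsNBD Q A R D N C) (h' : IsNBD Q A R' D N' C')
    (hU2 : IsElementaryAbelian 2 U) (hno : NoOverM U H) : R = R' ∧ N = N' ∧ C = C' := h.eq' h' hU2 hno rfl

/-- **conjugate root groups with conjugate radicals have conjugate blocks** -/
theorem IsNBD.perm [Finite G] {A' R' D' N' C' : Subgroup G} (h : IsNBD Q A R D N C) (h' : IsNBD Q A' R' D' N' C')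
    (hU2 : IsElementaryAbelian 2 U) (hno : NoOverM U H) (hU : n ∈ normalizer (U : Set G))
    (hH : n ∈ normalizer (H : Set G)) (hA : MulAut.conj n • A = A') (hD : MulAut.conj n • D = D') :
    MulAut.conj n • R = R' ∧ MulAut.conj n • N = N' ∧ MulAut.conj n • C = C' := by
  have h1 := h.conjN hU hH
  rw [hA, hD] at h1
  exact h1.eq h' hU2 hno

/-- the same, if only the images of the root groups in `H / C_H(U)` are conjugate -/
theorem IsNBD.perm' [Finite G] {A' R' D' N' C' : Subgroup G} (h : IsNBD Q A R D N C) (h' : IsNBD Q A' R' D' N' C')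
    (hU2 : IsElementaryAbelian 2 U) (hno : NoOverM U H) (hU : n ∈ normalizer (U : Set G))
    (hH : n ∈ normalizer (H : Set G))
    (hA : ((MulAut.conj n • A).subgroupOf H).map (ph Q) = (A'.subgroupOf H).map (ph Q))
    (hD : MulAut.conj n • D = D') :
    MulAut.conj n • R = R' ∧ MulAut.conj n • N = N' ∧ MulAut.conj n • C = C' := by
  have h1 := h.conjN hU hH
  rw [hD] at h1
  exact h1.eq' h' hU2 hno hA

/-- `[U, A] = R D` -/
theorem IsNBD.comm [Finite G] (h : IsNBD Q A R D N C) (hU2 : IsElementaryAbelian 2 U) :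
    Q.ad (closure (covs U A)) = Q.ad R ⊔ Q.ad D := by
  have h1 := NBd_brk h.toNBd (two_ofN Q hU2) (fun x hx => XH_faith Q x hx) (by have := h.card4 hU2; omega)
  rw [← h1]
  have h3 : brk Q.Mod ((A.subgroupOf H).map (ph Q)) = brk Q.Mod (A.subgroupOf H) := by
    rw [brk, brk]
    congr 1
    ext m
    constructor
    · rintro ⟨_, ⟨a, ha, rfl⟩, v, rfl⟩
      exact ⟨a, ha, v, rfl⟩
    · rintro ⟨a, ha, v, rfl⟩
      exact ⟨_, ⟨a, ha, rfl⟩, v, rfl⟩
  rw [h3, brk_eq, subgroupOf_map_subtype, inf_eq_left.2 h.AH]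

/-- `C_U(A) = R C` -/
theorem IsNBD.cent [Finite G] (h : IsNBD Q A R D N C) (hU2 : IsElementaryAbelian 2 U) {m : Q.Mod} :
    (∀ a ∈ A, a * Q.val m * a⁻¹ = Q.val m) ↔ m ∈ Q.ad R ⊔ Q.ad C := by
  rw [← NBd_fxd h.toNBd (two_ofN Q hU2) (fun x hx => XH_faith Q x hx), mem_fxd]
  constructor
  · rintro h1 _ ⟨a, ha, rfl⟩
    exact Nrm.ext (h1 a (mem_subgroupOf.1 ha))
  · intro h1 a ha
    have h3 := h1 _ ⟨⟨a, h.AH ha⟩, mem_subgroupOf.2 ha, rfl⟩
    exact congrArg Q.val h3

/-- split blocks -/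
theorem IsNB.toD {A R N C : Subgroup G} (h : IsNB Q A R N C) : IsNBD Q A R ⊥ N C := by
  obtain ⟨F, i1, i2, i3, e, f, up, lo, hF, h⟩ := h
  have h0 : (0 : F →+ Q.Mod).range = ⊥ := by
    rw [eq_bot_iff]
    rintro _ ⟨x, rfl⟩
    exact AddSubgroup.mem_bot.2 rfl
  have h1 : Q.ad (⊥ : Subgroup G) = ⊥ := by
    rw [eq_bot_iff]
    intro m hm
    exact AddSubgroup.mem_bot.2 (Nrm.eq_zero_iff.2 (Subgroup.mem_bot.1 hm))
  exact ⟨F, i1, i2, i3, e, f, 0, up, lo, hF,
    { bk :=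
        { dC := fun _ => AddSubgroup.zero_mem _
          dec := h.bk.dec
          ind := h.bk.ind
          up_e := h.bk.up_e
          up_f := fun t x => by rw [h.bk.up_f, AddMonoidHom.zero_apply, add_zero]
          up_c := h.bk.up_c
          lo_e := fun t x => by rw [h.bk.lo_e, AddMonoidHom.zero_apply, add_zero]
          lo_f := h.bk.lo_f
          lo_c := h.bk.lo_c }
      upA := h.upA
      Aup := h.Aup
      AH := h.AH
      eR := h.eR
      dD := by rw [h0, h1]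
      eN := by rw [h0, sup_bot_eq, h.eN]
      RU := h.RU
      DU := bot_le
      NU := h.NU
      CU := h.CU }⟩

end isnbd

end Cfsg.Agent.Omega.NOThreeL.RRed.Blk.TypesNat
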