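import Cfsg.Agent.Omega.NOThreeL.RRed.Blk.AcNGen
import Cfsg.Agent.Omega.NOThreeL.RRed.Blk.AcNOf
import Cfsg.Agent.Omega.NOThreeL.RRed.Blk.AcNSame
import Cfsg.Agent.Omega.NOThreeL.RRed.Blk.TypesNormN
import Cfsg.Agent.Omega.NOThreeL.RRed.Blk.TThreeD

/-!
# NO-3L, box R: active natural `P ∈ P*(S)`, radicals allowed: the field `typ` of `AcN` (#26560, #26972)

* `exC` : the data of the block over `XH Q` at a given Weyl element;
* `nC_up` : a good generator acting as `up β` normalises `C`;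
* **`typ_nat`**.
-/

set_option autoImplicit false
set_option linter.unusedSectionVars false

namespace Cfsg.Agent.Omega.NOThreeL.RRed.Blk.AcNTyp

open Subgroup Cfsg Cfsg.Agent.ZN Cfsg.Agent.Omega.MinPar
open Cfsg.Agent.Omega.FFThm Cfsg.Agent.Lib.SL2Mat
open Cfsg.Agent.Omega.FrameFF (cv)
open Cfsg.Agent.Omega.NatPair (ap ap_mul ap_one ap_inj)
open Cfsg.Agent.Omega.NO3S.ThmB Cfsg.Agent.Omega.NO3S.KeyRad
open Cfsg.Agent.Omega.NOThreeL.RSplit (Nrm)
open Cfsg.Agent.Omega.NOThreeL.RRed.NS (fxd brk mem_fxd DD YY smul_eq_iff wl exists_p acts_conj mem_conj_iff)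
open Cfsg.Agent.Omega.NOThreeL.RRed.Blk.TypesNat (XH ph ph_smul XH_faith ph_eq no_XH)
open Cfsg.Agent.Omega.NOThreeL.RRed.Blk.AsmCore
open Cfsg.Agent.Omega.NOThreeL.RRed.Blk.TypesGam (rt NO)
open Cfsg.Agent.Omega.NOThreeL.RRed.Blk.GamD (BkD)
open Cfsg.Agent.Omega.NOThreeL.RRed.Blk.AsmN (NBd)
open Cfsg.Agent.Omega.NOThreeL.RRed.Blk.AcNMat (inv_cases)
open Cfsg.Agent.Omega.NOThreeL.RRed.Blk.AcNGen
open scoped Pointwise

universe u

/-! ### module level -/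

section mod

variable {X : Type u} {W : Type u} [Group X] [AddCommGroup W] [DistribMulAction X W]

theorem conj_of_comm {D : Subgroup X} {x : X} (hx : ∀ y ∈ D, x * y = y * x) : MulAut.conj x • D = D := by
  apply le_antisymm
  · rintro _ ⟨y, hy, rfl⟩
    change x * y * x⁻¹ ∈ D
    rw [hx y hy, mul_inv_cancel_right]
    exact hy
  · intro y hy
    refine ⟨y, hy, ?_⟩
    change x * y * x⁻¹ = y
    rw [hx y hy, mul_inv_cancel_right]

theorem stab_of [Finite X] [Finite W] (h2 : ∀ v : W, v + v = 0) (hf : ∀ x : X, (∀ v : W, x • v = v) → x = 1)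
    (hno : NO X W) {D : Subgroup X} {N C L Z : AddSubgroup W} (nb : NBd D N C L Z) (h4 : 4 ≤ Nat.card D) {x : X}
    (hx : ∀ y ∈ D, x * y = y * x) (hZ : ∀ m ∈ Z, x • m = m) : ∀ m ∈ C, x • m ∈ C := by
  have h1 := nb.conj x
  rw [conj_of_comm hx] at h1
  have hZ' : Z.map (DistribSMul.toAddMonoidHom W x) = Z := by
    apply le_antisymm
    · rintro _ ⟨m, hm, rfl⟩
      change x • m ∈ Z
      rw [hZ m hm]
      exact hm
    · exact fun m hm => ⟨m, hm, hZ m hm⟩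
  rw [hZ'] at h1
  obtain ⟨-, h2', -⟩ := NBd.eq_of h2 hf hno h4 nb h1
  intro m hm
  have h3 : x • m ∈ C.map (DistribSMul.toAddMonoidHom W x) := ⟨m, hm, rfl⟩
  rwa [← h2'] at h3

end mod

variable {G : Type u} [Group G] {F : Type} [Field F] {S P V D U H : Subgroup G} {k : ℕ} {M : NatKM F S P V D k}

theorem two_ad (Q : Nrm H U) (hU2 : IsElementaryAbelian 2 U) (v : Q.Mod) : v + v = 0 := Nrm.ext (by
  rw [Nrm.val_add, Nrm.val_zero]
  have := hU2.2 _ (Q.val_mem v)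
  rwa [pow_two] at this)

theorem four_le [CharP F 2] (hF : 2 < Nat.card F) : 4 ≤ Nat.card F := by
  by_contra hcon
  have h6 : Nat.card F = 3 := by omega
  have h7 : (3 : ℕ) • (1 : F) = 0 := by rw [← h6]; exact card_nsmul_eq_zero'
  have h8 : (2 : ℕ) • (1 : F) = 0 := by rw [two_nsmul]; exact CharTwo.add_self_eq_zero 1
  have h9 : (3 : ℕ) • (1 : F) = (2 : ℕ) • (1 : F) + 1 := succ_nsmul _ _
  rw [h7, h8, zero_add] at h9
  exact zero_ne_one h9

section nc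

variable [Finite G] [Finite F] [CharP F 2] (h : Nb M) (hF : 2 < Nat.card F) (Q : Nrm H U) (hPH : P ≤ H) (hVU : V ≤ U)
  (hU2 : IsElementaryAbelian 2 U) (noH : NoOverM U H) {A : Subgroup G} {j : Fin k} (O : NO3S.ThmB.One M U A j)
  (hAP : A ≤ P) {p : G} (hp : p ∈ P) (hpA : ActsSL M.e V D p (sg j (wl F)))
include h hF hVU hU2 O hAP hp hpA hPH

/-- the block over `XH Q` -/
theorem exC : ∃ (e f d : F →+ Q.Mod) (up' lo' : F → XH Q),
    BkD e f d (Q.ad (centralizer ((A ⊔ MulAut.conj p • A : Subgroup G) : Set G))) up' lo' ∧ rt up' = im Q A ∧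
    (∀ t, lo' t ∈ im Q (MulAut.conj p • A)) ∧ e.range ⊔ d.range = Q.ad (YY h j) ∧
    e.range ⊔ f.range ⊔ d.range = Q.ad (blk M j) ∧ d.range = Q.ad (DD M j) := by
  obtain ⟨e, f, d, up, lo, hb, h1, h2, h3, h4, h5, h6⟩ := AcNAt.exists_bkD_at h hF Q hPH hVU O hAP hp hpA
  refine ⟨e, f, d, _, _, TypesNat.mapD hb (ph Q) (ph_smul Q), ?_, fun t => ph_mem_im Q (h2 t), h4, h5, h6⟩
  apply le_antisymm
  · rw [rt, closure_le]
    rintro _ ⟨t, rfl⟩
    exact ph_mem_im Q (h1 t)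
  · rintro _ ⟨a, ha, rfl⟩
    obtain ⟨t, ht⟩ := h3 a ha
    have h6 : ph Q a = ph Q (up t) := (ph_eq Q).2 ht
    rw [h6]
    exact subset_closure ⟨t, rfl⟩

include Q noH

/-- **a good generator acting as `up β` normalises `C`** -/
theorem nC_up {c : G} (hc : Gn P V U c) {β : F} (hβ : ActsSL M.e V D c (sg j (up β))) {w : G} (hw : w ∈ U)
    (hwE : w ∈ centralizer ((A ⊔ MulAut.conj p • A : Subgroup G) : Set G)) :
    c * w * c⁻¹ ∈ centralizer ((A ⊔ MulAut.conj p • A : Subgroup G) : Set G) := by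
  obtain ⟨e, f, d, up', lo', hb, hrt, hlo, -, h5, h6⟩ := exC h hF Q hPH hVU hU2 O hAP hp hpA
  have h2 := two_ad Q hU2
  have hf : ∀ x : XH Q, (∀ v : Q.Mod, x • v = v) → x = 1 := fun x hx => XH_faith Q x hx
  have hno : NO (XH Q) Q.Mod := no_XH Q noH
  have h4 : 4 ≤ Nat.card F := four_le hF
  have nb : NBd (im Q A) (Q.ad (blk M j)) (Q.ad (centralizer ((A ⊔ MulAut.conj p • A : Subgroup G) : Set G))) e.range
      (Q.ad (DD M j)) := ⟨F, inferInstance, inferInstance, e, f, d, up', lo', hb, hrt, h5, rfl, h6⟩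
  have hx : ∀ y ∈ im Q A, ph Q ⟨c, hPH hc.1⟩ * y = y * ph Q ⟨c, hPH hc.1⟩ := by
    rintro _ ⟨a, ha, rfl⟩
    rw [← map_mul, ← map_mul, ph_eq]
    intro m
    refine Nrm.ext ?_
    rw [Nrm.val_smul, Nrm.val_smul]
    exact cm_up h O hAP hc hβ ha (Q.val_mem m)
  have hZ : ∀ m ∈ Q.ad (DD M j), ph Q ⟨c, hPH hc.1⟩ • m = m := by
    intro m hm
    rw [ph_smul, smul_eq_iff]
    have h7 : (Q.val m) ∈ DD M j := hm
    exact mul_inv_eq_iff_eq_mul.2 (hβ.2 _ h7.2)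
  have hcard : 4 ≤ Nat.card (im Q A) := by
    rw [← hrt, hb.card_rt h2 hf]
    exact h4
  have := stab_of h2 hf hno nb hcard hx hZ (Q.of w hw) hwE
  rw [ph_smul] at this
  have h8 : Q.val ((⟨c, hPH hc.1⟩ : H) • Q.of w hw) ∈ centralizer ((A ⊔ MulAut.conj p • A : Subgroup G) : Set G) := this
  rwa [Nrm.val_smul, Nrm.val_of] at h8

/-- **a good generator acting as `lo γ` normalises `C`** -/
theorem nC_lo {c : G} (hc : Gn P V U c) {γ : F} (hγ : ActsSL M.e V D c (sg j (lo γ))) {w : G} (hw : w ∈ U)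
    (hwE : w ∈ centralizer ((A ⊔ MulAut.conj p • A : Subgroup G) : Set G)) :
    c * w * c⁻¹ ∈ centralizer ((A ⊔ MulAut.conj p • A : Subgroup G) : Set G) := by
  obtain ⟨e, f, d, up', lo', hb, hrt, hlo, -, h5, h6⟩ := exC h hF Q hPH hVU hU2 O hAP hp hpA
  have h2 := two_ad Q hU2
  have hf : ∀ x : XH Q, (∀ v : Q.Mod, x • v = v) → x = 1 := fun x hx => XH_faith Q x hx
  have hno : NO (XH Q) Q.Mod := no_XH Q noH
  have h4 : 4 ≤ Nat.card F := four_le hF
  have h5' : f.range ⊔ e.range ⊔ d.range = Q.ad (blk M j) := by rw [← h5, sup_comm f.range]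
  have nb : NBd (rt lo') (Q.ad (blk M j)) (Q.ad (centralizer ((A ⊔ MulAut.conj p • A : Subgroup G) : Set G))) f.range
      (Q.ad (DD M j)) := ⟨F, inferInstance, inferInstance, f, e, d, lo', up', hb.swap, rfl, h5', rfl, h6⟩
  -- `p⁻¹ c p` acts as `up (-γ)`
  have hUp : ∀ q ∈ P, ∀ u ∈ U, q⁻¹ * u * q ∈ U := fun q hq u hu => by
    have h1 := (mem_normalizer_iff.1 (Q.nrm (inv_mem (hPH hq))) u).1 hu
    rwa [inv_inv] at h1
  have hc' : Gn P V U (p⁻¹ * c * p) := by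
    have h1 := Gn.cj h hc (inv_mem hp) (fun u hu => by
      have := hUp p⁻¹ (inv_mem hp) u hu
      exact this)
    rwa [inv_inv] at h1
  have hcA : ActsSL M.e V D (p⁻¹ * c * p) (sg j (up (-γ))) := by
    have k1 := h.acts_mul hc.1 (h.acts_inv hp hpA) hγ
    have k2 := h.acts_mul hp k1 hpA
    have k3 : (sg j (wl F))⁻¹ * sg j (lo γ) * sg j (wl F) = (sg j (up (-γ)) : Fin k → _) := by
      rw [mul_assoc, inv_mul_eq_iff_eq_mul, ← sg_mul, ← sg_mul]
      congr 1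
      have k4 := NS.wl_up (-γ)
      rw [neg_neg] at k4
      rw [← k4, inv_mul_cancel_right]
    rwa [k3] at k2
  have hcm : ∀ y ∈ im Q (MulAut.conj p • A), ph Q ⟨c, hPH hc.1⟩ * y = y * ph Q ⟨c, hPH hc.1⟩ := by
    rintro _ ⟨a, ha, rfl⟩
    have ha' : p⁻¹ * (a : G) * p ∈ A := mem_conj_iff.1 ha
    rw [← map_mul, ← map_mul, ph_eq]
    intro m
    refine Nrm.ext ?_
    rw [Nrm.val_smul, Nrm.val_smul]
    have k5 := cm_up h O hAP hc' hcA ha' (hUp p hp _ (Q.val_mem m))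
    change c * (a : G) * Q.val m * (c * (a : G))⁻¹ = (a : G) * c * Q.val m * ((a : G) * c)⁻¹
    calc c * (a : G) * Q.val m * (c * (a : G))⁻¹
        = p * (p⁻¹ * c * p * (p⁻¹ * (a : G) * p) * (p⁻¹ * Q.val m * p) * (p⁻¹ * c * p * (p⁻¹ * (a : G) * p))⁻¹) * p⁻¹ := by
          group
      _ = p * (p⁻¹ * (a : G) * p * (p⁻¹ * c * p) * (p⁻¹ * Q.val m * p) * (p⁻¹ * (a : G) * p * (p⁻¹ * c * p))⁻¹) * p⁻¹ := by
          rw [k5]
      _ = _ := by group
  have hx : ∀ y ∈ rt lo', ph Q ⟨c, hPH hc.1⟩ * y = y * ph Q ⟨c, hPH hc.1⟩ := by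
    have k6 : rt lo' ≤ im Q (MulAut.conj p • A) := by
      rw [rt, closure_le]
      rintro _ ⟨t, rfl⟩
      exact hlo t
    exact fun y hy => hcm y (k6 hy)
  have hZ : ∀ m ∈ Q.ad (DD M j), ph Q ⟨c, hPH hc.1⟩ • m = m := by
    intro m hm
    rw [ph_smul, smul_eq_iff]
    have h7 : (Q.val m) ∈ DD M j := hm
    exact mul_inv_eq_iff_eq_mul.2 (hγ.2 _ h7.2)
  have hcard : 4 ≤ Nat.card (rt lo') := by
    rw [hb.swap.card_rt h2 hf]
    exact h4
  have := stab_of h2 hf hno nb hcard hx hZ (Q.of w hw) hwE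
  rw [ph_smul] at this
  have h8 : Q.val ((⟨c, hPH hc.1⟩ : H) • Q.of w hw) ∈ centralizer ((A ⊔ MulAut.conj p • A : Subgroup G) : Set G) := this
  rwa [Nrm.val_smul, Nrm.val_of] at h8

/-- **a good generator which acts as an involution on the block normalises `C`** -/
theorem nC_same {c : G} (hc : Gn P V U c) {B : Matrix.SpecialLinearGroup (Fin 2) F} (hB : ActsSL M.e V D c (sg j B))
    (hBB : B * B = 1) {w : G} (hw : w ∈ U)
    (hwE : w ∈ centralizer ((A ⊔ MulAut.conj p • A : Subgroup G) : Set G)) :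
    c * w * c⁻¹ ∈ centralizer ((A ⊔ MulAut.conj p • A : Subgroup G) : Set G) := by
  rcases inv_cases B hBB with ⟨β, rfl⟩ | ⟨s, γ, hs⟩
  · exact nC_up h hF Q hPH hVU hU2 noH O hAP hp hpA hc hB hw hwE
  · obtain ⟨g, hg, hgs⟩ := O.all s
    have hgP := hAP hg
    have hUg : ∀ u ∈ U, g⁻¹ * u * g ∈ U := fun u hu => by
      have h1 := (mem_normalizer_iff.1 (Q.nrm (inv_mem (hPH hgP))) u).1 hu
      rwa [inv_inv] at h1
    have hc' : Gn P V U (g * c * g⁻¹) := Gn.cj h hc hgP hUg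
    have hcA : ActsSL M.e V D (g * c * g⁻¹) (sg j (lo γ)) := by
      have k1 := h.acts_mul hc.1 hgs hB
      have k2 := h.acts_mul (inv_mem hgP) k1 (h.acts_inv hgP hgs)
      have k3 : sg j (up s) * sg j B * (sg j (up s))⁻¹ = (sg j (lo γ) : Fin k → _) := by
        rw [mul_inv_eq_iff_eq_mul, ← sg_mul, ← sg_mul, ← hs, inv_mul_cancel_right]
      rwa [k3] at k2
    have k4 := nC_lo h hF Q hPH hVU hU2 noH O hAP hp hpA hc' hcA hw hwE
    have fixg : ∀ y ∈ centralizer ((A ⊔ MulAut.conj p • A : Subgroup G) : Set G), g * y = y * g := fun y hy =>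
      mem_centralizer_iff.1 hy g (mem_sup_left hg)
    have e1 : g⁻¹ * w * g = w := by
      rw [mul_assoc, ← fixg w hwE, inv_mul_cancel_left]
    have e2 : c * w * c⁻¹ = g⁻¹ * (g * c * g⁻¹ * w * (g * c * g⁻¹)⁻¹) * g := by
      calc c * w * c⁻¹ = c * (g⁻¹ * w * g) * c⁻¹ := by rw [e1]
        _ = _ := by group
    rw [e2, mul_assoc, ← fixg _ k4, inv_mul_cancel_left]
    exact k4

end nc

end Cfsg.Agent.Omega.NOThreeL.RRed.Blk.AcNTyp
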