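import Cfsg.Agent.Omega.NOThreeL.RRed.Blk.FamOf
import Cfsg.Agent.Omega.NOThreeL.RRed.Blk.AcNSame

/-!
# NO-3L, box R: the inputs `InN` of the family of nonsplit blocks

* **`oth_of`** : the other members of `EE` centralise the natural block (field `oth` of `InN`).
-/

set_option autoImplicit false
set_option linter.unusedSectionVars false

namespace Cfsg.Agent.Omega.NOThreeL.RRed.Blk.FamOf

open Subgroup Cfsg Cfsg.Agent.ZN Cfsg.Agent.Omega.MinPar
open Cfsg.Agent.Omega.FFThm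
open Cfsg.Agent.Omega.FrameFF (cv)
open Cfsg.Agent.Omega.NO3S.ThmB Cfsg.Agent.Omega.NO3S.KeyRad
open Cfsg.Agent.Omega.NOThreeL.Merge (MZ le_MZ isLoc_MZ)
open Cfsg.Agent.Omega.NOThreeL.RSplit (Nrm)
open Cfsg.Agent.Omega.NOThreeL.RRed.NS (fxd brk mem_fxd conj_eq_cj DD smul_eq_iff)
open Cfsg.Agent.Omega.NOThreeL.RRed.Blk.TypesNat (XH ph ph_smul)
open Cfsg.Agent.Omega.NOThreeL.RRed.Blk.AsmCore (im mem_im ph_mem_im im_mono im_cj im_le_of EP KP)
open scoped Pointwise

universe u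

variable {G : Type u} [Group G] [Finite G] {S : Sylow 2 G}

/-- **The other members of `EE` centralise the block.** -/
theorem oth_of (hc : IsCharacteristicTwoType G) (hL : IsLoc (S : Subgroup G) (MZ (S : Subgroup G)))
    (no : NoOverM (zl (S : Subgroup G) (MZ (S : Subgroup G))) (MZ (S : Subgroup G)))
    (Q : Nrm (normalizer (MZ (S : Subgroup G) : Set G)) (zl (S : Subgroup G) (MZ (S : Subgroup G)))) :
    ∀ D N Z, IsRt Q (zl (S : Subgroup G) (MZ (S : Subgroup G))) D N Z →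
      ∀ A ∈ im Q '' AsmCore.EE (S : Subgroup G) (zl (S : Subgroup G) (MZ (S : Subgroup G))), A ≠ D →
        ∀ a ∈ A, ∀ m ∈ N, a • m = m := by
  rintro D N Z ⟨P, hP, F, i1, i2, i3, k, M, A, j, hF, hA, rfl, O, rfl, rfl⟩ _ ⟨A', hA', rfl⟩ hne _ ⟨a, ha, rfl⟩ m hm
  have h := Inst.nb hc hP M
  have hPM := le_MZ hP
  have haA : (a : G) ∈ A' := ha
  have hmj : Q.val m ∈ blk M j := hm
  have key : (a : G) * Q.val m = Q.val m * a := by
    by_cases hmv : A' ≤ centralizer (zl (S : Subgroup G) P : Set G)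
    · exact (mem_centralizer_iff.1 (hmv haA) _ (blk_le h j hmj)).symm
    · obtain ⟨i, O'⟩ := AsmAct.one_of hc hL hP hPM no M ⟨hA', hmv⟩
      by_cases hij : i = j
      · subst hij
        exact absurd (AcNSame.same_im hc hL hP hPM le_normalizer (no_norm hL.le no) Q M hA ⟨hA', hmv⟩ O O') hne
      · obtain ⟨β, hβ⟩ := O'.act a haA
        exact cent_sg h (hP.le (hA'.1 haA)) hβ (blk_le h j hmj) (e_blk h hij hmj)
  rw [ph_smul, smul_eq_iff, key, mul_inv_cancel_right]

end Cfsg.Agent.Omega.NOThreeL.RRed.Blk.FamOf
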