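import Cfsg.Agent.Omega.NOThreeL.RRed.Blk.AsmAct

/-!
# NO-3L, box R: assembly of the natural blocks, natural `P`, `|F| ≥ 4`: the complements

* `exists_bk_p` : `TypesNat.exists_bk` with the action of `p`;
* `exists_EP` : every block is the block of a member of `EP`;
* `KP_cent` : `KP` centralises `C_U(O²(P))`;
* **`typC_of`** : the field `typ`, `KP` normalises `C`, `C_U(KP) ≤ C`, the other blocks are in `C`;
* **`brk_sup_fxd`** : `[U, KP] ⊔ C_U(KP) = U`;
* **`typC_nat`** : the same over `XH Q`.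
-/

set_option autoImplicit false
set_option linter.unusedSectionVars false

namespace Cfsg.Agent.Omega.NOThreeL.RRed.Blk.AsmAct

open Subgroup Cfsg Cfsg.Agent.ZN Cfsg.Agent.Omega.MinPar
open Cfsg.Agent.Omega.FFThm Cfsg.Agent.Lib.SL2Mat
open Cfsg.Agent.Omega.NatPair (ap ap_inv_ap)
open Cfsg.Agent.Omega.FrameFF (cv)
open Cfsg.Agent.Omega.NO3S.ThmB Cfsg.Agent.Omega.NO3S.KeyRad
open Cfsg.Agent.Omega.NOThreeL.RSplit (Nrm)
open Cfsg.Agent.Omega.NOThreeL.RRed.Blk.TypesGam (Bk rt)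
open Cfsg.Agent.Omega.NOThreeL.RRed.Blk.Split (Sp ncl mem_ncl le_ncl)
open Cfsg.Agent.Omega.NOThreeL.RRed.Blk.TypesNat (XH ph ph_smul XH_faith ph_eq exists_bk blk_ext e_mul ad_inf sup_top)
open Cfsg.Agent.Omega.NOThreeL.RRed.Blk.Asm (Ac NB)
open Cfsg.Agent.Omega.NOThreeL.RRed.Blk.AsmCore
open Cfsg.Agent.MinSimple.VModule (oddGen)
open scoped Pointwise

universe u

variable {G : Type u} [Group G]

section bkp

open Cfsg.Agent.Omega.NOThreeL.RRed.NS hiding rt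

variable {F : Type} [Field F] {S P V D U H : Subgroup G} {k : ℕ}

/-- `TypesNat.exists_bk`, with the action of `p` -/
theorem exists_bk_p [Finite G] [Finite F] [CharP F 2] {M : NatKM F S P V D k} (h : Nb M) (hF : 2 < Nat.card F)
    (Q : Nrm H U) (hPH : P ≤ H) (hVU : V ≤ U) {A : Subgroup G} {j : Fin k} (O : NO3S.ThmB.One M U A j) (hAP : A ≤ P)
    (hD : DD M j = ⊥) :
    ∃ (e f : F →+ Q.Mod) (up lo : F → H) (p : G), p ∈ P ∧ ActsSL M.e V D p (sg j (NS.wl F)) ∧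
      Bk e f (Q.ad (centralizer ((A ⊔ MulAut.conj p • A : Subgroup G) : Set G))) up lo ∧
      (∀ t, (up t : G) ∈ A) ∧ (∀ t, (lo t : G) ∈ MulAut.conj p • A) ∧
      (∀ a (ha : a ∈ A), ∃ t, ∀ m : Q.Mod, (⟨a, hPH (hAP ha)⟩ : H) • m = up t • m) ∧
      e.range = Q.ad (YY h j) ∧ e.range ⊔ f.range = Q.ad (blk M j) := by
  obtain ⟨l, g, C⟩ := exists_cd h hF j
  have hg : ∀ x, g x = 1 := fun x => by
    have h1 := C.gDD h x
    rw [hD, Subgroup.mem_bot] at h1
    exact h1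
  obtain ⟨p, hp, hpA⟩ := exists_p M j
  have hfm : ∀ t, p * l t * p⁻¹ ∈ blk M j := fun t => conj_blk h hp hpA (C.lm t)
  have hlU : ∀ t, l t ∈ U := fun t => hVU (C.lV h t)
  have hbU : ∀ {w}, w ∈ blk M j → w ∈ U := fun hw => hVU (blk_le h j hw)
  have hfe : ∀ t, M.e (p * l t * p⁻¹) j = ![0, t] := fun t => by
    rw [e_conj_blk h hpA (C.lm t), C.le]
    refine vec_eq ?_ ?_
    · rw [Cfsg.Agent.Omega.NatPair.ap_zero']
      simp [wl]
    · rw [Cfsg.Agent.Omega.NatPair.ap_one']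
      simp [wl, CharTwo.neg_eq]
  let e : F →+ Q.Mod := AddMonoidHom.mk' (fun s => Q.of (l s) (hlU s)) fun s t => Nrm.ext (C.la s t)
  let f : F →+ Q.Mod := AddMonoidHom.mk' (fun s => Q.of (p * l s * p⁻¹) (hbU (hfm s))) fun s t => Nrm.ext (by
    rw [Nrm.val_of, Nrm.val_add, Nrm.val_of, Nrm.val_of, C.la]
    group)
  have hev : ∀ s, Q.val (e s) = l s := fun _ => rfl
  have hfv : ∀ s, Q.val (f s) = p * l s * p⁻¹ := fun _ => rfl
  have hef : ∀ x y, Q.val (e x + f y) ∈ blk M j ∧ M.e (Q.val (e x + f y)) j = ![x, y] := fun x y => by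
    rw [Nrm.val_add, hev, hfv]
    refine ⟨mul_mem (C.lm x) (hfm y), ?_⟩
    rw [e_mul h (C.lm x) (hfm y), C.le, hfe]
    refine vec_eq ?_ ?_ <;> simp
  -- root elements
  choose a ha haA using O.all
  have hal := all_conj h O hAP hp hpA
  choose b hb hbA using hal
  have hbP : ∀ t, b t ∈ P := fun t => conj_le_P hAP hp (hb t)
  set E : Subgroup G := A ⊔ MulAut.conj p • A with hE
  have hEP : E ≤ P := sup_le hAP (conj_le_P hAP hp)
  -- the fixed points of `E`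
  have hfix : ∀ m : Q.Mod, m ∈ Q.ad (centralizer (E : Set G)) ↔ ∀ x ∈ E, x * Q.val m * x⁻¹ = Q.val m := by
    intro m
    rw [Nrm.mem_ad, mem_centralizer_iff]
    exact forall₂_congr fun x _ => mul_inv_eq_iff_eq_mul.symm
  have h0 : Q.ad (blk M j) ⊓ Q.ad (centralizer (E : Set G)) = ⊥ := by
    rw [eq_bot_iff]
    rintro m ⟨h1, h2⟩
    have h3 := (hfix m).1 h2
    have h4 : Q.val m ∈ DD M j := mem_DD_of_fixed h O hAP hp hpA h1 (fun x hx => h3 x (mem_sup_left hx))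
      fun x hx => h3 x (mem_sup_right hx)
    rw [hD, Subgroup.mem_bot] at h4
    exact AddSubgroup.mem_bot.2 (Nrm.eq_zero_iff.2 h4)
  have hmA : (A.subgroupOf H).map H.subtype = A :=
    (subgroupOf_map_subtype _ _).trans (inf_eq_left.2 (hAP.trans hPH))
  have hcE : Q.ad (centralizer (E : Set G)) =
      (fxd (A.subgroupOf H) : AddSubgroup Q.Mod) ⊓ fxd (MulAut.conj (⟨p, hPH hp⟩ : H) • A.subgroupOf H) := by
    rw [fxd_eq, fxd_eq, map_conj, hmA, ad_inf, hE]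
    congr 1
    ext x
    rw [mem_inf, mem_centralizer_iff, mem_centralizer_iff, mem_centralizer_iff]
    constructor
    · exact fun h1 => ⟨fun y hy => h1 y (mem_sup_left hy), fun y hy => h1 y (mem_sup_right hy)⟩
    · rintro ⟨h1, h2⟩ y hy
      have h3 : A ⊔ MulAut.conj p • A ≤ centralizer ({x} : Set G) :=
        sup_le (fun z hz => mem_centralizer_singleton_iff.2 (h1 z hz))
          fun z hz => mem_centralizer_singleton_iff.2 (h2 z hz)
      exact mem_centralizer_singleton_iff.1 (h3 hy)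
  have hi : (Q.ad (centralizer (E : Set G))).index ≤ Nat.card F ^ 2 := by
    rw [hcE, pow_two]
    refine AddSubgroup.index_inf_le.trans (Nat.mul_le_mul ?_ ?_)
    · rw [index_fxd, hmA]
      exact relIndex_le h O hAP
    · rw [index_fxd_conj, index_fxd, hmA]
      exact relIndex_le h O hAP
  have hcard : Nat.card (Q.ad (blk M j)) = Nat.card F ^ 2 := by
    rw [Nrm.card_ad ((blk_le h j).trans hVU), card_blk h, hD, Subgroup.card_bot, mul_one]
  have htop := sup_top Q h0 hi hcard.ge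
  have hmem : ∀ m : Q.Mod, m ∈ Q.ad (blk M j) → ∃ x y, m = e x + f y := by
    intro m hm
    refine ⟨M.e (Q.val m) j 0, M.e (Q.val m) j 1, Nrm.ext ?_⟩
    refine blk_ext h hD hm (hef _ _).1 ?_
    rw [(hef _ _).2]
    refine vec_eq ?_ ?_ <;> simp
  have hcomb : ∀ (x : H) (B : Matrix.SpecialLinearGroup (Fin 2) F) (hB : ActsSL M.e V D (x : G) (sg j B)) (hx : (x : G) ∈ P)
      (s t s' t' : F), ap B ![s, t] = ![s', t'] → x • (e s + f t) = e s' + f t' := by
    intro x B hB hx s t s' t' hap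
    refine Nrm.ext ?_
    rw [Nrm.val_smul]
    refine blk_ext h hD (conj_blk h hx hB (hef s t).1) (hef s' t').1 ?_
    rw [e_conj_blk h hB (hef s t).1, (hef s t).2, (hef s' t').2, hap]
  refine ⟨e, f, fun t => ⟨a t, hPH (hAP (ha t))⟩, fun t => ⟨b t, hPH (hbP t)⟩, p, hp, hpA, ?_, ha, hb, ?_, ?_, ?_⟩
  · refine
      { dec := fun v => ?_
        ind := fun x y hxy => ?_
        up_e := fun t x => ?_
        up_f := fun t x => ?_
        up_c := fun t c hc => ?_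
        lo_e := fun t x => ?_
        lo_f := fun t x => ?_
        lo_c := fun t c hc => ?_ }
    · have h1 : v ∈ Q.ad (blk M j) ⊔ Q.ad (centralizer (E : Set G)) := by rw [htop]; exact AddSubgroup.mem_top _
      obtain ⟨w, hw, c, hc, rfl⟩ := AddSubgroup.mem_sup.1 h1
      obtain ⟨x, y, rfl⟩ := hmem w hw
      exact ⟨x, y, c, hc, rfl⟩
    · have h1 : e x + f y ∈ Q.ad (blk M j) ⊓ Q.ad (centralizer (E : Set G)) := ⟨(hef x y).1, hxy⟩
      rw [h0, AddSubgroup.mem_bot] at h1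
      have h2 := (hef x y).2
      rw [h1, Nrm.val_zero, Nb.e_one (M := M)] at h2
      exact ⟨(congrFun h2 0).symm, (congrFun h2 1).symm⟩
    · have h1 := hcomb ⟨a t, hPH (hAP (ha t))⟩ (up t) (haA t) (hAP (ha t)) x 0 x 0
        (by refine vec_eq ?_ ?_ <;> simp [ap_up_0, ap_up_1])
      rwa [map_zero, add_zero] at h1
    · have h1 := hcomb ⟨a t, hPH (hAP (ha t))⟩ (up t) (haA t) (hAP (ha t)) 0 x (t * x) x
        (by refine vec_eq ?_ ?_ <;> simp [ap_up_0, ap_up_1])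
      rw [map_zero, zero_add] at h1
      rw [h1, add_comm]
    · exact (smul_eq_iff Q _ c).2 ((hfix c).1 hc _ (mem_sup_left (ha t)))
    · have h1 := hcomb ⟨b t, hPH (hbP t)⟩ (lo t) (hbA t) (hbP t) x 0 x (t * x)
        (by refine vec_eq ?_ ?_ <;> simp [ap_lo_0, ap_lo_1])
      rwa [map_zero, add_zero] at h1
    · have h1 := hcomb ⟨b t, hPH (hbP t)⟩ (lo t) (hbA t) (hbP t) 0 x 0 x
        (by refine vec_eq ?_ ?_ <;> simp [ap_lo_0, ap_lo_1])
      rwa [map_zero, zero_add] at h1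
    · exact (smul_eq_iff Q _ c).2 ((hfix c).1 hc _ (mem_sup_right (hb t)))
  · -- `A` acts as the `up t`
    intro x hx
    obtain ⟨β, hβ⟩ := O.act x hx
    refine ⟨β, fun m => ?_⟩
    have h1 : m ∈ Q.ad (blk M j) ⊔ Q.ad (centralizer (E : Set G)) := by rw [htop]; exact AddSubgroup.mem_top _
    obtain ⟨w, hw, c, hc, rfl⟩ := AddSubgroup.mem_sup.1 h1
    rw [smul_add, smul_add]
    congr 1
    · refine Nrm.ext ?_
      rw [Nrm.val_smul, Nrm.val_smul]
      exact h.same (hAP hx) (hAP (ha β)) hβ (haA β) (blk_le h j hw)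
    · rw [(smul_eq_iff Q _ c).2 ((hfix c).1 hc _ (mem_sup_left hx)),
        (smul_eq_iff Q _ c).2 ((hfix c).1 hc _ (mem_sup_left (ha β)))]
  · ext m
    constructor
    · rintro ⟨s, rfl⟩
      exact C.lY h s
    · intro hm
      obtain ⟨s, x, hsx⟩ := C.exists_eq h hm
      refine ⟨s, Nrm.ext ?_⟩
      rw [hsx, hg, mul_one]
      rfl
  · apply le_antisymm
    · refine sup_le ?_ ?_
      · rintro _ ⟨s, rfl⟩
        exact C.lm s
      · rintro _ ⟨s, rfl⟩
        exact hfm s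
    · intro m hm
      obtain ⟨x, y, rfl⟩ := hmem m hm
      exact add_mem (AddSubgroup.mem_sup_left ⟨x, rfl⟩) (AddSubgroup.mem_sup_right ⟨y, rfl⟩)


end bkp

open Cfsg.Agent.Omega.NOThreeL.RRed.NS (fxd brk DD YY tt_of_mx splitBy_of conj_blk)

/-- `KP` centralises `C_U(O²(P))` -/
theorem KP_cent {S L P U V₀ : Subgroup G} (c : Cr S L P U V₀) :
    KP S P U ≤ centralizer ((U ⊓ centralizer (oddGen P : Set G) : Subgroup G) : Set G) := by
  rw [KP, closure_le]
  rintro _ ⟨p, hp, A, hA, a, ha, rfl⟩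
  exact (c.sp A hA).cent (mem_ncl hp ha)

/-- the decomposition `U = V₀ C_U(O²(P))` -/
theorem Cr_dec {S L P U V₀ : Subgroup G} (c : Cr S L P U V₀) (ab : ∀ x ∈ U, ∀ y ∈ U, x * y = y * x) {w : G}
    (hw : w ∈ U) : ∃ v ∈ V₀, ∃ d ∈ U ⊓ centralizer (oddGen P : Set G), w = v * d := by
  obtain ⟨A₀, hA₀⟩ := c.ne
  have sp := c.sp A₀ hA₀
  have hn : V₀ ≤ normalizer ((U ⊓ centralizer (oddGen P : Set G) : Subgroup G) : Set G) := fun x hx =>
    centralizer_le_normalizer _ (mem_centralizer_iff.2 fun y hy => ab y hy.1 x (sp.NU hx))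
  rw [← sp.sup] at hw
  have h1 : w ∈ ((V₀ ⊔ (U ⊓ centralizer (oddGen P : Set G)) : Subgroup G) : Set G) := hw
  rw [coe_mul_of_left_le_normalizer_right _ _ hn] at h1
  obtain ⟨v, hv, d, hd, e⟩ := h1
  exact ⟨v, hv, d, hd, e.symm⟩

section main

variable [Finite G] {S : Sylow 2 G} {L P : Subgroup G} (hc : IsCharacteristicTwoType G)
  (hL : IsLoc (S : Subgroup G) L) (hP : IsParS (S : Subgroup G) P) (hPL : P ≤ L)
  (no : NoOverM (zl (S : Subgroup G) L) L) {F : Type} [Field F] [Finite F] [CharP F 2] {k : ℕ}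
  (M : NatKM F (S : Subgroup G) P (zl (S : Subgroup G) P) (cv (S : Subgroup G) P) k)
include hc hL hP hPL no

/-- every block is the block of a member of `EP` -/
theorem exists_EP (ne : (EP (S : Subgroup G) P (zl (S : Subgroup G) L)).Nonempty) (j : Fin k) :
    ∃ A ∈ EP (S : Subgroup G) P (zl (S : Subgroup G) L), NO3S.ThmB.One M (zl (S : Subgroup G) L) A j := by
  have h := Inst.nb hc hP M
  obtain ⟨A, hA⟩ := ne
  obtain ⟨i, O⟩ := one_of hc hL hP hPL no M hA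
  obtain ⟨s, hs, hsj⟩ := M.trans i j
  have h1 := EP_cj hP.le hs (le_normalizer_zl (S : Subgroup G) L (hPL (hP.le hs))) hA
  obtain ⟨j', O'⟩ := one_of hc hL hP hPL no M h1
  rw [NS.conj_eq_cj] at O' h1
  obtain rfl := h.idx_conj O hs hsj O'
  exact ⟨_, h1, O'⟩

/-- the members of `KP` preserve `{v : v_j = 0}` -/
theorem KP_e {j : Fin k} {x : G} (hx : x ∈ KP (S : Subgroup G) P (zl (S : Subgroup G) L)) {v : G}
    (hv : v ∈ zl (S : Subgroup G) P) : M.e (x * v * x⁻¹) j = 0 ↔ M.e v j = 0 := by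
  have h := Inst.nb hc hP M
  unfold KP at hx
  induction hx using closure_induction generalizing v with
  | mem x hx =>
    obtain ⟨p, hp, A, hA, a, ha, rfl⟩ := hx
    obtain ⟨i, O⟩ := one_of hc hL hP hPL no M hA
    obtain ⟨β, hβ⟩ := O.act a ha
    have haP : a ∈ P := hP.le (hA.1.1 ha)
    obtain ⟨j', B, h1⟩ := conj_sg h hp haP hβ
    rw [h1.1 v hv j]
    constructor
    · intro h2
      have h3 := congrArg (ap (sg j' B j)⁻¹) h2
      rwa [ap_inv_ap, ap_zr] at h3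
    · intro h2
      rw [h2, ap_zr]
  | one => rw [one_mul, inv_one, mul_one]
  | mul x y hx hy h1 h2 =>
    have hyP : y ∈ P := KP_le hP.le hy
    have e : x * y * v * (x * y)⁻¹ = x * (y * v * y⁻¹) * x⁻¹ := by group
    rw [e]
    exact (h1 (h.memV hyP hv)).trans (h2 hv)
  | inv x hx h1 =>
    have hxP : x⁻¹ ∈ P := inv_mem (KP_le hP.le hx)
    have h2 := h1 (h.memV hxP hv)
    have e : x * (x⁻¹ * v * x⁻¹⁻¹) * x⁻¹ = v := by group
    rw [e] at h2
    exact h2.symm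

variable (hsp : (⨆ j, blk M j) ⊓ cv (S : Subgroup G) P = ⊥)
include hsp

theorem cr (ne : (EP (S : Subgroup G) P (zl (S : Subgroup G) L)).Nonempty) :
    Cr (S : Subgroup G) L P (zl (S : Subgroup G) L) (⨆ j, blk M j) :=
  cr_of (L := L) hc hP hPL (iSup_le fun j => blk_le (Inst.nb hc hP M) j : (⨆ j, blk M j) ≤ _) ne
    fun _ hA => sp_of hc hL hP hPL no M hsp hA

/-- **one block, all facts** -/
theorem typC_of (Q : Nrm L (zl (S : Subgroup G) L)) (hF : 4 ≤ Nat.card F) {A : Subgroup G}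
    (hA : A ∈ EP (S : Subgroup G) P (zl (S : Subgroup G) L)) {j : Fin k}
    (O : NO3S.ThmB.One M (zl (S : Subgroup G) L) A j) : 4 ≤ Nat.card (im Q A) ∧
    ∃ C : AddSubgroup Q.Mod, NB (im Q A) (Q.ad (blk M j)) C ∧
      Q.ad (blk M j) ≤ brk Q.Mod (im Q (KP (S : Subgroup G) P (zl (S : Subgroup G) L))) ∧
      (∀ k ∈ KP (S : Subgroup G) P (zl (S : Subgroup G) L), ∀ hk : k ∈ L, ∀ m ∈ Q.ad (blk M j),
        (⟨k, hk⟩ : L) • m ∈ Q.ad (blk M j)) ∧
      (∀ A' ∈ EP (S : Subgroup G) P (zl (S : Subgroup G) L), im Q A' ≠ im Q A → ∀ a ∈ A', ∀ ha : a ∈ L,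
        ∀ m ∈ Q.ad (blk M j), (⟨a, ha⟩ : L) • m = m) ∧
      (∀ k ∈ KP (S : Subgroup G) P (zl (S : Subgroup G) L), ∀ hk : k ∈ L, ∀ m ∈ C, (⟨k, hk⟩ : L) • m ∈ C) ∧
      (fxd (im Q (KP (S : Subgroup G) P (zl (S : Subgroup G) L))) : AddSubgroup Q.Mod) ≤ C ∧
      (∀ l, l ≠ j → Q.ad (blk M l) ≤ C) := by
  have h := Inst.nb hc hP M
  have c := cr hc hL hP hPL no M hsp ⟨A, hA⟩
  have hVU := NOThreeL.Star.zl_mono (S : Subgroup G) hPL
  have hAP : A ≤ P := hA.1.1.trans hP.le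
  have hU2 := FFThm.elem_zl hc S hL
  have hD : DD M j = ⊥ := by
    have h1 : DD M j ≤ (⨆ j, blk M j) ⊓ cv (S : Subgroup G) P :=
      le_inf (inf_le_left.trans (le_iSup (blk M) j)) inf_le_right
    rw [hsp] at h1
    exact le_bot_iff.1 h1
  obtain ⟨e, f, up, lo, p, hp, hpA, hb, h1, h2, h3, -, h5⟩ := exists_bk_p h (by omega) Q hPL hVU O hAP hD
  have hb' := TypesNat.map hb (ph Q) (ph_smul Q)
  have v2 : ∀ v : Q.Mod, v + v = 0 := fun v => Nrm.ext (by
    rw [Nrm.val_add, Nrm.val_zero]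
    have := hU2.2 _ (Q.val_mem v)
    rwa [pow_two] at this)
  have hrt : rt (fun t => ph Q (up t)) = im Q A := by
    apply le_antisymm
    · rw [rt, closure_le]
      rintro _ ⟨t, rfl⟩
      exact ph_mem_im Q (h1 t)
    · rintro _ ⟨a, ha, rfl⟩
      obtain ⟨t, ht⟩ := h3 a ha
      have h6 : ph Q a = ph Q (up t) := (ph_eq Q).2 ht
      rw [h6]
      exact subset_closure ⟨t, rfl⟩
  have hAK : A ≤ KP (S : Subgroup G) P (zl (S : Subgroup G) L) := le_KP hA
  have hpAK : MulAut.conj p • A ≤ KP (S : Subgroup G) P (zl (S : Subgroup G) L) := by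
    intro x hx
    have h7 := NS.mem_conj.1 hx
    have e1 : x = p * (p⁻¹ * x * p) * p⁻¹ := by group
    rw [e1]
    exact mem_KP hp hA h7
  set E : Subgroup G := A ⊔ MulAut.conj p • A with hE
  have hEK : E ≤ KP (S : Subgroup G) P (zl (S : Subgroup G) L) := sup_le hAK hpAK
  have hle : ∀ {v}, v ∈ ⨆ j, blk M j → v ∈ zl (S : Subgroup G) P := fun hv =>
    (iSup_le fun j => blk_le h j : (⨆ j, blk M j) ≤ _) hv
  -- root elements of block `j` centralise `{v c : v_j = 0}`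
  have hgen : ∀ x ∈ P, (∃ B, ActsSL M.e (zl (S : Subgroup G) P) (cv (S : Subgroup G) P) x (sg j B)) →
      x ∈ KP (S : Subgroup G) P (zl (S : Subgroup G) L) → ∀ v ∈ ⨆ j, blk M j, M.e v j = 0 →
      ∀ d ∈ zl (S : Subgroup G) L ⊓ centralizer (oddGen P : Set G), x * (v * d) = v * d * x := by
    rintro x hx ⟨B, hB⟩ hxK v hv hvj d hd
    exact (show Commute x v from cent_sg h hx hB (hle hv) hvj).mul_right
      (show Commute x d from (mem_centralizer_iff.1 (KP_cent c hxK) d hd).symm)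
  have hEc : ∀ v ∈ ⨆ j, blk M j, M.e v j = 0 → ∀ d ∈ zl (S : Subgroup G) L ⊓ centralizer (oddGen P : Set G),
      v * d ∈ centralizer (E : Set G) := by
    intro v hv hvj d hd
    have h6 : E ≤ centralizer ({v * d} : Set G) := by
      refine sup_le (fun x hx => ?_) fun x hx => ?_
      · obtain ⟨β, hβ⟩ := O.act x hx
        exact mem_centralizer_singleton_iff.2 (hgen x (hAP hx) ⟨_, hβ⟩ (hAK hx) v hv hvj d hd)
      · obtain ⟨β, hβ⟩ := NS.acts_conj h O hAP hp hpA hx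
        exact mem_centralizer_singleton_iff.2
          (hgen x (KP_le hP.le (hpAK hx)) ⟨_, hβ⟩ (hpAK hx) v hv hvj d hd)
    exact mem_centralizer_iff.2 fun x hx => mem_centralizer_singleton_iff.1 (h6 hx)
  -- `C = {v d : v_j = 0}`
  have hN0 : ∀ b ∈ blk M j, b ∈ centralizer (E : Set G) → b = 1 := by
    intro b hb1 hb2
    have hbU : b ∈ zl (S : Subgroup G) L := hVU (blk_le h j hb1)
    have h6 : Q.of b hbU ∈ Q.ad (blk M j) := hb1
    rw [← h5] at h6
    obtain ⟨_, ⟨x, rfl⟩, _, ⟨y, rfl⟩, hxy⟩ := AddSubgroup.mem_sup.1 h6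
    have h7 : e x + f y ∈ Q.ad (centralizer (E : Set G)) := by
      rw [hxy]
      exact hb2
    obtain ⟨rfl, rfl⟩ := hb.ind x y h7
    rw [map_zero, map_zero, add_zero] at hxy
    exact (Nrm.eq_zero_iff.1 hxy.symm)
  have hmem : ∀ w ∈ zl (S : Subgroup G) L, w ∈ centralizer (E : Set G) →
      ∃ v ∈ ⨆ j, blk M j, M.e v j = 0 ∧ ∃ d ∈ zl (S : Subgroup G) L ⊓ centralizer (oddGen P : Set G), w = v * d := by
    intro w hw hwE
    obtain ⟨v, hv, d, hd, rfl⟩ := Cr_dec c Q.ab hw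
    obtain ⟨b, hb1, hb2⟩ := exists_blk_e h j (M.e v j)
    have hbs : b ∈ ⨆ j, blk M j := (le_iSup (blk M) j : blk M j ≤ _) hb1
    have h6 : M.e (b⁻¹ * v) j = 0 := by
      rw [M.mul _ (inv_mem (blk_le h j hb1)) _ (hle hv), h.e_inv (blk_le h j hb1), Pi.add_apply, hb2]
      funext i
      exact CharTwo.add_self_eq_zero _
    have h7 := hEc _ (mul_mem (inv_mem hbs) hv) h6 d hd
    have h8 : b ∈ centralizer (E : Set G) := by
      have e1 : b = (v * d) * (b⁻¹ * v * d)⁻¹ := by group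
      rw [e1]
      exact mul_mem hwE (inv_mem h7)
    have h9 := hN0 b hb1 h8
    rw [h9, Nb.e_one (M := M)] at hb2
    exact ⟨v, hv, hb2.symm, d, hd, rfl⟩
  refine ⟨?_, _, ⟨F, inferInstance, inferInstance, e, f, _, _, hb', hrt, h5⟩, ?_, ?_, ?_, ?_, ?_, ?_⟩
  · rw [← hrt, Bk.card_rt hb' v2 (fun x hx => XH_faith Q x hx)]
    exact hF
  · rw [← h5]
    refine sup_le ?_ ?_
    · rintro _ ⟨x, rfl⟩
      refine AddSubgroup.subset_closure ⟨ph Q (up 1), ph_mem_im Q (hAK (h1 1)), f x, ?_⟩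
      rw [ph_smul, hb.up_f, one_mul, add_sub_cancel_left]
    · rintro _ ⟨x, rfl⟩
      refine AddSubgroup.subset_closure ⟨ph Q (lo 1), ph_mem_im Q (hpAK (h2 1)), e x, ?_⟩
      rw [ph_smul, hb.lo_e, one_mul, add_sub_cancel_left]
  · intro x hx hxL m hm
    exact (mem_normalizer_iff.1 (KP_blk hc hL hP hPL no M j hx) _).1 hm
  · intro A' hA' hne a ha haL m hm
    obtain ⟨j', O'⟩ := one_of hc hL hP hPL no M hA'
    have hjj : j' ≠ j := by
      rintro rfl
      exact hne (le_antisymm (same_im hc hL hP hPL no M hsp Q hA hA' O O')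
        (same_im hc hL hP hPL no M hsp Q hA' hA O' O))
    obtain ⟨β, hβ⟩ := O'.act a ha
    rw [NS.smul_eq_iff]
    change a * Q.val m * a⁻¹ = _
    rw [cent_sg h (hP.le (hA'.1.1 ha)) hβ (blk_le h j hm) (e_blk h hjj hm), mul_inv_cancel_right]
  · -- `KP` normalises `C`
    intro x hx hxL m hm
    rw [Nrm.mem_ad] at hm ⊢
    rw [Nrm.val_smul]
    obtain ⟨v, hv, hvj, d, hd, hw⟩ := hmem _ (Q.val_mem m) hm
    have hxP := KP_le hP.le hx
    have h6 := (mem_centralizer_iff.1 (KP_cent c hx) d hd)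
    have e1 : x * Q.val m * x⁻¹ = (x * v * x⁻¹) * d := by
      rw [hw]
      calc x * (v * d) * x⁻¹ = x * v * (d * x⁻¹) := by group
        _ = x * v * (x⁻¹ * (x * d) * x⁻¹) := by group
        _ = x * v * (x⁻¹ * (d * x) * x⁻¹) := by rw [h6]
        _ = (x * v * x⁻¹) * d := by group
    change x * Q.val m * x⁻¹ ∈ _
    rw [e1]
    exact hEc _ (conj_iSup_blk h hxP hv) ((KP_e hc hL hP hPL no M hx (hle hv)).2 hvj) d hd
  · intro m hm
    rw [fxd_im Q c.KL] at hm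
    exact centralizer_le hEK hm
  · intro l hl m hm
    have h6 := hEc (Q.val m) ((le_iSup (blk M) l : blk M l ≤ _) hm) (e_blk h (Ne.symm hl) hm) 1 (one_mem _)
    rwa [mul_one] at h6

/-- `[U, KP] ⊔ C_U(KP) = U` -/
theorem brk_sup_fxd (Q : Nrm L (zl (S : Subgroup G) L)) (hF : 4 ≤ Nat.card F)
    (ne : (EP (S : Subgroup G) P (zl (S : Subgroup G) L)).Nonempty) :
    brk Q.Mod (im Q (KP (S : Subgroup G) P (zl (S : Subgroup G) L))) ⊔
      fxd (im Q (KP (S : Subgroup G) P (zl (S : Subgroup G) L))) = ⊤ := by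
  have h := Inst.nb hc hP M
  have c := cr hc hL hP hPL no M hsp ne
  have hVU := NOThreeL.Star.zl_mono (S : Subgroup G) hPL
  set W := brk Q.Mod (im Q (KP (S : Subgroup G) P (zl (S : Subgroup G) L))) ⊔
      fxd (im Q (KP (S : Subgroup G) P (zl (S : Subgroup G) L))) with hW
  have h1 : (⨆ j, blk M j) ≤ NS.un Q W := by
    refine iSup_le fun j => ?_
    obtain ⟨A, hA, O⟩ := exists_EP hc hL hP hPL no M ne j
    obtain ⟨-, C, -, h2, -⟩ := typC_of hc hL hP hPL no M hsp Q hF hA O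
    intro w hw
    have hwU : w ∈ zl (S : Subgroup G) L := hVU (blk_le h j hw)
    have h3 : Q.of w hwU ∈ W := le_sup_left (α := AddSubgroup Q.Mod) (h2 hw)
    exact (NS.val_mem_un Q).2 h3
  rw [eq_top_iff]
  intro m _
  obtain ⟨v, hv, d, hd, hw⟩ := Cr_dec c Q.ab (Q.val_mem m)
  have h2 : d ∈ NS.un Q W := by
    have h3 : Q.of d hd.1 ∈ W := by
      refine le_sup_right (α := AddSubgroup Q.Mod) ((fxd_im Q c.KL).2 ?_)
      rw [Nrm.val_of, mem_centralizer_iff]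
      intro x hx
      exact (mem_centralizer_iff.1 (KP_cent c hx) d hd).symm
    exact (NS.val_mem_un Q).2 h3
  have h3 : Q.val m ∈ NS.un Q W := by
    rw [hw]
    exact mul_mem (h1 hv) h2
  exact (NS.val_mem_un Q).1 h3

/-- **over `XH Q`** -/
theorem typC_nat (Q : Nrm L (zl (S : Subgroup G) L)) (hF : 4 ≤ Nat.card F) :
    ∀ A ∈ im Q '' EP (S : Subgroup G) P (zl (S : Subgroup G) L), 4 ≤ Nat.card A ∧
      ∃ N C : AddSubgroup Q.Mod, NB A N C ∧
        N ≤ brk Q.Mod (im Q (KP (S : Subgroup G) P (zl (S : Subgroup G) L))) ∧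
        (∀ k ∈ im Q (KP (S : Subgroup G) P (zl (S : Subgroup G) L)), ∀ m ∈ N, k • m ∈ N) ∧
        (∀ A' ∈ im Q '' EP (S : Subgroup G) P (zl (S : Subgroup G) L), A' ≠ A → ∀ a ∈ A', ∀ m ∈ N, a • m = m) ∧
        (∀ k ∈ im Q (KP (S : Subgroup G) P (zl (S : Subgroup G) L)), ∀ m ∈ C, k • m ∈ C) ∧
        (fxd (im Q (KP (S : Subgroup G) P (zl (S : Subgroup G) L))) : AddSubgroup Q.Mod) ≤ C := by
  rintro _ ⟨A, hA, rfl⟩
  obtain ⟨j, O⟩ := one_of hc hL hP hPL no M hA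
  obtain ⟨h1, C, h2, h3, h4, h5, h6, h7, -⟩ := typC_of hc hL hP hPL no M hsp Q hF hA O
  refine ⟨h1, _, C, h2, h3, ?_, ?_, ?_, h7⟩
  · rintro _ ⟨x, hx, rfl⟩ m hm
    rw [ph_smul]
    exact h4 x hx x.2 m hm
  · rintro _ ⟨A', hA', rfl⟩ hne _ ⟨a, ha, rfl⟩ m hm
    rw [ph_smul]
    exact h5 A' hA' hne a ha a.2 m hm
  · rintro _ ⟨x, hx, rfl⟩ m hm
    rw [ph_smul]
    exact h6 x hx x.2 m hm

end main

end Cfsg.Agent.Omega.NOThreeL.RRed.Blk.AsmAct
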