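import Cfsg.Agent.Omega.NOThreeL.RRed.Blk.UniOf
import Cfsg.Agent.Omega.NOThreeL.RRed.Blk.AsmActC
import Cfsg.Agent.Omega.NOThreeL.RRed.NS.Main

/-!
# NO-3L, box R: the family of nonsplit natural blocks, group level (#26560, #27284)

`M₀ = MZ S`, `H = N_G(M₀)`, `V* = Wd S = zl S M₀`, `Q : Nrm H V*`, `X = XH Q`.

* `exists_norm` : `N_G(L) = L N_G(S)`; `le_norm` : `H ≤ N_G(V*)`;
* `nrm_norm` : `Nrm H V*`;  `no_norm` : no over-offender in `H`;
* `PsN` : the images of the members of `P*(S)` and of `N_H(S)`; `sSup_PsN`, `inact_norm`, `hPs`;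
* `RRN` : the root groups of the nonsplit natural blocks;
* **`famN_of`** : `AsmN.mainN` over `H`.
-/

set_option autoImplicit false
set_option linter.unusedSectionVars false

namespace Cfsg.Agent.Omega.NOThreeL.RRed.Blk.FamOf

open Subgroup Cfsg Cfsg.Agent.ZN Cfsg.Agent.Omega.MinPar
open Cfsg.Agent.Omega.FFThm
open Cfsg.Agent.Omega.FrameFF (cv)
open Cfsg.Agent.Omega.NO3S.ThmB Cfsg.Agent.Omega.NO3S.KeyRad
open Cfsg.Agent.Omega.NOThreeL.Merge (MZ le_MZ isLoc_MZ)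
open Cfsg.Agent.Omega.NOThreeL.RSplit (Nrm)
open Cfsg.Agent.Omega.NOThreeL.RRed.NS (fxd brk mem_fxd conj_eq_cj DD DD_le_YY)
open Cfsg.Agent.Omega.NOThreeL.RRed.Blk.TypesNat (XH ph ph_smul XH_faith ph_eq ph_surj no_XH)
open Cfsg.Agent.Omega.NOThreeL.RRed.Blk.TypesGam (NO)
open Cfsg.Agent.Omega.NOThreeL.RRed.Blk.Asm (Es St mem_St FFs le_FFs)
open Cfsg.Agent.Omega.NOThreeL.RRed.Blk.AsmCore (im mem_im ph_mem_im im_mono im_cj im_le_of EP KP)
open Cfsg.Agent.Omega.NOThreeL.RRed.Blk.AsmN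

open scoped Pointwise

universe u

variable {G : Type u} [Group G] [Finite G] {S : Sylow 2 G}

/-- **Frattini** -/
theorem exists_norm {L : Subgroup G} (hSL : (S : Subgroup G) ≤ L) {h : G} (hh : h ∈ normalizer (L : Set G)) :
    ∃ m ∈ L, m⁻¹ * h ∈ normalizer ((S : Subgroup G) : Set G) := by
  have h1 : MulAut.conj h • (S : Subgroup G) ≤ L := by
    intro x hx
    have h3 := (mem_normalizer_iff.1 hh (h⁻¹ * x * h)).1 (hSL (NS.mem_conj.1 hx))
    have e : h * (h⁻¹ * x * h) * h⁻¹ = x := by group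
    rwa [e] at h3
  have h2 : IsPGroup 2 ↥(MulAut.conj h • (S : Subgroup G)) :=
    S.isPGroup'.of_equiv (Subgroup.equivSMul (MulAut.conj h) (S : Subgroup G))
  obtain ⟨m, hm, h3⟩ := NS.exists_conj_le S hSL h2 h1
  refine ⟨m, hm, ?_⟩
  have h4 : MulAut.conj (m⁻¹ * h) • (S : Subgroup G) ≤ (S : Subgroup G) := by
    rw [map_mul, mul_smul]
    intro x hx
    have h5 := h3 (NS.mem_conj.1 hx)
    have h6 := NS.mem_conj.1 h5
    have e : m⁻¹ * (m⁻¹⁻¹ * x * m⁻¹) * m = x := by group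
    rwa [e] at h6
  rw [conj_eq_cj] at h4
  exact ChoiceBase.mem_normalizer_of_cj_le h4

theorem le_norm (hSM : (S : Subgroup G) ≤ MZ (S : Subgroup G)) :
    normalizer (MZ (S : Subgroup G) : Set G) ≤ normalizer (zl (S : Subgroup G) (MZ (S : Subgroup G)) : Set G) := by
  intro h hh
  obtain ⟨m, hm, h1⟩ := exists_norm hSM hh
  have h2 : m ∈ normalizer (zl (S : Subgroup G) (MZ (S : Subgroup G)) : Set G) := le_normalizer_zl _ _ hm
  have h3 : m⁻¹ * h ∈ normalizer (zl (S : Subgroup G) (MZ (S : Subgroup G)) : Set G) :=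
    CI.norm_zl h1 (CI.norm_MZ h1)
  have h4 := mul_mem h2 h3
  rwa [mul_inv_cancel_left] at h4

theorem nrm_norm (hSM : (S : Subgroup G) ≤ MZ (S : Subgroup G))
    (hE : IsElementaryAbelian 2 (zl (S : Subgroup G) (MZ (S : Subgroup G)))) :
    Nrm (normalizer (MZ (S : Subgroup G) : Set G)) (zl (S : Subgroup G) (MZ (S : Subgroup G))) where
  ab u hu v hv := congrArg Subtype.val (hE.1.is_comm.comm ⟨u, hu⟩ ⟨v, hv⟩)
  nrm := le_norm hSM

/-- no over-offender in `N_G(M₀)` -/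
theorem no_norm (hSM : (S : Subgroup G) ≤ MZ (S : Subgroup G))
    (no : NoOverM (zl (S : Subgroup G) (MZ (S : Subgroup G))) (MZ (S : Subgroup G))) :
    NoOverM (zl (S : Subgroup G) (MZ (S : Subgroup G))) (normalizer (MZ (S : Subgroup G) : Set G)) := by
  intro D hD hE
  have hHV := le_norm hSM
  have hSH : (S : Subgroup G) ≤ normalizer (MZ (S : Subgroup G) : Set G) := hSM.trans le_normalizer
  rw [← VF.fM_le_iff]
  obtain ⟨B, hB, hB2, h⟩ := VF.exists_two (hD.trans hHV) hE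
  obtain ⟨m, hm, h1⟩ := NS.exists_conj_le S hSH hB2 (hB.trans hD)
  have h3 : MulAut.conj m⁻¹ • B ≤ (S : Subgroup G) := by
    intro x hx
    have h4 := NS.mem_conj.1 (h1 (NS.mem_conj.1 hx))
    have e : m⁻¹ * (m⁻¹⁻¹ * x * m⁻¹) * m = x := by group
    rwa [e] at h4
  rw [conj_eq_cj] at h3
  have hm' : m⁻¹ ∈ normalizer (zl (S : Subgroup G) (MZ (S : Subgroup G)) : Set G) := inv_mem (hHV hm)
  rw [← VF.fM_congr hB h, ← (VF.fM_cj (A := B) hm').1, VF.fM_le_iff]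
  exact no _ (h3.trans hSM) (VF.elemM_cj hm' (VF.elemM_mono hE hB))

section fam

variable {U : Subgroup G} (Q : Nrm (normalizer (MZ (S : Subgroup G) : Set G)) U)

/-- the images of the members of `P*(S)` and of `N_H(S)` -/
def PsN : Set (Subgroup (XH Q)) :=
  {K | (∃ P, IsParS (S : Subgroup G) P ∧ K = im Q P) ∨ K = im Q (normalizer ((S : Subgroup G) : Set G))}

theorem sSup_PsN (hSM : (S : Subgroup G) ≤ MZ (S : Subgroup G)) : sSup (PsN Q) = ⊤ := by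
  rw [eq_top_iff]
  rintro x -
  obtain ⟨g, rfl⟩ := ph_surj Q x
  obtain ⟨m, hm, h1⟩ := exists_norm hSM g.2
  have hMH : MZ (S : Subgroup G) ≤ normalizer (MZ (S : Subgroup G) : Set G) := le_normalizer
  have h2 : im Q (MZ (S : Subgroup G)) ≤ sSup (PsN Q) := by
    apply im_le_of
    refine sSup_le ?_
    intro P hP p hp
    have hPL : P ≤ MZ (S : Subgroup G) := le_MZ hP
    refine ⟨⟨p, hMH (hPL hp)⟩, ?_, rfl⟩
    rw [SetLike.mem_coe, mem_comap]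
    exact (le_sSup (show im Q P ∈ PsN Q from Or.inl ⟨P, hP, rfl⟩)) (ph_mem_im Q hp)
  have h3 : im Q (normalizer ((S : Subgroup G) : Set G)) ≤ sSup (PsN Q) := le_sSup (Or.inr rfl)
  have h4 : g = (⟨m, hMH hm⟩ : normalizer (MZ (S : Subgroup G) : Set G)) *
      ((⟨m, hMH hm⟩ : normalizer (MZ (S : Subgroup G) : Set G))⁻¹ * g) := by group
  rw [h4, map_mul]
  exact mul_mem (h2 (ph_mem_im Q hm)) (h3 (ph_mem_im Q h1))

/-- `N_H(S)` normalises the image of `EE` -/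
theorem inact_norm : ∀ g ∈ im Q (normalizer ((S : Subgroup G) : Set G)), ∀ A ∈ im Q '' AsmCore.EE (S : Subgroup G) U,
    MulAut.conj g • A ∈ im Q '' AsmCore.EE (S : Subgroup G) U := by
  rintro _ ⟨a, ha, rfl⟩ _ ⟨A, hA, rfl⟩
  have ha' : (a : G) ∈ normalizer ((S : Subgroup G) : Set G) := ha
  refine ⟨MulAut.conj (a : G) • A, ⟨?_, ?_⟩, im_cj Q a⟩
  · intro x hx
    have h3 := (mem_normalizer_iff.1 ha' _).1 (hA.1 (NS.mem_conj.1 hx))
    have e : (a : G) * ((a : G)⁻¹ * x * (a : G)) * (a : G)⁻¹ = x := by group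
    rwa [e] at h3
  · rw [conj_eq_cj]
    exact CI.mx_conj hA.2 (Q.nrm a.2)

theorem hPs (hc : IsCharacteristicTwoType G)
    (hAc : ∀ P, IsParS (S : Subgroup G) P → (EP (S : Subgroup G) P U).Nonempty →
      AcN (im Q (S : Subgroup G)) (im Q '' AsmCore.EE (S : Subgroup G) U) (im Q P) (im Q (KP (S : Subgroup G) P U))
        (im Q '' EP (S : Subgroup G) P U) Q.Mod) :
    ∀ P ∈ PsN Q, (∀ g ∈ P, ∀ A ∈ im Q '' AsmCore.EE (S : Subgroup G) U, MulAut.conj g • A ∈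
      im Q '' AsmCore.EE (S : Subgroup G) U) ∨
    ∃ K EP, AcN (im Q (S : Subgroup G)) (im Q '' AsmCore.EE (S : Subgroup G) U) P K EP Q.Mod := by
  rintro _ (⟨P, hP, rfl⟩ | rfl)
  · by_cases hne : (EP (S : Subgroup G) P U).Nonempty
    · exact Or.inr ⟨_, _, hAc P hP hne⟩
    · exact Or.inl (AsmG.inact hc Q hP hne)
  · exact Or.inl (inact_norm Q)

/-- **the family** for any set of root groups -/
theorem fam_of (hc : IsCharacteristicTwoType G) (hSM : (S : Subgroup G) ≤ MZ (S : Subgroup G))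
    (no : NoOverM U (normalizer (MZ (S : Subgroup G) : Set G))) (hU2 : IsElementaryAbelian 2 U)
    (hAc : ∀ P, IsParS (S : Subgroup G) P → (EP (S : Subgroup G) P U).Nonempty →
      AcN (im Q (S : Subgroup G)) (im Q '' AsmCore.EE (S : Subgroup G) U) (im Q P) (im Q (KP (S : Subgroup G) P U))
        (im Q '' EP (S : Subgroup G) P U) Q.Mod) {RR : Set (Subgroup (XH Q))}
    (hR : ∀ D ∈ RR, 4 ≤ Nat.card D ∧ ∃ P, IsParS (S : Subgroup G) P ∧ ∃ A ∈ EP (S : Subgroup G) P U, D = im Q A)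
    (uni : ∀ A ∈ RR, ∀ N C L Z N' C' L' Z' : AddSubgroup Q.Mod, GBd (im Q '' AsmCore.EE (S : Subgroup G) U) A N C L Z →
      GBd (im Q '' AsmCore.EE (S : Subgroup G) U) A N' C' L' Z' → N = N' ∧ C = C' ∧ L = L' ∧ Z = Z') :
    ∃ N C L Z : Subgroup (XH Q) → AddSubgroup Q.Mod,
      FamN (im Q (S : Subgroup G)) (im Q '' AsmCore.EE (S : Subgroup G) U)
        (FFs (im Q '' AsmCore.EE (S : Subgroup G) U) RR) N C L Z :=
  mainN (TypesNat.two_of Q hU2) (fun x hx => XH_faith Q x hx) (no_XH Q no)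
    (AsmEsB.es_of Q (hSM.trans le_normalizer) no hU2) (hPs Q hc hAc) (sSup_PsN Q hSM)
    (fun D hD => by
      obtain ⟨-, P, -, A, hA, rfl⟩ := hR D hD
      exact ⟨A, hA.1, rfl⟩)
    (fun D hD => (hR D hD).1)
    (fun D hD => by
      obtain ⟨h4, P, hP, A, hA, rfl⟩ := hR D hD
      obtain ⟨N, C, L, Z, h, -⟩ := (hAc P hP ⟨A, hA⟩).gb ⟨A, hA, rfl⟩ h4
      exact ⟨N, C, L, Z, h⟩)
    uni

/-- `D` is the root group of the natural block `j` of `P ∈ P*(S)`, `Z = [N_j, O²(P)]`-radical -/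
def IsRt (U : Subgroup G) (D : Subgroup (XH Q)) (N Z : AddSubgroup Q.Mod) : Prop :=
  ∃ (P : Subgroup G) (_ : IsParS (S : Subgroup G) P) (F : Type) (_ : Field F) (_ : Finite F) (_ : CharP F 2) (k : ℕ)
    (M : NatKM F (S : Subgroup G) P (zl (S : Subgroup G) P) (cv (S : Subgroup G) P) k) (A : Subgroup G) (j : Fin k),
    4 ≤ Nat.card F ∧ A ∈ EP (S : Subgroup G) P U ∧ D = im Q A ∧ NO3S.ThmB.One M U A j ∧
      N = Q.ad (blk M j) ∧ Z = Q.ad (DD M j)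

/-- the root groups of the nonsplit natural blocks -/
def RRN (U : Subgroup G) (Q : Nrm (normalizer (MZ (S : Subgroup G) : Set G)) U) : Set (Subgroup (XH Q)) :=
  {D | ∃ N Z, IsRt Q U D N Z ∧ Z ≠ ⊥}

end fam

/-- the inputs (helper263's `acN_of`, `typ_nat`) -/
structure InN (S : Sylow 2 G) {U : Subgroup G} (Q : Nrm (normalizer (MZ (S : Subgroup G) : Set G)) U) : Prop where
  ac : ∀ P, IsParS (S : Subgroup G) P → (EP (S : Subgroup G) P U).Nonempty →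
    AcN (im Q (S : Subgroup G)) (im Q '' AsmCore.EE (S : Subgroup G) U) (im Q P) (im Q (KP (S : Subgroup G) P U))
      (im Q '' EP (S : Subgroup G) P U) Q.Mod
  oth : ∀ D N Z, IsRt Q U D N Z → ∀ A ∈ im Q '' AsmCore.EE (S : Subgroup G) U, A ≠ D → ∀ a ∈ A, ∀ m ∈ N, a • m = m

section box

variable (hc : IsCharacteristicTwoType G) (hL : IsLoc (S : Subgroup G) (MZ (S : Subgroup G)))
  (no : NoOverM (zl (S : Subgroup G) (MZ (S : Subgroup G))) (MZ (S : Subgroup G)))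
  (Q : Nrm (normalizer (MZ (S : Subgroup G) : Set G)) (zl (S : Subgroup G) (MZ (S : Subgroup G))))
  (I : InN S Q)
include hc hL no I

/-- the root group, the block and the radical determine a `GBd` -/
theorem gbd_of {D : Subgroup (XH Q)} {N Z : AddSubgroup Q.Mod}
    (h : IsRt Q (zl (S : Subgroup G) (MZ (S : Subgroup G))) D N Z) :
    4 ≤ Nat.card D ∧ (∃ C L, GBd (im Q '' AsmCore.EE (S : Subgroup G) (zl (S : Subgroup G) (MZ (S : Subgroup G)))) D N C L Z) ∧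
      ∀ N₁ C₁ L₁ Z₁ N₂ C₂ L₂ Z₂ : AddSubgroup Q.Mod,
        GBd (im Q '' AsmCore.EE (S : Subgroup G) (zl (S : Subgroup G) (MZ (S : Subgroup G)))) D N₁ C₁ L₁ Z₁ →
        GBd (im Q '' AsmCore.EE (S : Subgroup G) (zl (S : Subgroup G) (MZ (S : Subgroup G)))) D N₂ C₂ L₂ Z₂ →
          N₁ = N₂ ∧ C₁ = C₂ ∧ L₁ = L₂ ∧ Z₁ = Z₂ := by
  have hoth := I.oth D N Z h
  obtain ⟨P, hP, F, i1, i2, i3, k, M, A, j, hF, hA, rfl, O, rfl, rfl⟩ := h
  have hU2 := FFThm.elem_zl hc S hL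
  have hnb := Inst.nb hc hP M
  have hPM := le_MZ hP
  have hPH : P ≤ normalizer (MZ (S : Subgroup G) : Set G) := hPM.trans le_normalizer
  have hVU : zl (S : Subgroup G) P ≤ zl (S : Subgroup G) (MZ (S : Subgroup G)) := NOThreeL.Star.zl_mono _ hPM
  have hAP : A ≤ P := hA.1.1.trans hP.le
  have hF2 : 2 < Nat.card F := by omega
  have h4 : 4 ≤ Nat.card (im Q A) := by
    obtain ⟨p, hp, R, -, h2⟩ := IsNBDOf.isNBD_of hnb hF2 Q hPH hVU O hAP
    exact h2.card4 hU2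
  obtain ⟨p, hp, L, -, h1⟩ := IsNBDOf.nbd_of hnb hF2 Q hPH hVU O hAP
  refine ⟨h4, ⟨_, L, h1, hoth⟩, fun N₁ C₁ L₁ Z₁ N₂ C₂ L₂ Z₂ g₁ g₂ => ?_⟩
  exact UniOf.uni_of Q (hL.le.trans le_normalizer) (no_norm hL.le no) hU2 hA.1 (hPs Q hc I.ac) (sSup_PsN Q hL.le) h4
    hnb hF2 hPH hVU O hAP hoth g₁ g₂

/-- **The family of the nonsplit natural blocks**, with the radicals of the members of `RRN`. -/
theorem famN_of : ∃ N C L Z : Subgroup (XH Q) → AddSubgroup Q.Mod,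
    FamN (im Q (S : Subgroup G)) (im Q '' AsmCore.EE (S : Subgroup G) (zl (S : Subgroup G) (MZ (S : Subgroup G))))
      (FFs (im Q '' AsmCore.EE (S : Subgroup G) (zl (S : Subgroup G) (MZ (S : Subgroup G))))
        (RRN (zl (S : Subgroup G) (MZ (S : Subgroup G))) Q)) N C L Z ∧
      (∀ D N₁ Z₁, IsRt Q (zl (S : Subgroup G) (MZ (S : Subgroup G))) D N₁ Z₁ → Z₁ ≠ ⊥ → N D = N₁ ∧ Z D = Z₁) ∧
      ∀ D ∈ FFs (im Q '' AsmCore.EE (S : Subgroup G) (zl (S : Subgroup G) (MZ (S : Subgroup G))))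
        (RRN (zl (S : Subgroup G) (MZ (S : Subgroup G))) Q), Z D ≠ ⊥ := by
  have hU2 := FFThm.elem_zl hc S hL
  obtain ⟨N, C, L, Z, F⟩ := fam_of Q hc hL.le (no_norm hL.le no) hU2 I.ac
    (RR := RRN (zl (S : Subgroup G) (MZ (S : Subgroup G))) Q) (fun D hD => by
      obtain ⟨N, Z, h, -⟩ := hD
      refine ⟨(gbd_of hc hL no Q I h).1, ?_⟩
      obtain ⟨P, hP, F, i1, i2, i3, k, M, A, j, hF, hA, h1, -⟩ := h
      exact ⟨P, hP, A, hA, h1⟩) (fun D hD => by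
      obtain ⟨N, Z, h, -⟩ := hD
      exact (gbd_of hc hL no Q I h).2.2)
  have key : ∀ D N₁ Z₁, IsRt Q (zl (S : Subgroup G) (MZ (S : Subgroup G))) D N₁ Z₁ → Z₁ ≠ ⊥ → N D = N₁ ∧ Z D = Z₁ := by
    intro D N₁ Z₁ h hne
    obtain ⟨-, ⟨C₁, L₁, g⟩, -⟩ := gbd_of hc hL no Q I h
    obtain ⟨a, -, -, b⟩ := F.uniq D (le_FFs ⟨N₁, Z₁, h, hne⟩) _ _ _ _ g
    exact ⟨a.symm, b.symm⟩
  refine ⟨N, C, L, Z, F, key, ?_⟩
  rintro _ ⟨g, hg, D, hD, rfl⟩ h0
  have h1 := (F.st g hg D (le_FFs hD)).2.2.2.2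
  obtain ⟨N₁, Z₁, h, hne⟩ := hD
  have h3 := (key D N₁ Z₁ h hne).2
  apply hne
  rw [← h3, eq_bot_iff]
  intro m hm
  have h4 := (h1 m).1 hm
  rw [h0, AddSubgroup.mem_bot] at h4
  rw [AddSubgroup.mem_bot]
  exact (smul_eq_zero_iff_eq g).1 h4

/-- a nonsplit natural `P` gives a member of `RRN` -/
theorem exists_RRN {P : Subgroup G} (hP : IsParS (S : Subgroup G) P)
    (ne : (EP (S : Subgroup G) P (zl (S : Subgroup G) (MZ (S : Subgroup G)))).Nonempty) {F : Type} [Field F] [Finite F]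
    [CharP F 2] {k : ℕ} (M : NatKM F (S : Subgroup G) P (zl (S : Subgroup G) P) (cv (S : Subgroup G) P) k)
    (hF : 4 ≤ Nat.card F) (hns : (⨆ j, blk M j) ⊓ cv (S : Subgroup G) P ≠ ⊥) :
    ∃ D, D ∈ RRN (zl (S : Subgroup G) (MZ (S : Subgroup G))) Q := by
  have h := Inst.nb hc hP M
  obtain ⟨x, hx⟩ := Subgroup.ne_bot_iff_exists_ne_one.1 hns
  have hx1 : (x : G) ≠ 1 := fun e => hx (Subtype.ext e)
  obtain ⟨b, y, hy, hy1, -⟩ := NS.exists_comp h (NS.iSup_DD h x.2.1 x.2.2) hx1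
  obtain ⟨A, hA, O⟩ := AsmAct.exists_EP hc hL hP (le_MZ hP) no M ne b
  refine ⟨im Q A, _, _, ⟨P, hP, F, inferInstance, inferInstance, inferInstance, k, M, A, b, hF, hA, rfl, O, rfl, rfl⟩,
    fun h0 => ?_⟩
  have hyU : y ∈ zl (S : Subgroup G) (MZ (S : Subgroup G)) :=
    NOThreeL.Star.zl_mono _ (le_MZ hP) (blk_le h b hy.1)
  have h1 : Q.of y hyU ∈ Q.ad (DD M b) := hy
  rw [h0, AddSubgroup.mem_bot] at h1
  exact hy1 (congrArg Q.val h1)

end box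

end Cfsg.Agent.Omega.NOThreeL.RRed.Blk.FamOf
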