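import Cfsg.Agent.Omega.NOThreeL.RRed.Blk.AcNSame
import Cfsg.Agent.Omega.NOThreeL.RRed.Blk.FamOf

/-!
# NO-3L, box R: the field `oth` of `FamOf.InN` (nonsplit natural blocks, group level)

* **`oth`** : the members of `im Q '' EE` other than `im Q A` centralise the block of `A ∈ EP S P (zl S L)` (`Q : Nrm H`);
* **`oth_N`** : `FamOf.InN.oth`.
-/

set_option autoImplicit false
set_option linter.unusedSectionVars false

namespace Cfsg.Agent.Omega.NOThreeL.RRed.Blk.OthN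

open Subgroup Cfsg Cfsg.Agent.ZN Cfsg.Agent.Omega.MinPar
open Cfsg.Agent.Omega.FFThm
open Cfsg.Agent.Omega.FrameFF (cv)
open Cfsg.Agent.Omega.NO3S.ThmB Cfsg.Agent.Omega.NO3S.KeyRad
open Cfsg.Agent.Omega.NOThreeL.Merge (MZ le_MZ)
open Cfsg.Agent.Omega.NOThreeL.RSplit (Nrm)
open Cfsg.Agent.Omega.NOThreeL.RRed.Blk.TypesNat (XH ph ph_smul)
open Cfsg.Agent.Omega.NOThreeL.RRed.Blk.AsmCore
open scoped Pointwise

universe u

variable {G : Type u} [Group G] [Finite G] {S : Sylow 2 G} {L P H : Subgroup G}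

/-- the other members of `EE` centralise the block -/
theorem oth (hc : IsCharacteristicTwoType G) (hL : IsLoc (S : Subgroup G) L) (hP : IsParS (S : Subgroup G) P)
    (hPL : P ≤ L) (LH : L ≤ H) (noH : NoOverM (zl (S : Subgroup G) L) H) (Q : Nrm H (zl (S : Subgroup G) L))
    {F : Type} [Field F] [Finite F] [CharP F 2] {k : ℕ}
    (M : NatKM F (S : Subgroup G) P (zl (S : Subgroup G) P) (cv (S : Subgroup G) P) k) {A : Subgroup G}
    (hA : A ∈ EP (S : Subgroup G) P (zl (S : Subgroup G) L)) {j : Fin k}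
    (O : NO3S.ThmB.One M (zl (S : Subgroup G) L) A j) :
    ∀ B ∈ im Q '' EE (S : Subgroup G) (zl (S : Subgroup G) L), B ≠ im Q A → ∀ b ∈ B, ∀ m ∈ Q.ad (blk M j), b • m = m := by
  have h := Inst.nb hc hP M
  have no : NoOverM (zl (S : Subgroup G) L) L := fun B hB => noH B (hB.trans LH)
  rintro _ ⟨B, hB, rfl⟩ hne _ ⟨b, hb, rfl⟩ m hm
  have hm' : Q.val m ∈ blk M j := hm
  rw [ph_smul, Nrm.ext_iff, Nrm.val_smul]
  have hbB : (b : G) ∈ B := hb
  have hbP : (b : G) ∈ P := hP.le (hB.1 hbB)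
  by_cases hBP : B ≤ centralizer (zl (S : Subgroup G) P : Set G)
  · have h1 := mem_centralizer_iff.1 (hBP hbB) _ (blk_le h j hm')
    rw [← h1, mul_inv_cancel_right]
  · have hBE : B ∈ EP (S : Subgroup G) P (zl (S : Subgroup G) L) := ⟨hB, hBP⟩
    obtain ⟨i, O'⟩ := AsmAct.one_of hc hL hP hPL no M hBE
    have hij : i ≠ j := by
      rintro rfl
      exact hne (AcNSame.same_im hc hL hP hPL LH noH Q M hA hBE O O')
    obtain ⟨β, hβ⟩ := O'.act b hbB
    rw [cent_sg h hbP hβ (blk_le h j hm') (e_blk h hij hm'), mul_inv_cancel_right]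

/-- **`FamOf.InN.oth`** -/
theorem oth_N (hc : IsCharacteristicTwoType G) (hL : IsLoc (S : Subgroup G) (MZ (S : Subgroup G)))
    (no : NoOverM (zl (S : Subgroup G) (MZ (S : Subgroup G))) (MZ (S : Subgroup G)))
    (Q : Nrm (normalizer (MZ (S : Subgroup G) : Set G)) (zl (S : Subgroup G) (MZ (S : Subgroup G)))) :
    ∀ D N Z, FamOf.IsRt Q (zl (S : Subgroup G) (MZ (S : Subgroup G))) D N Z →
      ∀ A ∈ im Q '' EE (S : Subgroup G) (zl (S : Subgroup G) (MZ (S : Subgroup G))), A ≠ D →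
        ∀ a ∈ A, ∀ m ∈ N, a • m = m := by
  rintro D N Z ⟨P, hP, F, i1, i2, i3, k, M, A, j, hF, hA, rfl, O, rfl, rfl⟩ B hB hne b hb m hm
  exact oth hc hL hP (le_MZ hP) le_normalizer (FamOf.no_norm hL.le no) Q M hA O B hB hne b hb m hm

end Cfsg.Agent.Omega.NOThreeL.RRed.Blk.OthN
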