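import Cfsg.Agent.Omega.NOThreeL.RRed.Blk.AcNOf
import Cfsg.Agent.Omega.NOThreeL.RRed.Blk.AcNAt
import Cfsg.Agent.Omega.NOThreeL.RRed.Blk.TypesNormN
import Cfsg.Agent.Omega.NOThreeL.RRed.Blk.InNOf
import Cfsg.Agent.Omega.NOThreeL.RRed.Blk.OthN
import Cfsg.Agent.Omega.NOThreeL.RRed.Blk.AcNTyp
import Cfsg.Agent.Omega.NOThreeL.RRed.Blk.AcNSmall

/-!
# NO-3L, box R: `AcN` for the active `P ∈ P*(S)` (assembly)

* `N_le_brk`, `norm_N`, `fix_Z` : natural type;
* **`acN_asm`** : `AcN`, from `norm_C` (`normC`) and `nat_or_small` (`small`).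
-/

set_option autoImplicit false
set_option linter.unusedSectionVars false

namespace Cfsg.Agent.Omega.NOThreeL.RRed.Blk.AcNAsm

open Subgroup Cfsg Cfsg.Agent.ZN Cfsg.Agent.Omega.MinPar
open Cfsg.Agent.Omega.FFThm Cfsg.Agent.Lib.SL2Mat
open Cfsg.Agent.Omega.FrameFF (cv)
open Cfsg.Agent.Omega.NO3S.ThmB Cfsg.Agent.Omega.NO3S.KeyRad
open Cfsg.Agent.Omega.NOThreeL.Merge (MZ le_MZ isLoc_MZ)
open Cfsg.Agent.Omega.NOThreeL.RSplit (Nrm)
open Cfsg.Agent.Omega.NOThreeL.RRed.NS (fxd brk mem_fxd DD YY smul_eq_iff wl)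
open Cfsg.Agent.Omega.NOThreeL.RRed.Blk.TypesGam (rt up_mem)
open Cfsg.Agent.Omega.NOThreeL.RRed.Blk.Types (sub_mem_brk brk_le)
open Cfsg.Agent.Omega.NOThreeL.RRed.Blk.TypesNat (XH ph ph_smul XH_faith ph_eq no_XH mapD)
open Cfsg.Agent.Omega.NOThreeL.RRed.Blk.GamD (BkD)
open Cfsg.Agent.Omega.NOThreeL.RRed.Blk.AsmCore
open Cfsg.Agent.Omega.NOThreeL.RRed.Blk.AsmAct (norm_blk KP_blk)
open Cfsg.Agent.Omega.NOThreeL.RRed.Blk.AsmN (AcN NBd de_le_brk)
open scoped Pointwise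

universe u

variable {G : Type u} [Group G] [Finite G] {S : Sylow 2 G} {L P H : Subgroup G}

section nat

variable (hc : IsCharacteristicTwoType G) (hL : IsLoc (S : Subgroup G) L) (hP : IsParS (S : Subgroup G) P)
  (hPL : P ≤ L) (LH : L ≤ H) (noH : NoOverM (zl (S : Subgroup G) L) H) (Q : Nrm H (zl (S : Subgroup G) L))
  {F : Type} [Field F] [Finite F] [CharP F 2] {k : ℕ}
  (M : NatKM F (S : Subgroup G) P (zl (S : Subgroup G) P) (cv (S : Subgroup G) P) k)
include hc hL hP hPL LH noH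

/-- `K` normalises `N` -/
theorem norm_N (j : Fin k) : ∀ x ∈ im Q (KP (S : Subgroup G) P (zl (S : Subgroup G) L)), ∀ m ∈ Q.ad (blk M j),
    x • m ∈ Q.ad (blk M j) := by
  rintro _ ⟨a, ha, rfl⟩ m hm
  have ha' : (a : G) ∈ KP (S : Subgroup G) P (zl (S : Subgroup G) L) := ha
  have h1 := KP_blk hc hL hP hPL (fun B hB => noH B (hB.trans LH)) M j ha'
  rw [ph_smul]
  refine Nrm.mem_ad.2 ?_
  rw [Nrm.val_smul]
  exact (mem_normalizer_iff.1 h1 _).1 hm

include M in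
/-- `K` centralises `cv S P` -/
theorem KP_cv : KP (S : Subgroup G) P (zl (S : Subgroup G) L) ≤ centralizer (cv (S : Subgroup G) P : Set G) := by
  have h := Inst.nb hc hP M
  unfold KP
  rw [closure_le]
  rintro _ ⟨p, hp, A, hA, a, ha, rfl⟩
  obtain ⟨i, O⟩ := AsmAct.one_of hc hL hP hPL (fun B hB => noH B (hB.trans LH)) M hA
  obtain ⟨β, hβ⟩ := O.act a ha
  rw [SetLike.mem_coe, mem_centralizer_iff]
  intro d hd
  have h1 : p⁻¹ * d * p ∈ cv (S : Subgroup G) P := by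
    have := (mem_normalizer_iff.1 (h.DP' (inv_mem hp)) d).1 hd
    rwa [inv_inv] at this
  have h3 := hβ.2 _ h1
  calc d * (p * a * p⁻¹) = p * ((p⁻¹ * d * p) * a) * p⁻¹ := by group
    _ = p * (a * (p⁻¹ * d * p)) * p⁻¹ := by rw [h3]
    _ = p * a * p⁻¹ * d := by group

/-- `K` centralises `Z` -/
theorem fix_Z (j : Fin k) : ∀ x ∈ im Q (KP (S : Subgroup G) P (zl (S : Subgroup G) L)), ∀ m ∈ Q.ad (DD M j),
    x • m = m := by
  rintro _ ⟨a, ha, rfl⟩ m hm
  have ha' : (a : G) ∈ KP (S : Subgroup G) P (zl (S : Subgroup G) L) := ha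
  have hm' : Q.val m ∈ DD M j := hm
  have h1 := mem_centralizer_iff.1 (KP_cv hc hL hP hPL LH noH M ha') _ hm'.2
  rw [ph_smul, smul_eq_iff, ← h1, mul_inv_cancel_right]

include Q in
/-- `K` normalises `C_U(⟨A, A^p⟩)` -/
theorem KP_C (hF : 2 < Nat.card F) {A : Subgroup G} {j : Fin k}
    (hA : A ∈ EP (S : Subgroup G) P (zl (S : Subgroup G) L)) (O : NO3S.ThmB.One M (zl (S : Subgroup G) L) A j) {p : G}
    (hp : p ∈ P) (hpA : ActsSL M.e (zl (S : Subgroup G) P) (cv (S : Subgroup G) P) p (sg j (wl F))) :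
    KP (S : Subgroup G) P (zl (S : Subgroup G) L) ≤ normalizer
      ((zl (S : Subgroup G) L ⊓ centralizer ((A ⊔ MulAut.conj p • A : Subgroup G) : Set G) : Subgroup G) : Set G) := by
  have h := Inst.nb hc hP M
  have no : NoOverM (zl (S : Subgroup G) L) L := fun B hB => noH B (hB.trans LH)
  have hU2 := FFThm.elem_zl hc S hL
  have hPH : P ≤ H := hPL.trans LH
  have hVU : zl (S : Subgroup G) P ≤ zl (S : Subgroup G) L := NOThreeL.Star.zl_mono _ hPL
  have hAP : A ≤ P := hA.1.1.trans hP.le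
  unfold KP
  rw [closure_le]
  rintro _ ⟨q, hq, A', hA', a, ha, rfl⟩
  have haP : a ∈ P := hP.le (hA'.1.1 ha)
  have hcP : q * a * q⁻¹ ∈ P := mul_mem (mul_mem hq haP) (inv_mem hq)
  have hGn : AcNGen.Gn P (zl (S : Subgroup G) P) (zl (S : Subgroup G) L) (q * a * q⁻¹) :=
    ⟨hcP, fun u hu => AcNOf.comm_eq hc hL hP hPL no hA' hq ha hu⟩
  obtain ⟨i, O'⟩ := AsmAct.one_of hc hL hP hPL no M hA'
  obtain ⟨β, hβ⟩ := O'.act a ha
  obtain ⟨i', B, hB⟩ := conj_sg h hq haP hβ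
  have hUn : q * a * q⁻¹ ∈ normalizer (zl (S : Subgroup G) L : Set G) := Q.nrm (hPH hcP)
  refine ChoiceBase.mem_normalizer_of_cj_le ?_
  intro y hy
  rw [ChoiceBase.mem_cj] at hy
  set c := q * a * q⁻¹ with hcd
  have e1 : y = c * (c⁻¹ * y * c) * c⁻¹ := by group
  rw [e1]
  refine ⟨(mem_normalizer_iff.1 hUn _).1 hy.1, ?_⟩
  by_cases hij : i' = j
  · subst hij
    have hBB : B * B = 1 := by
      have h1 := h.acts_mul hcP hB hB
      have h3 : c * c ∈ centralizer (zl (S : Subgroup G) L : Set G) := by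
        have h4 := hA'.1.2.sq a ha
        rw [mem_centralizer_iff] at h4 ⊢
        intro v hv
        have h5 : q⁻¹ * v * q ∈ zl (S : Subgroup G) L := by
          have := (mem_normalizer_iff.1 (Q.nrm (inv_mem (hPH hq))) v).1 hv
          rwa [inv_inv] at this
        have h6 := h4 _ h5
        calc v * (c * c) = q * ((q⁻¹ * v * q) * a ^ 2) * q⁻¹ := by rw [hcd, pow_two]; group
          _ = q * (a ^ 2 * (q⁻¹ * v * q)) * q⁻¹ := by rw [h6]
          _ = c * c * v := by rw [hcd, pow_two]; group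
      apply NatPair.ap_inj
      intro x
      obtain ⟨v, hv, hvx⟩ := M.surj (fun _ => x)
      have h7 := h1.1 v hv i'
      have h8 := mem_centralizer_iff.1 h3 v (hVU hv)
      rw [← h8, mul_inv_cancel_right, hvx] at h7
      rw [NatPair.ap_one]
      have h9 : (sg i' B * sg i' B : Fin k → Matrix.SpecialLinearGroup (Fin 2) F) i' = B * B := by
        rw [Pi.mul_apply, sg_self]
      rw [h9] at h7
      exact h7.symm
    exact AcNTyp.nC_same h hF Q hPH hVU hU2 noH O hAP hp hpA hGn hB hBB hy.1 hy.2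
  · exact AcNGen.off h O hAP hp hpA hij hGn hB hy.1 hy.2

include M in
/-- **the field `typ`, natural type** -/
theorem typ_nat (hF : 4 ≤ Nat.card F)
    {A : Subgroup G} (hA : A ∈ EP (S : Subgroup G) P (zl (S : Subgroup G) L)) :
    ∃ N C L' Z : AddSubgroup Q.Mod, NBd (im Q A) N C L' Z ∧
      N ≤ brk Q.Mod (im Q (KP (S : Subgroup G) P (zl (S : Subgroup G) L))) ∧
      (∀ x ∈ im Q (KP (S : Subgroup G) P (zl (S : Subgroup G) L)), ∀ m ∈ N, x • m ∈ N) ∧
      (∀ x ∈ im Q (KP (S : Subgroup G) P (zl (S : Subgroup G) L)), ∀ m ∈ C, x • m ∈ C) ∧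
      (∀ x ∈ im Q (KP (S : Subgroup G) P (zl (S : Subgroup G) L)), ∀ m ∈ Z, x • m = m) ∧
      ∀ A' ∈ im Q '' EP (S : Subgroup G) P (zl (S : Subgroup G) L), A' ≠ im Q A → ∀ a ∈ A', ∀ m ∈ N, a • m = m := by
  have h := Inst.nb hc hP M
  have no : NoOverM (zl (S : Subgroup G) L) L := fun B hB => noH B (hB.trans LH)
  have hE := FFThm.elem_zl hc S hL
  have hPH : P ≤ H := hPL.trans LH
  have hVU : zl (S : Subgroup G) P ≤ zl (S : Subgroup G) L := NOThreeL.Star.zl_mono _ hPL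
  have hAP : A ≤ P := hA.1.1.trans hP.le
  have hF2 : 2 < Nat.card F := by omega
  obtain ⟨j, O⟩ := AsmAct.one_of hc hL hP hPL no M hA
  obtain ⟨p, hp, hpA⟩ := M.lift (sg j (wl F))
  obtain ⟨e, f, del, up, lo, hb, h1, h3, h5, h6, h7, h8⟩ := AcNAt.exists_bkD_at h hF2 Q hPH hVU O hAP hp hpA
  have b := mapD hb (ph Q) (ph_smul Q)
  have hrt : rt (fun t => ph Q (up t)) = im Q A := by
    apply le_antisymm
    · rw [rt, closure_le]
      rintro _ ⟨t, rfl⟩
      exact ph_mem_im Q (h1 t)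
    · rintro _ ⟨a, ha, rfl⟩
      obtain ⟨t, ht⟩ := h5 a ha
      rw [(ph_eq Q (x := a) (y := up t)).2 ht]
      exact subset_closure ⟨t, rfl⟩
  have hAK : im Q A ≤ im Q (KP (S : Subgroup G) P (zl (S : Subgroup G) L)) := im_mono Q (le_KP hA)
  have hbrk : brk Q.Mod (im Q A) ≤ brk Q.Mod (im Q (KP (S : Subgroup G) P (zl (S : Subgroup G) L))) :=
    brk_le fun x hx m => sub_mem_brk (hAK hx) m
  -- `c₀ ≠ 0, 1`
  obtain ⟨c₀, hc0, hc1⟩ : ∃ c₀ : F, c₀ ≠ 0 ∧ c₀ ≠ 1 := by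
    by_contra hcon
    push Not at hcon
    have : Nat.card F ≤ 2 := by
      have h9 : (Set.univ : Set F) ⊆ ({0, 1} : Set F) := by
        intro x _
        by_cases hx : x = 0
        · exact Or.inl hx
        · exact Or.inr (hcon x hx)
      have h10 := Set.ncard_le_ncard h9 (Set.toFinite _)
      rw [Set.ncard_univ, Set.ncard_pair zero_ne_one] at h10
      exact h10
    omega
  have hde : ∀ x, del x ∈ brk Q.Mod (im Q (KP (S : Subgroup G) P (zl (S : Subgroup G) L))) ∧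
      e x ∈ brk Q.Mod (im Q (KP (S : Subgroup G) P (zl (S : Subgroup G) L))) := fun x => by
    have h9 := de_le_brk b hc0 hc1 x
    rw [hrt] at h9
    exact ⟨hbrk h9.1, hbrk h9.2⟩
  refine ⟨Q.ad (blk M j), Q.ad (centralizer ((A ⊔ MulAut.conj p • A : Subgroup G) : Set G)), e.range, Q.ad (DD M j),
    ⟨F, inferInstance, inferInstance, e, f, del, _, _, b, hrt, h7, rfl, h8⟩, ?_, norm_N hc hL hP hPL LH noH Q M j,
    ?_, fix_Z hc hL hP hPL LH noH Q M j, ?_⟩
  · rw [← h7]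
    refine sup_le (sup_le ?_ ?_) ?_
    · rintro _ ⟨x, rfl⟩
      exact (hde x).2
    · rintro _ ⟨x, rfl⟩
      have hlo : ph Q (lo 1) ∈ im Q (KP (S : Subgroup G) P (zl (S : Subgroup G) L)) := by
        refine ph_mem_im Q ?_
        have h9 := NS.mem_conj.1 (h3 1)
        have h10 := mem_KP (S := (S : Subgroup G)) (U := zl (S : Subgroup G) L) hp hA h9
        have e1 : p * (p⁻¹ * (lo 1 : G) * p) * p⁻¹ = lo 1 := by group
        rwa [e1] at h10
      have h9 := sub_mem_brk (M := Q.Mod) hlo (e x)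
      have h10 := b.lo_e 1 x
      rw [h10, one_mul, one_mul] at h9
      have e1 : f x = (e x + f x + del (x ^ 2) - e x) - del (x ^ 2) := by abel
      rw [e1]
      exact sub_mem h9 (hde _).1
    · rintro _ ⟨x, rfl⟩
      exact (hde x).1
  · rintro _ ⟨a, ha, rfl⟩ m hm
    have ha' : (a : G) ∈ KP (S : Subgroup G) P (zl (S : Subgroup G) L) := ha
    have h9 := (mem_normalizer_iff.1 (KP_C hc hL hP hPL LH noH Q M hF2 hA O hp hpA ha') (Q.val m)).1 ⟨Q.val_mem m, hm⟩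
    rw [ph_smul]
    refine Nrm.mem_ad.2 ?_
    rw [Nrm.val_smul]
    exact h9.2
  · rintro _ ⟨A', hA', rfl⟩ hne
    exact OthN.oth hc hL hP hPL LH noH Q M hA O _ ⟨A', hA'.1, rfl⟩ hne

end nat

/-- **`AcN` for every active `P ∈ P*(S)`, `P ≤ L`.** -/
theorem acN_of (hc : IsCharacteristicTwoType G) (hL : IsLoc (S : Subgroup G) L) (hP : IsParS (S : Subgroup G) P)
    (hPL : P ≤ L) (LH : L ≤ H) (noH : NoOverM (zl (S : Subgroup G) L) H) (Q : Nrm H (zl (S : Subgroup G) L))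
    (ne : (EP (S : Subgroup G) P (zl (S : Subgroup G) L)).Nonempty) :
    AcN (im Q (S : Subgroup G)) (im Q '' EE (S : Subgroup G) (zl (S : Subgroup G) L)) (im Q P)
      (im Q (KP (S : Subgroup G) P (zl (S : Subgroup G) L)))
      (im Q '' EP (S : Subgroup G) P (zl (S : Subgroup G) L)) Q.Mod where
  gen := AcNOf.gen hc hP hPL LH Q ne
  EPE := AcNOf.EPE Q
  EPK := AcNOf.EPK Q
  dich := AcNOf.dich hc hL hP hPL (fun B hB => noH B (hB.trans LH)) Q
  genK := AcNOf.genK hc hP hPL LH Q ne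
  typ := by
    rintro _ ⟨A, hA, rfl⟩ h4
    rcases AcNSmall.nat_or_small hc hL hP hPL LH noH Q with ⟨F, i1, i2, i3, k, M, hF⟩ | hs
    · exact typ_nat hc hL hP hPL LH noH Q M hF hA
    · have := hs A hA
      omega

/-- **the inputs of the family** -/
theorem inN_of (hc : IsCharacteristicTwoType G) (hL : IsLoc (S : Subgroup G) (MZ (S : Subgroup G)))
    (no : NoOverM (zl (S : Subgroup G) (MZ (S : Subgroup G))) (MZ (S : Subgroup G)))
    (Q : Nrm (normalizer (MZ (S : Subgroup G) : Set G)) (zl (S : Subgroup G) (MZ (S : Subgroup G)))) :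
    FamOf.InN S Q where
  ac P hP ne := acN_of hc hL hP (le_MZ hP) le_normalizer (FamOf.no_norm hL.le no) Q ne
  oth := FamOf.oth_of hc hL no Q

end Cfsg.Agent.Omega.NOThreeL.RRed.Blk.AcNAsm
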