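import Cfsg.Agent.Omega.NOThreeL.RRed.Blk.AcNTyp
import Cfsg.Agent.Omega.NOThreeL.RRed.Blk.AcNSmall

/-!
# NO-3L, box R: active `P ∈ P*(S)`, radicals allowed: **`AcN`** (#26560, #26867, #26972)

`P ∈ P*(S)`, `P ≤ L ≤ H`, `Q : Nrm H (zl S L)`, `NoOverM (zl S L) H`.

* `gn_of` : the generators of `KP` are good;
* `KP_C` : `KP` normalises `C_U(⟨A, A^p⟩)`;
* **`typ_nat`** : the field `typ` for natural `P`, `4 ≤ |F|`;
* **`acN_of`** : `AsmN.AcN` for all types of `P`.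
-/

set_option autoImplicit false
set_option linter.unusedSectionVars false

namespace Cfsg.Agent.Omega.NOThreeL.RRed.Blk.AcNEnd

open Subgroup Cfsg Cfsg.Agent.ZN Cfsg.Agent.Omega.MinPar
open Cfsg.Agent.Omega.FFThm Cfsg.Agent.Lib.SL2Mat
open Cfsg.Agent.Omega.FrameFF (cv)
open Cfsg.Agent.Omega.NatPair (ap ap_mul ap_one ap_inj)
open Cfsg.Agent.Omega.NO3S.ThmB Cfsg.Agent.Omega.NO3S.KeyRad
open Cfsg.Agent.Omega.NOThreeL.RSplit (Nrm)
open Cfsg.Agent.Omega.NOThreeL.RRed.NS (fxd brk mem_fxd DD YY smul_eq_iff wl exists_p)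
open Cfsg.Agent.Omega.NOThreeL.RRed.Blk.TypesNat (XH ph ph_smul XH_faith ph_eq no_XH)
open Cfsg.Agent.Omega.NOThreeL.RRed.Blk.AsmCore
open Cfsg.Agent.Omega.NOThreeL.RRed.Blk.AsmAct (one_of norm_blk KP_blk)
open Cfsg.Agent.Omega.NOThreeL.RRed.Blk.TypesGam (rt NO)
open Cfsg.Agent.Omega.NOThreeL.RRed.Blk.TypesClo (clo up_mem_clo lo_mem_clo)
open Cfsg.Agent.Omega.NOThreeL.RRed.Blk.GamD (BkD)
open Cfsg.Agent.Omega.NOThreeL.RRed.Blk.AsmN (NBd AcN)
open Cfsg.Agent.Omega.NOThreeL.RRed.Blk.AcNGen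
open Cfsg.Agent.Omega.NOThreeL.RRed.Blk.AcNTyp
open scoped Pointwise

universe u

variable {G : Type u} [Group G]

/-- the action of a single factor on its block determines its square -/
theorem sq_one {F : Type} [Field F] {S P V D : Subgroup G} {k : ℕ} {M : NatKM F S P V D k} (h : Nb M) {c : G} (hc : c ∈ P)
    {i : Fin k} {B : Matrix.SpecialLinearGroup (Fin 2) F} (hB : ActsSL M.e V D c (sg i B))
    (h1 : ActsSL M.e V D (c * c) 1) : B * B = 1 := by
  have h2 := h.acts_mul hc hB hB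
  apply ap_inj
  intro x
  obtain ⟨v, hv, hvi, -⟩ := Nb.exists_single M i x
  have h3 := h2.1 v hv i
  have h4 := h1.1 v hv i
  rw [h3, Pi.mul_apply, sg_self, Pi.one_apply, hvi] at h4
  exact h4

section main

variable [Finite G] {S : Sylow 2 G} {L P : Subgroup G} (hc : IsCharacteristicTwoType G)
  (hL : IsLoc (S : Subgroup G) L) (hP : IsParS (S : Subgroup G) P) (hPL : P ≤ L)
  (no : NoOverM (zl (S : Subgroup G) L) L)
include hc hL hP hPL no

/-- the generators of `KP` are good -/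
theorem gn_of {A : Subgroup G} (hA : A ∈ EP (S : Subgroup G) P (zl (S : Subgroup G) L)) {q a : G} (hq : q ∈ P)
    (ha : a ∈ A) : Gn P (zl (S : Subgroup G) P) (zl (S : Subgroup G) L) (q * a * q⁻¹) :=
  ⟨mul_mem (mul_mem hq (hP.le (hA.1.1 ha))) (inv_mem hq), fun _ hu => AcNOf.comm_eq hc hL hP hPL no hA hq ha hu⟩

variable {F : Type} [Field F] [Finite F] [CharP F 2] {k : ℕ}
  (M : NatKM F (S : Subgroup G) P (zl (S : Subgroup G) P) (cv (S : Subgroup G) P) k)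

/-- a generator is a single factor, an involution on its block -/
theorem gen_act {A : Subgroup G} (hA : A ∈ EP (S : Subgroup G) P (zl (S : Subgroup G) L)) {q a : G} (hq : q ∈ P)
    (ha : a ∈ A) : ∃ i B, ActsSL M.e (zl (S : Subgroup G) P) (cv (S : Subgroup G) P) (q * a * q⁻¹) (sg i B) ∧
      B * B = 1 := by
  have h := Inst.nb hc hP M
  have haP : a ∈ P := hP.le (hA.1.1 ha)
  obtain ⟨i, O⟩ := one_of hc hL hP hPL no M hA
  obtain ⟨β, hβ⟩ := O.act a ha
  obtain ⟨j', B, hB⟩ := conj_sg h hq haP hβ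
  have hcP : q * a * q⁻¹ ∈ P := mul_mem (mul_mem hq haP) (inv_mem hq)
  refine ⟨j', B, hB, sq_one h hcP hB ?_⟩
  have h1 : ActsSL M.e (zl (S : Subgroup G) P) (cv (S : Subgroup G) P) (a * a) 1 := by
    have h2 := h.acts_mul haP hβ hβ
    have h3 : sg i (up β) * sg i (up β) = (1 : Fin k → Matrix.SpecialLinearGroup (Fin 2) F) := by
      rw [← sg_mul, up_mul, CharTwo.add_self_eq_zero, up_zero, sg_one]
    rwa [h3] at h2
  have e : q * a * q⁻¹ * (q * a * q⁻¹) = q * (a * a) * q⁻¹ := by group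
  rw [e]
  refine ⟨fun v hv i => ?_, fun d hd => ?_⟩
  · have hv' : q⁻¹ * v * q ∈ zl (S : Subgroup G) P := by
      have := h.memV (inv_mem hq) hv
      rwa [inv_inv] at this
    have h4 := h.comm_of_one (mul_mem haP haP) h1 hv'
    have e2 : q * (a * a) * q⁻¹ * v * (q * (a * a) * q⁻¹)⁻¹ = q * ((a * a) * (q⁻¹ * v * q)) * (a * a)⁻¹ * q⁻¹ := by group
    rw [e2, h4]
    have e3 : q * (q⁻¹ * v * q * (a * a)) * (a * a)⁻¹ * q⁻¹ = v := by group
    rw [e3, Pi.one_apply, NatPair.ap_one]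
  · have hd' : q⁻¹ * d * q ∈ cv (S : Subgroup G) P := by
      have := (mem_normalizer_iff.1 (h.DP' (inv_mem hq)) d).1 hd
      rwa [inv_inv] at this
    have h4 : (a * a) * (q⁻¹ * d * q) = (q⁻¹ * d * q) * (a * a) := h1.2 _ hd'
    calc q * (a * a) * q⁻¹ * d = q * ((a * a) * (q⁻¹ * d * q)) * q⁻¹ := by group
      _ = q * ((q⁻¹ * d * q) * (a * a)) * q⁻¹ := by rw [h4]
      _ = _ := by group

variable {H : Subgroup G} (LH : L ≤ H) (noH : NoOverM (zl (S : Subgroup G) L) H) (Q : Nrm H (zl (S : Subgroup G) L))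
  (hF : 2 < Nat.card F)
include M LH noH Q hF

/-- **`KP` normalises `C`** -/
theorem KP_C {A : Subgroup G} (hA : A ∈ EP (S : Subgroup G) P (zl (S : Subgroup G) L)) {j : Fin k}
    (O : NO3S.ThmB.One M (zl (S : Subgroup G) L) A j) {p : G} (hp : p ∈ P)
    (hpA : ActsSL M.e (zl (S : Subgroup G) P) (cv (S : Subgroup G) P) p (sg j (wl F))) {x : G}
    (hx : x ∈ KP (S : Subgroup G) P (zl (S : Subgroup G) L)) :
    (∀ w ∈ zl (S : Subgroup G) L, w ∈ centralizer ((A ⊔ MulAut.conj p • A : Subgroup G) : Set G) →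
      x * w * x⁻¹ ∈ centralizer ((A ⊔ MulAut.conj p • A : Subgroup G) : Set G)) ∧
    ∀ w ∈ zl (S : Subgroup G) L, w ∈ centralizer ((A ⊔ MulAut.conj p • A : Subgroup G) : Set G) →
      x⁻¹ * w * x ∈ centralizer ((A ⊔ MulAut.conj p • A : Subgroup G) : Set G) := by
  have h := Inst.nb hc hP M
  have hU2 := FFThm.elem_zl hc S hL
  have hVU := NOThreeL.Star.zl_mono (S : Subgroup G) hPL
  have hAP : A ≤ P := hA.1.1.trans hP.le
  have hLU : L ≤ normalizer (zl (S : Subgroup G) L : Set G) := le_normalizer_zl _ _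
  have hUx : ∀ x ∈ P, ∀ w ∈ zl (S : Subgroup G) L, x * w * x⁻¹ ∈ zl (S : Subgroup G) L := fun x hx w hw =>
    (mem_normalizer_iff.1 (hLU (hPL hx)) w).1 hw
  have gen : ∀ q ∈ P, ∀ A₁ ∈ EP (S : Subgroup G) P (zl (S : Subgroup G) L), ∀ a ∈ A₁,
      ∀ w ∈ zl (S : Subgroup G) L, w ∈ centralizer ((A ⊔ MulAut.conj p • A : Subgroup G) : Set G) →
      q * a * q⁻¹ * w * (q * a * q⁻¹)⁻¹ ∈ centralizer ((A ⊔ MulAut.conj p • A : Subgroup G) : Set G) := by
    intro q hq A₁ hA₁ a ha w hw hwE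
    obtain ⟨i, B, hB, hBB⟩ := gen_act hc hL hP hPL no M hA₁ hq ha
    have hg := gn_of hc hL hP hPL no hA₁ hq ha
    by_cases hij : i = j
    · subst hij
      exact nC_same h hF Q (hPL.trans LH) hVU hU2 noH O hAP hp hpA hg hB hBB hw hwE
    · exact off h O hAP hp hpA hij hg hB hw hwE
  unfold KP at hx
  induction hx using closure_induction with
  | mem x hx =>
    obtain ⟨q, hq, A₁, hA₁, a, ha, rfl⟩ := hx
    refine ⟨gen q hq A₁ hA₁ a ha, fun w hw hwE => ?_⟩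
    have h1 := gen q hq A₁ hA₁ a⁻¹ (inv_mem ha) w hw hwE
    have e : q * a⁻¹ * q⁻¹ * w * (q * a⁻¹ * q⁻¹)⁻¹ = (q * a * q⁻¹)⁻¹ * w * (q * a * q⁻¹) := by group
    rwa [e] at h1
  | one => exact ⟨fun w _ hw => by simpa using hw, fun w _ hw => by simpa using hw⟩
  | mul x y hx hy h1 h2 =>
    have hxP : x ∈ P := KP_le hP.le hx
    have hyP : y ∈ P := KP_le hP.le hy
    refine ⟨fun w hw hwE => ?_, fun w hw hwE => ?_⟩
    · have e : x * y * w * (x * y)⁻¹ = x * (y * w * y⁻¹) * x⁻¹ := by group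
      rw [e]
      exact h1.1 _ (hUx y hyP w hw) (h2.1 w hw hwE)
    · have e : (x * y)⁻¹ * w * (x * y) = y⁻¹ * (x⁻¹ * w * x) * y := by group
      rw [e]
      have h3 : x⁻¹ * w * x ∈ zl (S : Subgroup G) L := by
        have := hUx _ (inv_mem hxP) w hw
        rwa [inv_inv] at this
      exact h2.2 _ h3 (h1.2 w hw hwE)
  | inv x hx h1 =>
    refine ⟨fun w hw hwE => ?_, fun w hw hwE => ?_⟩
    · rw [inv_inv]
      exact h1.2 w hw hwE
    · rw [inv_inv]
      exact h1.1 w hw hwE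

/-- `KP` centralises `DD M j` -/
theorem KP_D {x : G} (hx : x ∈ KP (S : Subgroup G) P (zl (S : Subgroup G) L)) {d : G}
    (hd : d ∈ cv (S : Subgroup G) P) : x * d = d * x := by
  unfold KP at hx
  induction hx using closure_induction with
  | mem x hx =>
    obtain ⟨q, hq, A₁, hA₁, a, ha, rfl⟩ := hx
    obtain ⟨i, B, hB, -⟩ := gen_act hc hL hP hPL no M hA₁ hq ha
    exact hB.2 d hd
  | one => rw [one_mul, mul_one]
  | mul x y _ _ h1 h2 => exact (show Commute x d from h1).mul_left h2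
  | inv x _ h1 => exact (show Commute x d from h1).inv_left

omit hF in
/-- **the field `typ`, natural `P`** -/
theorem typ_nat (h4 : 4 ≤ Nat.card F) {A : Subgroup G} (hA : A ∈ EP (S : Subgroup G) P (zl (S : Subgroup G) L)) :
    ∃ N C L' Z : AddSubgroup Q.Mod, NBd (im Q A) N C L' Z ∧
      N ≤ brk Q.Mod (im Q (KP (S : Subgroup G) P (zl (S : Subgroup G) L))) ∧
      (∀ k ∈ im Q (KP (S : Subgroup G) P (zl (S : Subgroup G) L)), ∀ m ∈ N, k • m ∈ N) ∧
      (∀ k ∈ im Q (KP (S : Subgroup G) P (zl (S : Subgroup G) L)), ∀ m ∈ C, k • m ∈ C) ∧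
      (∀ k ∈ im Q (KP (S : Subgroup G) P (zl (S : Subgroup G) L)), ∀ m ∈ Z, k • m = m) ∧
      ∀ A' ∈ im Q '' EP (S : Subgroup G) P (zl (S : Subgroup G) L), A' ≠ im Q A → ∀ a ∈ A', ∀ m ∈ N, a • m = m := by
  have h := Inst.nb hc hP M
  have hU2 := FFThm.elem_zl hc S hL
  have hVU := NOThreeL.Star.zl_mono (S : Subgroup G) hPL
  have hAP : A ≤ P := hA.1.1.trans hP.le
  have hF : 2 < Nat.card F := by omega
  obtain ⟨j, O⟩ := one_of hc hL hP hPL no M hA
  obtain ⟨p, hp, hpA⟩ := exists_p M j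
  obtain ⟨e, f, d, up', lo', hb, hrt, hlo, h4', h5, h6⟩ := exC h hF Q (hPL.trans LH) hVU hU2 O hAP hp hpA
  have h2 := two_ad Q hU2
  have hf : ∀ x : XH Q, (∀ v : Q.Mod, x • v = v) → x = 1 := fun x hx => XH_faith Q x hx
  refine ⟨Q.ad (blk M j), Q.ad (centralizer ((A ⊔ MulAut.conj p • A : Subgroup G) : Set G)), e.range, Q.ad (DD M j),
    ⟨F, inferInstance, inferInstance, e, f, d, up', lo', hb, hrt, h5, rfl, h6⟩, ?_, ?_, ?_, ?_, ?_⟩
  · -- `N ≤ [V, K]`
    obtain ⟨c, hc0, hc1⟩ := Types.exists_ne01 (F := F) h4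
    rw [← h5, ← TThreeD.brk_clo_eq hb h2 hc0 hc1]
    have hcl : clo up' lo' ≤ im Q (KP (S : Subgroup G) P (zl (S : Subgroup G) L)) := by
      unfold clo
      rw [closure_le]
      rintro _ (⟨t, rfl⟩ | ⟨t, rfl⟩)
      · have k1 : up' t ∈ im Q A := by rw [← hrt]; exact subset_closure ⟨t, rfl⟩
        exact im_mono Q (le_KP hA) k1
      · have k2 : (MulAut.conj p • A : Subgroup G) ≤ KP (S : Subgroup G) P (zl (S : Subgroup G) L) := by
          rintro _ ⟨a, ha, rfl⟩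
          exact mem_KP hp hA ha
        exact im_mono Q k2 (hlo t)
    refine AddSubgroup.closure_mono ?_
    rintro _ ⟨g, hg, v, rfl⟩
    exact ⟨g, hcl hg, v, rfl⟩
  · -- `K` normalises `N`
    rintro _ ⟨x, hx, rfl⟩ m hm
    exact (mem_normalizer_iff.1 (KP_blk hc hL hP hPL no M j hx) _).1 hm
  · -- `K` normalises `C`
    rintro _ ⟨x, hx, rfl⟩ m hm
    exact (KP_C hc hL hP hPL no M LH noH Q hF hA O hp hpA hx).1 _ (Q.val_mem m) hm
  · -- `K` centralises `Z`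
    rintro _ ⟨x, hx, rfl⟩ m hm
    have h7 : (Q.val m) ∈ DD M j := hm
    rw [ph_smul, smul_eq_iff]
    exact mul_inv_eq_iff_eq_mul.2 (KP_D hc hL hP hPL no M LH noH Q hF hx h7.2)
  · -- the others centralise `N`
    rintro _ ⟨A', hA', rfl⟩ hne _ ⟨a, ha, rfl⟩ m hm
    obtain ⟨j', O'⟩ := one_of hc hL hP hPL no M hA'
    have hjj : j' ≠ j := by
      rintro rfl
      exact hne (AcNSame.same_im hc hL hP hPL LH noH Q M hA hA' O O')
    have ha' : (a : G) ∈ A' := ha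
    have hm' : Q.val m ∈ blk M j := hm
    obtain ⟨β, hβ⟩ := O'.act (a : G) ha'
    rw [ph_smul, smul_eq_iff]
    have h9 : (a : G) * Q.val m = Q.val m * a :=
      cent_sg h (hP.le (hA'.1.1 ha')) hβ (blk_le h j hm') (e_blk h hjj hm')
    exact mul_inv_eq_iff_eq_mul.2 h9

end main

/-- **`AcN` for all types of `P`.** -/
theorem acN_of [Finite G] {S : Sylow 2 G} {L P H : Subgroup G} (hc : IsCharacteristicTwoType G)
    (hL : IsLoc (S : Subgroup G) L) (hP : IsParS (S : Subgroup G) P) (hPL : P ≤ L) (LH : L ≤ H)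
    (noH : NoOverM (zl (S : Subgroup G) L) H) (Q : Nrm H (zl (S : Subgroup G) L))
    (ne : (EP (S : Subgroup G) P (zl (S : Subgroup G) L)).Nonempty) :
    AcN (im Q (S : Subgroup G)) (im Q '' AsmCore.EE (S : Subgroup G) (zl (S : Subgroup G) L)) (im Q P)
      (im Q (KP (S : Subgroup G) P (zl (S : Subgroup G) L)))
      (im Q '' EP (S : Subgroup G) P (zl (S : Subgroup G) L)) Q.Mod where
  gen := AcNOf.gen hc hP hPL LH Q ne
  EPE := AcNOf.EPE Q
  EPK := AcNOf.EPK Q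
  dich := AcNOf.dich hc hL hP hPL (fun B hB => noH B (hB.trans LH)) Q
  genK := AcNOf.genK hc hP hPL LH Q ne
  typ := by
    rintro _ ⟨A, hA, rfl⟩ h4
    rcases AcNSmall.nat_or_small hc hL hP hPL LH noH Q with ⟨F, i1, i2, i3, k, M, hF⟩ | h1
    · exact typ_nat hc hL hP hPL (fun B hB => noH B (hB.trans LH)) M LH noH Q hF hA
    · exact absurd (h1 A hA) (by omega)

end Cfsg.Agent.Omega.NOThreeL.RRed.Blk.AcNEnd
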