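import Cfsg.Agent.Omega.NOThreeL.RRed.Blk.BkDOf

/-!
# NO-3L, box R: the generators of `KP` and the complement `C = C_U(⟨A, A^p⟩)` of a natural block with radical

`Gn P V U c` : `c ∈ P`, every `[u, c]`, `u ∈ U`, is a `[v, c]` with `v ∈ V`.

* `off` : `c` acting on another block normalises `C`;
* `cm_up`, `cm_lo` : `c` acting as `up β` (`lo γ`) on the block commutes with `A` (`A^p`) on `U`;
* `nC_up`, `nC_lo`, **`nC`** : `c` acting on the block with `c² = 1` normalises `C`.
-/

set_option autoImplicit false
set_option linter.unusedSectionVars false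

namespace Cfsg.Agent.Omega.NOThreeL.RRed.Blk.AcNMat

open Subgroup Cfsg Cfsg.Agent.ZN
open Cfsg.Agent.Omega.FFThm Cfsg.Agent.Lib.SL2Mat
open Cfsg.Agent.Omega.NatPair (ap ap_mul ap_one ap_inj)
open Cfsg.Agent.Omega.NO3S.ThmB Cfsg.Agent.Omega.NO3S.KeyRad
open Cfsg.Agent.Omega.NOThreeL.RSplit (Nrm)
open scoped Pointwise

universe u

/-! ### matrices -/

section mat

variable {F : Type} [Field F]

/-- an involution of `SL₂(F)`, characteristic 2: upper, or `up s`-conjugate of a lower one -/
theorem inv_cases [CharP F 2] (B : Matrix.SpecialLinearGroup (Fin 2) F) (hB : B * B = 1) :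
    (∃ β, B = up β) ∨ ∃ s γ, up s * B * (up s)⁻¹ = lo γ := by
  have e00 : ent B 0 0 * ent B 0 0 + ent B 0 1 * ent B 1 0 = 1 := by
    have := congrArg (fun x => ent x 0 0) hB
    simp only [ent_mul] at this
    simpa using this
  have e01 : ent B 0 0 * ent B 0 1 + ent B 0 1 * ent B 1 1 = 0 := by
    have := congrArg (fun x => ent x 0 1) hB
    simp only [ent_mul] at this
    simpa using this
  have e10 : ent B 1 0 * ent B 0 0 + ent B 1 1 * ent B 1 0 = 0 := by
    have := congrArg (fun x => ent x 1 0) hB
    simp only [ent_mul] at this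
    simpa using this
  have e11 : ent B 1 0 * ent B 0 1 + ent B 1 1 * ent B 1 1 = 1 := by
    have := congrArg (fun x => ent x 1 1) hB
    simp only [ent_mul] at this
    simpa using this
  have h2 : (2 : F) = 0 := CharTwo.two_eq_zero
  have one_of : ∀ x : F, x * x = 1 → x = 1 := fun x hx => by
    have h3 : (x + 1) * (x + 1) = 0 := by linear_combination hx + (x + 1) * h2
    have h4 := mul_self_eq_zero.1 h3
    linear_combination h4 - h2
  by_cases hc : ent B 1 0 = 0
  · left
    refine ⟨ent B 0 1, ext_ent ?_ ?_ ?_ ?_⟩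
    · rw [up_00]
      exact one_of _ (by rw [hc] at e00; simpa using e00)
    · rw [up_01]
    · rw [up_10, hc]
    · rw [up_11]
      exact one_of _ (by rw [hc] at e11; simpa using e11)
  · right
    have hd := det_eq B
    have htr : ent B 0 0 + ent B 1 1 = 0 := by
      have h3 : ent B 1 0 * (ent B 0 0 + ent B 1 1) = 0 := by linear_combination e10
      exact (mul_eq_zero.1 h3).resolve_left hc
    have h11 : ent B 1 1 = ent B 0 0 := by linear_combination htr - ent B 0 0 * h2
    refine ⟨(1 + ent B 0 0) / ent B 1 0, ent B 1 0, ?_⟩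
    rw [mul_inv_eq_iff_eq_mul]
    refine ext_ent ?_ ?_ ?_ ?_ <;> simp only [ent_mul, up_00, up_01, up_10, up_11, lo_00, lo_01, lo_10, lo_11]
    · field_simp
      linear_combination (ent B 0 0) * h2
    · rw [h11] at hd ⊢
      field_simp
      linear_combination (-1 : F) * hd + (ent B 0 0 ^ 2 - 1) * h2
    · ring
    · rw [h11]
      field_simp
      linear_combination (-1 : F) * h2

end mat


end Cfsg.Agent.Omega.NOThreeL.RRed.Blk.AcNMat
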