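import Cfsg.Agent.Omega.NOThreeL.RRed.Blk.TypesAbs

/-!
# NO-3L, box R: THEOREM TYPES for nonsplit blocks (helper855, #26560), abstract part (T3n)

As `Dt`, `Bd` (`TypesAbs.lean`), for a nonsplit block `M_b = L + L⁻ + Δ`, `Δ ≤ C`: `M = N ⊕ C` as a `τ`-module,
`N = L ⊕ L⁻` (not `D`-invariant), `[M, D] ≥ L`, `C_M(D) = L + C`.

* `DtN`, `BdN`;
* `DtN.keep` : `B` normalises `C`;
* `DtN.kill` : if `[M, B] ≤ C`, then `B` centralises `N`.
-/

set_option autoImplicit false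
set_option linter.unusedSectionVars false

namespace Cfsg.Agent.Omega.NOThreeL.RRed.Blk.TypesN

open Subgroup
open scoped Pointwise
open Cfsg.Agent.Omega.NOThreeL.RRed.NS (fxd brk mem_fxd)
open Cfsg.Agent.Omega.NOThreeL.RRed.Blk.Types

universe u v

variable {H : Type u} {M : Type v} [Group H] [AddCommGroup M] [DistribMulAction H M]

/-- The data of (T3n): the exact group `D` of `P`, `M = N ⊕ C`, the line `L ≤ N`, the torus element `τ`. -/
structure DtN (X D : Subgroup H) (L N C : AddSubgroup M) (τ : H) : Prop where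
  DX : D ≤ X
  el : El D
  ex : Nat.card M ≤ Nat.card D * Nat.card (fxd D : AddSubgroup M)
  qd : brk M D ≤ fxd D
  fD : (fxd D : AddSubgroup M) ≤ L ⊔ C
  LD : L ≤ brk M D
  CD : C ≤ fxd D
  LN : L ≤ N
  τX : τ ∈ X
  τD : MulAut.conj τ • D = D
  τC : ∀ c ∈ C, τ • c = c
  τL : ∀ r ∈ L, τ • r ∈ L
  τN : ∀ n ∈ N, τ • n ∈ N
  fp : ∀ n ∈ N, τ • n = n → n = 0

/-- The data of (T3n): the exact group `B` of a conjugate of `P'`. -/
structure BdN (X D B : Subgroup H) (L : AddSubgroup M) : Prop where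
  BX : B ≤ X
  el : El B
  ex : Nat.card M ≤ Nat.card B * Nat.card (fxd B : AddSubgroup M)
  qd : brk M B ≤ fxd B
  cm : ∀ d ∈ D, ∀ b ∈ B, d * b = b * d
  BD : brk M B ≤ fxd D
  DB : brk M D ≤ fxd B
  tr : ∀ y ∈ brk M B, y ∈ L → y = 0
  ab : ∀ a ∈ D, (∀ m : M, a • m - m ∈ brk M B) → a = 1

namespace DtN

variable {X D : Subgroup H} {L N C : AddSubgroup M} {τ : H} (S : Sit M X) (T : DtN X D L N C τ)
include T

theorem τR {r : M} (hr : r ∈ brk M D) : τ • r ∈ brk M D := by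
  have h : τ • r ∈ brk M (MulAut.conj τ • D) := by
    have h1 : brk M D ≤ (brk M (MulAut.conj τ • D)).comap (DistribSMul.toAddMonoidHom M τ) := by
      apply brk_le
      intro a ha v
      rw [AddSubgroup.mem_comap, DistribSMul.toAddMonoidHom_apply, smul_sub]
      have h2 : τ * a * τ⁻¹ ∈ MulAut.conj τ • D := by rw [mem_cj]; convert ha using 1; group
      have h3 := sub_mem_brk (M := M) h2 (τ • v)
      have e : (τ * a * τ⁻¹) • τ • v = τ • a • v := by rw [← mul_smul, ← mul_smul]; congr 1; group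
      rw [e] at h3
      exact h3
    exact h1 hr
  rwa [T.τD] at h

theorem τR' {r : M} (hr : r ∈ brk M D) : τ⁻¹ • r ∈ brk M D := by
  rw [← T.τD] at hr
  exact brk_cj hr

theorem τF {m : M} (hm : m ∈ (fxd D : AddSubgroup M)) : τ • m ∈ (fxd D : AddSubgroup M) := by
  rw [← T.τD, fxd_cj, inv_smul_smul]; exact hm

theorem τC' {c : M} (hc : c ∈ C) : τ⁻¹ • c = c := by rw [inv_smul_eq_iff, T.τC c hc]

theorem key {B : Subgroup H} (hB : BdN X D B L) {x : M} (hx : x ∈ (fxd D : AddSubgroup M)) (hxB : x ∈ (fxd B : AddSubgroup M)) :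
    τ • x ∈ (fxd B : AddSubgroup M) ∧ τ⁻¹ • x ∈ (fxd B : AddSubgroup M) := by
  obtain ⟨r, hrL, c, hc, rfl⟩ := AddSubgroup.mem_sup.1 (T.fD hx)
  have hr := T.LD hrL
  have h1 : τ • (r + c) = (r + c) + (τ • r - r) := by rw [smul_add, T.τC c hc]; abel
  have h2 : τ⁻¹ • (r + c) = (r + c) + (τ⁻¹ • r - r) := by rw [smul_add, T.τC' hc]; abel
  rw [h1, h2]
  exact ⟨add_mem hxB (sub_mem (hB.DB (T.τR hr)) (hB.DB hr)),
    add_mem hxB (sub_mem (hB.DB (T.τR' hr)) (hB.DB hr))⟩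

theorem brk_cjB {B : Subgroup H} (hB : BdN X D B L) {y : M} (hy : y ∈ brk M (MulAut.conj τ • B)) :
    y ∈ (fxd B : AddSubgroup M) ∧ y ∈ (fxd D : AddSubgroup M) := by
  have h1 := brk_cj hy
  have e : y = τ • τ⁻¹ • y := (smul_inv_smul _ _).symm
  rw [e]
  exact ⟨(T.key hB (hB.BD h1) (hB.qd h1)).1, T.τF (hB.BD h1)⟩

include S

/-- `B` and `B^τ` commute. -/
theorem commB {B : Subgroup H} (hB : BdN X D B L) : ∀ b ∈ B, ∀ b' ∈ MulAut.conj τ • B, b * b' = b' * b := by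
  intro b hb b' hb'
  refine S.comm_of (hB.BX hb) (S.cj_le T.τX hB.BX hb') (fun m => ?_) fun m => ?_
  · have h1 := sub_mem_brk (M := M) hb m
    have h2 := (T.key hB (hB.BD h1) (hB.qd h1)).2
    exact mem_fxd.1 ((fxd_cj τ B).2 h2) b' hb'
  · exact mem_fxd.1 (T.brk_cjB hB (sub_mem_brk hb' m)).1 b hb

theorem commD {B : Subgroup H} (hB : BdN X D B L) : ∀ d ∈ D, ∀ b' ∈ MulAut.conj τ • B, d * b' = b' * d := by
  intro d hd b' hb'
  have h1 : τ⁻¹ * d * τ ∈ D := by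
    have h2 : d ∈ MulAut.conj τ • D := by rw [T.τD]; exact hd
    exact mem_cj.1 h2
  have h3 := hB.cm _ h1 _ (mem_cj.1 hb')
  calc d * b' = τ * (τ⁻¹ * d * τ * (τ⁻¹ * b' * τ)) * τ⁻¹ := by group
    _ = τ * (τ⁻¹ * b' * τ * (τ⁻¹ * d * τ)) * τ⁻¹ := by rw [h3]
    _ = b' * d := by group

theorem inf_eq {B : Subgroup H} (hB : BdN X D B L) : D ⊓ B = ⊥ := by
  rw [eq_bot_iff]
  intro x hx
  rw [mem_bot]
  exact hB.ab x (mem_inf.1 hx).1 fun m => sub_mem_brk (mem_inf.1 hx).2 m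

/-- `B^τ ≤ D B` -/
theorem cj_le [Finite H] [Finite M] {B : Subgroup H} (hB : BdN X D B L) : MulAut.conj τ • B ≤ D ⊔ B := by
  have h1 : El (D ⊔ B) := T.el.sup hB.el hB.cm
  have h2 : ∀ x ∈ D ⊔ B, ∀ b' ∈ MulAut.conj τ • B, x * b' = b' * x := by
    intro x hx b' hb'
    obtain ⟨d, hd, b, hb, rfl⟩ := (mem_sup_comm hB.cm).1 hx
    calc d * b * b' = d * (b * b') := by group
      _ = d * (b' * b) := by rw [commB S T hB b hb b' hb']
      _ = (d * b') * b := by group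
      _ = (b' * d) * b := by rw [commD S T hB d hd b' hb']
      _ = b' * (d * b) := by group
  have h3 : (D ⊔ B) ⊔ MulAut.conj τ • B = D ⊔ B := by
    refine S.eq_of_le (sup_le (sup_le T.DX hB.BX) (S.cj_le T.τX hB.BX)) (h1.sup (hB.el.cj τ) h2) le_sup_left
      (Sit.exact_sup hB.cm (inf_eq S T hB) T.ex hB.ex) ?_
    intro m hm
    refine mem_fxd_sup hm ?_
    have hmD : m ∈ (fxd D : AddSubgroup M) := mem_fxd.2 fun d hd => mem_fxd.1 hm d (mem_sup_left hd)
    have hmB : m ∈ (fxd B : AddSubgroup M) := mem_fxd.2 fun b hb => mem_fxd.1 hm b (mem_sup_right hb)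
    exact (fxd_cj τ B).2 (T.key hB hmD hmB).2
  rw [← h3]; exact le_sup_right

/-- **(T3), first half.** `B` normalises `C`. -/
theorem keep [Finite H] [Finite M] {B : Subgroup H} (hB : BdN X D B L) {b : H} (hb : b ∈ B) {c : M} (hc : c ∈ C) :
    b • c ∈ C := by
  have h1 : τ * b * τ⁻¹ ∈ D ⊔ B := by
    refine cj_le S T hB ?_
    rw [mem_cj]; convert hb using 1; group
  obtain ⟨d, hd, b₁, hb₁, e⟩ := (mem_sup_comm hB.cm).1 h1
  have hy := sub_mem_brk (M := M) hb c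
  obtain ⟨r, hr, c₀, hc₀, ey⟩ := AddSubgroup.mem_sup.1 (T.fD (hB.BD hy))
  have h2 : τ • (b • c - c) = b₁ • c - c := by
    have e1 : τ • (b • c) = (τ * b * τ⁻¹) • c := by
      rw [mul_smul, mul_smul, T.τC' hc]
    rw [smul_sub, T.τC c hc, e1, ← e, mul_smul]
    congr 1
    have h3 : b₁ • c ∈ (fxd D : AddSubgroup M) := by
      have e2 : b₁ • c = (b₁ • c - c) + c := by abel
      rw [e2]
      exact add_mem (hB.BD (sub_mem_brk hb₁ c)) (T.CD hc)
    exact mem_fxd.1 h3 d hd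
  have h4 : τ • r - r = 0 := by
    apply hB.tr
    · have e3 : τ • r - r = (b₁ • c - c) - (b • c - c) := by
        rw [← h2, ← ey, smul_add, T.τC c₀ hc₀]; abel
      rw [e3]
      exact sub_mem (sub_mem_brk hb₁ c) hy
    · exact sub_mem (T.τL r hr) hr
  have h5 : r = 0 := T.fp r (T.LN hr) (sub_eq_zero.1 h4)
  rw [h5, zero_add] at ey
  have e4 : b • c = (b • c - c) + c := by abel
  rw [e4, ← ey]
  exact add_mem hc₀ hc

/-- **(T3), second half.** If `[M, B] ≤ C`, then `B` centralises `N`. -/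
theorem kill [Finite H] [Finite M] {B : Subgroup H} (hB : BdN X D B L) (hBC : brk M B ≤ C) {b : H} (hb : b ∈ B) {n : M}
    (hn : n ∈ N) : b • n = n := by
  have hb' : τ * b * τ⁻¹ ∈ MulAut.conj τ • B := by rw [mem_cj]; convert hb using 1; group
  have hcb := commB S T hB b hb _ hb'
  -- `u` commutes with `D`, fixes `fxd D`
  have hfix : ∀ m ∈ (fxd D : AddSubgroup M), b • (τ * b * τ⁻¹) • m = m := by
    intro m hm
    obtain ⟨r, hrL, c, hc, rfl⟩ := AddSubgroup.mem_sup.1 (T.fD hm)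
    have hr := T.LD hrL
    have e1 : (τ * b * τ⁻¹) • r = r := by
      rw [mul_smul, mul_smul, mem_fxd.1 (hB.DB (T.τR' hr)) b hb, smul_inv_smul]
    have e2 : (τ * b * τ⁻¹) • c = b • c := by
      rw [mul_smul, mul_smul, T.τC' hc]
      exact T.τC _ (keep S T hB hb hc)
    rw [smul_add, e1, e2, smul_add, mem_fxd.1 (hB.DB hr) b hb, hB.el.smul_smul hb]
  have hzu : b * (τ * b * τ⁻¹) ∈ D := by
    have hel : El (zpowers (b * (τ * b * τ⁻¹))) := by
      have hsq : b * (τ * b * τ⁻¹) * (b * (τ * b * τ⁻¹)) = 1 := by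
        calc b * (τ * b * τ⁻¹) * (b * (τ * b * τ⁻¹)) = b * ((τ * b * τ⁻¹) * b) * (τ * b * τ⁻¹) := by group
          _ = b * (b * (τ * b * τ⁻¹)) * (τ * b * τ⁻¹) := by rw [hcb]
          _ = (b * b) * (τ * (b * b) * τ⁻¹) := by group
          _ = 1 := by rw [hB.el.sq b hb]; group
      constructor
      · rintro x ⟨k, rfl⟩
        calc (b * (τ * b * τ⁻¹)) ^ k * (b * (τ * b * τ⁻¹)) ^ k = (b * (τ * b * τ⁻¹) * (b * (τ * b * τ⁻¹))) ^ k := by
              rw [← zpow_add, ← pow_two, ← zpow_natCast, ← zpow_mul]; congr 1; push_cast; ring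
          _ = 1 := by rw [hsq, one_zpow]
      · rintro x ⟨k, rfl⟩ y ⟨l, rfl⟩
        exact ((Commute.refl _).zpow_zpow k l).eq
    have hcd : ∀ d ∈ D, ∀ x ∈ zpowers (b * (τ * b * τ⁻¹)), d * x = x * d := by
      rintro d hd x ⟨k, rfl⟩
      have h1 : Commute d (b * (τ * b * τ⁻¹)) :=
        Commute.mul_right (hB.cm d hd b hb) (commD S T hB d hd _ hb')
      exact (h1.zpow_right k).eq
    have h1 : D ⊔ zpowers (b * (τ * b * τ⁻¹)) = D := by
      refine S.eq_of_le (sup_le T.DX ?_) (T.el.sup hel hcd) le_sup_left T.ex ?_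
      · rw [zpowers_le]
        exact mul_mem (hB.BX hb) (S.cj_le T.τX hB.BX hb')
      · intro m hm
        refine mem_fxd_sup hm (mem_fxd.2 ?_)
        rintro x ⟨k, rfl⟩
        have h2 : b * (τ * b * τ⁻¹) ∈ MulAction.stabilizer H m := by
          rw [MulAction.mem_stabilizer_iff, mul_smul]; exact hfix m hm
        exact MulAction.mem_stabilizer_iff.1 (zpow_mem h2 k)
    rw [← h1]
    exact mem_sup_right (mem_zpowers _)
  have hu1 : b * (τ * b * τ⁻¹) = 1 := by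
    refine hB.ab _ hzu fun m => ?_
    have h1 := sub_mem_brk (M := M) hb (((τ * b * τ⁻¹)) • m)
    have h2 := brk_cj (sub_mem_brk (M := M) hb' m)
    have h3 : (τ * b * τ⁻¹) • m - m ∈ brk M B := by
      have e : (τ * b * τ⁻¹) • m - m = τ • τ⁻¹ • ((τ * b * τ⁻¹) • m - m) := (smul_inv_smul _ _).symm
      rw [e, T.τC _ (hBC h2)]; exact h2
    have e : (b * (τ * b * τ⁻¹)) • m - m = (b • (τ * b * τ⁻¹) • m - (τ * b * τ⁻¹) • m) + ((τ * b * τ⁻¹) • m - m) := by
      rw [mul_smul b]; abel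
    rw [e]
    exact add_mem h1 h3
  have hcomm : τ * b = b * τ := by
    have h1 : τ * b * τ⁻¹ = b := by
      have h2 : b * (τ * b * τ⁻¹) = b * b := by rw [hu1, hB.el.sq b hb]
      exact mul_left_cancel h2
    calc τ * b = (τ * b * τ⁻¹) * τ := by group
      _ = b * τ := by rw [h1]
  have hz : ∀ m ∈ N, b • (τ • m - m) = τ • m - m := by
    intro m _
    have e1 : b • τ • m - τ • m = τ • (b • m - m) := by
      rw [smul_sub, ← mul_smul, ← mul_smul, hcomm]
    rw [T.τC _ (hBC (sub_mem_brk hb m))] at e1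
    rw [smul_sub]
    have e2 : b • τ • m = τ • m + (b • m - m) := by rw [← e1]; abel
    rw [e2]; abel
  -- `τ - 1` is onto on `N`
  have hsur : Function.Surjective (fun m : N => (⟨τ • (m : M) - m, sub_mem (T.τN _ m.2) m.2⟩ : N)) := by
    refine Finite.surjective_of_injective ?_
    rintro ⟨x, hx⟩ ⟨y, hy⟩ e
    have e1 : τ • x - x = τ • y - y := congrArg Subtype.val e
    have e2 : τ • (x - y) = x - y := by
      rw [smul_sub, sub_eq_sub_iff_add_eq_add]
      rw [sub_eq_sub_iff_add_eq_add] at e1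
      rw [e1]; abel
    have e3 := T.fp _ (sub_mem hx hy) e2
    exact Subtype.ext (sub_eq_zero.1 e3)
  obtain ⟨m, hm⟩ := hsur ⟨n, hn⟩
  have hm' : τ • (m : M) - m = n := congrArg Subtype.val hm
  rw [← hm']
  exact hz _ m.2

end DtN

end Cfsg.Agent.Omega.NOThreeL.RRed.Blk.TypesN
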