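import Cfsg.Agent.Omega.NOThreeL.RRed.Blk.Asm
import Cfsg.Agent.Omega.NOThreeL.RRed.Blk.AsmNDef
import Cfsg.Agent.Omega.NOThreeL.RRed.Blk.TypesAbsN

/-!
# NO-3L, box R: assembly of natural blocks WITH RADICALS (#26560), module level

`X` acts faithfully on the elementary abelian 2-group `V` (additive), no over-offender.

* `NBd`, `GBd` : `AsmNDef`;
* `clo_cent` : the block group centralises the lines `[V, A]` of the other members `A` of `EE`;
* **`indN`** ((T3), for a group `K`) : `K` centralises `N` and `[V, K] ≤ C`; **`NBd.ind`** : two blocks;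
* `AcN` : `P` is active; `FamN` : a family of blocks;
* **`mainN`** : the conjugates of the members of `RR` under the stabiliser of `EE` form a family, permuted by `X`.
-/

set_option autoImplicit false
set_option linter.unusedSectionVars false

namespace Cfsg.Agent.Omega.NOThreeL.RRed.Blk.AsmN

open Cfsg.Agent.Omega.NOThreeL.RRed.NS (fxd brk mem_fxd)
open Cfsg.Agent.Omega.NOThreeL.RRed.Blk.TypesGam (NO rt up_mem hh wt)
open Cfsg.Agent.Omega.NOThreeL.RRed.Blk.Types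
open Cfsg.Agent.Omega.NOThreeL.RRed.Blk.TypesN
open Cfsg.Agent.Omega.NOThreeL.RRed.Blk.GamD
open Cfsg.Agent.Omega.NOThreeL.RRed.Blk.Asm (Es St mem_St le_St mem_map FFs le_FFs conj_FFs FFs_sub sit exists_ne)
open scoped Pointwise

universe u v w

variable {X : Type u} {V : Type v} [Group X] [AddCommGroup V] [DistribMulAction X V]

section bk

variable {F : Type w} [Field F] {e f d : F →+ V} {C : AddSubgroup V} {up lo : F → X}
variable (h : BkD e f d C up lo) (h2 : ∀ v : V, v + v = 0) (hf : ∀ x : X, (∀ v : V, x • v = v) → x = 1)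
include h

theorem rt_el (h2 : ∀ v : V, v + v = 0) (hf : ∀ x : X, (∀ v : V, x • v = v) → x = 1) : El (rt up) where
  sq := by
    intro x hx
    obtain ⟨t, rfl⟩ := (h.mem_rt h2 hf).1 hx
    rw [h.up_add hf, h.two h2, h.up_zero hf]
  cm := by
    intro x hx y hy
    obtain ⟨t, rfl⟩ := (h.mem_rt h2 hf).1 hx
    obtain ⟨s, rfl⟩ := (h.mem_rt h2 hf).1 hy
    rw [h.up_add hf, h.up_add hf, add_comm]

/-- `C_V(A) = e(F) + C` -/
theorem mem_fxd_rt {v : V} : v ∈ (fxd (rt up) : AddSubgroup V) ↔ ∃ x, ∃ c ∈ C, v = e x + c := by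
  rw [mem_fxd]
  constructor
  · intro hv
    obtain ⟨x, y, c, hc, rfl⟩ := h.dec v
    have e1 := hv _ (up_mem (up := up) 1)
    rw [smul_add, smul_add, h.up_e, h.up_f, h.up_c _ c hc, one_mul, one_mul] at e1
    have e2 : e (x + y) + f y + (d (y ^ 2) + c) = e x + f y + c := by
      rw [← e1, map_add]; abel
    have e3 := (h.uniq (C.add_mem (h.dC _) hc) hc e2).1
    have e4 : y = 0 := by
      have : x + y = x + 0 := by rw [e3, add_zero]
      exact add_left_cancel this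
    exact ⟨x, c, hc, by rw [e4, map_zero, add_zero]⟩
  · rintro ⟨x, c, hc, rfl⟩ a ha
    have h1 : rt up ≤ MulAction.stabilizer X (e x + c) := by
      refine (Subgroup.closure_le _).2 ?_
      rintro _ ⟨t, rfl⟩
      refine MulAction.mem_stabilizer_iff.2 ?_
      rw [smul_add, h.up_e, h.up_c _ c hc]
    exact MulAction.mem_stabilizer_iff.1 (h1 ha)

/-- `[V, A] ≤ e(F) + d(F)` -/
theorem brk_rt_le (h2 : ∀ v : V, v + v = 0) (hf : ∀ x : X, (∀ v : V, x • v = v) → x = 1) :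
    brk V (rt up) ≤ e.range ⊔ d.range := by
  refine brk_le fun a ha m => ?_
  obtain ⟨t, rfl⟩ := (h.mem_rt h2 hf).1 ha
  obtain ⟨x, y, c, hc, rfl⟩ := h.dec m
  have e1 : up t • (e x + f y + c) - (e x + f y + c) = e (t * y) + d (t * y ^ 2) := by
    rw [smul_add, smul_add, h.up_e, h.up_f, h.up_c _ c hc]
    abel
  rw [e1]
  exact add_mem (AddSubgroup.mem_sup_left ⟨_, rfl⟩) (AddSubgroup.mem_sup_right ⟨_, rfl⟩)

theorem ed_mem (t y : F) : e (t * y) + d (t * y ^ 2) ∈ brk V (rt up) := by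
  have h1 := sub_mem_brk (M := V) (up_mem (up := up) t) (f y)
  rw [h.up_f] at h1
  have e1 : f y + e (t * y) + d (t * y ^ 2) - f y = e (t * y) + d (t * y ^ 2) := by abel
  rwa [e1] at h1

/-- `d(F), e(F) ≤ [V, A]` -/
theorem de_le_brk {c₀ : F} (hc0 : c₀ ≠ 0) (hc1 : c₀ ≠ 1) (x : F) :
    d x ∈ brk V (rt up) ∧ e x ∈ brk V (rt up) := by
  -- `e s + d (s y)` for all `y ≠ 0`
  have key : ∀ s y : F, y ≠ 0 → e s + d (s * y) ∈ brk V (rt up) := by
    intro s y hy
    have h1 := ed_mem h (s * y⁻¹) y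
    have e1 : s * y⁻¹ * y = s := by rw [mul_assoc, inv_mul_cancel₀ hy, mul_one]
    have e2 : s * y⁻¹ * y ^ 2 = s * y := by rw [pow_two, ← mul_assoc, e1]
    rwa [e1, e2] at h1
  have hd : d x ∈ brk V (rt up) := by
    have hne : c₀ - 1 ≠ 0 := sub_ne_zero.2 hc1
    have h1 := key (x * (c₀ - 1)⁻¹) c₀ hc0
    have h3 := key (x * (c₀ - 1)⁻¹) 1 one_ne_zero
    have h4 := sub_mem h1 h3
    have e1 : e (x * (c₀ - 1)⁻¹) + d (x * (c₀ - 1)⁻¹ * c₀) - (e (x * (c₀ - 1)⁻¹) + d (x * (c₀ - 1)⁻¹ * 1))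
        = d (x * (c₀ - 1)⁻¹ * c₀) - d (x * (c₀ - 1)⁻¹ * 1) := by abel
    rw [e1, ← map_sub, ← mul_sub, mul_assoc, inv_mul_cancel₀ hne, mul_one] at h4
    exact h4
  refine ⟨hd, ?_⟩
  have h1 := key x 1 one_ne_zero
  rw [mul_one] at h1
  have h3 := sub_mem h1 hd
  rwa [add_sub_cancel_right] at h3

theorem C_le_fxd : C ≤ fxd (rt up) := by
  intro c hc
  rw [mem_fxd_rt h]
  exact ⟨0, c, hc, by rw [map_zero, zero_add]⟩

theorem e_le_fxd : e.range ≤ fxd (rt up) := by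
  rintro _ ⟨x, rfl⟩
  rw [mem_fxd_rt h]
  exact ⟨x, 0, C.zero_mem, by rw [add_zero]⟩

theorem d_le : d.range ≤ C := by
  rintro _ ⟨x, rfl⟩
  exact h.dC x

theorem exact_rt [Finite V] [Finite F] (h2 : ∀ v : V, v + v = 0) (hf : ∀ x : X, (∀ v : V, x • v = v) → x = 1) :
    Nat.card V ≤ Nat.card (rt up) * Nat.card (fxd (rt up) : AddSubgroup V) := by
  obtain ⟨px, py, pc, hv, hpc, hu⟩ := h.proj
  have h1 : (fxd (rt up) : AddSubgroup V) = py.ker := by
    ext v
    rw [mem_fxd_rt h, AddMonoidHom.mem_ker]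
    constructor
    · rintro ⟨x, c, hc, rfl⟩
      have := (hu x 0 c hc).2.1
      rwa [map_zero, add_zero] at this
    · intro hy
      refine ⟨px v, pc v, hpc v, ?_⟩
      conv_lhs => rw [hv v]
      rw [hy, map_zero, add_zero]
  rw [h.card_rt h2 hf, h1]
  have h3 := py.ker.card_mul_index
  have h5 : py.ker.index = Nat.card py.range := AddSubgroup.index_ker py
  have h6 : Nat.card py.range ≤ Nat.card F := Nat.card_le_card_of_injective _ Subtype.val_injective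
  calc Nat.card V = Nat.card py.ker * py.ker.index := h3.symm
    _ ≤ Nat.card py.ker * Nat.card F := Nat.mul_le_mul_left _ (h5 ▸ h6)
    _ = _ := mul_comm _ _

theorem ef_inf_C {n : V} (hn : n ∈ e.range ⊔ f.range) (hc : n ∈ C) : n = 0 := by
  obtain ⟨_, ⟨x, rfl⟩, _, ⟨y, rfl⟩, rfl⟩ := AddSubgroup.mem_sup.1 hn
  obtain ⟨rfl, rfl⟩ := h.ind x y hc
  rw [map_zero, map_zero, add_zero]

theorem sup_eq_top : (e.range ⊔ f.range) ⊔ C = ⊤ := by
  rw [eq_top_iff]
  intro v _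
  obtain ⟨x, y, c, hc, rfl⟩ := h.dec v
  exact add_mem (AddSubgroup.mem_sup_left (add_mem (AddSubgroup.mem_sup_left ⟨x, rfl⟩) (AddSubgroup.mem_sup_right ⟨y, rfl⟩)))
    (AddSubgroup.mem_sup_right hc)

theorem dtN [Finite V] [Finite F] (h2 : ∀ v : V, v + v = 0) (hf : ∀ x : X, (∀ v : V, x • v = v) → x = 1) {c₀ : F}
    (hc0 : c₀ ≠ 0) (hc1 : c₀ ≠ 1) :
    DtN (⊤ : Subgroup X) (rt up) e.range (e.range ⊔ f.range) C (hh up lo c₀) where
  DX := le_top
  el := rt_el h h2 hf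
  ex := exact_rt h h2 hf
  qd := (brk_rt_le h h2 hf).trans (sup_le (e_le_fxd h) ((d_le h).trans (C_le_fxd h)))
  fD := by
    intro v hv
    obtain ⟨x, c, hc, rfl⟩ := (mem_fxd_rt h).1 hv
    exact add_mem (AddSubgroup.mem_sup_left ⟨x, rfl⟩) (AddSubgroup.mem_sup_right hc)
  LD := by
    rintro _ ⟨x, rfl⟩
    exact (de_le_brk h hc0 hc1 x).2
  CD := C_le_fxd h
  LN := le_sup_left
  τX := Subgroup.mem_top _
  τD := by
    have key : ∀ t, hh up lo c₀ * up t * (hh up lo c₀)⁻¹ = up (c₀ * (t * c₀)) := by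
      intro t
      refine h.ext hf (fun z => ?_) (fun z => ?_) fun c hc => ?_
      · rw [mul_smul, mul_smul, h.hhi_e h2 hc0, h.up_e, h.hh_e h2 hc0, h.up_e]
        congr 1; field_simp
      · rw [mul_smul, mul_smul, h.hhi_f h2 hc0, h.up_f, smul_add, smul_add, h.hh_f h2 hc0, h.hh_e h2 hc0,
          h.hh_c _ (h.dC _), h.up_f]
        have e1 : c₀⁻¹ * (c₀ * z) = z := by field_simp
        have e2 : c₀ * (t * (c₀ * z)) = c₀ * (t * c₀) * z := by ring
        have e3 : t * (c₀ * z) ^ 2 = c₀ * (t * c₀) * z ^ 2 := by ring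
        rw [e1, e2, e3]
      · rw [mul_smul, mul_smul, h.hhi_c _ hc, h.up_c _ c hc, h.hh_c _ hc, h.up_c _ c hc]
    apply le_antisymm
    · intro x hx
      obtain ⟨t, ht⟩ := (h.mem_rt h2 hf).1 (mem_cj.1 hx)
      have e1 : x = hh up lo c₀ * up t * (hh up lo c₀)⁻¹ := by rw [ht]; group
      rw [e1, key]
      exact up_mem _
    · intro x hx
      obtain ⟨t, rfl⟩ := (h.mem_rt h2 hf).1 hx
      rw [mem_cj]
      have e1 : up t = hh up lo c₀ * up (c₀⁻¹ * (t * c₀⁻¹)) * (hh up lo c₀)⁻¹ := by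
        rw [key]
        congr 1; field_simp
      have e2 : (hh up lo c₀)⁻¹ * up t * hh up lo c₀ = up (c₀⁻¹ * (t * c₀⁻¹)) := by
        rw [e1]; group
      rw [e2]
      exact up_mem _
  τC := fun c hc => h.hh_c _ hc
  τL := by
    rintro _ ⟨x, rfl⟩
    rw [h.hh_e h2 hc0]
    exact ⟨_, rfl⟩
  τN := by
    intro n hn
    obtain ⟨_, ⟨x, rfl⟩, _, ⟨y, rfl⟩, rfl⟩ := AddSubgroup.mem_sup.1 hn
    rw [smul_add, h.hh_e h2 hc0, h.hh_f h2 hc0]
    exact add_mem (AddSubgroup.mem_sup_left ⟨_, rfl⟩) (AddSubgroup.mem_sup_right ⟨_, rfl⟩)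
  fp := by
    intro n hn hfix
    obtain ⟨_, ⟨x, rfl⟩, _, ⟨y, rfl⟩, rfl⟩ := AddSubgroup.mem_sup.1 hn
    rw [smul_add, h.hh_e h2 hc0, h.hh_f h2 hc0] at hfix
    have e1 : e (c₀ * x) + f (c₀⁻¹ * y) + 0 = e x + f y + 0 := by rw [hfix]
    obtain ⟨h3, h4, -⟩ := h.uniq C.zero_mem C.zero_mem e1
    have hx : x = 0 := by
      by_contra hx
      exact hc1 (mul_right_cancel₀ hx (by rw [h3, one_mul]))
    have hy : y = 0 := by
      by_contra hy
      have h5 : c₀⁻¹ = 1 := mul_right_cancel₀ hy (by rw [h4, one_mul])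
      exact hc1 (by rw [← inv_inv c₀, h5, inv_one])
    rw [hx, hy, map_zero, map_zero, add_zero]

/-- the block group -/
def clo {F : Type w} (up lo : F → X) : Subgroup X := Subgroup.closure (Set.range up ∪ Set.range lo)

omit h in
theorem up_clo (t : F) : up t ∈ clo up lo := Subgroup.subset_closure (Or.inl ⟨t, rfl⟩)

omit h in
theorem lo_clo (t : F) : lo t ∈ clo up lo := Subgroup.subset_closure (Or.inr ⟨t, rfl⟩)

omit h in
theorem rt_le_clo : rt up ≤ clo up lo := Subgroup.closure_mono Set.subset_union_left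

/-- `C_V(E) = C` -/
theorem fxd_clo : (fxd (clo up lo) : AddSubgroup V) = C := by
  apply le_antisymm
  · intro v hv
    rw [mem_fxd] at hv
    obtain ⟨x, y, c, hc, rfl⟩ := h.dec v
    have e1 := hv _ (up_clo (lo := lo) 1)
    rw [smul_add, smul_add, h.up_e, h.up_f, h.up_c _ c hc, one_mul, one_mul] at e1
    have e2 : e (x + y) + f y + (d (y ^ 2) + c) = e x + f y + c := by rw [← e1, map_add]; abel
    have e3 := (h.uniq (C.add_mem (h.dC _) hc) hc e2).1
    have hy : y = 0 := by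
      have : x + y = x + 0 := by rw [e3, add_zero]
      exact add_left_cancel this
    have e4 := hv _ (lo_clo (up := up) (lo := lo) 1)
    rw [smul_add, smul_add, h.lo_e, h.lo_f, h.lo_c _ c hc, one_mul, one_mul] at e4
    have e5 : e x + f (x + y) + (d (x ^ 2) + c) = e x + f y + c := by rw [← e4, map_add]; abel
    have e6 := (h.uniq (C.add_mem (h.dC _) hc) hc e5).2.1
    have hx : x = 0 := by
      have : x + y = 0 + y := by rw [e6, zero_add]
      exact add_right_cancel this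
    rw [hx, hy, map_zero, map_zero, zero_add, zero_add]
    exact hc
  · intro c hc k hk
    have h1 : clo up lo ≤ MulAction.stabilizer X c := by
      refine (Subgroup.closure_le _).2 ?_
      rintro _ (⟨t, rfl⟩ | ⟨t, rfl⟩)
      · exact MulAction.mem_stabilizer_iff.2 (h.up_c t c hc)
      · exact MulAction.mem_stabilizer_iff.2 (h.lo_c t c hc)
    exact MulAction.mem_stabilizer_iff.1 (h1 hk)

/-- `[V, E] ≤ N` -/
theorem brk_clo_le : brk V (clo up lo) ≤ (e.range ⊔ f.range) ⊔ d.range := by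
  have h1 : clo up lo ≤ {
      carrier := {x | (∀ n, n ∈ (e.range ⊔ f.range) ⊔ d.range ↔ x • n ∈ (e.range ⊔ f.range) ⊔ d.range) ∧
        ∀ v : V, x • v - v ∈ (e.range ⊔ f.range) ⊔ d.range}
      mul_mem' := by
        rintro a b ⟨ha, ha'⟩ ⟨hb, hb'⟩
        refine ⟨fun c => by rw [mul_smul, ← ha, ← hb], fun v => ?_⟩
        have e1 : (a * b) • v - v = a • (b • v - v) + (a • v - v) := by
          rw [mul_smul, smul_sub]; abel
        rw [e1]
        exact add_mem ((ha _).1 (hb' v)) (ha' v)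
      one_mem' := ⟨fun c => by rw [one_smul], fun v => by rw [one_smul, sub_self]; exact zero_mem _⟩
      inv_mem' := by
        rintro a ⟨ha, ha'⟩
        refine ⟨fun c => by rw [ha (a⁻¹ • c), smul_inv_smul], fun v => ?_⟩
        rw [ha]
        have e1 : a • (a⁻¹ • v - v) = -(a • v - v) := by rw [smul_sub, smul_inv_smul]; abel
        rw [e1]
        exact neg_mem (ha' v) } := by
    refine (Subgroup.closure_le _).2 ?_
    have key : ∀ x : X, (∀ v : V, x • v - v ∈ (e.range ⊔ f.range) ⊔ d.range) →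
        (∀ n, n ∈ (e.range ⊔ f.range) ⊔ d.range ↔ x • n ∈ (e.range ⊔ f.range) ⊔ d.range) ∧
          ∀ v : V, x • v - v ∈ (e.range ⊔ f.range) ⊔ d.range := by
      intro x hx
      refine ⟨fun n => ⟨fun hn => ?_, fun hn => ?_⟩, hx⟩
      · have e1 : x • n = (x • n - n) + n := by abel
        rw [e1]; exact add_mem (hx n) hn
      · have e1 : n = x • n - (x • n - n) := by abel
        rw [e1]; exact sub_mem hn (hx n)
    rintro _ (⟨t, rfl⟩ | ⟨t, rfl⟩)
    · refine key _ fun v => ?_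
      obtain ⟨x, y, c, hc, rfl⟩ := h.dec v
      rw [smul_add, smul_add, h.up_e, h.up_f, h.up_c _ c hc]
      have e1 : e x + (f y + e (t * y) + d (t * y ^ 2)) + c - (e x + f y + c) = e (t * y) + d (t * y ^ 2) := by abel
      rw [e1]
      exact add_mem (AddSubgroup.mem_sup_left (AddSubgroup.mem_sup_left ⟨_, rfl⟩)) (AddSubgroup.mem_sup_right ⟨_, rfl⟩)
    · refine key _ fun v => ?_
      obtain ⟨x, y, c, hc, rfl⟩ := h.dec v
      rw [smul_add, smul_add, h.lo_e, h.lo_f, h.lo_c _ c hc]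
      have e1 : e x + f (t * x) + d (t * x ^ 2) + f y + c - (e x + f y + c) = f (t * x) + d (t * x ^ 2) := by abel
      rw [e1]
      exact add_mem (AddSubgroup.mem_sup_left (AddSubgroup.mem_sup_right ⟨_, rfl⟩)) (AddSubgroup.mem_sup_right ⟨_, rfl⟩)
  exact brk_le fun k hk v => (h1 hk).2 v

/-- `E` is generated by the `E`-conjugates of the root group -/
theorem clo_gen (h2 : ∀ v : V, v + v = 0) (hf : ∀ x : X, (∀ v : V, x • v = v) → x = 1) :
    clo up lo ≤ Subgroup.closure {x | ∃ g ∈ clo up lo, ∃ b ∈ rt up, x = g * b * g⁻¹} := by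
  refine (Subgroup.closure_le _).2 ?_
  rintro _ (⟨t, rfl⟩ | ⟨t, rfl⟩)
  · exact Subgroup.subset_closure ⟨1, one_mem _, up t, up_mem t, by group⟩
  · have hw : wt up lo 1 ∈ clo up lo := mul_mem (mul_mem (up_clo _) (lo_clo _)) (up_clo _)
    refine Subgroup.subset_closure ⟨wt up lo 1, hw, up t, up_mem t, ?_⟩
    have hwi : ∀ x : V, (wt up lo 1)⁻¹ • x = wt up lo 1 • x := by
      intro v
      rw [inv_smul_eq_iff]
      obtain ⟨x, y, c, hc, rfl⟩ := h.dec v
      simp only [smul_add, h.wt_e h2 one_ne_zero, h.wt_f h2 one_ne_zero, h.wt_c 1 hc, inv_one, one_mul]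
    refine h.ext hf (fun z => ?_) (fun z => ?_) fun c hc => ?_
    · rw [mul_smul, mul_smul, hwi, h.wt_e h2 one_ne_zero, h.up_f, smul_add, smul_add, h.wt_f h2 one_ne_zero,
        h.wt_e h2 one_ne_zero, h.wt_c _ (h.dC _), h.lo_e, inv_one, one_mul, one_mul, one_mul]
    · rw [mul_smul, mul_smul, hwi, h.wt_f h2 one_ne_zero, h.up_e, h.wt_e h2 one_ne_zero, h.lo_f, inv_one, one_mul,
        one_mul]
    · rw [mul_smul, mul_smul, hwi, h.wt_c 1 hc, h.up_c _ c hc, h.wt_c 1 hc, h.lo_c _ c hc]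

end bk

section pair

variable [Finite X] [Finite V]

/-- the block group centralises the line of `A` -/
theorem clo_cent {F : Type w} [Field F] {e f d : F →+ V} {C : AddSubgroup V} {up lo : F → X}
    (h : BkD e f d C up lo) (h2 : ∀ v : V, v + v = 0) (hf : ∀ x : X, (∀ v : V, x • v = v) → x = 1) (hno : NO X V)
    {A : Subgroup X} (elA : El A) (exA : Nat.card V ≤ Nat.card A * Nat.card (fxd A : AddSubgroup V))
    (qdA : brk V A ≤ fxd A) (hAN : ∀ a ∈ A, ∀ m ∈ (e.range ⊔ f.range) ⊔ d.range, a • m = m)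
    (hDA : ∀ δ ∈ rt up, ∀ m ∈ brk V A, δ • m = m) :
    (∀ x ∈ clo up lo, ∀ a ∈ A, x * a = a * x) ∧ brk V A ≤ fxd (clo up lo) := by
  have S := sit h2 hf hno
  refine S.cent (D := A) (K := clo up lo) le_top elA exA qdA le_top
    (fun m hm a ha => hAN a ha m (brk_clo_le h hm)) ((clo_gen h h2 hf).trans (Subgroup.closure_mono ?_))
  rintro x ⟨g, hg, b, hb, rfl⟩
  refine ⟨g, hg, b, fun a ha => ?_, rfl⟩
  refine S.comm_of (Subgroup.mem_top _) (Subgroup.mem_top _) (fun m => ?_) fun m => ?_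
  · refine hAN a ha _ ?_
    exact (sup_le ((le_sup_left : e.range ≤ e.range ⊔ f.range).trans le_sup_left) le_sup_right)
      (brk_rt_le h h2 hf (sub_mem_brk hb m))
  · exact hDA b hb _ (sub_mem_brk ha m)

/-- **(T3) for a group `K`, blocks with radicals.** -/
theorem indN (h2 : ∀ v : V, v + v = 0) (hf : ∀ x : X, (∀ v : V, x • v = v) → x = 1) (hno : NO X V)
    {D : Subgroup X} {N C L Z : AddSubgroup V} (hN : NBd D N C L Z) (h4 : 4 ≤ Nat.card D) {K : Subgroup X}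
    {B₀ : Set (Subgroup X)} (hel : ∀ B ∈ B₀, El B)
    (hex : ∀ B ∈ B₀, Nat.card V ≤ Nat.card B * Nat.card (fxd B : AddSubgroup V)) (hqd : ∀ B ∈ B₀, brk V B ≤ fxd B)
    (hBK : ∀ B ∈ B₀, B ≤ K) (hBN : ∀ B ∈ B₀, ∀ b ∈ B, ∀ n ∈ N, b • n = n)
    (hDK : ∀ d ∈ D, ∀ m ∈ brk V K, d • m = m)
    (gen : K ≤ Subgroup.closure {x | ∃ g ∈ K, ∃ B ∈ B₀, ∃ b ∈ B, x = g * b * g⁻¹}) :
    (∀ k ∈ K, ∀ n ∈ N, k • n = n) ∧ brk V K ≤ C := by
  obtain ⟨F, _, _, e, f, d, up, lo, h, rfl, rfl, rfl, rfl⟩ := hN.ex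
  rw [h.card_rt h2 hf] at h4
  obtain ⟨c₀, hc0, hc1⟩ := exists_ne h4
  have S := sit h2 hf hno
  have T := dtN h h2 hf hc0 hc1
  have hRN : brk V (rt up) ≤ (e.range ⊔ f.range) ⊔ d.range :=
    (brk_rt_le h h2 hf).trans (sup_le (le_sup_left.trans le_sup_left) le_sup_right)
  have hKD : brk V K ≤ fxd (rt up) := fun m hm d hd => hDK d hd m hm
  have brk_mono : ∀ {A B : Subgroup X}, A ≤ B → brk V A ≤ brk V B := by
    intro A B hAB
    exact brk_le fun a ha m => sub_mem_brk (hAB ha) m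
  have hcm0 : ∀ B ∈ B₀, ∀ b ∈ B, ∀ d ∈ rt up, b * d = d * b := by
    intro B hB b hb d hd
    refine (S.comm_of (Subgroup.mem_top _) (Subgroup.mem_top _) (fun m => ?_) fun m => ?_)
    · exact hDK d hd _ (brk_mono (hBK B hB) (sub_mem_brk hb m))
    · exact hBN B hB b hb _ (hRN (sub_mem_brk hd m))
  obtain ⟨hKc, hDfK⟩ := S.cent (D := rt up) (K := K) le_top T.el T.ex T.qd le_top hKD
    (gen.trans (by
      apply Subgroup.closure_mono
      rintro x ⟨g, hg, B, hB, b, hb, rfl⟩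
      exact ⟨g, hg, b, fun d hd => hcm0 B hB b hb d hd, rfl⟩))
  -- the lines of the members of `B₀` are in `C`
  have hBC0 : ∀ B ∈ B₀, brk V B ≤ C := by
    intro B hB
    have h1 := (clo_cent h h2 hf hno (hel B hB) (hex B hB) (hqd B hB) (hBN B hB) fun δ hδ m hm =>
      hDK δ hδ m (brk_mono (hBK B hB) hm)).2
    rwa [fxd_clo h] at h1
  have hKC : ∀ g ∈ K, ∀ B ∈ B₀, ∀ m ∈ brk V (MulAut.conj g • B), m ∈ brk V (rt up) → m ∈ C := by
    intro g hg B hB m hm hm'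
    have h1 := brk_cj hm
    have h3 : g⁻¹ • m = m := mem_fxd.1 (hDfK hm') _ (inv_mem hg)
    rw [h3] at h1
    exact hBC0 B hB h1
  -- conjugates
  have hle : ∀ g ∈ K, ∀ B ∈ B₀, MulAut.conj g • B ≤ K := by
    intro g hg B hB x hx
    have h1 := hBK B hB (mem_cj.1 hx)
    have e1 : x = g * (g⁻¹ * x * g) * g⁻¹ := by group
    rw [e1]; exact mul_mem (mul_mem hg h1) (inv_mem hg)
  have hBd : ∀ g ∈ K, ∀ B ∈ B₀, BdN (⊤ : Subgroup X) (rt up) (MulAut.conj g • B) (e.range) := by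
    intro g hg B hB
    refine
      { BX := le_top
        el := (hel B hB).cj g
        ex := ?_
        qd := ?_
        cm := fun d hd b hb => (hKc b (hle g hg B hB hb) d hd).symm
        BD := (brk_mono (hle g hg B hB)).trans hKD
        DB := fun m hm b hb => hDfK hm b (hle g hg B hB hb)
        tr := fun y hy hy' => ?_
        ab := fun a ha ham => ?_ }
    · have h1 : Nat.card (fxd (MulAut.conj g • B) : AddSubgroup V) = Nat.card (fxd B : AddSubgroup V) := by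
        refine Nat.card_congr ⟨fun m => ⟨g⁻¹ • m.1, (fxd_cj g B).1 m.2⟩, fun m => ⟨g • m.1, ?_⟩, fun m => ?_, fun m => ?_⟩
        · rw [fxd_cj, inv_smul_smul]; exact m.2
        · exact Subtype.ext (smul_inv_smul g m.1)
        · exact Subtype.ext (inv_smul_smul g m.1)
      rw [card_cj, h1]
      exact hex B hB
    · intro m hm
      rw [fxd_cj]
      exact hqd B hB (brk_cj hm)
    · obtain ⟨x, rfl⟩ := hy'
      have h1 := hKC g hg B hB (e x) hy (T.LD ⟨x, rfl⟩)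
      have h3 := (h.ind x 0 (by rw [map_zero, add_zero]; exact h1)).1
      rw [h3, map_zero]
    · obtain ⟨t, rfl⟩ := (h.mem_rt h2 hf).1 ha
      have h1 := hKC g hg B hB _ (ham (f 1)) (sub_mem_brk ha (f 1))
      have e1 : up t • f 1 - f 1 = e t + d t := by
        rw [h.up_f, mul_one, one_pow, mul_one]; abel
      rw [e1] at h1
      have h3 : e t ∈ C := by
        have := C.sub_mem h1 (h.dC t)
        rwa [add_sub_cancel_right] at this
      have h5 := (h.ind t 0 (by rw [map_zero, add_zero]; exact h3)).1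
      rw [h5, h.up_zero hf]
  have hkeep : ∀ k ∈ K, ∀ c ∈ C, k • c ∈ C := by
    have h1 : K ≤ {
        carrier := {x | ∀ c, c ∈ C ↔ x • c ∈ C}
        mul_mem' := fun {a b} ha hb c => by rw [mul_smul, ← ha, ← hb]
        one_mem' := fun c => by rw [one_smul]
        inv_mem' := fun {a} ha c => by rw [ha (a⁻¹ • c), smul_inv_smul] } := by
      refine gen.trans ((Subgroup.closure_le _).2 ?_)
      rintro x ⟨g, hg, B, hB, b, hb, rfl⟩ c
      have hb' : g * b * g⁻¹ ∈ MulAut.conj g • B := by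
        rw [mem_cj]; convert hb using 1; group
      constructor
      · exact fun hc => T.keep S (hBd g hg B hB) hb' hc
      · intro hc
        have h3 := T.keep S (hBd g hg B hB) hb' hc
        have h5 : (g * b * g⁻¹) * (g * b * g⁻¹) = 1 := ((hel B hB).cj g).sq _ hb'
        rw [← mul_smul, h5, one_smul] at h3
        exact h3
    exact fun k hk c hc => (h1 hk c).1 hc
  have hBC : ∀ g ∈ K, ∀ B ∈ B₀, brk V (MulAut.conj g • B) ≤ C := by
    intro g hg B hB m hm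
    have h1 := hkeep g hg _ (hBC0 B hB (brk_cj hm))
    rwa [smul_inv_smul] at h1
  refine ⟨fun k hk n hn => ?_, ?_⟩
  · have h1 : K ≤ MulAction.stabilizer X n := by
      refine gen.trans ((Subgroup.closure_le _).2 ?_)
      rintro x ⟨g, hg, B, hB, b, hb, rfl⟩
      have hb' : g * b * g⁻¹ ∈ MulAut.conj g • B := by
        rw [mem_cj]; convert hb using 1; group
      refine MulAction.mem_stabilizer_iff.2 ?_
      obtain ⟨n₁, hn₁, _, ⟨z, rfl⟩, rfl⟩ := AddSubgroup.mem_sup.1 hn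
      have h3 : (g * b * g⁻¹) • d z = d z :=
        mem_fxd.1 (hDfK (de_le_brk h hc0 hc1 z).1) _ (hle g hg B hB hb')
      rw [smul_add, T.kill S (hBd g hg B hB) (hBC g hg B hB) hb' hn₁, h3]
    exact MulAction.mem_stabilizer_iff.1 (h1 hk)
  · have h1 : K ≤ {
        carrier := {x | (∀ c, c ∈ C ↔ x • c ∈ C) ∧ ∀ v : V, x • v - v ∈ C}
        mul_mem' := by
          rintro a b ⟨ha, ha'⟩ ⟨hb, hb'⟩
          refine ⟨fun c => by rw [mul_smul, ← ha, ← hb], fun v => ?_⟩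
          have e1 : (a * b) • v - v = a • (b • v - v) + (a • v - v) := by
            rw [mul_smul, smul_sub]; abel
          rw [e1]
          exact add_mem ((ha _).1 (hb' v)) (ha' v)
        one_mem' := ⟨fun c => by rw [one_smul], fun v => by rw [one_smul, sub_self]; exact C.zero_mem⟩
        inv_mem' := by
          rintro a ⟨ha, ha'⟩
          refine ⟨fun c => by rw [ha (a⁻¹ • c), smul_inv_smul], fun v => ?_⟩
          rw [ha]
          have e1 : a • (a⁻¹ • v - v) = -(a • v - v) := by rw [smul_sub, smul_inv_smul]; abel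
          rw [e1]
          exact neg_mem (ha' v) } := by
      refine gen.trans ((Subgroup.closure_le _).2 ?_)
      rintro x ⟨g, hg, B, hB, b, hb, rfl⟩
      have hb' : g * b * g⁻¹ ∈ MulAut.conj g • B := by
        rw [mem_cj]; convert hb using 1; group
      refine ⟨fun c => ⟨fun hc => T.keep S (hBd g hg B hB) hb' hc, fun hc => ?_⟩, fun v =>
        hBC g hg B hB (sub_mem_brk hb' v)⟩
      have h3 := T.keep S (hBd g hg B hB) hb' hc
      have h5 : (g * b * g⁻¹) * (g * b * g⁻¹) = 1 := ((hel B hB).cj g).sq _ hb'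
      rw [← mul_smul, h5, one_smul] at h3
      exact h3
    exact brk_le fun k hk v => (h1 hk).2 v

omit [Finite X] in
/-- the block group -/
theorem NBd.exists_grp (h2 : ∀ v : V, v + v = 0) (hf : ∀ x : X, (∀ v : V, x • v = v) → x = 1)
    {D : Subgroup X} {N C L Z : AddSubgroup V} (h : NBd D N C L Z) (h4 : 4 ≤ Nat.card D) :
    ∃ K : Subgroup X, D ≤ K ∧ brk V K = N ∧ (fxd K : AddSubgroup V) = C ∧ brk V D = L ⊔ Z ∧ Z ≤ C ∧ L ⊓ C = ⊥ ∧
      N ⊓ C = Z ∧ El D ∧ Nat.card V ≤ Nat.card D * Nat.card (fxd D : AddSubgroup V) ∧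
      (fxd D : AddSubgroup V) = L ⊔ C ∧ K ≤ Subgroup.closure {x | ∃ g ∈ K, ∃ b ∈ D, x = g * b * g⁻¹} := by
  obtain ⟨F, _, _, e, f, d, up, lo, hB, rfl, rfl, rfl, rfl⟩ := h.ex
  rw [hB.card_rt h2 hf] at h4
  obtain ⟨c₀, hc0, hc1⟩ := exists_ne h4
  have hde := de_le_brk hB hc0 hc1
  have hmono : brk V (rt up) ≤ brk V (clo up lo) := brk_le fun a ha m => sub_mem_brk (rt_le_clo ha) m
  refine ⟨clo up lo, rt_le_clo, le_antisymm (brk_clo_le hB) ?_, fxd_clo hB, le_antisymm (brk_rt_le hB h2 hf) ?_,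
    d_le hB, ?_, ?_, rt_el hB h2 hf, exact_rt hB h2 hf, ?_, clo_gen hB h2 hf⟩
  · refine sup_le (sup_le ?_ ?_) ?_
    · rintro _ ⟨x, rfl⟩
      exact hmono (hde x).2
    · rintro _ ⟨x, rfl⟩
      have h1 := sub_mem_brk (M := V) (lo_clo (up := up) (lo := lo) x) (e 1)
      rw [hB.lo_e, mul_one, one_pow, mul_one] at h1
      have e1 : e 1 + f x + d x - e 1 = f x + d x := by abel
      rw [e1] at h1
      have h3 := sub_mem h1 (hmono (hde x).1)
      rwa [add_sub_cancel_right] at h3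
    · rintro _ ⟨x, rfl⟩
      exact hmono (hde x).1
  · refine sup_le ?_ ?_
    · rintro _ ⟨x, rfl⟩
      exact (hde x).2
    · rintro _ ⟨x, rfl⟩
      exact (hde x).1
  · rw [eq_bot_iff]
    rintro m ⟨⟨x, rfl⟩, hm⟩
    rw [(hB.ind x 0 (by rw [map_zero, add_zero]; exact hm)).1, map_zero]
    exact zero_mem _
  · apply le_antisymm
    · rintro m ⟨hm, hmC⟩
      obtain ⟨n, hn, z, hz, rfl⟩ := AddSubgroup.mem_sup.1 hm
      have h1 : n ∈ C := by
        have := C.sub_mem hmC (d_le hB hz)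
        rwa [add_sub_cancel_right] at this
      rw [ef_inf_C hB hn h1, zero_add]
      exact hz
    · exact le_inf le_sup_right (d_le hB)
  · apply le_antisymm
    · intro v hv
      obtain ⟨x, c, hc, rfl⟩ := (mem_fxd_rt hB).1 hv
      exact add_mem (AddSubgroup.mem_sup_left ⟨x, rfl⟩) (AddSubgroup.mem_sup_right hc)
    · exact sup_le (e_le_fxd hB) (C_le_fxd hB)

/-- **Two blocks.** -/
theorem NBd.ind (h2 : ∀ v : V, v + v = 0) (hf : ∀ x : X, (∀ v : V, x • v = v) → x = 1) (hno : NO X V)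
    {D D' : Subgroup X} {N C L Z N' C' L' Z' : AddSubgroup V} (h : NBd D N C L Z) (h' : NBd D' N' C' L' Z')
    (h4 : 4 ≤ Nat.card D) (h4' : 4 ≤ Nat.card D')
    (hD : ∀ d ∈ D, ∀ m ∈ N', d • m = m) (hD' : ∀ d ∈ D', ∀ m ∈ N, d • m = m) : N' ≤ C := by
  obtain ⟨K, k1, k2, k3, k4, k5, k6, k7, k8, k9, k10, k11⟩ := h'.exists_grp h2 hf h4'
  rw [← k2]
  refine (indN h2 hf hno h h4 (K := K) (B₀ := {D'}) ?_ ?_ ?_ ?_ ?_ ?_ ?_).2
  · rintro B rfl; exact k8
  · rintro B rfl; exact k9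
  · rintro B rfl
    rw [k4, k10]
    exact sup_le_sup_left k5 _
  · rintro B rfl; exact k1
  · rintro B rfl; exact hD'
  · intro δ hδ m hm
    rw [k2] at hm
    exact hD δ hδ m hm
  · refine k11.trans (Subgroup.closure_mono ?_)
    rintro x ⟨g, hg, b, hb, rfl⟩
    exact ⟨g, hg, D', rfl, b, hb, rfl⟩

end pair

/-! ### conjugation -/

theorem NBd.conj {D : Subgroup X} {N C L Z : AddSubgroup V} (h : NBd D N C L Z) (g : X) :
    NBd (MulAut.conj g • D) (N.map (DistribSMul.toAddMonoidHom V g)) (C.map (DistribSMul.toAddMonoidHom V g))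
      (L.map (DistribSMul.toAddMonoidHom V g)) (Z.map (DistribSMul.toAddMonoidHom V g)) := by
  obtain ⟨F, _, _, e, f, d, up, lo, hB, rfl, rfl, rfl, rfl⟩ := h.ex
  refine ⟨F, ‹_›, ‹_›, (DistribSMul.toAddMonoidHom V g).comp e, (DistribSMul.toAddMonoidHom V g).comp f,
    (DistribSMul.toAddMonoidHom V g).comp d, fun t => g * up t * g⁻¹, fun t => g * lo t * g⁻¹, ?_, ?_, ?_, ?_, ?_⟩
  · refine
      { dec := fun v => ?_
        ind := fun x y hxy => ?_
        dC := fun x => ⟨d x, hB.dC x, rfl⟩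
        up_e := fun t x => ?_
        up_f := fun t x => ?_
        up_c := ?_
        lo_e := fun t x => ?_
        lo_f := fun t x => ?_
        lo_c := ?_ }
    · obtain ⟨x, y, c, hc, hv⟩ := hB.dec (g⁻¹ • v)
      refine ⟨x, y, g • c, ⟨c, hc, rfl⟩, ?_⟩
      change v = g • e x + g • f y + g • c
      rw [← smul_add, ← smul_add, ← hv, smul_inv_smul]
    · rw [mem_map] at hxy
      refine hB.ind x y ?_
      change g⁻¹ • (g • e x + g • f y) ∈ C at hxy
      rwa [← smul_add, inv_smul_smul] at hxy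
    · change (g * up t * g⁻¹) • g • e x = g • e x
      rw [mul_smul, mul_smul, inv_smul_smul, hB.up_e]
    · change (g * up t * g⁻¹) • g • f x = g • f x + g • e (t * x) + g • d (t * x ^ 2)
      rw [mul_smul, mul_smul, inv_smul_smul, hB.up_f, smul_add, smul_add]
    · rintro t _ ⟨c, hc, rfl⟩
      change (g * up t * g⁻¹) • g • c = g • c
      rw [mul_smul, mul_smul, inv_smul_smul, hB.up_c t c hc]
    · change (g * lo t * g⁻¹) • g • e x = g • e x + g • f (t * x) + g • d (t * x ^ 2)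
      rw [mul_smul, mul_smul, inv_smul_smul, hB.lo_e, smul_add, smul_add]
    · change (g * lo t * g⁻¹) • g • f x = g • f x
      rw [mul_smul, mul_smul, inv_smul_smul, hB.lo_f]
    · rintro t _ ⟨c, hc, rfl⟩
      change (g * lo t * g⁻¹) • g • c = g • c
      rw [mul_smul, mul_smul, inv_smul_smul, hB.lo_c t c hc]
  · apply le_antisymm
    · rw [rt, Subgroup.closure_le]
      rintro _ ⟨t, rfl⟩
      rw [SetLike.mem_coe, mem_cj]
      have e1 : g⁻¹ * (g * up t * g⁻¹) * g = up t := by group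
      change g⁻¹ * (g * up t * g⁻¹) * g ∈ rt up
      rw [e1]
      exact up_mem t
    · intro x hx
      rw [mem_cj] at hx
      have h1 : rt up ≤ (rt fun t => g * up t * g⁻¹).comap (MulAut.conj g).toMonoidHom := by
        rw [rt, Subgroup.closure_le]
        rintro _ ⟨t, rfl⟩
        exact up_mem (up := fun t => g * up t * g⁻¹) t
      have h3 := h1 hx
      have e1 : g * (g⁻¹ * x * g) * g⁻¹ = x := by group
      change g * (g⁻¹ * x * g) * g⁻¹ ∈ (rt fun t => g * up t * g⁻¹) at h3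
      rwa [e1] at h3
  · rw [AddSubgroup.map_sup, AddSubgroup.map_sup, AddMonoidHom.range_comp, AddMonoidHom.range_comp,
      AddMonoidHom.range_comp]
  · rw [AddMonoidHom.range_comp]
  · rw [AddMonoidHom.range_comp]

theorem GBd.conj {EE : Set (Subgroup X)} {D : Subgroup X} {N C L Z : AddSubgroup V} (h : GBd EE D N C L Z) {g : X}
    (hg : g ∈ St EE) : GBd EE (MulAut.conj g • D) (N.map (DistribSMul.toAddMonoidHom V g))
      (C.map (DistribSMul.toAddMonoidHom V g)) (L.map (DistribSMul.toAddMonoidHom V g))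
      (Z.map (DistribSMul.toAddMonoidHom V g)) where
  nb := h.nb.conj g
  oth := by
    intro A hA hne a ha m hm
    rw [mem_map] at hm
    have h1 : MulAut.conj g⁻¹ • A ∈ EE := (mem_St.1 (inv_mem hg) A).1 hA
    have h3 : MulAut.conj g⁻¹ • A ≠ D := by
      rintro rfl
      apply hne
      rw [← mul_smul, ← map_mul, mul_inv_cancel, map_one, one_smul]
    have h5 : g⁻¹ * a * g ∈ MulAut.conj g⁻¹ • A := by
      rw [mem_cj]; convert ha using 1; group
    have h6 := h.oth _ h1 h3 _ h5 _ hm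
    rw [mul_smul, mul_smul, smul_inv_smul] at h6
    have h7 := congrArg (fun x => g • x) h6
    simpa using h7

/-! ### the family -/

/-- A family of natural blocks with radicals, indexed by their root groups. -/
structure FamN (S : Subgroup X) (EE FF : Set (Subgroup X)) (N C L Z : Subgroup X → AddSubgroup V) : Prop where
  le : ∀ D ∈ FF, D ≤ S
  sub : FF ⊆ EE
  four : ∀ D ∈ FF, 4 ≤ Nat.card D
  gb : ∀ D ∈ FF, GBd EE D (N D) (C D) (L D) (Z D)
  uniq : ∀ D ∈ FF, ∀ N' C' L' Z' : AddSubgroup V, GBd EE D N' C' L' Z' → N' = N D ∧ C' = C D ∧ L' = L D ∧ Z' = Z D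
  ind : ∀ D ∈ FF, ∀ D' ∈ FF, D' ≠ D → N D' ≤ C D
  st : ∀ g ∈ St EE, ∀ D ∈ FF, MulAut.conj g • D ∈ FF ∧ (∀ m : V, m ∈ N D ↔ g • m ∈ N (MulAut.conj g • D)) ∧
    (∀ m : V, m ∈ C D ↔ g • m ∈ C (MulAut.conj g • D)) ∧ (∀ m : V, m ∈ L D ↔ g • m ∈ L (MulAut.conj g • D)) ∧
    ∀ m : V, m ∈ Z D ↔ g • m ∈ Z (MulAut.conj g • D)
  S_st : S ≤ St EE
  perm : ∀ g : X, ∀ D ∈ FF, ∃ D' ∈ FF, Nat.card D' = Nat.card D ∧ (∀ m : V, m ∈ N D ↔ g • m ∈ N D') ∧
    (∀ m : V, m ∈ C D ↔ g • m ∈ C D') ∧ ∀ m : V, m ∈ Z D ↔ g • m ∈ Z D'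

/-- `P` is active. -/
structure AcN (S : Subgroup X) (EE : Set (Subgroup X)) (P K : Subgroup X) (EP : Set (Subgroup X)) (V : Type v)
    [AddCommGroup V] [DistribMulAction X V] : Prop where
  gen : P ≤ K ⊔ S
  EPE : EP ⊆ EE
  EPK : ∀ A ∈ EP, A ≤ K
  dich : ∀ A ∈ EE, A ∈ EP ∨ ∀ a ∈ A, ∀ m ∈ brk V K, a • m = m
  genK : K ≤ Subgroup.closure {x | ∃ g ∈ K, ∃ A ∈ EP, ∃ a ∈ A, x = g * a * g⁻¹}
  typ : ∀ A ∈ EP, 4 ≤ Nat.card A → ∃ N C L Z : AddSubgroup V, NBd A N C L Z ∧ N ≤ brk V K ∧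
    (∀ k ∈ K, ∀ m ∈ N, k • m ∈ N) ∧ (∀ k ∈ K, ∀ m ∈ C, k • m ∈ C) ∧ (∀ k ∈ K, ∀ m ∈ Z, k • m = m) ∧
    ∀ A' ∈ EP, A' ≠ A → ∀ a ∈ A', ∀ m ∈ N, a • m = m

/-- a member of `EP` (`≥ 4`) of an active `P` is a block for `EE` -/
theorem AcN.gb {S : Subgroup X} {EE : Set (Subgroup X)} {P K : Subgroup X} {EP : Set (Subgroup X)}
    (h : AcN S EE P K EP V) {A : Subgroup X} (hA : A ∈ EP) (h4 : 4 ≤ Nat.card A) :
    ∃ N C L Z : AddSubgroup V, GBd EE A N C L Z ∧ N ≤ brk V K ∧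
      (∀ k ∈ K, ∀ m ∈ N, k • m ∈ N) ∧ (∀ k ∈ K, ∀ m ∈ C, k • m ∈ C) ∧ ∀ k ∈ K, ∀ m ∈ Z, k • m = m := by
  obtain ⟨N, C, L, Z, h1, h3, h5, h6, h7, h8⟩ := h.typ A hA h4
  refine ⟨N, C, L, Z, ⟨h1, fun A' hA' hne a ha m hm => ?_⟩, h3, h5, h6, h7⟩
  rcases h.dich A' hA' with h9 | h9
  · exact h8 A' h9 hne a ha m hm
  · exact h9 a ha m (h3 hm)

/-- the elements which permute the tuples -/
def PmN (FF : Set (Subgroup X)) (N C Z : Subgroup X → AddSubgroup V) : Subgroup X where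
  carrier := {g | (∀ D ∈ FF, ∃ D' ∈ FF, Nat.card D' = Nat.card D ∧ (∀ m, m ∈ N D ↔ g • m ∈ N D') ∧
      (∀ m, m ∈ C D ↔ g • m ∈ C D') ∧ ∀ m, m ∈ Z D ↔ g • m ∈ Z D') ∧
    ∀ D ∈ FF, ∃ D' ∈ FF, Nat.card D' = Nat.card D ∧ (∀ m, m ∈ N D ↔ g⁻¹ • m ∈ N D') ∧
      (∀ m, m ∈ C D ↔ g⁻¹ • m ∈ C D') ∧ ∀ m, m ∈ Z D ↔ g⁻¹ • m ∈ Z D'}
  mul_mem' := by
    rintro a b ⟨ha, ha'⟩ ⟨hb, hb'⟩
    refine ⟨fun D hD => ?_, fun D hD => ?_⟩
    · obtain ⟨D1, h1, c1, h3, h4, h5⟩ := hb D hD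
      obtain ⟨D2, k1, c2, k3, k4, k5⟩ := ha D1 h1
      exact ⟨D2, k1, c2.trans c1, fun m => by rw [h3, k3, mul_smul], fun m => by rw [h4, k4, mul_smul],
        fun m => by rw [h5, k5, mul_smul]⟩
    · obtain ⟨D1, h1, c1, h3, h4, h5⟩ := ha' D hD
      obtain ⟨D2, k1, c2, k3, k4, k5⟩ := hb' D1 h1
      exact ⟨D2, k1, c2.trans c1, fun m => by rw [h3, k3, mul_inv_rev, mul_smul],
        fun m => by rw [h4, k4, mul_inv_rev, mul_smul], fun m => by rw [h5, k5, mul_inv_rev, mul_smul]⟩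
  one_mem' := ⟨fun D hD => ⟨D, hD, rfl, fun m => by rw [one_smul], fun m => by rw [one_smul], fun m => by rw [one_smul]⟩,
    fun D hD => ⟨D, hD, rfl, fun m => by rw [inv_one, one_smul], fun m => by rw [inv_one, one_smul],
      fun m => by rw [inv_one, one_smul]⟩⟩
  inv_mem' := by
    rintro a ⟨ha, ha'⟩
    exact ⟨ha', fun D hD => by rw [inv_inv]; exact ha D hD⟩

theorem le_PmN {FF : Set (Subgroup X)} {N C Z : Subgroup X → AddSubgroup V} {P : Subgroup X}
    (h : ∀ g ∈ P, ∀ D ∈ FF, ∃ D' ∈ FF, Nat.card D' = Nat.card D ∧ (∀ m, m ∈ N D ↔ g • m ∈ N D') ∧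
      (∀ m, m ∈ C D ↔ g • m ∈ C D') ∧ ∀ m, m ∈ Z D ↔ g • m ∈ Z D') : P ≤ PmN FF N C Z :=
  fun g hg => ⟨h g hg, h g⁻¹ (inv_mem hg)⟩

section main

variable [Finite X] [Finite V]

/-- **The natural blocks with radicals.** -/
theorem mainN (h2 : ∀ v : V, v + v = 0) (hf : ∀ x : X, (∀ v : V, x • v = v) → x = 1) (hno : NO X V)
    {S : Subgroup X} {EE : Set (Subgroup X)} (E : Es S EE V) {Ps : Set (Subgroup X)}
    (hPs : ∀ P ∈ Ps, (∀ g ∈ P, ∀ A ∈ EE, MulAut.conj g • A ∈ EE) ∨ ∃ K EP, AcN S EE P K EP V) (htop : sSup Ps = ⊤)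
    {RR : Set (Subgroup X)} (hRE : RR ⊆ EE) (hR4 : ∀ A ∈ RR, 4 ≤ Nat.card A)
    (hRG : ∀ A ∈ RR, ∃ N C L Z : AddSubgroup V, GBd EE A N C L Z)
    (uni : ∀ A ∈ RR, ∀ N C L Z N' C' L' Z' : AddSubgroup V, GBd EE A N C L Z → GBd EE A N' C' L' Z' →
      N = N' ∧ C = C' ∧ L = L' ∧ Z = Z') :
    ∃ N C L Z : Subgroup X → AddSubgroup V, FamN S EE (FFs EE RR) N C L Z := by
  classical
  have hex : ∀ D ∈ FFs EE RR, ∃ q : AddSubgroup V × AddSubgroup V × AddSubgroup V × AddSubgroup V,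
      GBd EE D q.1 q.2.1 q.2.2.1 q.2.2.2 := by
    rintro _ ⟨g, hg, A, hA, rfl⟩
    obtain ⟨N, C, L, Z, h⟩ := hRG A hA
    exact ⟨(_, _, _, _), h.conj hg⟩
  let q : Subgroup X → AddSubgroup V × AddSubgroup V × AddSubgroup V × AddSubgroup V := fun D =>
    if h : D ∈ FFs EE RR then (hex D h).choose else (⊥, ⊥, ⊥, ⊥)
  have hq : ∀ D ∈ FFs EE RR, GBd EE D (q D).1 (q D).2.1 (q D).2.2.1 (q D).2.2.2 := by
    intro D hD
    have h1 := (hex D hD).choose_spec
    have e1 : q D = (hex D hD).choose := dif_pos hD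
    rw [e1]
    exact h1
  -- uniqueness for the conjugates
  have huni : ∀ D ∈ FFs EE RR, ∀ N C L Z N' C' L' Z' : AddSubgroup V, GBd EE D N C L Z → GBd EE D N' C' L' Z' →
      N = N' ∧ C = C' ∧ L = L' ∧ Z = Z' := by
    rintro _ ⟨g, hg, A, hA, rfl⟩ N C L Z N' C' L' Z' h h'
    have e1 : MulAut.conj g⁻¹ • MulAut.conj g • A = A := by
      rw [smul_smul, ← map_mul, inv_mul_cancel, map_one, one_smul]
    have h1 := h.conj (g := g⁻¹) (inv_mem hg)
    have h1' := h'.conj (g := g⁻¹) (inv_mem hg)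
    rw [e1] at h1 h1'
    have hinj : Function.Injective (AddSubgroup.map (DistribSMul.toAddMonoidHom V g⁻¹)) :=
      AddSubgroup.map_injective (MulAction.injective g⁻¹)
    obtain ⟨u1, u2, u3, u4⟩ := uni A hA _ _ _ _ _ _ _ _ h1 h1'
    exact ⟨hinj u1, hinj u2, hinj u3, hinj u4⟩
  have hFE : FFs EE RR ⊆ EE := FFs_sub hRE
  have h4 : ∀ D ∈ FFs EE RR, 4 ≤ Nat.card D := by
    rintro _ ⟨g, hg, A, hA, rfl⟩
    rw [card_cj g A]; exact hR4 A hA
  have hS : S ≤ St EE := le_St E.nS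
  have hst : ∀ g ∈ St EE, ∀ D ∈ FFs EE RR, (∀ m : V, m ∈ (q D).1 ↔ g • m ∈ (q (MulAut.conj g • D)).1) ∧
      (∀ m : V, m ∈ (q D).2.1 ↔ g • m ∈ (q (MulAut.conj g • D)).2.1) ∧
      (∀ m : V, m ∈ (q D).2.2.1 ↔ g • m ∈ (q (MulAut.conj g • D)).2.2.1) ∧
      ∀ m : V, m ∈ (q D).2.2.2 ↔ g • m ∈ (q (MulAut.conj g • D)).2.2.2 := by
    intro g hg D hD
    obtain ⟨u1, u2, u3, u4⟩ := huni _ (conj_FFs hg hD) _ _ _ _ _ _ _ _ ((hq D hD).conj hg) (hq _ (conj_FFs hg hD))
    refine ⟨fun m => ?_, fun m => ?_, fun m => ?_, fun m => ?_⟩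
    · rw [← u1, mem_map, inv_smul_smul]
    · rw [← u2, mem_map, inv_smul_smul]
    · rw [← u3, mem_map, inv_smul_smul]
    · rw [← u4, mem_map, inv_smul_smul]
  have hstab : St EE ≤ PmN (FFs EE RR) (fun D => (q D).1) (fun D => (q D).2.1) (fun D => (q D).2.2.2) := by
    refine le_PmN fun g hg D hD => ⟨_, conj_FFs hg hD, card_cj g D, ?_⟩
    obtain ⟨s1, s2, -, s4⟩ := hst g hg D hD
    exact ⟨s1, s2, s4⟩
  have hK : ∀ {P K : Subgroup X} {EP : Set (Subgroup X)}, AcN S EE P K EP V →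
      K ≤ PmN (FFs EE RR) (fun D => (q D).1) (fun D => (q D).2.1) (fun D => (q D).2.2.2) := by
    intro P K EP h
    have key : ∀ D ∈ FFs EE RR, ∀ k ∈ K, (∀ m ∈ (q D).1, k • m ∈ (q D).1) ∧ (∀ m ∈ (q D).2.1, k • m ∈ (q D).2.1) ∧
        ∀ m ∈ (q D).2.2.2, k • m ∈ (q D).2.2.2 := by
      intro D hD k hk
      by_cases hDE : D ∈ EP
      · obtain ⟨N, C, L, Z, h1, -, h3, h5, h6⟩ := h.gb hDE (h4 D hD)
        obtain ⟨u1, u2, -, u4⟩ := huni D hD _ _ _ _ _ _ _ _ h1 (hq D hD)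
        rw [← u1, ← u2, ← u4]
        exact ⟨h3 k hk, h5 k hk, fun m hm => by rw [h6 k hk m hm]; exact hm⟩
      · have h1 := indN h2 hf hno (hq D hD).nb (h4 D hD) (K := K) (B₀ := EP) (fun B hB => E.el B (h.EPE hB))
          (fun B hB => E.exact B (h.EPE hB)) (fun B hB => E.quad B (h.EPE hB)) h.EPK
          (fun B hB => (hq D hD).oth B (h.EPE hB) fun e => hDE (e ▸ hB))
          ((h.dich D (hFE hD)).resolve_left hDE) h.genK
        obtain ⟨G, -, k2, -, -, -, -, k7, -⟩ := (hq D hD).nb.exists_grp h2 hf (h4 D hD)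
        refine ⟨fun m hm => by rw [h1.1 k hk m hm]; exact hm, fun m hm => ?_, fun m hm => ?_⟩
        · have e1 : k • m = (k • m - m) + m := by abel
          rw [e1]
          exact add_mem (h1.2 (sub_mem_brk hk m)) hm
        · have h3 : m ∈ (q D).1 := by
            rw [← k7] at hm
            exact hm.1
          rw [h1.1 k hk m h3]; exact hm
    have key' : ∀ D ∈ FFs EE RR, ∀ k ∈ K, (∀ m, m ∈ (q D).1 ↔ k • m ∈ (q D).1) ∧
        (∀ m, m ∈ (q D).2.1 ↔ k • m ∈ (q D).2.1) ∧ ∀ m, m ∈ (q D).2.2.2 ↔ k • m ∈ (q D).2.2.2 := by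
      intro D hD k hk
      obtain ⟨a1, a2, a3⟩ := key D hD k hk
      obtain ⟨b1, b2, b3⟩ := key D hD k⁻¹ (inv_mem hk)
      refine ⟨fun m => ⟨a1 m, fun hm => ?_⟩, fun m => ⟨a2 m, fun hm => ?_⟩, fun m => ⟨a3 m, fun hm => ?_⟩⟩
      · have := b1 _ hm; rwa [inv_smul_smul] at this
      · have := b2 _ hm; rwa [inv_smul_smul] at this
      · have := b3 _ hm; rwa [inv_smul_smul] at this
    exact le_PmN fun k hk D hD => ⟨D, hD, rfl, key' D hD k hk⟩
  have hall : PmN (FFs EE RR) (fun D => (q D).1) (fun D => (q D).2.1) (fun D => (q D).2.2.2) = ⊤ := by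
    rw [eq_top_iff, ← htop]
    refine sSup_le fun P hP => ?_
    rcases hPs P hP with h | ⟨K, EP, h⟩
    · exact (le_St h).trans hstab
    · exact h.gen.trans (sup_le (hK h) (hS.trans hstab))
  refine ⟨fun D => (q D).1, fun D => (q D).2.1, fun D => (q D).2.2.1, fun D => (q D).2.2.2,
    { le := fun D hD => E.le D (hFE hD)
      sub := hFE
      four := h4
      gb := hq
      uniq := fun D hD N' C' L' Z' h => huni D hD _ _ _ _ _ _ _ _ h (hq D hD)
      ind := fun D hD D' hD' hne => ?_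
      st := fun g hg D hD => ⟨conj_FFs hg hD, hst g hg D hD⟩
      S_st := hS
      perm := fun g D hD => ?_ }⟩
  · obtain ⟨G, -, k2, -⟩ := (hq D' hD').nb.exists_grp h2 hf (h4 D' hD')
    exact NBd.ind h2 hf hno (hq D hD).nb (hq D' hD').nb (h4 D hD) (h4 D' hD')
      ((hq D' hD').oth D (hFE hD) hne.symm) ((hq D hD).oth D' (hFE hD') hne)
  · have h1 : g ∈ PmN (FFs EE RR) (fun D => (q D).1) (fun D => (q D).2.1) (fun D => (q D).2.2.2) :=
      hall ▸ Subgroup.mem_top g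
    exact h1.1 D hD

end main

end Cfsg.Agent.Omega.NOThreeL.RRed.Blk.AsmN
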