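import Cfsg.Agent.Omega.NOThreeL.RRed.Blk.GamD

/-!
# NO-3L, box R, nonsplit blocks (#26560): the bridge `Bk`/`BkD` and (N0)

* `toD` : a split block is a block with `d = 0`; `BkD.toBk` : the converse;
* **`BkD.n0`** : a 2-element `s` which is trivial on `l = e(F)`, normalises `C` and the root group centralises `D = d(F)`;
* `BkD.n0'` : then `s` centralises the root group.
-/

set_option autoImplicit false
set_option linter.unusedSectionVars false

namespace Cfsg.Agent.Omega.NOThreeL.RRed.Blk.GamD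

open Cfsg.Agent.Omega.NOThreeL.RRed.NS (fxd mem_fxd)
open Cfsg.Agent.Omega.NOThreeL.RRed.Blk.TypesGam (NO rt up_mem Bk)

universe u v w w'

variable {X : Type u} {V : Type v} [Group X] [AddCommGroup V] [DistribMulAction X V]
variable {F : Type w} [Field F] {e f d : F →+ V} {C : AddSubgroup V} {up lo : F → X}

/-- a split block is a block with the radical `0` -/
theorem toD (h : Bk e f C up lo) : BkD e f 0 C up lo where
  dec := h.dec
  ind := h.ind
  dC := fun _ => C.zero_mem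
  up_e := h.up_e
  up_f := fun t x => by rw [h.up_f, AddMonoidHom.zero_apply, add_zero]
  up_c := h.up_c
  lo_e := fun t x => by rw [h.lo_e, AddMonoidHom.zero_apply, add_zero]
  lo_f := h.lo_f
  lo_c := h.lo_c

/-- the converse -/
theorem BkD.toBk (h : BkD e f d C up lo) (hd : ∀ x, d x = 0) : Bk e f C up lo where
  dec := h.dec
  ind := h.ind
  up_e := h.up_e
  up_f := fun t x => by rw [h.up_f, hd, add_zero]
  up_c := h.up_c
  lo_e := fun t x => by rw [h.lo_e, hd, add_zero]
  lo_f := h.lo_f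
  lo_c := h.lo_c

section nzero

variable (h : BkD e f d C up lo) (h2 : ∀ v : V, v + v = 0) (hf : ∀ x : X, (∀ v : V, x • v = v) → x = 1)
include h h2 hf

/-- the comparison of `s` with the root group -/
theorem BkD.exists_a {s : X} (se : ∀ z, s • e z = e z) (sd : ∀ x, s • d x ∈ C)
    (sA : ∀ t, s * up t * s⁻¹ ∈ rt up) :
    ∃ a : F, a ≠ 0 ∧ (∀ t, s * up t * s⁻¹ = up (a * t)) ∧ ∀ x, s • d x = d (a⁻¹ * x) := by
  have h1 : ∀ t, ∃ t', up t' = s * up t * s⁻¹ := fun t => (h.mem_rt h2 hf).1 (sA t)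
  choose τ hτ using h1
  have h3 : ∀ z, ∃ y x, ∃ c ∈ C, s • f z = e x + f y + c := fun z => by
    obtain ⟨x, y, c, hc, e1⟩ := h.dec (s • f z)
    exact ⟨y, x, c, hc, e1⟩
  choose ψ px pc hpc hψ using h3
  have key : ∀ t z, t * z = τ t * ψ z ∧ s • d (t * z ^ 2) = d (τ t * ψ z ^ 2) := by
    intro t z
    have e1 : up (τ t) • (s • f z) = s • (up t • f z) := by
      rw [hτ, mul_smul, mul_smul, inv_smul_smul]
    rw [h.up_f, smul_add, smul_add, se] at e1
    have e2 : up (τ t) • (s • f z) = s • f z + (e (τ t * ψ z) + d (τ t * ψ z ^ 2)) := by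
      rw [hψ z, smul_add, smul_add, h.up_e, h.up_f, h.up_c _ _ (hpc z)]
      abel
    rw [e2, add_assoc] at e1
    have e3 := add_left_cancel e1
    have e4 : e (τ t * ψ z) + f 0 + d (τ t * ψ z ^ 2) = e (t * z) + f 0 + s • d (t * z ^ 2) := by
      rw [map_zero, add_zero, add_zero, e3]
    obtain ⟨e5, -, e6⟩ := h.uniq (h.dC _) (sd _) e4
    exact ⟨e5.symm, e6.symm⟩
  have h4 : (1 : F) = τ 1 * ψ 1 := by
    have := (key 1 1).1
    rwa [one_mul] at this
  have ha : τ 1 ≠ 0 := by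
    intro h0
    rw [h0, zero_mul] at h4
    exact one_ne_zero h4
  have hψ1 : ψ 1 = (τ 1)⁻¹ := by
    apply mul_left_cancel₀ ha
    rw [mul_inv_cancel₀ ha, ← h4]
  have hψz : ∀ z, ψ z = (τ 1)⁻¹ * z := by
    intro z
    have := (key 1 z).1
    rw [one_mul] at this
    conv_rhs => rw [this]
    rw [inv_mul_cancel_left₀ ha]
  have hτt : ∀ t, τ t = τ 1 * t := by
    intro t
    have := (key t 1).1
    rw [mul_one, hψ1] at this
    calc τ t = τ t * (τ 1)⁻¹ * τ 1 := by rw [inv_mul_cancel_right₀ ha]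
      _ = t * τ 1 := by rw [← this]
      _ = τ 1 * t := mul_comm _ _
  refine ⟨τ 1, ha, fun t => ?_, fun x => ?_⟩
  · rw [← hτ, hτt t]
  · have e1 := (key x 1).2
    rw [one_pow, mul_one, hτt x, hψ1] at e1
    rw [e1]
    congr 1
    field_simp

/-- **(N0).** A 2-element which is trivial on `l`, maps `D` into `C` and normalises the root group, centralises `D` and
the root group. -/
theorem BkD.n0_aux {s : X} {n : ℕ} (hs : s ^ (2 ^ n) = 1) (se : ∀ z, s • e z = e z) (sd : ∀ x, s • d x ∈ C)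
    (sA : ∀ t, s * up t * s⁻¹ ∈ rt up) : (∀ z, s • d z = d z) ∧ ∀ t, s * up t * s⁻¹ = up t := by
  obtain ⟨a, ha, h1, h3⟩ := h.exists_a h2 hf se sd sA
  have h4 : ∀ (m : ℕ) t, s ^ m * up t * (s ^ m)⁻¹ = up (a ^ m * t) := by
    intro m
    induction m with
    | zero => intro t; rw [pow_zero, pow_zero, one_mul, one_mul, inv_one, mul_one]
    | succ m ih =>
      intro t
      have e1 : s ^ (m + 1) * up t * (s ^ (m + 1))⁻¹ = s * (s ^ m * up t * (s ^ m)⁻¹) * s⁻¹ := by
        rw [pow_succ']; group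
      rw [e1, ih, h1, pow_succ', mul_assoc]
  have h5 : a ^ (2 ^ n) = 1 := by
    have e1 := h4 (2 ^ n) 1
    rw [hs, inv_one, mul_one, one_mul, mul_one] at e1
    exact (h.up_inj e1).symm
  have hF := h.two h2
  have h6 : ∀ (m : ℕ) (x : F), (x + 1) ^ (2 ^ m) = x ^ (2 ^ m) + 1 := by
    intro m
    induction m with
    | zero => intro x; rw [pow_zero, pow_one, pow_one]
    | succ m ih =>
      intro x
      rw [pow_succ, pow_mul, ih, h.sq h2, one_pow, ← pow_mul]
  have h7 : a = 1 := by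
    have e1 := h6 n a
    rw [h5, hF] at e1
    have e2 := pow_eq_zero_iff (pow_ne_zero n two_ne_zero) |>.1 e1
    rw [add_eq_zero_iff_eq_neg.1 e2, neg_eq_iff_add_eq_zero]
    exact hF 1
  refine ⟨fun z => ?_, fun t => ?_⟩
  · rw [h3, h7, inv_one, one_mul]
  · rw [h1, h7, one_mul]

/-- **(N0)** for a root group `D` given as a subgroup -/
theorem BkD.n0 {s : X} {n : ℕ} (hs : s ^ (2 ^ n) = 1) (se : ∀ z ∈ e.range, s • z = z) (sC : ∀ c ∈ C, s • c ∈ C)
    (sA : s ∈ Subgroup.normalizer (rt up : Set X)) : ∀ z ∈ d.range, s • z = z := by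
  rintro _ ⟨z, rfl⟩
  refine (h.n0_aux h2 hf hs (fun z => se _ ⟨z, rfl⟩) (fun x => sC _ (h.dC x)) fun t => ?_).1 z
  exact (Subgroup.mem_normalizer_iff.1 sA _).1 (up_mem t)

end nzero

end Cfsg.Agent.Omega.NOThreeL.RRed.Blk.GamD
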