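import Cfsg.Agent.Omega.NOThreeL.RRed.Blk.AsmNDef
import Cfsg.Agent.Omega.NOThreeL.RRed.Blk.EqD
import Cfsg.Agent.Omega.NOThreeL.RRed.Blk.NZero

/-!
# NO-3L, box R, nonsplit blocks (#26560), module level: uniqueness and (N0) over `NBd`

* **`NBd.eq`** : two natural blocks (split or not) with the same root group `D`, `|D| ≥ 4`, and the same radical `Z`
  have the same `N`, `C`, `L`;
* **`NBd.n0`** : a 2-element which centralises `L` and normalises `C` and `D` centralises `Z`;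
* `NBd.two_mem`, `NBd.card`.
-/

set_option autoImplicit false
set_option linter.unusedSectionVars false

namespace Cfsg.Agent.Omega.NOThreeL.RRed.Blk.AsmN

open Cfsg.Agent.Omega.NOThreeL.RRed.Blk.TypesGam (rt up_mem NO Bk)
open Cfsg.Agent.Omega.NOThreeL.RRed.Blk.GamD (BkD)

universe u v

variable {X : Type u} {V : Type v} [Group X] [AddCommGroup V] [DistribMulAction X V]
variable {D : Subgroup X} {N C L Z N' C' L' : AddSubgroup V}

/-- **Uniqueness**: `N`, `C`, `L` depend only on the root group and the radical. -/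
theorem NBd.eq_of [Finite V] [Finite X] (h2 : ∀ v : V, v + v = 0) (hf : ∀ x : X, (∀ v : V, x • v = v) → x = 1)
    (hno : NO X V) (h4 : 4 ≤ Nat.card D) (h : NBd D N C L Z) (h' : NBd D N' C' L' Z) :
    N = N' ∧ C = C' ∧ L = L' := by
  obtain ⟨F, _, _, e, f, d, up, lo, b, rfl, rfl, rfl, rfl⟩ := h.ex
  obtain ⟨F', _, _, e', f', d', up', lo', b', hrt, rfl, rfl, hdd⟩ := h'.ex
  rw [b.card_rt h2 hf] at h4
  have hd' : ∀ x, d' x ∈ C := fun x => by
    have : d' x ∈ d.range := hdd ▸ ⟨x, rfl⟩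
    obtain ⟨y, hy⟩ := this
    rw [← hy]
    exact b.dC y
  have hd1 : ∀ x, d x ∈ C' := fun x => by
    have : d x ∈ d'.range := hdd ▸ ⟨x, rfl⟩
    obtain ⟨y, hy⟩ := this
    rw [← hy]
    exact b'.dC y
  by_cases hd : ∃ x, d x ≠ 0
  · obtain ⟨e1, e3, -, e5⟩ := b.eq b' h2 hf hno hd (by omega) hrt.symm hd' hd1
    exact ⟨e5, e1, e3⟩
  · push Not at hd
    have hd0 : d.range = ⊥ := by
      rw [eq_bot_iff]
      rintro _ ⟨x, rfl⟩
      exact AddSubgroup.mem_bot.2 (hd x)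
    have hd0' : ∀ x, d' x = 0 := fun x => by
      have : d' x ∈ d.range := hdd ▸ ⟨x, rfl⟩
      rw [hd0] at this
      exact AddSubgroup.mem_bot.1 this
    obtain ⟨e1, e3, e5⟩ := (b.toBk hd).eq (b'.toBk hd0') h2 hf hno h4 hrt.symm
    refine ⟨?_, e1, e3⟩
    rw [hdd, e5]

/-- **(N0)** -/
theorem NBd.n0 (h2 : ∀ v : V, v + v = 0) (hf : ∀ x : X, (∀ v : V, x • v = v) → x = 1) (h : NBd D N C L Z) {s : X}
    {n : ℕ} (hs : s ^ (2 ^ n) = 1) (sL : ∀ z ∈ L, s • z = z) (sC : ∀ c ∈ C, s • c ∈ C)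
    (sD : s ∈ Subgroup.normalizer (D : Set X)) : ∀ z ∈ Z, s • z = z := by
  obtain ⟨F, _, _, e, f, d, up, lo, b, rfl, rfl, rfl, rfl⟩ := h.ex
  exact b.n0 h2 hf hs sL sC sD

/-- the order of the root group is the order of `L` -/
theorem NBd.card_L (h2 : ∀ v : V, v + v = 0) (hf : ∀ x : X, (∀ v : V, x • v = v) → x = 1) (h : NBd D N C L Z) :
    Nat.card L = Nat.card D := by
  obtain ⟨F, _, _, e, f, d, up, lo, b, rfl, rfl, rfl, rfl⟩ := h.ex
  rw [b.card_rt h2 hf]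
  refine (Nat.card_congr (Equiv.ofBijective (fun x : F => (⟨e x, ⟨x, rfl⟩⟩ : e.range)) ⟨?_, ?_⟩)).symm
  · intro x y hxy
    have e1 : e x = e y := congrArg Subtype.val hxy
    have e2 : e x + f 0 + 0 = e y + f 0 + 0 := by rw [e1]
    exact (b.uniq C.zero_mem C.zero_mem e2).1
  · rintro ⟨_, ⟨x, rfl⟩⟩
    exact ⟨x, rfl⟩

end Cfsg.Agent.Omega.NOThreeL.RRed.Blk.AsmN
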