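import Cfsg.Agent.Omega.NOThreeL.RRed.Blk.AcNAt
import Cfsg.Agent.Omega.NOThreeL.RRed.Blk.AcNMat
import Cfsg.Agent.Omega.NOThreeL.RRed.Blk.AsmN
import Cfsg.Agent.Omega.NOThreeL.RRed.Blk.AsmCore
import Cfsg.Agent.Omega.NOThreeL.RRed.Blk.NBdEq

/-!
# NO-3L, box R: the generators of `KP` and the complement `C = C_U(⟨A, A^p⟩)` of a natural block with radical

`Gn P V U c` : `c ∈ P`, every `[u, c]`, `u ∈ U`, is a `[v, c]` with `v ∈ V`.

* `off` : `c` acting on another block normalises `C`;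
* `cm_up`, `cm_lo` : `c` acting as `up β` (`lo γ`) on the block commutes with `A` (`A^p`) on `U`;
* `nC_up`, `nC_lo`, **`nC`** : `c` acting on the block with `c² = 1` normalises `C`.
-/

set_option autoImplicit false
set_option linter.unusedSectionVars false

namespace Cfsg.Agent.Omega.NOThreeL.RRed.Blk.AcNGen

open Subgroup Cfsg Cfsg.Agent.ZN
open Cfsg.Agent.Omega.FFThm Cfsg.Agent.Lib.SL2Mat
open Cfsg.Agent.Omega.NatPair (ap ap_mul ap_one ap_inj)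
open Cfsg.Agent.Omega.NO3S.ThmB Cfsg.Agent.Omega.NO3S.KeyRad
open Cfsg.Agent.Omega.NOThreeL.RSplit (Nrm)
open Cfsg.Agent.Omega.NOThreeL.RRed.NS hiding rt
open Cfsg.Agent.Omega.NOThreeL.RRed.Blk.TypesNat (XH ph ph_smul XH_faith ph_eq no_XH)
open Cfsg.Agent.Omega.NOThreeL.RRed.Blk.AsmCore (im ph_mem_im)
open Cfsg.Agent.Omega.NOThreeL.RRed.Blk.TypesGam (rt NO)
open Cfsg.Agent.Omega.NOThreeL.RRed.Blk.GamD (BkD)
open Cfsg.Agent.Omega.NOThreeL.RRed.Blk.AsmN (NBd)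
open Cfsg.Agent.Omega.NOThreeL.RRed.Blk.AcNMat (inv_cases)
open scoped Pointwise

universe u

variable {G : Type u} [Group G]

/-- a good generator -/
def Gn (P V U : Subgroup G) (c : G) : Prop :=
  c ∈ P ∧ ∀ u ∈ U, ∃ v ∈ V, c * u * c⁻¹ * u⁻¹ = c * v * c⁻¹ * v⁻¹

/-- commuting modulo `C(u)` -/
theorem comm_mod {x y u y₁ y₂ : G} (h1 : x * u * x⁻¹ = y₁ * u) (h2 : y * u * y⁻¹ = y₂ * u) (h3 : x * y₂ = y₂ * x)
    (h4 : y * y₁ = y₁ * y) (h5 : y₁ * y₂ = y₂ * y₁) : x * y * u * (x * y)⁻¹ = y * x * u * (y * x)⁻¹ := by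
  calc x * y * u * (x * y)⁻¹ = x * (y * u * y⁻¹) * x⁻¹ := by group
    _ = x * y₂ * u * x⁻¹ := by rw [h2]; group
    _ = y₂ * (x * u * x⁻¹) := by rw [h3]; group
    _ = y₂ * y₁ * u := by rw [h1]; group
    _ = y₁ * (y₂ * u) := by rw [← h5]; group
    _ = y₁ * (y * u * y⁻¹) := by rw [h2]
    _ = y * y₁ * u * y⁻¹ := by rw [h4]; group
    _ = y * (x * u * x⁻¹) * y⁻¹ := by rw [h1]; group
    _ = y * x * u * (y * x)⁻¹ := by group

variable {F : Type} [Field F] {S P V D U H : Subgroup G} {k : ℕ} {M : NatKM F S P V D k}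

section one

variable (h : Nb M) [CharP F 2] {A : Subgroup G} {j : Fin k} {p : G} (O : NO3S.ThmB.One M U A j) (hAP : A ≤ P) (hp : p ∈ P)
  (hpA : ActsSL M.e V D p (sg j (wl F)))
include h O hAP hp hpA

/-- `E = ⟨A, A^p⟩` centralises the other blocks -/
theorem cent_off {i : Fin k} (hij : i ≠ j) {y : G} (hy : y ∈ blk M i) :
    A ⊔ MulAut.conj p • A ≤ centralizer ({y} : Set G) := by
  refine sup_le (fun g hg => ?_) fun g hg => ?_
  · obtain ⟨β, hβ⟩ := O.act g hg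
    rw [mem_centralizer_singleton_iff]
    exact cent_sg h (hAP hg) hβ (blk_le h i hy) (e_blk h hij.symm hy)
  · rw [mem_centralizer_singleton_iff]
    exact mul_inv_eq_iff_eq_mul.1 (cent_conj h O hAP hp hpA hg hij hy)

/-- **another block** -/
theorem off {i : Fin k} (hij : i ≠ j) {c : G} (hc : Gn P V U c) {B : Matrix.SpecialLinearGroup (Fin 2) F}
    (hB : ActsSL M.e V D c (sg i B)) {w : G} (hw : w ∈ U)
    (hwE : w ∈ centralizer ((A ⊔ MulAut.conj p • A : Subgroup G) : Set G)) :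
    c * w * c⁻¹ ∈ centralizer ((A ⊔ MulAut.conj p • A : Subgroup G) : Set G) := by
  obtain ⟨v, hv, e1⟩ := hc.2 w hw
  have hy := mem_blk hc.1 hB hv
  have h1 := cent_off h O hAP hp hpA hij hy
  have e2 : c * w * c⁻¹ = (c * v * c⁻¹ * v⁻¹) * w := by rw [← e1]; group
  rw [e2, mem_centralizer_iff]
  intro g hg
  have h2 := mem_centralizer_singleton_iff.1 (h1 hg)
  have h3 := mem_centralizer_iff.1 hwE g hg
  exact (show Commute g _ from h2).mul_right (show Commute g w from h3)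

omit hp hpA in
/-- `c` acting as `up β` commutes with `A` on `U` -/
theorem cm_up {c : G} (hc : Gn P V U c) {β : F} (hβ : ActsSL M.e V D c (sg j (up β))) {a : G} (ha : a ∈ A) {u : G}
    (hu : u ∈ U) : c * a * u * (c * a)⁻¹ = a * c * u * (a * c)⁻¹ := by
  obtain ⟨v, hv, e1⟩ := hc.2 u hu
  obtain ⟨v', hv', -, c', hc', hcA, e2⟩ := O.full u hu
  obtain ⟨β', hβ'⟩ := O.act a ha
  obtain ⟨a₀, ha₀, hβ₀⟩ := O.all β
  have haP := hAP ha
  have hy1 : ∀ {g : G} (_ : g ∈ P) {γ : F} (_ : ActsSL M.e V D g (sg j (up γ))) {w : G} (_ : w ∈ V),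
      M.e (g * w * g⁻¹ * w⁻¹) j 1 = 0 := by
    intro g hg γ hγ w hw
    rw [h.e_div (h.memV hg hw) hw, Pi.add_apply, Pi.add_apply, hγ.1 w hw j, sg_self, ap_up_1]
    exact CharTwo.add_self_eq_zero _
  have hV1 : c * v * c⁻¹ * v⁻¹ ∈ V := mul_mem (h.memV hc.1 hv) (inv_mem hv)
  have hV2 : a * v' * a⁻¹ * v'⁻¹ ∈ V := mul_mem (h.memV haP hv') (inv_mem hv')
  have k1 : c * u * c⁻¹ = (c * v * c⁻¹ * v⁻¹) * u := by rw [← e1]; group
  have k2 : a * u * a⁻¹ = (a * v' * a⁻¹ * v'⁻¹) * u := by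
    have h3 : a * c' = c' * a := hcA a ha
    have h4 : a * u * a⁻¹ * u⁻¹ = a * v' * a⁻¹ * v'⁻¹ := by
      rw [e2]
      calc a * (v' * c') * a⁻¹ * (v' * c')⁻¹ = a * v' * (c' * a⁻¹ * c'⁻¹) * v'⁻¹ := by group
        _ = a * v' * (a⁻¹ * c' * c'⁻¹) * v'⁻¹ := by
          rw [show c' * a⁻¹ = a⁻¹ * c' by rw [eq_inv_mul_iff_mul_eq, ← mul_assoc, h3, mul_inv_cancel_right]]
        _ = _ := by group
    rw [← h4]; group
  refine comm_mod k1 k2 ?_ ((O.cen _ hV1).2 (hy1 hc.1 hβ hv) a ha) (h.cm hV1 hV2)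
  have h5 := h.same hc.1 (hAP ha₀) hβ hβ₀ hV2
  have h6 := (O.cen _ hV2).2 (hy1 haP hβ' hv') a₀ ha₀
  have h7 : a₀ * (a * v' * a⁻¹ * v'⁻¹) * a₀⁻¹ = a * v' * a⁻¹ * v'⁻¹ := mul_inv_eq_iff_eq_mul.2 h6
  rw [h7] at h5
  exact mul_inv_eq_iff_eq_mul.1 h5

end one

/-- the transport of a generator by `p` -/
theorem Gn.cj (h : Nb M) {g c : G} (hc : Gn P V U c) (hg : g ∈ P) (hU : ∀ u ∈ U, g⁻¹ * u * g ∈ U) : Gn P V U (g * c * g⁻¹) := by
  refine ⟨mul_mem (mul_mem hg hc.1) (inv_mem hg), fun u hu => ?_⟩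
  obtain ⟨v, hv, e1⟩ := hc.2 _ (hU u hu)
  refine ⟨g * v * g⁻¹, h.memV hg hv, ?_⟩
  calc g * c * g⁻¹ * u * (g * c * g⁻¹)⁻¹ * u⁻¹ = g * (c * (g⁻¹ * u * g) * c⁻¹ * (g⁻¹ * u * g)⁻¹) * g⁻¹ := by group
    _ = g * (c * v * c⁻¹ * v⁻¹) * g⁻¹ := by rw [e1]
    _ = _ := by group

end Cfsg.Agent.Omega.NOThreeL.RRed.Blk.AcNGen
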