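import Cfsg.Agent.Omega.NOThreeL.RRed.Blk.TypesNormN
import Cfsg.Agent.Omega.NOThreeL.RRed.Blk.BkDOf

/-!
# NO-3L, box R: nonsplit natural blocks: the blocks of a natural module

* **`isNBD_of`** : `Nb M`, `One M U A j`, `2 < |F|` ⟹ `∃ p ∈ P, ∃ R, IsNBD Q A R (DD M j) (blk M j) (U ⊓ C(⟨A, A^p⟩))`,
  `Q.ad R ⊔ Q.ad (DD M j) = Q.ad (YY h j)`;
* `nbd_of` : the same over `XH Q`.
-/

set_option autoImplicit false
set_option linter.unusedSectionVars false

namespace Cfsg.Agent.Omega.NOThreeL.RRed.Blk.IsNBDOf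

open Subgroup Cfsg Cfsg.Agent.ZN
open Cfsg.Agent.Omega.FFThm Cfsg.Agent.Lib.SL2Mat
open Cfsg.Agent.Omega.NO3S.ThmB Cfsg.Agent.Omega.NO3S.KeyRad
open Cfsg.Agent.Omega.NOThreeL.RSplit (Nrm)
open Cfsg.Agent.Omega.NOThreeL.RRed.NS
open Cfsg.Agent.Omega.NOThreeL.RRed.Blk.TypesNat (IsNBD NBD XH ph)
open Cfsg.Agent.Omega.NOThreeL.RRed.Blk
open scoped Pointwise

universe u

variable {G : Type u} [Group G] {F : Type} [Field F] {S P V D U H : Subgroup G} {k : ℕ}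

/-- back to `G` -/
theorem ad_un (Q : Nrm H U) (B : AddSubgroup Q.Mod) : Q.ad (un Q B) = B := by
  ext m
  exact val_mem_un Q

theorem un_le (Q : Nrm H U) (B : AddSubgroup Q.Mod) : un Q B ≤ U := by
  rintro _ ⟨m, -, rfl⟩
  exact Q.val_mem m

/-- **The blocks of a natural module, with radical.** -/
theorem isNBD_of [Finite G] [Finite F] [CharP F 2] {M : NatKM F S P V D k} (h : Nb M) (hF : 2 < Nat.card F)
    (Q : Nrm H U) (hPH : P ≤ H) (hVU : V ≤ U) {A : Subgroup G} {j : Fin k} (O : One M U A j) (hAP : A ≤ P) :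
    ∃ p ∈ P, ∃ R : Subgroup G, Q.ad R ⊔ Q.ad (DD M j) = Q.ad (YY h j) ∧
      IsNBD Q A R (DD M j) (blk M j) (U ⊓ centralizer ((A ⊔ MulAut.conj p • A : Subgroup G) : Set G)) := by
  obtain ⟨e, f, d, up, lo, p, hp, hb, h1, -, h3, h4, h5, h6⟩ := BkDOf.exists_bkD h hF Q hPH hVU O hAP
  have hF4 : 4 ≤ Nat.card F := by
    by_contra hcon
    have h6 : Nat.card F = 3 := by omega
    have h7 : (3 : ℕ) • (1 : F) = 0 := by rw [← h6]; exact card_nsmul_eq_zero'
    have h8 : (2 : ℕ) • (1 : F) = 0 := by rw [two_nsmul]; exact CharTwo.add_self_eq_zero 1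
    have h9 : (3 : ℕ) • (1 : F) = (2 : ℕ) • (1 : F) + 1 := succ_nsmul _ _
    rw [h7, h8, zero_add] at h9
    exact zero_ne_one h9
  have hC : Q.ad (U ⊓ centralizer ((A ⊔ MulAut.conj p • A : Subgroup G) : Set G)) =
      Q.ad (centralizer ((A ⊔ MulAut.conj p • A : Subgroup G) : Set G)) :=
    le_antisymm (Nrm.ad_mono inf_le_right) fun m hm => ⟨Q.val_mem m, hm⟩
  refine ⟨p, hp, un Q e.range, ?_, F, inferInstance, inferInstance, inferInstance, e, f, d, up, lo, hF4, ?_⟩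
  · rw [ad_un, ← h6, h4]
  · exact
      { bk := by
          rw [hC]
          exact ⟨hb.dec, hb.ind, hb.dC, hb.up_e, hb.up_f, hb.up_c, hb.lo_e, hb.lo_f, hb.lo_c⟩
        upA := h1
        Aup := fun a ha => h3 a ha
        AH := hAP.trans hPH
        eR := (ad_un Q _).symm
        dD := h6
        eN := h5
        RU := un_le Q _
        DU := (DD_le_YY h j).trans ((YY_le_V h j).trans hVU)
        NU := (blk_le h j).trans hVU
        CU := inf_le_left }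

/-- over the group induced by `H` on `U` -/
theorem nbd_of [Finite G] [Finite F] [CharP F 2] {M : NatKM F S P V D k} (h : Nb M) (hF : 2 < Nat.card F)
    (Q : Nrm H U) (hPH : P ≤ H) (hVU : V ≤ U) {A : Subgroup G} {j : Fin k} (O : One M U A j) (hAP : A ≤ P) :
    ∃ p ∈ P, ∃ L : AddSubgroup Q.Mod, L ⊔ Q.ad (DD M j) = Q.ad (YY h j) ∧
      AsmN.NBd ((A.subgroupOf H).map (ph Q)) (Q.ad (blk M j))
        (Q.ad (centralizer ((A ⊔ MulAut.conj p • A : Subgroup G) : Set G))) L (Q.ad (DD M j)) := by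
  obtain ⟨p, hp, R, h1, h2⟩ := isNBD_of h hF Q hPH hVU O hAP
  refine ⟨p, hp, Q.ad R, h1, ?_⟩
  have hC : Q.ad (U ⊓ centralizer ((A ⊔ MulAut.conj p • A : Subgroup G) : Set G)) =
      Q.ad (centralizer ((A ⊔ MulAut.conj p • A : Subgroup G) : Set G)) :=
    le_antisymm (Nrm.ad_mono inf_le_right) fun m hm => ⟨Q.val_mem m, hm⟩
  rw [← hC]
  exact h2.toNBd

end Cfsg.Agent.Omega.NOThreeL.RRed.Blk.IsNBDOf
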