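import Cfsg.Agent.Omega.NOThreeL.RRed.Blk.IsNBDOf
import Cfsg.Agent.Omega.NOThreeL.RRed.Blk.AsmEsB

/-!
# NO-3L, box R, nonsplit blocks (#26560, #26972): the input (SD) of `Uni.eq_Z` at group level

`M : NatKM F S P V D k`, `h : Nb M`, `One M U A j`, `A ≤ P ≤ H`, `V ≤ U`, `Q : Nrm H U`.

* `brk_im_eq` : `[Q, im A] = closure (covs U A)`; `brk_one` : `= Y_j`;
* **`sd_of`** : `s ∈ im S` normalises `[V, A]` ⟹ it normalises `D_j`;
* **`nbd_sd`** : `nbd_of` with (SD);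
* `noex_of` : a member of `EE` has no exact proper subgroup `≠ 1` (in `XH Q`).
-/

set_option autoImplicit false
set_option linter.unusedSectionVars false

namespace Cfsg.Agent.Omega.NOThreeL.RRed.Blk.UniSD

open Subgroup Cfsg Cfsg.Agent.ZN
open Cfsg.Agent.Omega.FFThm Cfsg.Agent.Lib.SL2Mat
open Cfsg.Agent.Omega.NO3S.ThmB Cfsg.Agent.Omega.NO3S.KeyRad
open Cfsg.Agent.Omega.NOThreeL.RSplit (Nrm)
open Cfsg.Agent.Omega.NOThreeL.RRed.NS
open Cfsg.Agent.Omega.NOThreeL.RRed.Blk.TypesNat (XH ph ph_smul XH_faith ph_surj mem_ker)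
open Cfsg.Agent.Omega.NOThreeL.RRed.Blk.AsmCore (im mem_im ph_mem_im im_mono brk_im)
open scoped Pointwise

universe u

variable {G : Type u} [Group G] {F : Type} [Field F] {S P V D U H A : Subgroup G} {k : ℕ}

/-- `[Q, im A]` -/
theorem brk_im_eq (Q : Nrm H U) (hA : A ≤ H) : brk Q.Mod (im Q A) = Q.ad (closure (covs U A)) := by
  apply le_antisymm
  · exact brk_im Q fun x hx w hw => subset_closure ⟨x, hx, w, hw, rfl⟩
  · intro m hm
    have h1 : closure (covs U A) ≤ un Q (brk Q.Mod (im Q A)) := by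
      rw [closure_le]
      rintro _ ⟨a, ha, u, hu, rfl⟩
      refine ⟨ph Q ⟨a, hA ha⟩ • Q.of u hu - Q.of u hu,
        AddSubgroup.subset_closure ⟨_, ph_mem_im Q (a := ⟨a, hA ha⟩) ha, _, rfl⟩, ?_⟩
      rw [ph_smul, Nrm.val_sub, Nrm.val_smul]
      rfl
    exact (val_mem_un Q).1 (h1 hm)

variable [Finite G] [Finite F] [CharP F 2] {M : NatKM F S P V D k} (h : Nb M) (hF : 2 < Nat.card F) (Q : Nrm H U)
  (hPH : P ≤ H) (hVU : V ≤ U) {j : Fin k} (O : Cfsg.Agent.Omega.NO3S.ThmB.One M U A j) (hAP : A ≤ P)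
include h hF hPH hVU O hAP

theorem brk_one : brk Q.Mod (im Q A) = Q.ad (YY h j) := by
  obtain ⟨l, g, C⟩ := exists_cd h hF j
  rw [brk_im_eq Q (hAP.trans hPH), YY_eq h C O hAP hVU hF]

/-- **(SD)** -/
theorem sd_of {s : XH Q} (hs : s ∈ im Q S) (hY : ∀ m ∈ brk Q.Mod (im Q A), s • m ∈ brk Q.Mod (im Q A)) :
    ∀ m ∈ Q.ad (DD M j), s • m ∈ Q.ad (DD M j) := by
  rw [brk_one h hF Q hPH hVU O hAP] at hY
  intro m hm
  obtain ⟨t, ht, rfl⟩ := hs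
  have h1 := hY m (Nrm.ad_mono (DD_le_YY h j) hm)
  have h2 : Q.val m ∈ DD M j := hm
  have h3 : (t : G) ∈ P := h.SP' ht
  have h4 := (mem_normalizer_iff.1 (h.DP' h3) _).1 h2.2
  refine Nrm.mem_ad.2 (mem_inf.2 ⟨YY_le h j h1, ?_⟩)
  rw [ph_smul, Nrm.val_smul]
  exact h4

/-- **the block of a natural module, with (SD)** -/
theorem nbd_sd : ∃ p ∈ P, ∃ L : AddSubgroup Q.Mod, L ⊔ Q.ad (DD M j) = Q.ad (YY h j) ∧
    AsmN.NBd (im Q A) (Q.ad (blk M j)) (Q.ad (centralizer ((A ⊔ MulAut.conj p • A : Subgroup G) : Set G))) L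
      (Q.ad (DD M j)) ∧
    ∀ s ∈ im Q S, (∀ m ∈ brk Q.Mod (im Q A), s • m ∈ brk Q.Mod (im Q A)) →
      ∀ m ∈ Q.ad (DD M j), s • m ∈ Q.ad (DD M j) := by
  obtain ⟨p, hp, L, h1, h2⟩ := IsNBDOf.nbd_of h hF Q hPH hVU O hAP
  exact ⟨p, hp, L, h1, h2, fun s hs hY => sd_of h hF Q hPH hVU O hAP hs hY⟩

omit hVU O hAP h hF hPH [Finite F] [CharP F 2] in
/-- **(noex)** a minimal exact offender has no exact proper subgroup in `XH Q` -/
theorem noex_of (hno : NoOverM U H) (hA : A ≤ H) (hm : Mx U A) : ∀ B ≤ im Q A, B ≠ ⊥ → B ≠ im Q A →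
    Nat.card B * Nat.card (fxd B : AddSubgroup Q.Mod) < Nat.card Q.Mod := by
  intro D hD h0 h1
  have hel := AsmEsB.el_im Q hm.toElemM
  have hEA : FF.Basic.EA (im Q A) := fun a ha => hel.sq a ha
  obtain ⟨B, hBA, hcB, hB⟩ := AsmEsB.lift Q hA hD
  refine lt_of_le_of_ne (AsmEsB.mm_le Q hno (hEA.mono hD)) fun h3 => ?_
  have h4 := (AsmEsB.exact_iff Q (hBA.trans hA)).2 (by rw [hB]; exact h3)
  rcases hm.min B hBA h4 hcB with h5 | h5
  · apply h0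
    rw [← hB, eq_bot_iff]
    rintro _ ⟨b, hb, rfl⟩
    exact MonoidHom.mem_ker.1 ((mem_ker Q).2 (h5 hb))
  · apply h1
    rw [← hB, h5]

end Cfsg.Agent.Omega.NOThreeL.RRed.Blk.UniSD
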