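import Cfsg.Agent.Omega.NOThreeL.RRed.Blk.AsmPair

/-!
# NO-3L, box R: assembly of the natural blocks, the theorem

`EE` : minimal exact groups in `S`; every member `P` of `Ps` normalises `EE` (inactive) or is active (`Ac`); `X` is
generated by the members of `Ps`.  `RR ⊆ EE` : a set of root groups of natural blocks, of order at least 4, whose blocks
are centralised by the other members of `EE` (`GB`; `Ac.gb` for the members of `EP`).

* **`main`** : the conjugates of the members of `RR` under the stabiliser of `EE` (`FFs EE RR`) are the root groups of a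
  family of natural blocks (`Fam`), permuted by `X`; `permC` : so are the complements; `eq_EE` : all members of `EE`;
* `Fam.sup_inv`, `NB.le_of_inv`, **`Fam.sup_eq`** : the product of the blocks is `X`-invariant; it is equal to `W` for every
  irreducible `X`-module `W ≥ [V, D]`.
-/

set_option autoImplicit false
set_option linter.unusedSectionVars false

namespace Cfsg.Agent.Omega.NOThreeL.RRed.Blk.Asm

open Cfsg.Agent.Omega.NOThreeL.RRed.NS (fxd brk mem_fxd)
open Cfsg.Agent.Omega.NOThreeL.RRed.Blk.TypesGam Cfsg.Agent.Omega.NOThreeL.RRed.Blk.Types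
open Cfsg.Agent.Omega.NOThreeL.RRed.Blk.TypesEq
open scoped Pointwise

universe u v w

variable {X : Type u} {V : Type v} [Group X] [AddCommGroup V] [DistribMulAction X V]

/-- a block and the other members of `EE` -/
structure GB (EE : Set (Subgroup X)) (D : Subgroup X) (N C : AddSubgroup V) : Prop where
  nb : NB D N C
  oth : ∀ A ∈ EE, A ≠ D → ∀ a ∈ A, ∀ m ∈ N, a • m = m

/-- the stabiliser of `EE` -/
def St (EE : Set (Subgroup X)) : Subgroup X where
  carrier := {g | ∀ A, A ∈ EE ↔ MulAut.conj g • A ∈ EE}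
  mul_mem' := fun {a b} ha hb A => by rw [map_mul, mul_smul, ← ha, ← hb]
  one_mem' := fun A => by rw [map_one, one_smul]
  inv_mem' := fun {a} ha A => by rw [ha (MulAut.conj a⁻¹ • A), ← mul_smul, ← map_mul, mul_inv_cancel, map_one, one_smul]

theorem mem_St {EE : Set (Subgroup X)} {g : X} : g ∈ St EE ↔ ∀ A, A ∈ EE ↔ MulAut.conj g • A ∈ EE := Iff.rfl

theorem le_St {EE : Set (Subgroup X)} {P : Subgroup X} (h : ∀ g ∈ P, ∀ A ∈ EE, MulAut.conj g • A ∈ EE) : P ≤ St EE := by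
  intro g hg A
  refine ⟨h g hg A, fun hA => ?_⟩
  have h1 := h g⁻¹ (P.inv_mem hg) _ hA
  rwa [← mul_smul, ← map_mul, inv_mul_cancel, map_one, one_smul] at h1

theorem mem_map {g : X} {N : AddSubgroup V} {m : V} : m ∈ N.map (DistribSMul.toAddMonoidHom V g) ↔ g⁻¹ • m ∈ N := by
  rw [AddSubgroup.mem_map]
  constructor
  · rintro ⟨x, hx, rfl⟩
    change g⁻¹ • g • x ∈ N
    rwa [inv_smul_smul]
  · exact fun h => ⟨g⁻¹ • m, h, smul_inv_smul g m⟩

theorem GB.conj {EE : Set (Subgroup X)} {D : Subgroup X} {N C : AddSubgroup V} (h : GB EE D N C) {g : X}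
    (hg : g ∈ St EE) : GB EE (MulAut.conj g • D) (N.map (DistribSMul.toAddMonoidHom V g))
      (C.map (DistribSMul.toAddMonoidHom V g)) where
  nb := h.nb.conj g
  oth := by
    intro A hA hne a ha m hm
    rw [mem_map] at hm
    have h1 : MulAut.conj g⁻¹ • A ∈ EE := (mem_St.1 (inv_mem hg) A).1 hA
    have h3 : MulAut.conj g⁻¹ • A ≠ D := by
      rintro rfl
      apply hne
      rw [← mul_smul, ← map_mul, mul_inv_cancel, map_one, one_smul]
    have h5 : g⁻¹ * a * g ∈ MulAut.conj g⁻¹ • A := by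
      rw [mem_cj]; convert ha using 1; group
    have h6 := h.oth _ h1 h3 _ h5 _ hm
    rw [mul_smul, mul_smul, smul_inv_smul] at h6
    have h7 := congrArg (fun x => g • x) h6
    simpa using h7

open Classical in
/-- the block of `D` -/
noncomputable def NN (EE : Set (Subgroup X)) (V : Type v) [AddCommGroup V] [DistribMulAction X V] (D : Subgroup X) :
    AddSubgroup V := if h : ∃ N C : AddSubgroup V, GB EE D N C then h.choose else ⊥

open Classical in
/-- the complement of the block of `D` -/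
noncomputable def CC (EE : Set (Subgroup X)) (V : Type v) [AddCommGroup V] [DistribMulAction X V] (D : Subgroup X) :
    AddSubgroup V := if h : ∃ N C : AddSubgroup V, GB EE D N C then h.choose_spec.choose else ⊥

theorem gb_NN {EE : Set (Subgroup X)} {D : Subgroup X} (h : ∃ N C : AddSubgroup V, GB EE D N C) :
    GB EE D (NN EE V D) (CC EE V D) := by
  classical
  rw [NN, CC, dif_pos h, dif_pos h]
  exact h.choose_spec.choose_spec

/-- the elements which permute the blocks -/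
def Pm (FF : Set (Subgroup X)) (N : Subgroup X → AddSubgroup V) : Subgroup X where
  carrier := {g | (∀ D ∈ FF, ∃ D' ∈ FF, Nat.card D' = Nat.card D ∧ ∀ m, m ∈ N D ↔ g • m ∈ N D') ∧
    ∀ D ∈ FF, ∃ D' ∈ FF, Nat.card D' = Nat.card D ∧ ∀ m, m ∈ N D ↔ g⁻¹ • m ∈ N D'}
  mul_mem' := by
    rintro a b ⟨ha, ha'⟩ ⟨hb, hb'⟩
    refine ⟨fun D hD => ?_, fun D hD => ?_⟩
    · obtain ⟨D1, h1, c1, h3⟩ := hb D hD
      obtain ⟨D2, h5, c2, h6⟩ := ha D1 h1
      exact ⟨D2, h5, c2.trans c1, fun m => by rw [h3, h6, mul_smul]⟩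
    · obtain ⟨D1, h1, c1, h3⟩ := ha' D hD
      obtain ⟨D2, h5, c2, h6⟩ := hb' D1 h1
      exact ⟨D2, h5, c2.trans c1, fun m => by rw [h3, h6, mul_inv_rev, mul_smul]⟩
  one_mem' := ⟨fun D hD => ⟨D, hD, rfl, fun m => by rw [one_smul]⟩,
    fun D hD => ⟨D, hD, rfl, fun m => by rw [inv_one, one_smul]⟩⟩
  inv_mem' := by
    rintro a ⟨ha, ha'⟩
    exact ⟨ha', fun D hD => by rw [inv_inv]; exact ha D hD⟩

theorem le_Pm {FF : Set (Subgroup X)} {N : Subgroup X → AddSubgroup V} {P : Subgroup X}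
    (h : ∀ g ∈ P, ∀ D ∈ FF, ∃ D' ∈ FF, Nat.card D' = Nat.card D ∧ ∀ m, m ∈ N D ↔ g • m ∈ N D') : P ≤ Pm FF N :=
  fun g hg => ⟨h g hg, h g⁻¹ (inv_mem hg)⟩

theorem conj_ne_bot {g : X} {D : Subgroup X} : Nat.card ↥(MulAut.conj g • D) = Nat.card D := card_cj g D

/-- the conjugates of the members of `RR` under the stabiliser of `EE` -/
def FFs (EE RR : Set (Subgroup X)) : Set (Subgroup X) := {D | ∃ g ∈ St EE, ∃ A ∈ RR, D = MulAut.conj g • A}

theorem le_FFs {EE RR : Set (Subgroup X)} : RR ⊆ FFs EE RR := fun A hA => ⟨1, one_mem _, A, hA, by rw [map_one, one_smul]⟩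

theorem conj_FFs {EE RR : Set (Subgroup X)} {g : X} (hg : g ∈ St EE) {D : Subgroup X} (hD : D ∈ FFs EE RR) :
    MulAut.conj g • D ∈ FFs EE RR := by
  obtain ⟨x, hx, A, hA, rfl⟩ := hD
  exact ⟨g * x, mul_mem hg hx, A, hA, by rw [map_mul, mul_smul]⟩

theorem FFs_sub {EE RR : Set (Subgroup X)} (h : RR ⊆ EE) : FFs EE RR ⊆ EE := by
  rintro _ ⟨g, hg, A, hA, rfl⟩
  exact (mem_St.1 hg A).1 (h hA)

/-- a member of `EP` (natural, `≥ 4`) of an active `P` is a block for `EE` -/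
theorem Ac.gb {S : Subgroup X} {EE : Set (Subgroup X)} {P K : Subgroup X} {EP : Set (Subgroup X)} (h : Ac S EE P K EP V)
    {A : Subgroup X} (hA : A ∈ EP) (h4 : 4 ≤ Nat.card A) : ∃ N C : AddSubgroup V, GB EE A N C := by
  rcases h.typ with h1 | h1
  · exact absurd (h1 A hA) (by omega)
  · obtain ⟨-, N, C, h1, h3, -, h5⟩ := h1 A hA
    refine ⟨N, C, h1, fun A' hA' hne a ha m hm => ?_⟩
    rcases h.dich A' hA' with h6 | h6
    · exact h5 A' h6 hne a ha m hm
    · exact h6 a ha m (h3 hm)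

section main

variable [Finite X] [Finite V]

/-- **The natural blocks.** -/
theorem main (h2 : ∀ v : V, v + v = 0) (hf : ∀ x : X, (∀ v : V, x • v = v) → x = 1) (hno : NO X V)
    {S : Subgroup X} {EE : Set (Subgroup X)} (E : Es S EE V) {Ps : Set (Subgroup X)}
    (hPs : ∀ P ∈ Ps, (∀ g ∈ P, ∀ A ∈ EE, MulAut.conj g • A ∈ EE) ∨ ∃ K EP, Ac S EE P K EP V) (htop : sSup Ps = ⊤)
    {RR : Set (Subgroup X)} (hRE : RR ⊆ EE) (hR4 : ∀ A ∈ RR, 4 ≤ Nat.card A)
    (hRG : ∀ A ∈ RR, ∃ N C : AddSubgroup V, GB EE A N C) :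
    (∀ D ∈ FFs EE RR, 4 ≤ Nat.card D) ∧ (∀ D ∈ FFs EE RR, GB EE D (NN EE V D) (CC EE V D)) ∧
      Fam S (FFs EE RR) (NN EE V) (CC EE V) := by
  have hGB : ∀ D ∈ FFs EE RR, GB EE D (NN EE V D) (CC EE V D) := by
    rintro _ ⟨g, hg, A, hA, rfl⟩
    obtain ⟨N, C, h⟩ := hRG A hA
    exact gb_NN ⟨_, _, h.conj hg⟩
  have hFE : FFs EE RR ⊆ EE := FFs_sub hRE
  have h4 : ∀ D ∈ FFs EE RR, 4 ≤ Nat.card D := by
    rintro _ ⟨g, hg, A, hA, rfl⟩
    rw [card_cj g A]; exact hR4 A hA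
  have hS : S ≤ St EE := le_St E.nS
  -- the stabiliser permutes the blocks
  have hstab : St EE ≤ Pm (FFs EE RR) (NN EE V) := by
    refine le_Pm fun g hg D hD => ⟨_, conj_FFs hg hD, card_cj g D, fun m => ?_⟩
    have h1 := ((hGB D hD).nb.conj g).uniq h2 hf hno (hGB _ (conj_FFs hg hD)).nb
      (by rw [card_cj]; exact h4 D hD)
    rw [← h1.1, mem_map, inv_smul_smul]
  have hK : ∀ {P K : Subgroup X} {EP : Set (Subgroup X)}, Ac S EE P K EP V → K ≤ Pm (FFs EE RR) (NN EE V) := by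
    intro P K EP h
    have key : ∀ D ∈ FFs EE RR, ∀ k ∈ K, ∀ m ∈ NN EE V D, k • m ∈ NN EE V D := by
      intro D hD
      by_cases hDE : D ∈ EP
      · rcases h.typ with h1 | h1
        · have := h1 D hDE
          have := h4 D hD
          omega
        · obtain ⟨-, N, C, h3, -, h5, -⟩ := h1 D hDE
          have h6 := (h3.uniq h2 hf hno (hGB D hD).nb (h4 D hD)).1
          rw [← h6]; exact h5
      · have h1 := Asm.ind h2 hf hno (hGB D hD).nb (h4 D hD) (K := K) (B₀ := EP) (fun B hB => E.el B (h.EPE hB))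
          (fun B hB => E.exact B (h.EPE hB)) (fun B hB => E.quad B (h.EPE hB)) h.EPK
          (fun B hB => (hGB D hD).oth B (h.EPE hB) fun e => hDE (e ▸ hB))
          ((h.dich D (hFE hD)).resolve_left hDE) h.spl h.genK
        intro k hk m hm
        rw [h1.1 k hk m hm]; exact hm
    refine le_Pm fun k hk D hD => ⟨D, hD, rfl, fun m => ⟨key D hD k hk m, fun hm => ?_⟩⟩
    have h1 := key D hD k⁻¹ (inv_mem hk) _ hm
    rwa [inv_smul_smul] at h1
  have hall : Pm (FFs EE RR) (NN EE V) = ⊤ := by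
    rw [eq_top_iff, ← htop]
    refine sSup_le fun P hP => ?_
    rcases hPs P hP with h | ⟨K, EP, h⟩
    · exact (le_St h).trans hstab
    · exact h.gen.trans (sup_le (hK h) (hS.trans hstab))
  refine ⟨h4, hGB,
    { le := fun D hD => E.le D (hFE hD)
      nb := fun D hD => (hGB D hD).nb
      ind := fun D hD D' hD' hne => ?_
      perm := fun g D hD => ?_
      sinv := fun s hs D hD => conj_FFs (hS hs) hD }⟩
  · exact NB.ind h2 hf hno (hGB D hD).nb (hGB D' hD').nb (h4 D hD)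
      ((hGB D' hD').oth D (hFE hD) hne.symm) ((hGB D hD).oth D' (hFE hD') hne)
  · have h1 : g ∈ Pm (FFs EE RR) (NN EE V) := hall ▸ Subgroup.mem_top g
    exact h1.1 D hD

/-- The complements are permuted, too. -/
theorem permC (h2 : ∀ v : V, v + v = 0) (hf : ∀ x : X, (∀ v : V, x • v = v) → x = 1) (hno : NO X V)
    {S : Subgroup X} {EE : Set (Subgroup X)} (E : Es S EE V) {Ps : Set (Subgroup X)}
    (hPs : ∀ P ∈ Ps, (∀ g ∈ P, ∀ A ∈ EE, MulAut.conj g • A ∈ EE) ∨ ∃ K EP, Ac S EE P K EP V ∧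
      ∀ A ∈ EP, 4 ≤ Nat.card A → ∀ N C : AddSubgroup V, NB A N C → ∀ k ∈ K, ∀ m ∈ C, k • m ∈ C) (htop : sSup Ps = ⊤)
    {RR : Set (Subgroup X)} (hRE : RR ⊆ EE) (hR4 : ∀ A ∈ RR, 4 ≤ Nat.card A)
    (hRG : ∀ A ∈ RR, ∃ N C : AddSubgroup V, GB EE A N C) :
    ∀ g : X, ∀ D ∈ FFs EE RR, ∃ D' ∈ FFs EE RR, Nat.card D' = Nat.card D ∧ ∀ m, m ∈ CC EE V D ↔ g • m ∈ CC EE V D' := by
  have hGB : ∀ D ∈ FFs EE RR, GB EE D (NN EE V D) (CC EE V D) := by
    rintro _ ⟨g, hg, A, hA, rfl⟩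
    obtain ⟨N, C, h⟩ := hRG A hA
    exact gb_NN ⟨_, _, h.conj hg⟩
  have hFE : FFs EE RR ⊆ EE := FFs_sub hRE
  have h4 : ∀ D ∈ FFs EE RR, 4 ≤ Nat.card D := by
    rintro _ ⟨g, hg, A, hA, rfl⟩
    rw [card_cj g A]; exact hR4 A hA
  have hS : S ≤ St EE := le_St E.nS
  have hstab : St EE ≤ Pm (FFs EE RR) (CC EE V) := by
    refine le_Pm fun g hg D hD => ⟨_, conj_FFs hg hD, card_cj g D, fun m => ?_⟩
    have h1 := ((hGB D hD).nb.conj g).uniq h2 hf hno (hGB _ (conj_FFs hg hD)).nb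
      (by rw [card_cj]; exact h4 D hD)
    rw [← h1.2, mem_map, inv_smul_smul]
  have hall : Pm (FFs EE RR) (CC EE V) = ⊤ := by
    rw [eq_top_iff, ← htop]
    refine sSup_le fun P hP => ?_
    rcases hPs P hP with h | ⟨K, EP, h, hC⟩
    · exact (le_St h).trans hstab
    · refine h.gen.trans (sup_le ?_ (hS.trans hstab))
      have key : ∀ D ∈ FFs EE RR, ∀ k ∈ K, ∀ m ∈ CC EE V D, k • m ∈ CC EE V D := by
        intro D hD
        by_cases hDE : D ∈ EP
        · exact hC D hDE (h4 D hD) _ _ (hGB D hD).nb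
        · have h1 := Asm.ind h2 hf hno (hGB D hD).nb (h4 D hD) (K := K) (B₀ := EP) (fun B hB => E.el B (h.EPE hB))
            (fun B hB => E.exact B (h.EPE hB)) (fun B hB => E.quad B (h.EPE hB)) h.EPK
            (fun B hB => (hGB D hD).oth B (h.EPE hB) fun e => hDE (e ▸ hB))
            ((h.dich D (hFE hD)).resolve_left hDE) h.spl h.genK
          intro k hk m hm
          have e1 : k • m = (k • m - m) + m := by abel
          rw [e1]
          exact add_mem (h1.2 (sub_mem_brk hk m)) hm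
      refine le_Pm fun k hk D hD => ⟨D, hD, rfl, fun m => ⟨key D hD k hk m, fun hm => ?_⟩⟩
      have h1 := key D hD k⁻¹ (inv_mem hk) _ hm
      rwa [inv_smul_smul] at h1
  intro g D hD
  have h1 : g ∈ Pm (FFs EE RR) (CC EE V) := hall ▸ Subgroup.mem_top g
  exact h1.1 D hD

/-- If the blocks generate `V`, every member of `EE` is the root group of a block. -/
theorem eq_EE (hf : ∀ x : X, (∀ v : V, x • v = v) → x = 1) {EE FF : Set (Subgroup X)} {N C : Subgroup X → AddSubgroup V}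
    (hFE : FF ⊆ EE) (hGB : ∀ D ∈ FF, GB EE D (N D) (C D)) (hsup : ⨆ D ∈ FF, N D = ⊤) (hne : ∀ A ∈ EE, A ≠ ⊥) :
    FF = EE := by
  refine Set.Subset.antisymm hFE fun A hA => ?_
  by_contra hcon
  apply hne A hA
  rw [eq_bot_iff]
  intro a ha
  rw [Subgroup.mem_bot]
  refine hf a fun v => ?_
  have h1 : (⨆ D ∈ FF, N D) ≤ (fxd A : AddSubgroup V) := by
    refine iSup₂_le fun D hD m hm b hb => (hGB D hD).oth A hA (fun e => hcon (e ▸ hD)) b hb m hm
  rw [hsup] at h1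
  exact h1 (AddSubgroup.mem_top v) a ha

end main

/-! ### the product of the blocks -/

/-- the product of the blocks -/
def Fam.Sup (FF : Set (Subgroup X)) (N : Subgroup X → AddSubgroup V) : AddSubgroup V := ⨆ D ∈ FF, N D

theorem Fam.sup_inv {S : Subgroup X} {FF : Set (Subgroup X)} {N C : Subgroup X → AddSubgroup V} (h : Fam S FF N C)
    (g : X) {m : V} (hm : m ∈ ⨆ D ∈ FF, N D) : g • m ∈ ⨆ D ∈ FF, N D := by
  have h1 : (⨆ D ∈ FF, N D) ≤ (⨆ D ∈ FF, N D).comap (DistribSMul.toAddMonoidHom V g) := by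
    refine iSup₂_le fun D hD x hx => ?_
    obtain ⟨D', hD', -, h3⟩ := h.perm g D hD
    exact (le_iSup₂ (f := fun D (_ : D ∈ FF) => N D) D' hD') ((h3 x).1 hx)
  exact h1 hm

theorem NB.le_of_inv (h2 : ∀ v : V, v + v = 0) {D : Subgroup X} {N C : AddSubgroup V} (h : NB D N C)
    {W : AddSubgroup V} (hW : ∀ (g : X), ∀ m ∈ W, g • m ∈ W) (hD : brk V D ≤ W) : N ≤ W := by
  obtain ⟨F, _, _, e, f, up, lo, hB, rfl, rfl⟩ := h.ex
  have he : e.range ≤ W := (range_le_brk hB).trans hD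
  refine sup_le he ?_
  rintro _ ⟨x, rfl⟩
  have h1 := hW (wt up lo 1) _ (he ⟨x, rfl⟩)
  rwa [hB.wt_e h2 one_ne_zero, inv_one, one_mul] at h1

theorem NB.ne_bot {D : Subgroup X} {N C : AddSubgroup V} (h : NB D N C) : N ≠ ⊥ := by
  obtain ⟨F, _, _, e, f, up, lo, hB, rfl, rfl⟩ := h.ex
  intro h0
  have h1 : e 1 ∈ e.range ⊔ f.range := AddSubgroup.mem_sup_left ⟨1, rfl⟩
  rw [h0, AddSubgroup.mem_bot] at h1
  have h3 := hB.ind 1 0 (by rw [h1, map_zero, add_zero]; exact C.zero_mem)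
  exact one_ne_zero h3.1

/-- **The product of the blocks.** -/
theorem Fam.sup_eq {S : Subgroup X} (h2 : ∀ v : V, v + v = 0) {FF : Set (Subgroup X)} {N C : Subgroup X → AddSubgroup V}
    (h : Fam S FF N C) (hne : FF.Nonempty) {W : AddSubgroup V} (hW : ∀ (g : X), ∀ m ∈ W, g • m ∈ W)
    (irr : ∀ U : AddSubgroup V, U ≤ W → (∀ (g : X), ∀ m ∈ U, g • m ∈ U) → U ≠ ⊥ → W ≤ U)
    (hD : ∀ D ∈ FF, brk V D ≤ W) : ⨆ D ∈ FF, N D = W := by
  have h1 : (⨆ D ∈ FF, N D) ≤ W := iSup₂_le fun D hDF => (h.nb D hDF).le_of_inv h2 hW (hD D hDF)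
  refine le_antisymm h1 (irr _ h1 (fun g m hm => h.sup_inv g hm) ?_)
  obtain ⟨D, hDF⟩ := hne
  intro h3
  have h5 : N D ≤ ⊥ := h3 ▸ le_iSup₂ (f := fun D (_ : D ∈ FF) => N D) D hDF
  exact (h.nb D hDF).ne_bot (le_bot_iff.1 h5)

end Cfsg.Agent.Omega.NOThreeL.RRed.Blk.Asm
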