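import Cfsg.Agent.Omega.NOThreeL.RRed.Blk.AsmCore

/-!
# NO-3L, box R: assembly of the natural blocks, `P` active of natural type over `F`, `|F| ≥ 4`

`P ∈ P*(S)`, `P ≤ L`, `U = zl S L`, `M : NatKM F S P V_P (cv S P) k`, `(⨆ blk M j) ∩ cv S P = 1`.

* `norm_blk` : single factors normalise `blk M j`;
* `KP_blk` : `KP` normalises `blk M j`;
* `sp_of`, `one_of` : `Split.Sp` and `ThmB.One` for the members of `EP`;
* `same_im` : members of `EP` on the same block have the same image;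
* `typ_of` : the field `typ`;
* **`ac_nat`** : `Asm.Ac`.
-/

set_option autoImplicit false
set_option linter.unusedSectionVars false

namespace Cfsg.Agent.Omega.NOThreeL.RRed.Blk.AsmAct

open Subgroup Cfsg Cfsg.Agent.ZN Cfsg.Agent.Omega.MinPar
open Cfsg.Agent.Omega.FFThm Cfsg.Agent.Lib.SL2Mat
open Cfsg.Agent.Omega.FrameFF (cv)
open Cfsg.Agent.Omega.NO3S.ThmB Cfsg.Agent.Omega.NO3S.KeyRad
open Cfsg.Agent.Omega.NOThreeL.RSplit (Nrm)
open Cfsg.Agent.Omega.NOThreeL.RRed.NS (fxd brk DD YY tt_of_mx splitBy_of conj_blk)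
open Cfsg.Agent.Omega.NOThreeL.RRed.Blk.TypesGam (Bk rt)
open Cfsg.Agent.Omega.NOThreeL.RRed.Blk.Split (Sp ncl mem_ncl le_ncl)
open Cfsg.Agent.Omega.NOThreeL.RRed.Blk.TypesNat (XH ph ph_smul XH_faith ph_eq exists_bk)
open Cfsg.Agent.Omega.NOThreeL.RRed.Blk.Asm (Ac NB)
open Cfsg.Agent.Omega.NOThreeL.RRed.Blk.AsmCore
open Cfsg.Agent.MinSimple.VModule (oddGen)
open scoped Pointwise

universe u

variable {G : Type u} [Group G]

section blk

variable {F : Type} [Field F] {S P V D : Subgroup G} {k : ℕ} {M : NatKM F S P V D k} (h : Nb M) [CharP F 2]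
include h

theorem conj_blk_off {i j : Fin k} {c : G} (hc : c ∈ P) {A : Matrix.SpecialLinearGroup (Fin 2) F}
    (hA : ActsSL M.e V D c (sg i A)) {w : G} (hw : w ∈ blk M j) : c * w * c⁻¹ ∈ blk M j := by
  by_cases hij : i = j
  · subst hij
    exact conj_blk h hc hA hw
  · rw [cent_sg h hc hA (blk_le h j hw) (e_blk h hij hw), mul_inv_cancel_right]
    exact hw

/-- single factors normalise `blk M j` -/
theorem norm_blk {i : Fin k} (j : Fin k) {c : G} (hc : c ∈ P) {A : Matrix.SpecialLinearGroup (Fin 2) F}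
    (hA : ActsSL M.e V D c (sg i A)) : c ∈ normalizer (blk M j : Set G) := by
  rw [mem_normalizer_iff]
  refine fun w => ⟨fun hw => conj_blk_off h hc hA hw, fun hw => ?_⟩
  have h1 := h.acts_inv hc hA
  have h2 : ((sg i A)⁻¹ : Fin k → Matrix.SpecialLinearGroup (Fin 2) F) = sg i A⁻¹ := by
    rw [inv_eq_iff_mul_eq_one, ← sg_mul, mul_inv_cancel, sg_one]
  rw [h2] at h1
  have h3 := conj_blk_off h (inv_mem hc) h1 hw
  have e : c⁻¹ * (c * w * c⁻¹) * c⁻¹⁻¹ = w := by group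
  rwa [e] at h3

end blk

section main

variable [Finite G] {S : Sylow 2 G} {L P : Subgroup G} (hc : IsCharacteristicTwoType G)
  (hL : IsLoc (S : Subgroup G) L) (hP : IsParS (S : Subgroup G) P) (hPL : P ≤ L)
  (no : NoOverM (zl (S : Subgroup G) L) L) {F : Type} [Field F] [Finite F] [CharP F 2] {k : ℕ}
  (M : NatKM F (S : Subgroup G) P (zl (S : Subgroup G) P) (cv (S : Subgroup G) P) k)
include hc hL hP hPL no

theorem VU : zl (S : Subgroup G) P ≤ zl (S : Subgroup G) L := NOThreeL.Star.zl_mono _ hPL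

/-- the members of `EP` are root groups of blocks -/
theorem one_of {A : Subgroup G} (hA : A ∈ EP (S : Subgroup G) P (zl (S : Subgroup G) L)) :
    ∃ j, NO3S.ThmB.One M (zl (S : Subgroup G) L) A j :=
  (tt_of_mx hA.1.2 no (hA.1.1.trans (hP.le.trans hPL))).one (Inst.nb hc hP M) (FFThm.elem_zl hc S hL)
    (NOThreeL.Star.zl_mono _ hPL) hA.1.1 hA.2

theorem KP_blk (j : Fin k) : KP (S : Subgroup G) P (zl (S : Subgroup G) L) ≤ normalizer (blk M j : Set G) := by
  have h := Inst.nb hc hP M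
  rw [KP, closure_le]
  rintro _ ⟨p, hp, A, hA, a, ha, rfl⟩
  obtain ⟨i, O⟩ := one_of hc hL hP hPL no M hA
  obtain ⟨β, hβ⟩ := O.act a ha
  have haP : a ∈ P := hP.le (hA.1.1 ha)
  obtain ⟨j', A', h1⟩ := conj_sg h hp haP hβ
  exact norm_blk h j (mul_mem (mul_mem hp haP) (inv_mem hp)) h1

theorem sp_of (hsp : (⨆ j, blk M j) ⊓ cv (S : Subgroup G) P = ⊥) {A : Subgroup G}
    (hA : A ∈ EP (S : Subgroup G) P (zl (S : Subgroup G) L)) :
    Sp L P (zl (S : Subgroup G) L) (⨆ j, blk M j) A := by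
  obtain ⟨h1, -, -, noP⟩ := cent_of_EP hc hL hP hPL no hA
  exact Split.nat hc hL hP hPL no noP hA.1.1 hA.1.2.off hA.2 h1 M (splitBy_of (Inst.nb hc hP M) hsp)

/-- members of `EP` on the same block have the same image -/
theorem same_im (hsp : (⨆ j, blk M j) ⊓ cv (S : Subgroup G) P = ⊥) (Q : Nrm L (zl (S : Subgroup G) L))
    {A A' : Subgroup G} (hA : A ∈ EP (S : Subgroup G) P (zl (S : Subgroup G) L))
    (hA' : A' ∈ EP (S : Subgroup G) P (zl (S : Subgroup G) L)) {j : Fin k} (O : NO3S.ThmB.One M (zl (S : Subgroup G) L) A j)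
    (O' : NO3S.ThmB.One M (zl (S : Subgroup G) L) A' j) : im Q A' ≤ im Q A := by
  have h := Inst.nb hc hP M
  have sp := sp_of hc hL hP hPL no M hsp hA
  have sp' := sp_of hc hL hP hPL no M hsp hA'
  rintro _ ⟨a', ha', rfl⟩
  obtain ⟨β, hβ⟩ := O'.act a' ha'
  obtain ⟨a, ha, hβ'⟩ := O.all β
  have haP : a ∈ P := hP.le (hA.1.1 ha)
  have ha'P : (a' : G) ∈ P := hP.le (hA'.1.1 ha')
  refine ⟨⟨a, hPL haP⟩, ha, ?_⟩
  rw [ph_eq]
  intro m
  refine Nrm.ext ?_
  rw [Nrm.val_smul, Nrm.val_smul]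
  change a * Q.val m * a⁻¹ = _
  have h1 : zl (S : Subgroup G) L ≤ centralizer ({(a' : G)⁻¹ * a} : Set G) := by
    conv_lhs => rw [← sp.sup]
    refine sup_le (fun v hv => ?_) fun v hv => ?_
    · rw [mem_centralizer_singleton_iff]
      have hvV : v ∈ zl (S : Subgroup G) P := (iSup_le fun j => blk_le h j : (⨆ j, blk M j) ≤ _) hv
      have h2 := h.same haP ha'P hβ' hβ hvV
      calc v * ((a' : G)⁻¹ * a) = (a' : G)⁻¹ * (a' * v * (a' : G)⁻¹) * a := by group
        _ = (a' : G)⁻¹ * (a * v * a⁻¹) * a := by rw [h2]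
        _ = (a' : G)⁻¹ * a * v := by group
    · have h2 := mem_centralizer_iff.1 (sp.cent (le_ncl ha)) v hv
      have h3 := mem_centralizer_iff.1 (sp'.cent (le_ncl ha')) v hv
      rw [mem_centralizer_singleton_iff]
      exact ((show Commute v (a' : G) from h3).inv_right.mul_right (show Commute v a from h2))
  have h2 := mem_centralizer_singleton_iff.1 (h1 (Q.val_mem m))
  calc a * Q.val m * a⁻¹ = a' * ((a' : G)⁻¹ * a * Q.val m) * a⁻¹ := by group
    _ = a' * (Q.val m * ((a' : G)⁻¹ * a)) * a⁻¹ := by rw [h2]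
    _ = a' * Q.val m * (a' : G)⁻¹ := by group

/-- **the field `typ`** -/
theorem typ_of (hF : 4 ≤ Nat.card F) (hsp : (⨆ j, blk M j) ⊓ cv (S : Subgroup G) P = ⊥)
    (Q : Nrm L (zl (S : Subgroup G) L)) {A : Subgroup G}
    (hA : A ∈ EP (S : Subgroup G) P (zl (S : Subgroup G) L)) : 4 ≤ Nat.card (im Q A) ∧
    ∃ N C : AddSubgroup Q.Mod, NB (im Q A) N C ∧
      N ≤ brk Q.Mod (im Q (KP (S : Subgroup G) P (zl (S : Subgroup G) L))) ∧
      (∀ k ∈ KP (S : Subgroup G) P (zl (S : Subgroup G) L), ∀ hk : k ∈ L, ∀ m ∈ N, (⟨k, hk⟩ : L) • m ∈ N) ∧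
      ∀ A' ∈ EP (S : Subgroup G) P (zl (S : Subgroup G) L), im Q A' ≠ im Q A → ∀ a ∈ A', ∀ ha : a ∈ L, ∀ m ∈ N,
        (⟨a, ha⟩ : L) • m = m := by
  have h := Inst.nb hc hP M
  have hVU := NOThreeL.Star.zl_mono (S : Subgroup G) hPL
  have hAP : A ≤ P := hA.1.1.trans hP.le
  have hU2 := FFThm.elem_zl hc S hL
  obtain ⟨j, O⟩ := one_of hc hL hP hPL no M hA
  have hD : DD M j = ⊥ := by
    have h1 : DD M j ≤ (⨆ j, blk M j) ⊓ cv (S : Subgroup G) P :=
      le_inf (inf_le_left.trans (le_iSup (blk M) j)) inf_le_right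
    rw [hsp] at h1
    exact le_bot_iff.1 h1
  obtain ⟨e, f, up, lo, p, hp, hb, h1, h2, h3, -, h5⟩ := exists_bk h (by omega) Q hPL hVU O hAP hD
  have hb' := TypesNat.map hb (ph Q) (ph_smul Q)
  have v2 : ∀ v : Q.Mod, v + v = 0 := fun v => Nrm.ext (by
    rw [Nrm.val_add, Nrm.val_zero]
    have := hU2.2 _ (Q.val_mem v)
    rwa [pow_two] at this)
  have hrt : rt (fun t => ph Q (up t)) = im Q A := by
    apply le_antisymm
    · rw [rt, closure_le]
      rintro _ ⟨t, rfl⟩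
      exact ph_mem_im Q (h1 t)
    · rintro _ ⟨a, ha, rfl⟩
      obtain ⟨t, ht⟩ := h3 a ha
      have h6 : ph Q a = ph Q (up t) := (ph_eq Q).2 ht
      rw [h6]
      exact subset_closure ⟨t, rfl⟩
  have hAK : A ≤ KP (S : Subgroup G) P (zl (S : Subgroup G) L) := le_KP hA
  refine ⟨?_, Q.ad (blk M j), _, ⟨F, inferInstance, inferInstance, e, f, _, _, hb', hrt, h5⟩, ?_, ?_, ?_⟩
  · rw [← hrt, Bk.card_rt hb' v2 (fun x hx => XH_faith Q x hx)]
    exact hF
  · rw [← h5]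
    refine sup_le ?_ ?_
    · rintro _ ⟨x, rfl⟩
      refine AddSubgroup.subset_closure ⟨ph Q (up 1), ph_mem_im Q (hAK (h1 1)), f x, ?_⟩
      rw [ph_smul, hb.up_f, one_mul, add_sub_cancel_left]
    · rintro _ ⟨x, rfl⟩
      have h6 : (lo 1 : G) ∈ KP (S : Subgroup G) P (zl (S : Subgroup G) L) := by
        have h7 := NS.mem_conj.1 (h2 1)
        have e1 : (lo 1 : G) = p * (p⁻¹ * lo 1 * p) * p⁻¹ := by group
        rw [e1]
        exact mem_KP hp hA h7
      refine AddSubgroup.subset_closure ⟨ph Q (lo 1), ph_mem_im Q h6, e x, ?_⟩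
      rw [ph_smul, hb.lo_e, one_mul, add_sub_cancel_left]
  · intro x hx hxL m hm
    exact (mem_normalizer_iff.1 (KP_blk hc hL hP hPL no M j hx) _).1 hm
  · intro A' hA' hne a ha haL m hm
    obtain ⟨j', O'⟩ := one_of hc hL hP hPL no M hA'
    have hjj : j' ≠ j := by
      rintro rfl
      exact hne (le_antisymm (same_im hc hL hP hPL no M hsp Q hA hA' O O')
        (same_im hc hL hP hPL no M hsp Q hA' hA O' O))
    obtain ⟨β, hβ⟩ := O'.act a ha
    rw [NS.smul_eq_iff]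
    change a * Q.val m * a⁻¹ = _
    rw [cent_sg h (hP.le (hA'.1.1 ha)) hβ (blk_le h j hm) (e_blk h hjj hm), mul_inv_cancel_right]

/-- **`Ac` for natural `P`.** -/
theorem ac_nat (hF : 4 ≤ Nat.card F) (hsp : (⨆ j, blk M j) ⊓ cv (S : Subgroup G) P = ⊥)
    (Q : Nrm L (zl (S : Subgroup G) L)) (ne : (EP (S : Subgroup G) P (zl (S : Subgroup G) L)).Nonempty) :
    Ac (im Q (S : Subgroup G)) (im Q '' EE (S : Subgroup G) (zl (S : Subgroup G) L)) (im Q P)
      (im Q (KP (S : Subgroup G) P (zl (S : Subgroup G) L)))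
      (im Q '' EP (S : Subgroup G) P (zl (S : Subgroup G) L)) Q.Mod := by
  have h := Inst.nb hc hP M
  have cr := cr_of (L := L) hc hP hPL (iSup_le fun j => blk_le h j : (⨆ j, blk M j) ≤ _) ne
    fun A hA => sp_of hc hL hP hPL no M hsp hA
  exact cr.ac Q (Or.inr fun A hA => typ_of hc hL hP hPL no M hF hsp Q hA)

end main

end Cfsg.Agent.Omega.NOThreeL.RRed.Blk.AsmAct
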