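import Cfsg.Agent.Omega.NOThreeL.RRed.Blk.AsmCore
import Cfsg.Agent.Omega.NOThreeL.RRed.Blk.AsmCard

/-!
# NO-3L, box R: assembly of the natural blocks, the active small `P ∈ P*(S)` (type `q = 2` or `S_n`)

`U = zl S L`, `P ≤ L`, `Two2 S P`.

* `gone_of_EP` : `GOne S L P A` for `A ∈ EP S P U`;
* `sp_small` : one `V₀` with `Sp L P U V₀ A` for all `A ∈ EP S P U`;
* `card_small` : the members of `EP S P U` induce groups of order at most 2;
* **`ac_small`** : `Asm.Ac`.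
-/

set_option autoImplicit false
set_option linter.unusedSectionVars false

namespace Cfsg.Agent.Omega.NOThreeL.RRed.Blk.AsmSmall

open Subgroup Cfsg Cfsg.Agent.ZN Cfsg.Agent.Omega.MinPar
open Cfsg.Agent.Omega.FFThm (ElemM OffM NoOverM ConclM NatKM SymKM NatK SymK)
open Cfsg.Agent.Omega.FrameFF (cv)
open Cfsg.Agent.Omega.NOThreeL.RSplit (Nrm)
open Cfsg.Agent.Omega.NOThreeL.RTreeA (SplitBy)
open Cfsg.Agent.Omega.NOThreeL.RRed.Blk.Split (Sp)
open Cfsg.Agent.Omega.NOThreeL.RRed.Blk.Asm (Ac)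
open Cfsg.Agent.Omega.NOThreeL.RRed.Blk.AsmCore

universe u

variable {G : Type u} [Group G] [Finite G] {S : Sylow 2 G} {L P A : Subgroup G}

/-- `GOne` for the members of `EP` -/
theorem gone_of_EP (hc : IsCharacteristicTwoType G) (hL : IsLoc (S : Subgroup G) L) (hP : IsParS (S : Subgroup G) P)
    (hPL : P ≤ L) (no : NoOverM (zl (S : Subgroup G) L) L)
    (hA : A ∈ EP (S : Subgroup G) P (zl (S : Subgroup G) L)) : GOne S L P A := by
  have hE := FFThm.elem_zl hc S hL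
  have hcomm : zl (S : Subgroup G) L ≤ centralizer (zl (S : Subgroup G) L : Set G) := fun x hx =>
    mem_centralizer_iff.2 fun y hy => congrArg Subtype.val (hE.1.is_comm.comm ⟨y, hy⟩ ⟨x, hx⟩)
  obtain ⟨-, -, h2, h3, -⟩ := exact_split hc hP hPL no hcomm hA.1.1 hA.1.2.toElemM hA.1.2.exact hA.2
  obtain ⟨h4, -, -, hnoP⟩ := cent_of_EP hc hL hP hPL no hA
  have hVU : zl (S : Subgroup G) P ≤ zl (S : Subgroup G) L := Star.zl_mono _ hPL
  exact ⟨hP, hPL, hA.1.1, hcomm, no, hA.1.2.off, h2, h4, h3,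
    exact_of hcomm hVU hA.1.2.off.le (hnoP A (hA.1.1.trans hP.le) h2.toElemM) h4⟩

/-- **One `V₀` for all `A ∈ EP`.** -/
theorem sp_small (hc : IsCharacteristicTwoType G) (hL : IsLoc (S : Subgroup G) L) (hP : IsParS (S : Subgroup G) P)
    (hPL : P ≤ L) (no : NoOverM (zl (S : Subgroup G) L) L) (h2 : Two2 S P) :
    ∃ V₀, SplitBy (S : Subgroup G) P (cv (S : Subgroup G) P) V₀ ∧
      ∀ A ∈ EP (S : Subgroup G) P (zl (S : Subgroup G) L), Sp L P (zl (S : Subgroup G) L) V₀ A := by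
  rcases h2 with ⟨F, _, _, k, hF, hk, ⟨M⟩⟩ | ⟨k, m, hk, hm, ⟨M⟩⟩
  · have : Finite F := Nat.finite_of_card_ne_zero (by rw [hF]; norm_num)
    obtain ⟨V₀, hV⟩ := SplitTwo.splitBy_two hc hP.toIsPar (two_of_card hF) M.toNatK
    refine ⟨V₀, hV, fun A hA => ?_⟩
    obtain ⟨hAC, hoff, -, noP⟩ := cent_of_EP hc hL hP hPL no hA
    exact Split.nat hc hL hP hPL no noP hA.1.1 hA.1.2.off hA.2 hAC M hV
  · obtain ⟨-, V₀, hV⟩ := SplitSym.splitBy hc hP.toIsPar hk (by omega) M.toSymK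
    refine ⟨V₀, hV, fun A hA => ?_⟩
    obtain ⟨hAC, hoff, -, noP⟩ := cent_of_EP hc hL hP hPL no hA
    exact SplitSym.sp hc hL hP hPL no noP hA.1.1 hA.1.2.off hA.2 hAC hk (by omega) M hV

/-- the members of `EP` induce groups of order at most 2 -/
theorem card_small (hc : IsCharacteristicTwoType G) (hL : IsLoc (S : Subgroup G) L) (hP : IsParS (S : Subgroup G) P)
    (hPL : P ≤ L) (no : NoOverM (zl (S : Subgroup G) L) L) (h2 : Two2 S P) (Q : Nrm L (zl (S : Subgroup G) L))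
    (hA : A ∈ EP (S : Subgroup G) P (zl (S : Subgroup G) L)) : Nat.card (im Q A) ≤ 2 := by
  have hE := FFThm.elem_zl hc S hL
  exact AsmCard.card_le_two hc (gone_of_EP hc hL hP hPL no hA) hA.1.2 h2 hE.2 Q ((hA.1.1.trans hP.le).trans hPL)

/-- **`Ac` for small `P`.** -/
theorem ac_small (hc : IsCharacteristicTwoType G) (hL : IsLoc (S : Subgroup G) L) (hP : IsParS (S : Subgroup G) P)
    (hPL : P ≤ L) (no : NoOverM (zl (S : Subgroup G) L) L) (h2 : Two2 S P) (Q : Nrm L (zl (S : Subgroup G) L))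
    (ne : (EP (S : Subgroup G) P (zl (S : Subgroup G) L)).Nonempty) :
    Ac (im Q S) (im Q '' EE (S : Subgroup G) (zl (S : Subgroup G) L)) (im Q P)
      (im Q (KP (S : Subgroup G) P (zl (S : Subgroup G) L)))
      (im Q '' EP (S : Subgroup G) P (zl (S : Subgroup G) L)) Q.Mod := by
  obtain ⟨V₀, hV, sp⟩ := sp_small hc hL hP hPL no h2
  exact (cr_of hc hP hPL hV.1 ne sp).ac Q (Or.inl fun A hA => (card_small hc hL hP hPL no h2 Q hA).trans (by norm_num))

end Cfsg.Agent.Omega.NOThreeL.RRed.Blk.AsmSmall
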