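import Cfsg.Agent.Omega.NOThreeL.RRed.Blk.AsmG
import Cfsg.Agent.Omega.NOThreeL.RRed.Blk.AsmSmall
import Cfsg.Agent.Omega.NOThreeL.RRed.Blk.AsmEsB
import Cfsg.Agent.Omega.NOThreeL.RRed.Blk.AsmActC
import Cfsg.Agent.Omega.NOThreeL.RRed.Blk.AsmTorP
import Cfsg.Agent.Omega.NOThreeL.RRed.NS.Wide

/-!
# NO-3L, box R: assembly of the natural blocks, the inputs of `AsmG.Inp.main` and `AsmT.Tor`

`Spl S L` : every natural `P ∈ P*(S)`, `P ≤ L`, over `F`, `|F| ≥ 4`, which has a minimal exact offender moving `V_P`,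
satisfies `(⨆ blk M j) ∩ cv S P = 1` (THEOREM NS).

* `inp_of` : `AsmG.Inp S L Q`;
* `nat_of_RRs` : the members of `RRs S L Q` come from natural `P`;
* `typC_RRs` : their blocks: all facts of `AsmAct.typC_nat`;
* `td_RRs`, **`tor_main`** : the input `Tor` for the family of `Inp.main`;
* `act_iff`, `spl_of_mvAct`, **`inp_box`** : box R, `L = M₀`, `U = V*`.
-/

set_option autoImplicit false
set_option linter.unusedSectionVars false

namespace Cfsg.Agent.Omega.NOThreeL.RRed.Blk.AsmInp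

open Subgroup Cfsg Cfsg.Agent.ZN Cfsg.Agent.Omega.MinPar
open Cfsg.Agent.Omega.FFThm
open Cfsg.Agent.Omega.FrameFF (cv two_le_card)
open Cfsg.Agent.Omega.NO3S.ThmB Cfsg.Agent.Omega.NO3S.KeyRad
open Cfsg.Agent.Omega.NOThreeL.RSplit (Nrm)
open Cfsg.Agent.Omega.NOThreeL.RRed.NS (fxd brk)
open Cfsg.Agent.Omega.NOThreeL.RRed.Blk.TypesNat (XH)
open Cfsg.Agent.Omega.NOThreeL.RRed.Blk.Asm
open Cfsg.Agent.Omega.NOThreeL.RRed.Blk.AsmG
open Cfsg.Agent.Omega.NOThreeL.RRed.Blk.AsmT (TD Tor)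
open Cfsg.Agent.Omega.NOThreeL.RRed.Blk.AsmCore (im EP KP cent_of_EP)
open Cfsg.Agent.Omega.NOThreeL.RRed.WideTree (Act MvAct)
open Cfsg.Agent.Omega.NOThreeL.RTree (RB)
open Cfsg.Agent.Omega.NOThreeL.Merge (MZ le_MZ isLoc_MZ)
open scoped Pointwise

universe u

variable {G : Type u} [Group G] [Finite G] {S : Sylow 2 G} {L P : Subgroup G}

/-- THEOREM NS for the members of `P*(S)` in `L`. -/
def Spl (S : Sylow 2 G) (L : Subgroup G) : Prop :=
  ∀ P, IsParS (S : Subgroup G) P → P ≤ L → (EP (S : Subgroup G) P (zl (S : Subgroup G) L)).Nonempty →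
    ∀ (F : Type) [Field F] [Finite F] [CharP F 2] (k : ℕ)
      (M : NatKM F (S : Subgroup G) P (zl (S : Subgroup G) P) (cv (S : Subgroup G) P) k), 4 ≤ Nat.card F →
        (⨆ j, blk M j) ⊓ cv (S : Subgroup G) P = ⊥

section gen

variable (hc : IsCharacteristicTwoType G) (hL : IsLoc (S : Subgroup G) L) (no : NoOverM (zl (S : Subgroup G) L) L)
include hc hL no

/-- the two types -/
theorem type_of (hP : IsParS (S : Subgroup G) P) (hPL : P ≤ L)
    (ne : (EP (S : Subgroup G) P (zl (S : Subgroup G) L)).Nonempty) : Two2 S P ∨ Big4 S P := by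
  obtain ⟨A, hA⟩ := ne
  obtain ⟨-, -, hcon, -⟩ := cent_of_EP hc hL hP hPL no hA
  rcases hcon with ⟨F, i1, i2, i3, k, hk, hM⟩ | ⟨k, m, hk, hm, hM⟩
  · rcases two_le_card (F := F) with h2 | h4
    · exact Or.inl (Or.inl ⟨F, i1, i3, k, h2, hk, hM⟩)
    · exact Or.inr ⟨F, i1, i2, i3, k, h4, hk, hM⟩
  · exact Or.inl (Or.inr ⟨k, m, hk, hm, hM⟩)

/-- **The inputs of `AsmG.Inp.main`.** -/
theorem inp_of (hgen : L ≤ sSup {P | IsParS (S : Subgroup G) P ∧ P ≤ L}) (spl : Spl S L)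
    (Q : Nrm L (zl (S : Subgroup G) L)) : Inp S L Q where
  hc := hc
  gen := hgen
  el := FFThm.elem_zl hc S hL
  no := no
  es := AsmEsB.es_of Q hL.le no (FFThm.elem_zl hc S hL)
  ac P hP hPL ne := by
    rcases type_of hc hL no hP hPL ne with h2 | ⟨F, i1, i2, i3, k, h4, hk, ⟨M⟩⟩
    · exact AsmSmall.ac_small hc hL hP hPL no h2 Q ne
    · exact AsmAct.ac_nat hc hL hP hPL no M h4 (spl P hP hPL ne F k M h4) Q ne

/-- the members of `RRs` come from natural `P` -/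
theorem nat_of_RRs (spl : Spl S L) {Q : Nrm L (zl (S : Subgroup G) L)} {D : Subgroup (XH Q)} (hD : D ∈ RRs S L Q) :
    ∃ (P : Subgroup G) (_ : IsParS (S : Subgroup G) P) (_ : P ≤ L) (F : Type) (_ : Field F) (_ : Finite F)
      (_ : CharP F 2) (k : ℕ)
      (M : NatKM F (S : Subgroup G) P (zl (S : Subgroup G) P) (cv (S : Subgroup G) P) k) (A : Subgroup G) (j : Fin k),
      4 ≤ Nat.card F ∧ (⨆ j, blk M j) ⊓ cv (S : Subgroup G) P = ⊥ ∧
      A ∈ EP (S : Subgroup G) P (zl (S : Subgroup G) L) ∧ D = im Q A ∧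
      NO3S.ThmB.One M (zl (S : Subgroup G) L) A j := by
  obtain ⟨h4, P, hP, hPL, A, hA, rfl⟩ := hD
  rcases type_of hc hL no hP hPL ⟨A, hA⟩ with h2 | ⟨F, i1, i2, i3, k, hF, hk, ⟨M⟩⟩
  · have := AsmSmall.card_small hc hL hP hPL no h2 Q hA
    omega
  · obtain ⟨j, O⟩ := AsmAct.one_of hc hL hP hPL no M hA
    exact ⟨P, hP, hPL, F, i1, i2, i3, k, M, A, j, hF, spl P hP hPL ⟨A, hA⟩ F k M hF, hA, rfl, O⟩

/-- all facts of `typC_nat` for the members of `RRs` -/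
theorem typC_RRs (spl : Spl S L) {Q : Nrm L (zl (S : Subgroup G) L)} {D : Subgroup (XH Q)} (hD : D ∈ RRs S L Q) :
    ∃ P, IsParS (S : Subgroup G) P ∧ P ≤ L ∧ D ∈ im Q '' EP (S : Subgroup G) P (zl (S : Subgroup G) L) ∧
      ∃ N C : AddSubgroup Q.Mod, NB D N C ∧
        N ≤ brk Q.Mod (im Q (KP (S : Subgroup G) P (zl (S : Subgroup G) L))) ∧
        (∀ k ∈ im Q (KP (S : Subgroup G) P (zl (S : Subgroup G) L)), ∀ m ∈ N, k • m ∈ N) ∧
        (∀ A' ∈ im Q '' EP (S : Subgroup G) P (zl (S : Subgroup G) L), A' ≠ D → ∀ a ∈ A', ∀ m ∈ N, a • m = m) ∧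
        (∀ k ∈ im Q (KP (S : Subgroup G) P (zl (S : Subgroup G) L)), ∀ m ∈ C, k • m ∈ C) ∧
        (fxd (im Q (KP (S : Subgroup G) P (zl (S : Subgroup G) L))) : AddSubgroup Q.Mod) ≤ C := by
  obtain ⟨P, hP, hPL, F, i1, i2, i3, k, M, A, j, hF, hsp, hA, rfl, O⟩ := nat_of_RRs hc hL no spl hD
  exact ⟨P, hP, hPL, ⟨A, hA, rfl⟩, (AsmAct.typC_nat hc hL hP hPL no M hsp Q hF _ ⟨A, hA, rfl⟩).2⟩

/-- `TD` for the members of `RRs` -/
theorem td_RRs (spl : Spl S L) {Q : Nrm L (zl (S : Subgroup G) L)} {D : Subgroup (XH Q)} (hD : D ∈ RRs S L Q)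
    {N C : AddSubgroup Q.Mod} (hNC : NB D N C) : TD (im Q (S : Subgroup G)) D N C := by
  obtain ⟨P, hP, hPL, F, i1, i2, i3, k, M, A, j, hF, hsp, hA, rfl, O⟩ := nat_of_RRs hc hL no spl hD
  exact AsmTor.td_EP hc hL hP hPL no M hF hsp Q hA hNC

/-- **`Tor` for the family of `Inp.main`.** -/
theorem tor_main (spl : Spl S L) {Q : Nrm L (zl (S : Subgroup G) L)} {RR : Set (Subgroup (XH Q))}
    (hR : RR ⊆ RRs S L Q) {N C : Subgroup (XH Q) → AddSubgroup Q.Mod}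
    (hF : Fam (im Q (S : Subgroup G)) (FFs (im Q '' AsmCore.EE (S : Subgroup G) (zl (S : Subgroup G) L)) RR) N C) :
    Tor (im Q (S : Subgroup G)) (FFs (im Q '' AsmCore.EE (S : Subgroup G) (zl (S : Subgroup G) L)) RR) N C :=
  AsmTor.tor_FFs fun A hA => td_RRs hc hL no spl (hR hA) (hF.nb A (le_FFs hA))

end gen

/-! ### Box R -/

/-- active = some member of `EE` moves `V_P` -/
theorem act_iff (hc : IsCharacteristicTwoType G) (hP : IsParS (S : Subgroup G) P) :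
    Act (S : Subgroup G) P ↔
      (EP (S : Subgroup G) P (zl (S : Subgroup G) (MZ (S : Subgroup G)))).Nonempty := by
  constructor
  · rintro ⟨-, A, hA, hM, hn⟩
    refine ⟨A, ⟨hA, hM⟩, fun h1 => hn ?_⟩
    rw [← hP.inf_centralizer S hc]
    exact le_inf hA h1
  · rintro ⟨A, ⟨hA, hM⟩, h1⟩
    refine ⟨hP, A, hA, hM, fun hn => h1 ?_⟩
    rw [← hP.inf_centralizer S hc] at hn
    exact hn.trans inf_le_right

theorem spl_of_mvAct (B : RB S) (mv : MvAct (S : Subgroup G)) : Spl S (MZ (S : Subgroup G)) :=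
  fun _ hP _ ne _ _ _ _ _ M hF =>
    NS.act_inf_eq_bot B mv ((act_iff B.ctx.char2 hP).2 ne) M (by omega)

/-- **Box R.** -/
theorem inp_box (B : RB S) (mv : MvAct (S : Subgroup G))
    (no : NoOverM (zl (S : Subgroup G) (MZ (S : Subgroup G))) (MZ (S : Subgroup G)))
    (Q : Nrm (MZ (S : Subgroup G)) (zl (S : Subgroup G) (MZ (S : Subgroup G)))) :
    Inp S (MZ (S : Subgroup G)) Q :=
  inp_of B.ctx.char2 (isLoc_MZ B.ctx B.full B.data.noff) no (FourTree.gen_MZ S) (spl_of_mvAct B mv) Q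

theorem no_of_act (B : RB S) (a : Act (S : Subgroup G) P) :
    NoOverM (zl (S : Subgroup G) (MZ (S : Subgroup G))) (MZ (S : Subgroup G)) := by
  obtain ⟨hP, A, hA, hM, hn⟩ := a
  obtain ⟨P₁, A₁, g⟩ := exists_gOne B.ctx.char2 (isLoc_MZ B.ctx B.full B.data.noff) (FourTree.gen_MZ S)
    ⟨A, (hA.trans hP.le).trans (le_MZ hP), hM.off⟩
  exact g.no

theorem nrm_box (B : RB S) : Nrm (MZ (S : Subgroup G)) (zl (S : Subgroup G) (MZ (S : Subgroup G))) where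
  ab u hu v hv := by
    have hE := FFThm.elem_zl B.ctx.char2 S (isLoc_MZ B.ctx B.full B.data.noff)
    exact congrArg Subtype.val (hE.1.is_comm.comm ⟨u, hu⟩ ⟨v, hv⟩)
  nrm := le_normalizer_zl _ _

end Cfsg.Agent.Omega.NOThreeL.RRed.Blk.AsmInp
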