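import Cfsg.Agent.Omega.NOThreeL.RRed.Blk.AsmTwoC
import Cfsg.Agent.Omega.NOThreeL.RRed.Blk.AsmOf
import Cfsg.Agent.Omega.NOThreeL.RRed.Blk.Orbit

/-!
# NO-3L, box R: the `𝔽₂`-blocks with three letters as a family of natural blocks (helper283, piece (5) of `LeftBlk`)

`F : Full S M V N E R₀ Om phi`, `|Ω_b| = 3`: `S ⊓ E b` induces a group of order 2 on `V`, the root group of the natural
`SL₂(2)`-block `N b`.

* `exists_tr` : some `s ∈ S ⊓ E b` is a transposition;
* `two_or` : every `t ∈ S ⊓ E b` acts as `1` or as this transposition;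
* **`nb`** : `Asm.NB (im Q (S ⊓ E b)) (Q.ad (N b)) (Q.ad (Co N R₀ b))`;
* **`fam`** : all these blocks are a `Fam`.
-/

set_option autoImplicit false
set_option linter.unusedSectionVars false

namespace Cfsg.Agent.Omega.NOThreeL.RRed.Blk.AsmTwo

open Subgroup Cfsg
open Cfsg.Agent.Omega.NOThreeL.RRed.TvFin (Full)
open Cfsg.Agent.Omega.NOThreeL.RRed.Blk
open Cfsg.Agent.Omega.NOThreeL.RRed.Blk.AsmTwoC (smul_of_norm rel_one E_Co)
open Cfsg.Agent.Omega.KL.TwoS (Rel Lett)
open Cfsg.Agent.Omega.NOThreeL.RSplit (Nrm)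
open Cfsg.Agent.Omega.NOThreeL.RRed.Blk.TypesGam (Bk rt)
open Cfsg.Agent.Omega.NOThreeL.RRed.Blk.TypesNat (XH ph im mem_im im_conj im_mono ph_smul ph_eq ph_surj)
open Cfsg.Agent.Omega.NOThreeL.RRed.NS (smul_eq_iff)
open Cfsg.Agent.ZN.ChoiceSit (Syl exists_syl syl_conj)
open Cfsg.Agent.Omega.NOThreeL.RRed.Blk.Asm (NB Fam)
open Cfsg.Agent.Omega.Transv (zmod_cases)
open scoped Pointwise

universe u

section hom2

variable {A : Type*} [AddCommGroup A]

/-- the homomorphism `𝔽₂ → A`, `1 ↦ m` -/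
def hom2 (m : A) (hm : m + m = 0) : ZMod 2 →+ A where
  toFun t := if t = 0 then 0 else m
  map_zero' := if_pos rfl
  map_add' := by
    intro a b
    rcases zmod_cases a with rfl | rfl <;> rcases zmod_cases b with rfl | rfl
    · simp
    · simp
    · simp
    · have h1 : (1 : ZMod 2) + 1 = 0 := by decide
      rw [h1, if_pos rfl, if_neg one_ne_zero, hm]

theorem hom2_zero (m : A) (hm : m + m = 0) : hom2 m hm 0 = 0 := map_zero _

theorem hom2_one (m : A) (hm : m + m = 0) : hom2 m hm 1 = m := by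
  change (if (1 : ZMod 2) = 0 then (0 : A) else m) = m
  exact if_neg one_ne_zero

end hom2

section perm

variable {Ω : Type*} [Fintype Ω] [DecidableEq Ω]

theorem sq_one {σ : Equiv.Perm Ω} (hc : Fintype.card Ω = 3) {n : ℕ} (h : σ ^ 2 ^ n = 1) : σ * σ = 1 := by
  have h1 := orderOf_dvd_of_pow_eq_one h
  have h2 : orderOf σ ∣ 6 := by
    have h3 := orderOf_dvd_card (x := σ)
    rw [Fintype.card_perm, hc] at h3
    exact h3
  obtain ⟨j, -, hj⟩ := (Nat.dvd_prime_pow Nat.prime_two).1 h1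
  rw [hj] at h2
  have h4 : j ≤ 1 := by
    by_contra hcon
    have h5 : 2 ^ 2 ∣ 2 ^ j := pow_dvd_pow 2 (by omega)
    have h6 := h5.trans h2
    omega
  rw [← pow_two]
  have h5 : orderOf σ ∣ 2 := by
    rw [hj]
    calc 2 ^ j ∣ 2 ^ 1 := pow_dvd_pow 2 h4
      _ = 2 := pow_one 2
  exact orderOf_dvd_iff_pow_eq_one.1 h5

theorem exists_third (hc : Fintype.card Ω = 3) {x y : Ω} (hxy : x ≠ y) :
    ∃ z, z ≠ x ∧ z ≠ y ∧ ∀ w, w = x ∨ w = y ∨ w = z := by
  have h1 : ({x, y} : Finset Ω).card = 2 := Finset.card_pair hxy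
  obtain ⟨z, -, hz⟩ := Finset.exists_mem_notMem_of_card_lt_card (s := ({x, y} : Finset Ω)) (t := Finset.univ)
    (by rw [h1, Finset.card_univ, hc]; norm_num)
  have hzx : z ≠ x := fun h => hz (by rw [h]; simp)
  have hzy : z ≠ y := fun h => hz (by rw [h]; simp)
  refine ⟨z, hzx, hzy, fun w => ?_⟩
  have h2 : ({x, y, z} : Finset Ω) = Finset.univ := by
    apply Finset.eq_univ_of_card
    rw [hc]
    exact Finset.card_eq_three.2 ⟨x, y, z, hxy, hzx.symm, hzy.symm, rfl⟩
  have h3 : w ∈ ({x, y, z} : Finset Ω) := by rw [h2]; exact Finset.mem_univ w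
  simpa using h3

theorem perm_cases (hc : Fintype.card Ω = 3) {x y : Ω} (hxy : x ≠ y) {σ : Equiv.Perm Ω} {n m : ℕ}
    (h1 : σ ^ 2 ^ n = 1) (h2 : (σ * Equiv.swap x y) ^ 2 ^ m = 1) : σ = 1 ∨ σ = Equiv.swap x y := by
  obtain ⟨z, hzx, hzy, hall⟩ := exists_third hc hxy
  have h3 := sq_one hc h1
  have h4 := sq_one hc h2
  set τ := Equiv.swap x y with hτ
  have h5 : τ * τ = 1 := Equiv.swap_mul_self x y
  have hσi : σ⁻¹ = σ := inv_eq_of_mul_eq_one_left h3
  have hτi : τ⁻¹ = τ := inv_eq_of_mul_eq_one_left h5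
  have h6 : σ * τ = τ * σ := by
    have h7 : (σ * τ)⁻¹ = σ * τ := inv_eq_of_mul_eq_one_left h4
    rw [mul_inv_rev, hσi, hτi] at h7
    exact h7.symm
  have hap : ∀ w, σ (τ w) = τ (σ w) := fun w => by
    have := congrArg (fun f : Equiv.Perm Ω => f w) h6
    simpa using this
  have hsz : σ z = z := by
    have h8 := hap z
    rw [hτ, Equiv.swap_apply_of_ne_of_ne hzx hzy, ← hτ] at h8
    rcases hall (σ z) with h | h | h
    · rw [h, hτ, Equiv.swap_apply_left] at h8
      exact absurd h8 hxy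
    · rw [h, hτ, Equiv.swap_apply_right] at h8
      exact absurd h8.symm hxy
    · exact h
  rcases hall (σ x) with h | h | h
  · left
    have hy : σ y = y := by
      rcases hall (σ y) with h' | h' | h'
      · exact absurd (σ.injective (h.trans h'.symm)) hxy
      · exact h'
      · exact absurd (σ.injective (hsz.trans h'.symm)) hzy
    ext w
    rcases hall w with rfl | rfl | rfl
    · rw [h]; rfl
    · rw [hy]; rfl
    · rw [hsz]; rfl
  · right
    have hy : σ y = x := by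
      rw [← h]
      exact congrArg (fun f : Equiv.Perm Ω => f x) h3
    ext w
    rcases hall w with rfl | rfl | rfl
    · rw [h, hτ, Equiv.swap_apply_left]
    · rw [hy, hτ, Equiv.swap_apply_right]
    · rw [hsz, hτ, Equiv.swap_apply_of_ne_of_ne hzx hzy]
  · exact absurd (σ.injective (h.trans hsz.symm)) hzx.symm

/-- two transpositions generate -/
theorem gen3 {x y z : Ω} (hyx : y ≠ x) (hzx : z ≠ x) (hzy : z ≠ y) (hall : ∀ w, w = x ∨ w = y ∨ w = z)
    (K : Subgroup (Equiv.Perm Ω)) (h1 : Equiv.swap x y ∈ K) (h2 : Equiv.swap x z ∈ K) : K = ⊤ := by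
  have h3 : Equiv.swap y z ∈ K := by
    have h4 := Equiv.swap_apply_apply (Equiv.swap x y) x z
    rw [Equiv.swap_apply_left, Equiv.swap_apply_of_ne_of_ne hzx hzy] at h4
    rw [h4]
    exact mul_mem (mul_mem h1 h2) (inv_mem h1)
  rw [eq_top_iff, ← Equiv.Perm.closure_isSwap, closure_le]
  rintro _ ⟨a, c, hac, rfl⟩
  rcases hall a with rfl | rfl | rfl <;> rcases hall c with rfl | rfl | rfl
  · exact absurd rfl hac
  · exact h1
  · exact h2
  · rw [Equiv.swap_comm]; exact h1
  · exact absurd rfl hac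
  · exact h3
  · rw [Equiv.swap_comm]; exact h2
  · rw [Equiv.swap_comm]; exact h3
  · exact absurd rfl hac

end perm

variable {G : Type u} [Group G] [Finite G] {S : Sylow 2 G} {M V : Subgroup G} {I : Type u} {N E : I → Subgroup G}
    {R₀ : Subgroup G} {Om : I → Type u} [∀ i, Fintype (Om i)] [∀ i, DecidableEq (Om i)] {phi : ∀ i, Finset (Om i) → G}
    (F : Full (S : Subgroup G) M V N E R₀ Om phi)
include F

/-- some `s ∈ S ⊓ E b` is a transposition -/
theorem exists_tr (b : I) : ∃ s ∈ (S : Subgroup G) ⊓ E b, ∃ x y : Om b, x ≠ y ∧ Rel (phi b) s (Equiv.swap x y) := by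
  have L := F.lett b
  have h3 := F.three b
  obtain ⟨x, y, hxy⟩ := Fintype.one_lt_card_iff.1 (show 1 < Fintype.card (Om b) by omega)
  obtain ⟨g, hg, hr⟩ := L.all (Equiv.swap x y)
  obtain ⟨k, m, hm, hk⟩ := Nat.exists_eq_two_pow_mul_odd (orderOf_pos g).ne'
  have hsq : Equiv.swap x y ^ m = Equiv.swap x y := by
    obtain ⟨j, rfl⟩ := hm
    rw [pow_add, pow_mul, pow_two, Equiv.swap_mul_self, one_pow, one_mul, pow_one]
  have hr2 := hr.pow m
  rw [hsq] at hr2
  have h1 : (g ^ m) ^ 2 ^ k = 1 := by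
    rw [← pow_mul, mul_comm, ← hk, pow_orderOf_eq_one]
  have hp : IsPGroup 2 (zpowers (g ^ m)) := by
    rintro ⟨w, i, rfl⟩
    refine ⟨k, Subtype.ext ?_⟩
    change ((g ^ m) ^ i) ^ 2 ^ k = 1
    rw [← zpow_natCast, zpow_comm, zpow_natCast, h1, one_zpow]
  have hle : zpowers (g ^ m) ≤ E b := by
    rw [zpowers_le]
    exact pow_mem hg m
  obtain ⟨T, hT, hT2⟩ := exists_syl hp hle
  obtain ⟨e, he, hcj⟩ := syl_conj hT (F.toDec.syl_E b)
  obtain ⟨σ, hσ⟩ := L.act e he
  refine ⟨e * g ^ m * e⁻¹, ?_, σ x, σ y, fun h => hxy (σ.injective h), ?_⟩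
  · rw [← hcj]
    exact ⟨g ^ m, hT2 (mem_zpowers _), rfl⟩
  · rw [Equiv.swap_apply_apply]
    exact (hσ.mul hr2).mul hσ.inv

/-- every `t ∈ S ⊓ E b` acts as `1` or as the transposition -/
theorem two_or {b : I} (hc : Fintype.card (Om b) = 3) {s : G} (hs : s ∈ (S : Subgroup G) ⊓ E b) {x y : Om b}
    (hxy : x ≠ y) (hr : Rel (phi b) s (Equiv.swap x y)) {t : G} (ht : t ∈ (S : Subgroup G) ⊓ E b) :
    Rel (phi b) t 1 ∨ Rel (phi b) t (Equiv.swap x y) := by
  have L := F.lett b
  obtain ⟨σ, hσ⟩ := L.act t ht.2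
  obtain ⟨n, hn⟩ := S.2 ⟨t, ht.1⟩
  obtain ⟨m, hm⟩ := S.2 ⟨t * s, mul_mem ht.1 hs.1⟩
  have hn' : t ^ 2 ^ n = 1 := by simpa using congrArg Subtype.val hn
  have hm' : (t * s) ^ 2 ^ m = 1 := by simpa using congrArg Subtype.val hm
  have h1 := hσ.pow (2 ^ n)
  have h2 := (hσ.mul hr).pow (2 ^ m)
  rw [hn'] at h1
  rw [hm'] at h2
  rcases perm_cases hc hxy (L.unique (by omega) h1 Rel.one) (L.unique (by omega) h2 Rel.one) with h | h
  · left; rwa [h] at hσ
  · right; rwa [h] at hσ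

variable (Q : Nrm M V)

/-- elements of `E b` with the same permutation induce the same on `V` -/
theorem ph_eq_of_rel {b : I} {x y : M} (hx : (x : G) ∈ E b) (hy : (y : G) ∈ E b) {σ : Equiv.Perm (Om b)}
    (h1 : Rel (phi b) x σ) (h2 : Rel (phi b) y σ) : ph Q x = ph Q y := by
  have L := F.lett b
  rw [ph_eq]
  intro m
  obtain ⟨n, hn⟩ := F.toDec.ex_comp b (Q.val_mem m)
  refine Nrm.ext ?_
  rw [Nrm.val_smul, Nrm.val_smul]
  obtain ⟨s, hs, e1⟩ := (L.mem n).1 hn.1
  have e2 : Q.val m = n * (n⁻¹ * Q.val m) := by group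
  have key : ∀ z : G, z ∈ E b → Rel (phi b) z σ →
      z * Q.val m * z⁻¹ = phi b (s.map σ.toEmbedding) * (n⁻¹ * Q.val m) := by
    intro z hz hr
    have h3 : z * (n⁻¹ * Q.val m) * z⁻¹ = n⁻¹ * Q.val m := cent (E_Co F.toDec b hz) hn.2
    calc z * Q.val m * z⁻¹ = (z * n * z⁻¹) * (z * (n⁻¹ * Q.val m) * z⁻¹) := by group
      _ = _ := by rw [h3, ← e1, hr s hs]
  rw [key x hx h1, key y hy h2]

/-- the elements of `N b` -/
theorem mem_N {b : I} {x y z : Om b} (hxy : x ≠ y) (hzx : z ≠ x) (hzy : z ≠ y)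
    (hall : ∀ w, w = x ∨ w = y ∨ w = z) {n : G} (hn : n ∈ N b) :
    n = 1 ∨ n = phi b {x, y} ∨ n = phi b {x, z} ∨ n = phi b {x, y} * phi b {x, z} := by
  have L := F.lett b
  obtain ⟨s, hs, rfl⟩ := (L.mem n).1 hn
  have hyz : phi b {y, z} = phi b {x, y} * phi b {x, z} := by
    rw [← L.mul]
    congr 1
    ext w
    rcases hall w with rfl | rfl | rfl <;> simp [Finset.mem_symmDiff, hxy, hzx, hzy, hxy.symm, hzx.symm, hzy.symm]
  have hsub : s ⊆ {x, y, z} := fun w _ => by
    rcases hall w with rfl | rfl | rfl <;> simp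
  have hcard : s.card ≤ 3 := (Finset.card_le_card hsub).trans Finset.card_le_three
  have hs2 : s.card = 0 ∨ s.card = 2 := by
    obtain ⟨j, hj⟩ := hs
    omega
  rcases hs2 with h | h
  · left
    rw [Finset.card_eq_zero.1 h, L.phi_empty]
  · obtain ⟨a, c, hac, rfl⟩ := Finset.card_eq_two.1 h
    right
    rcases hall a with rfl | rfl | rfl <;> rcases hall c with rfl | rfl | rfl
    · exact absurd rfl hac
    · left; rfl
    · right; left; rfl
    · left; rw [Finset.pair_comm]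
    · exact absurd rfl hac
    · right; right; exact hyz
    · right; left; rw [Finset.pair_comm]
    · right; right; rw [Finset.pair_comm]; exact hyz
    · exact absurd rfl hac

/-- **The natural block.** -/
theorem bk {b : I} (hc : Fintype.card (Om b) = 3) :
    ∃ (e f : ZMod 2 →+ Q.Mod) (up lo : ZMod 2 → XH Q), Bk e f (Q.ad (Co N R₀ b)) up lo ∧
      rt up = im Q ((S : Subgroup G) ⊓ E b) ∧ e.range ⊔ f.range = Q.ad (N b) ∧
      closure (Set.range up ∪ Set.range lo) = im Q (E b) := by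
  have L := F.lett b
  obtain ⟨s, hs, x, y, hxy, hr⟩ := exists_tr F b
  obtain ⟨z, hzx, hzy, hall⟩ := exists_third hc hxy
  obtain ⟨g, hg, hr'⟩ := L.all (Equiv.swap x z)
  have hsM : s ∈ M := F.EL b hs.2
  have hgM : g ∈ M := F.EL b hg
  have hN1 : phi b {x, y} ∈ N b := (L.mem _).2 ⟨_, by rw [Finset.card_pair hxy]; exact even_two, rfl⟩
  have hN2 : phi b {x, z} ∈ N b := (L.mem _).2 ⟨_, by rw [Finset.card_pair hzx.symm]; exact even_two, rfl⟩
  have hNV := F.toDec.NU b
  set m1 : Q.Mod := Q.of (phi b {x, y}) (hNV hN1) with hm1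
  set m2 : Q.Mod := Q.of (phi b {x, z}) (hNV hN2) with hm2
  have hd1 : m1 + m1 = 0 := Nrm.ext (L.phi_sq _)
  have hd2 : m2 + m2 = 0 := Nrm.ext (L.phi_sq _)
  have hyz : phi b {y, z} = phi b {x, y} * phi b {x, z} := by
    rw [← L.mul]
    congr 1
    ext w
    rcases hall w with rfl | rfl | rfl <;> simp [Finset.mem_symmDiff, hxy, hzx, hzy, hxy.symm, hzx.symm, hzy.symm]
  -- actions
  have a1 : ph Q ⟨s, hsM⟩ • m1 = m1 := by
    rw [ph_smul]
    refine Nrm.ext ?_
    change s * phi b {x, y} * s⁻¹ = phi b {x, y}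
    rw [L.pair hr hxy, Equiv.swap_apply_left, Equiv.swap_apply_right, Finset.pair_comm]
  have a2 : ph Q ⟨s, hsM⟩ • m2 = m2 + m1 := by
    rw [ph_smul]
    refine Nrm.ext ?_
    change s * phi b {x, z} * s⁻¹ = phi b {x, z} * phi b {x, y}
    rw [L.pair hr hzx.symm, Equiv.swap_apply_left, Equiv.swap_apply_of_ne_of_ne hzx hzy, hyz]
    exact F.toDec.ucomm (hNV hN1) (hNV hN2)
  have b1 : ph Q ⟨g, hgM⟩ • m1 = m1 + m2 := by
    rw [ph_smul]
    refine Nrm.ext ?_
    change g * phi b {x, y} * g⁻¹ = phi b {x, y} * phi b {x, z}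
    rw [L.pair hr' hxy, Equiv.swap_apply_left, Equiv.swap_apply_of_ne_of_ne hxy.symm hzy.symm, Finset.pair_comm, hyz]
  have b2 : ph Q ⟨g, hgM⟩ • m2 = m2 := by
    rw [ph_smul]
    refine Nrm.ext ?_
    change g * phi b {x, z} * g⁻¹ = phi b {x, z}
    rw [L.pair hr' hzx.symm, Equiv.swap_apply_left, Equiv.swap_apply_right, Finset.pair_comm]
  have hC : ∀ (k : M), (k : G) ∈ E b → ∀ c ∈ Q.ad (Co N R₀ b), ph Q k • c = c := by
    intro k hk c hc
    rw [ph_smul]
    exact Nrm.ext (cent (E_Co F.toDec b hk) hc)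
  refine ⟨hom2 m1 hd1, hom2 m2 hd2, fun t => if t = 0 then 1 else ph Q ⟨s, hsM⟩,
    fun t => if t = 0 then 1 else ph Q ⟨g, hgM⟩, ?_, ?_, ?_, ?_⟩
  · have hdec : ∀ n, n ∈ N b → ∃ t t' : ZMod 2, Q.val (hom2 m1 hd1 t + hom2 m2 hd2 t') = n := by
      intro n hn
      rcases mem_N F hxy hzx hzy hall hn with h | h | h | h
      · exact ⟨0, 0, by rw [hom2_zero, hom2_zero, add_zero, h]; rfl⟩
      · exact ⟨1, 0, by rw [hom2_one, hom2_zero, add_zero, h]; rfl⟩
      · exact ⟨0, 1, by rw [hom2_zero, hom2_one, zero_add, h]; rfl⟩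
      · exact ⟨1, 1, by rw [hom2_one, hom2_one, h]; rfl⟩
    exact
    { dec := by
        intro v
        obtain ⟨n, hn⟩ := F.toDec.ex_comp b (Q.val_mem v)
        obtain ⟨t, t', h1⟩ := hdec n hn.1
        refine ⟨t, t', Q.of (n⁻¹ * Q.val v) (F.toDec.CoU b hn.2), hn.2, Nrm.ext ?_⟩
        rw [Nrm.val_add, h1, Nrm.val_of]
        group
      ind := by
        intro t t' h
        have hN : Q.val (hom2 m1 hd1 t + hom2 m2 hd2 t') ∈ N b := by
          rw [Nrm.val_add]
          refine mul_mem ?_ ?_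
          · rcases zmod_cases t with rfl | rfl
            · rw [hom2_zero]; exact one_mem _
            · rw [hom2_one]; exact hN1
          · rcases zmod_cases t' with rfl | rfl
            · rw [hom2_zero]; exact one_mem _
            · rw [hom2_one]; exact hN2
        have h1 : Q.val (hom2 m1 hd1 t + hom2 m2 hd2 t') ∈ N b ⊓ Co N R₀ b := ⟨hN, h⟩
        rw [show N b ⊓ Co N R₀ b = ⊥ from F.toDec.ind b, mem_bot] at h1
        rcases zmod_cases t with rfl | rfl <;> rcases zmod_cases t' with rfl | rfl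
        · exact ⟨rfl, rfl⟩
        · exfalso
          rw [hom2_zero, hom2_one, zero_add] at h1
          have h2 := L.inj {x, z} (by rw [Finset.card_pair hzx.symm]; exact even_two) h1
          exact Finset.insert_ne_empty _ _ h2
        · exfalso
          rw [hom2_zero, hom2_one, add_zero] at h1
          have h2 := L.inj {x, y} (by rw [Finset.card_pair hxy]; exact even_two) h1
          exact Finset.insert_ne_empty _ _ h2
        · exfalso
          rw [hom2_one, hom2_one] at h1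
          have h3 : phi b {y, z} = 1 := by rw [hyz]; exact h1
          have h2 := L.inj {y, z} (by rw [Finset.card_pair hzy.symm]; exact even_two) h3
          exact Finset.insert_ne_empty _ _ h2
      up_e := by
        intro t w
        rcases zmod_cases t with rfl | rfl
        · rw [if_pos rfl, one_smul]
        · rw [if_neg one_ne_zero]
          rcases zmod_cases w with rfl | rfl
          · rw [hom2_zero, smul_zero]
          · rw [hom2_one, a1]
      up_f := by
        intro t w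
        rcases zmod_cases t with rfl | rfl
        · rw [if_pos rfl, one_smul, zero_mul, hom2_zero m1, add_zero]
        · rw [if_neg one_ne_zero, one_mul]
          rcases zmod_cases w with rfl | rfl
          · rw [hom2_zero, hom2_zero, smul_zero, add_zero]
          · rw [hom2_one, hom2_one, a2]
      up_c := by
        intro t c hc'
        rcases zmod_cases t with rfl | rfl
        · rw [if_pos rfl, one_smul]
        · rw [if_neg one_ne_zero]
          exact hC _ hs.2 c hc'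
      lo_e := by
        intro t w
        rcases zmod_cases t with rfl | rfl
        · rw [if_pos rfl, one_smul, zero_mul, hom2_zero m2, add_zero]
        · rw [if_neg one_ne_zero, one_mul]
          rcases zmod_cases w with rfl | rfl
          · rw [hom2_zero, hom2_zero, smul_zero, add_zero]
          · rw [hom2_one, hom2_one, b1]
      lo_f := by
        intro t w
        rcases zmod_cases t with rfl | rfl
        · rw [if_pos rfl, one_smul]
        · rw [if_neg one_ne_zero]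
          rcases zmod_cases w with rfl | rfl
          · rw [hom2_zero, smul_zero]
          · rw [hom2_one, b2]
      lo_c := by
        intro t c hc'
        rcases zmod_cases t with rfl | rfl
        · rw [if_pos rfl, one_smul]
        · rw [if_neg one_ne_zero]
          exact hC _ hg c hc' }
  · apply le_antisymm
    · rw [rt, closure_le]
      rintro _ ⟨t, rfl⟩
      dsimp only
      split_ifs
      · exact one_mem _
      · exact mem_im.2 ⟨⟨s, hsM⟩, hs, rfl⟩
    · intro w hw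
      obtain ⟨t, ht, rfl⟩ := mem_im.1 hw
      rcases two_or F hc hs hxy hr ht with h | h
      · have h1 : ph Q t = 1 := by
          rw [← map_one (ph Q)]
          exact ph_eq_of_rel F Q ht.2 (one_mem _) h Rel.one
        rw [h1]
        exact one_mem _
      · have h1 : ph Q t = ph Q ⟨s, hsM⟩ := ph_eq_of_rel F Q ht.2 hs.2 h hr
        rw [h1]
        exact subset_closure ⟨1, if_neg one_ne_zero⟩
  · apply le_antisymm
    · refine sup_le ?_ ?_
      · rintro _ ⟨t, rfl⟩
        rcases zmod_cases t with rfl | rfl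
        · rw [hom2_zero]; exact zero_mem _
        · rw [hom2_one]; exact hN1
      · rintro _ ⟨t, rfl⟩
        rcases zmod_cases t with rfl | rfl
        · rw [hom2_zero]; exact zero_mem _
        · rw [hom2_one]; exact hN2
    · intro m hm
      have k1 : m1 ∈ (hom2 m1 hd1).range ⊔ (hom2 m2 hd2).range := AddSubgroup.mem_sup_left ⟨1, hom2_one _ _⟩
      have k2 : m2 ∈ (hom2 m1 hd1).range ⊔ (hom2 m2 hd2).range := AddSubgroup.mem_sup_right ⟨1, hom2_one _ _⟩
      rcases mem_N F hxy hzx hzy hall (Nrm.mem_ad.1 hm) with h | h | h | h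
      · have : m = 0 := Nrm.ext h
        rw [this]; exact zero_mem _
      · have : m = m1 := Nrm.ext h
        rw [this]; exact k1
      · have : m = m2 := Nrm.ext h
        rw [this]; exact k2
      · have : m = m1 + m2 := Nrm.ext h
        rw [this]; exact add_mem k1 k2
  · apply le_antisymm
    · rw [closure_le]
      rintro _ (⟨t, rfl⟩ | ⟨t, rfl⟩)
      · dsimp only
        split_ifs
        · exact one_mem _
        · exact mem_im.2 ⟨⟨s, hsM⟩, hs.2, rfl⟩
      · dsimp only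
        split_ifs
        · exact one_mem _
        · exact mem_im.2 ⟨⟨g, hgM⟩, hg, rfl⟩
    · set C := closure (Set.range (fun t : ZMod 2 => if t = 0 then (1 : XH Q) else ph Q ⟨s, hsM⟩) ∪
        Set.range (fun t : ZMod 2 => if t = 0 then (1 : XH Q) else ph Q ⟨g, hgM⟩)) with hCd
      have c1 : ph Q ⟨s, hsM⟩ ∈ C := subset_closure (Or.inl ⟨1, if_neg one_ne_zero⟩)
      have c2 : ph Q ⟨g, hgM⟩ ∈ C := subset_closure (Or.inr ⟨1, if_neg one_ne_zero⟩)
      let K : Subgroup (Equiv.Perm (Om b)) :=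
        { carrier := {σ | ∃ w : M, (w : G) ∈ E b ∧ ph Q w ∈ C ∧ Rel (phi b) w σ}
          mul_mem' := by
            rintro σ τ ⟨w, h1, h2, h3⟩ ⟨w', h1', h2', h3'⟩
            exact ⟨w * w', mul_mem h1 h1', by rw [map_mul]; exact mul_mem h2 h2', h3.mul h3'⟩
          one_mem' := ⟨1, one_mem _, by rw [map_one]; exact one_mem _, Rel.one⟩
          inv_mem' := by
            rintro σ ⟨w, h1, h2, h3⟩
            exact ⟨w⁻¹, inv_mem h1, by rw [map_inv]; exact inv_mem h2, h3.inv⟩ }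
      have hK : K = ⊤ := gen3 hxy.symm hzx hzy hall K ⟨⟨s, hsM⟩, hs.2, c1, hr⟩ ⟨⟨g, hgM⟩, hg, c2, hr'⟩
      intro w hw
      obtain ⟨t, ht, rfl⟩ := mem_im.1 hw
      obtain ⟨σ, hσ⟩ := L.act t ht
      obtain ⟨w, h1, h2, h3⟩ : σ ∈ K := by rw [hK]; exact mem_top σ
      rw [ph_eq_of_rel F Q ht h1 hσ h3]
      exact h2

theorem nb {b : I} (hc : Fintype.card (Om b) = 3) :
    NB (im Q ((S : Subgroup G) ⊓ E b)) (Q.ad (N b)) (Q.ad (Co N R₀ b)) := by
  obtain ⟨e, f, up, lo, h1, h2, h3, -⟩ := bk F Q hc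
  exact ⟨ZMod 2, inferInstance, inferInstance, e, f, up, lo, h1, h2, h3⟩

theorem card_im {b : I} (hc : Fintype.card (Om b) = 3) (hV2 : ∀ v : Q.Mod, v + v = 0) :
    Nat.card (im Q ((S : Subgroup G) ⊓ E b)) = 2 := by
  obtain ⟨e, f, up, lo, h1, h2, h3, -⟩ := bk F Q hc
  rw [← h2, h1.card_rt hV2 (fun x hx => TypesNat.XH_faith Q x hx), Nat.card_zmod]

/-- different blocks have different root groups -/
theorem im_inj {b c : I} (h : im Q ((S : Subgroup G) ⊓ E b) = im Q ((S : Subgroup G) ⊓ E c)) : b = c := by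
  by_contra hbc
  have L := F.lett b
  have h3 := F.three b
  obtain ⟨s, hs, x, y, hxy, hr⟩ := exists_tr F b
  have hsM : s ∈ M := F.EL b hs.2
  have h1 : ph Q ⟨s, hsM⟩ ∈ im Q ((S : Subgroup G) ⊓ E c) := by
    rw [← h]; exact mem_im.2 ⟨⟨s, hsM⟩, hs, rfl⟩
  obtain ⟨t, ht, h2⟩ := mem_im.1 h1
  have h4 : Rel (phi b) s 1 := by
    intro w hw
    have h5 : phi b w ∈ N b := (L.mem _).2 ⟨w, hw, rfl⟩
    have h6 := congrArg Q.val ((ph_eq Q).1 h2 (Q.of (phi b w) (F.toDec.NU b h5)))
    rw [Nrm.val_smul, Nrm.val_smul, Nrm.val_of] at h6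
    have h7 : (t : G) * phi b w * (t : G)⁻¹ = phi b w := cent (F.EC c b (Ne.symm hbc) ht.2) h5
    rw [h7] at h6
    have e : (1 : Equiv.Perm (Om b)).toEmbedding = Function.Embedding.refl (Om b) := by
      ext x
      simp
    rw [e, Finset.map_refl]
    exact h6.symm
  have h5 := L.unique h3 hr h4
  exact hxy (Equiv.swap_eq_one_iff.1 h5)

/-- the root groups -/
def FF (S : Sylow 2 G) (E : I → Subgroup G) (Q : Nrm M V) : Set (Subgroup (XH Q)) :=
  Set.range fun b => im Q ((S : Subgroup G) ⊓ E b)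

open Classical in
/-- the block of a root group -/
noncomputable def NF (S : Sylow 2 G) (E : I → Subgroup G) (Q : Nrm M V) (B : I → Subgroup G) (D : Subgroup (XH Q)) :
    AddSubgroup Q.Mod := if h : ∃ b, im Q ((S : Subgroup G) ⊓ E b) = D then Q.ad (B h.choose) else ⊥

theorem NF_im (B : I → Subgroup G) (b : I) : NF S E Q B (im Q ((S : Subgroup G) ⊓ E b)) = Q.ad (B b) := by
  have h : ∃ c, im Q ((S : Subgroup G) ⊓ E c) = im Q ((S : Subgroup G) ⊓ E b) := ⟨b, rfl⟩
  rw [NF, dif_pos h, im_inj F Q h.choose_spec]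

/-- **The `𝔽₂`-blocks with three letters are a family of natural blocks.** -/
theorem fam (hc : ∀ b, Fintype.card (Om b) = 3) (hV2 : ∀ v : Q.Mod, v + v = 0) :
    Fam (im Q (S : Subgroup G)) (FF S E Q) (NF S E Q N) (NF S E Q (Co N R₀)) where
  le := by
    rintro _ ⟨b, rfl⟩
    exact im_mono inf_le_left
  nb := by
    rintro _ ⟨b, rfl⟩
    dsimp only
    rw [NF_im F Q, NF_im F Q]
    exact nb F Q (hc b)
  ind := by
    rintro _ ⟨b, rfl⟩ _ ⟨c, rfl⟩ hne
    dsimp only
    rw [NF_im F Q, NF_im F Q]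
    refine Nrm.ad_mono (F.toDec.N_le_Co ?_)
    rintro rfl
    exact hne rfl
  perm := by
    rintro g _ ⟨b, rfl⟩
    obtain ⟨x, rfl⟩ := ph_surj Q g
    obtain ⟨c, h1, h2⟩ := F.perm x x.2 b
    refine ⟨_, ⟨c, rfl⟩, ?_, fun m => ?_⟩
    · dsimp only
      rw [card_im F Q (hc b) hV2, card_im F Q (hc c) hV2]
    · dsimp only
      rw [NF_im F Q, NF_im F Q, Nrm.mem_ad, Nrm.mem_ad, ph_smul, Nrm.val_smul]
      exact conj_smul h1
  sinv := by
    rintro w hw _ ⟨b, rfl⟩
    obtain ⟨s, hs, rfl⟩ := mem_im.1 hw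
    obtain ⟨c, h1, h2⟩ := F.perm s s.2 b
    refine ⟨c, ?_⟩
    dsimp only
    rw [← im_conj, Subgroup.smul_inf, h2, smul_of_norm (le_normalizer hs)]

end Cfsg.Agent.Omega.NOThreeL.RRed.Blk.AsmTwo
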