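import Cfsg.Agent.Omega.NOThreeL.RRed.Blk.Asm
import Cfsg.Agent.Omega.NOThreeL.RRed.Blk.AsmCore
import Cfsg.Agent.Omega.NOThreeL.RRed.Blk.AsmOf

/-!
# NO-3L, box R: subgroups of `U` and additive subgroups of `Q.Mod`

`Q : Nrm H U`, `un Q : AddSubgroup Q.Mod → Subgroup G`, `Q.ad : Subgroup G → AddSubgroup Q.Mod`.

* `im_rfl` : the two definitions of `im` agree;
* `un_le`, `un_ad`, `ad_un`, `un_mono`, `un_le_iff`, `un_inj`, `un_bot`, `un_top`, `un_inf`, `un_sup`, `un_iSup`,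
  `un_iSup₂`, `card_un`, `un_map`, `un_fxd`, `un_brk`;
* `brk_iSup`, `fxd_iSup` : `[V, ⨆ A_i] = ⨆ [V, A_i]`, `C_V(⨆ A_i) = ⨅ C_V(A_i)`;
* `inv_iff`, `norm_iff` : invariance under `XH Q` is invariance under `H`;
* **`sup_eq`** : `Asm.Fam.sup_eq` in `G`.
-/

set_option autoImplicit false

namespace Cfsg.Agent.Omega.NOThreeL.RRed.Blk.AsmUn

open Subgroup Cfsg
open Cfsg.Agent.Omega.NOThreeL.RSplit (Nrm)
open Cfsg.Agent.Omega.NO3S.ThmB Cfsg.Agent.Omega.NO3S.KeyRad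
open Cfsg.Agent.Omega.NOThreeL.RRed.NS (fxd brk mem_fxd un val_mem_un covs smul_eq_iff)
open Cfsg.Agent.Omega.NOThreeL.RRed.Blk.TypesNat (XH ph ph_smul ph_surj ph_eq XH_faith)
open Cfsg.Agent.Omega.NOThreeL.RRed.Blk.Asm
open scoped Pointwise

universe u v w

section brk

variable {X : Type u} {V : Type v} [Group X] [AddCommGroup V] [DistribMulAction X V]

theorem brk_le_iff {A : Subgroup X} {W : AddSubgroup V} : brk V A ≤ W ↔ ∀ a ∈ A, ∀ v : V, a • v - v ∈ W := by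
  rw [brk, AddSubgroup.closure_le]
  constructor
  · exact fun h a ha v => h ⟨a, ha, v, rfl⟩
  · rintro h _ ⟨a, ha, v, rfl⟩
    exact h a ha v

theorem mem_brk {A : Subgroup X} {a : X} (ha : a ∈ A) (v : V) : a • v - v ∈ brk V A := brk_le_iff.1 le_rfl a ha v

theorem brk_mono {A B : Subgroup X} (h : A ≤ B) : brk V A ≤ brk V B := brk_le_iff.2 fun _ ha v => mem_brk (h ha) v

/-- `[V, ⨆ A_i] = ⨆ [V, A_i]` -/
theorem brk_iSup {ι : Sort w} (A : ι → Subgroup X) : brk V (⨆ i, A i) = ⨆ i, brk V (A i) := by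
  refine le_antisymm (brk_le_iff.2 fun a ha => ?_) (iSup_le fun i => brk_mono (le_iSup A i))
  induction ha using Subgroup.iSup_induction' with
  | hp i a ha => exact fun v => le_iSup (fun i => brk V (A i)) i (mem_brk ha v)
  | h1 => intro v; rw [one_smul, sub_self]; exact zero_mem _
  | hmul a b _ _ iha ihb =>
    intro v
    have e : (a * b) • v - v = (a • b • v - b • v) + (b • v - v) := by rw [mul_smul]; abel
    rw [e]
    exact add_mem (iha _) (ihb v)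

theorem brk_sup (A B : Subgroup X) : brk V (A ⊔ B) = brk V A ⊔ brk V B := by
  have h := brk_iSup (V := V) fun b : Bool => cond b A B
  rwa [iSup_bool_eq, iSup_bool_eq] at h

theorem brk_iSup₂ {ι : Type w} (FF : Set ι) (A : ι → Subgroup X) :
    brk V (⨆ D ∈ FF, A D) = ⨆ D ∈ FF, brk V (A D) := by
  rw [brk_iSup]
  exact iSup_congr fun i => brk_iSup _

/-- `C_V(⨆ A_i) = ⨅ C_V(A_i)` -/
theorem fxd_iSup {ι : Sort w} (A : ι → Subgroup X) : (fxd (⨆ i, A i) : AddSubgroup V) = ⨅ i, fxd (A i) := by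
  ext m
  rw [AddSubgroup.mem_iInf]
  constructor
  · exact fun h i a ha => h a (le_iSup A i ha)
  · intro h a ha
    induction ha using Subgroup.iSup_induction' with
    | hp i a ha => exact h i a ha
    | h1 => exact one_smul _ _
    | hmul a b _ _ iha ihb => rw [mul_smul, ihb, iha]

theorem fxd_sup (A B : Subgroup X) : (fxd (A ⊔ B) : AddSubgroup V) = fxd A ⊓ fxd B := by
  have h := fxd_iSup (V := V) fun b : Bool => cond b A B
  rwa [iSup_bool_eq, iInf_bool_eq] at h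

theorem fxd_anti {A B : Subgroup X} (h : A ≤ B) : (fxd B : AddSubgroup V) ≤ fxd A := fun _ hm a ha => hm a (h ha)

end brk

section un

variable {G : Type u} [Group G] {H U : Subgroup G} (Q : Nrm H U)

theorem im_rfl (A : Subgroup G) : TypesNat.im Q A = AsmCore.im Q A := rfl

theorem un_le (B : AddSubgroup Q.Mod) : un Q B ≤ U := by
  rintro _ ⟨m, -, rfl⟩
  exact Q.val_mem m

theorem un_ad {B : Subgroup G} (hB : B ≤ U) : un Q (Q.ad B) = B := by
  ext x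
  constructor
  · rintro ⟨m, hm, rfl⟩
    exact hm
  · exact fun hx => ⟨Q.of x (hB hx), hx, rfl⟩

theorem un_ad' (B : Subgroup G) : un Q (Q.ad B) = U ⊓ B := by
  ext x
  constructor
  · rintro ⟨m, hm, rfl⟩
    exact ⟨Q.val_mem m, hm⟩
  · exact fun hx => ⟨Q.of x hx.1, hx.2, rfl⟩

theorem ad_un (B : AddSubgroup Q.Mod) : Q.ad (un Q B) = B := by
  ext m
  exact val_mem_un Q

variable {Q}

theorem un_le_iff {B C : AddSubgroup Q.Mod} : un Q B ≤ un Q C ↔ B ≤ C :=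
  ⟨fun h m hm => (val_mem_un Q).1 (h ((val_mem_un Q).2 hm)), fun h => by
    rintro _ ⟨m, hm, rfl⟩
    exact ⟨m, h hm, rfl⟩⟩

theorem un_mono {B C : AddSubgroup Q.Mod} (h : B ≤ C) : un Q B ≤ un Q C := un_le_iff.2 h

theorem un_inj {B C : AddSubgroup Q.Mod} : un Q B = un Q C ↔ B = C :=
  ⟨fun h => le_antisymm (un_le_iff.1 h.le) (un_le_iff.1 h.ge), fun h => h ▸ rfl⟩

/-- the adjunction -/
theorem un_le_sub {B : AddSubgroup Q.Mod} {C : Subgroup G} : un Q B ≤ C ↔ B ≤ Q.ad C := by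
  constructor
  · exact fun h m hm => h ((val_mem_un Q).2 hm)
  · rintro h _ ⟨m, hm, rfl⟩
    exact h hm

theorem le_un {B : AddSubgroup Q.Mod} {C : Subgroup G} (hC : C ≤ U) : C ≤ un Q B ↔ Q.ad C ≤ B := by
  rw [← un_le_iff, un_ad Q hC]

variable (Q)

theorem un_bot : un Q (⊥ : AddSubgroup Q.Mod) = ⊥ := by
  rw [eq_bot_iff, un_le_sub]
  exact bot_le

theorem un_eq_bot {B : AddSubgroup Q.Mod} : un Q B = ⊥ ↔ B = ⊥ := by rw [← un_bot Q, un_inj]

theorem un_top : un Q (⊤ : AddSubgroup Q.Mod) = U :=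
  le_antisymm (un_le Q _) fun x hx => ⟨Q.of x hx, AddSubgroup.mem_top _, rfl⟩

theorem un_inf (B C : AddSubgroup Q.Mod) : un Q (B ⊓ C) = un Q B ⊓ un Q C := by
  refine le_antisymm (le_inf (un_mono inf_le_left) (un_mono inf_le_right)) ?_
  rintro _ ⟨⟨m, hm, rfl⟩, h⟩
  exact (val_mem_un Q).2 ⟨hm, (val_mem_un Q).1 h⟩

theorem un_iSup {ι : Sort w} (B : ι → AddSubgroup Q.Mod) : un Q (⨆ i, B i) = ⨆ i, un Q (B i) := by
  refine le_antisymm ?_ (iSup_le fun i => un_mono (le_iSup B i))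
  rw [un_le_sub]
  exact iSup_le fun i => un_le_sub.1 (le_iSup (fun i => un Q (B i)) i)

theorem un_iSup₂ {ι : Type w} (FF : Set ι) (B : ι → AddSubgroup Q.Mod) :
    un Q (⨆ D ∈ FF, B D) = ⨆ D ∈ FF, un Q (B D) := by
  rw [un_iSup]
  exact iSup_congr fun i => un_iSup Q _

theorem un_sup (B C : AddSubgroup Q.Mod) : un Q (B ⊔ C) = un Q B ⊔ un Q C := by
  refine le_antisymm ?_ (sup_le (un_mono le_sup_left) (un_mono le_sup_right))
  rw [un_le_sub]
  exact sup_le (un_le_sub.1 le_sup_left) (un_le_sub.1 le_sup_right)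

theorem card_un (B : AddSubgroup Q.Mod) : Nat.card (un Q B) = Nat.card B := by
  rw [← Nrm.card_ad (A := Q) (un_le Q B), ad_un]

/-- `un (g N) = g un(N) g⁻¹` -/
theorem un_smul (g : H) (B : AddSubgroup Q.Mod) : un Q (g • B) = MulAut.conj (g : G) • un Q B := by
  have h1 : MulAut.conj (g : G) • un Q B ≤ U := by
    rintro _ ⟨_, ⟨m, -, rfl⟩, rfl⟩
    exact Q.nrm' g.2 (Q.val_mem m)
  rw [← un_ad Q h1, ← Nrm.smul_ad, ad_un]

theorem un_map (g : H) (B : AddSubgroup Q.Mod) :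
    un Q (B.map (DistribSMul.toAddMonoidHom Q.Mod (ph Q g))) = MulAut.conj (g : G) • un Q B := by
  rw [← un_smul]
  rfl

theorem un_fxd {A : Subgroup G} (hA : A ≤ H) :
    un Q (fxd (AsmCore.im Q A) : AddSubgroup Q.Mod) = U ⊓ centralizer (A : Set G) := by
  rw [← im_rfl, TypesNat.fxd_im Q hA, un_ad']

theorem un_brk {A : Subgroup G} (hA : A ≤ H) :
    un Q (brk Q.Mod (AsmCore.im Q A)) = closure (covs U A) := by
  rw [← im_rfl, TypesNat.brk_im Q hA, un_ad Q]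
  rw [closure_le]
  rintro _ ⟨a, ha, u, hu, rfl⟩
  exact mul_mem (Q.nrm' (hA ha) hu) (inv_mem hu)

/-- invariance under `XH Q` -/
theorem inv_iff (B : AddSubgroup Q.Mod) :
    (∀ (g : XH Q), ∀ m ∈ B, g • m ∈ B) ↔ H ≤ normalizer (un Q B : Set G) := by
  constructor
  · intro h g hg
    have key : ∀ g ∈ H, ∀ x ∈ un Q B, g * x * g⁻¹ ∈ un Q B := by
      rintro g hg _ ⟨m, hm, rfl⟩
      have h1 := h (ph Q ⟨g, hg⟩) m hm
      rw [ph_smul] at h1
      exact ⟨_, h1, rfl⟩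
    rw [mem_normalizer_iff]
    refine fun x => ⟨key g hg x, fun hx => ?_⟩
    have h1 := key g⁻¹ (inv_mem hg) _ hx
    have e : g⁻¹ * (g * x * g⁻¹) * g⁻¹⁻¹ = x := by group
    rwa [e] at h1
  · intro h g m hm
    obtain ⟨y, rfl⟩ := ph_surj Q g
    rw [ph_smul, ← val_mem_un Q, Nrm.val_smul]
    exact (mem_normalizer_iff.1 (h y.2) _).1 ((val_mem_un Q).2 hm)

/-- **`Asm.Fam.sup_eq` in `G`.** -/
theorem sup_eq [Finite G] {S : Subgroup (XH Q)} (h2 : ∀ v : Q.Mod, v + v = 0) {FF : Set (Subgroup (XH Q))}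
    {N C : Subgroup (XH Q) → AddSubgroup Q.Mod} (h : Fam S FF N C) (hne : FF.Nonempty) {W : Subgroup G}
    (WU : W ≤ U) (hW : H ≤ normalizer (W : Set G))
    (irr : ∀ U' ≤ W, H ≤ normalizer (U' : Set G) → U' ≠ ⊥ → W ≤ U')
    (hD : ∀ D ∈ FF, brk Q.Mod D ≤ Q.ad W) : ⨆ D ∈ FF, un Q (N D) = W := by
  rw [← un_iSup₂, ← un_ad Q WU]
  congr 1
  refine Fam.sup_eq h2 h hne ?_ (fun U' hU' hinv hne' => ?_) hD
  · rw [inv_iff, un_ad Q WU]
    exact hW
  · rw [← le_un WU]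
    refine irr _ ?_ ((inv_iff Q U').1 hinv) fun h0 => hne' ((un_eq_bot Q).1 h0)
    rw [un_le_sub]
    exact hU'

end un

end Cfsg.Agent.Omega.NOThreeL.RRed.Blk.AsmUn
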