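import Cfsg.Agent.Omega.NOThreeL.RRed.Blk.AsmMix
import Cfsg.Agent.Omega.NOThreeL.RRed.Blk.AsmTwo
import Cfsg.Agent.Omega.NOThreeL.RRed.Blk.AsmUn
import Cfsg.Agent.Omega.NOThreeL.RRed.Blk.AsmInp
import Cfsg.Agent.Omega.NOThreeL.RRed.ClsBlk

/-!
# NO-3L, box R: the classes of the minimal exact offenders (helper283)

* `irr_of` : `CM` gives `ClsBlk.Irr`; `cls_of` : the classes as submodules of `Q.Mod`, `Cls (XH Q) (Q.ad (W i))`;
* `cl_im` : the class of the image; `cl_EE` : every member of `im Q '' EE S V*` has a class;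
* **`exists_atom`** : for every `i` some active `P` has a minimal exact offender of class `i` which moves `V_P`;
* `transv` : `s ∈ S ⊓ E b` acting as a transposition is a transvection on `V`.
-/

set_option autoImplicit false
set_option linter.unusedSectionVars false

namespace Cfsg.Agent.Omega.NOThreeL.RRed.Blk.AsmCls

open Subgroup Cfsg Cfsg.Agent.ZN Cfsg.Agent.Omega.MinPar
open Cfsg.Agent.Omega.FFThm
open Cfsg.Agent.Omega.NOThreeL.RRed.TvFin (Full TvV)
open Cfsg.Agent.Omega.KL.TwoS (Rel Lett)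
open Cfsg.Agent.Omega.NOThreeL.RSplit (Nrm)
open Cfsg.Agent.Omega.NOThreeL.RRed.NS (fxd brk mem_fxd smul_eq_iff un)
open Cfsg.Agent.Omega.NOThreeL.RRed.Blk.TypesNat (XH ph ph_smul ph_eq ph_surj XH_faith)
open Cfsg.Agent.Omega.NOThreeL.RRed.Blk.Asm
open Cfsg.Agent.Omega.NOThreeL.RRed.Blk.AsmCore (im EP)

open Cfsg.Agent.Omega.NOThreeL.RRed.WideTree (Act MvAct CM)
open Cfsg.Agent.Omega.NOThreeL.RTree (RB)
open Cfsg.Agent.Omega.NOThreeL.Merge (MZ le_MZ isLoc_MZ)
open Cfsg.Agent.MinSimple.VModule (oddGen)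
open scoped Pointwise

universe u v

variable {G : Type u} [Group G]

section gen

variable {M V : Subgroup G} {ι : Type v} {W : ι → Subgroup G} (I : ClsBlk.Irr M V W) (Q : Nrm M V)
include I

/-- the classes as submodules -/
theorem cls_of : Cls (XH Q) (fun i => Q.ad (W i)) where
  inv i := by
    rw [AsmUn.inv_iff, AsmUn.un_ad Q (I.le i)]
    exact I.inv i
  irr i U hU hinv hne := by
    rw [← AsmUn.le_un (I.le i)]
    refine I.irr i _ ?_ ((AsmUn.inv_iff Q U).1 hinv) fun h0 => hne ((AsmUn.un_eq_bot Q).1 h0)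
    rw [AsmUn.un_le_sub]
    exact hU
  sup := by
    rw [← AsmUn.un_inj, AsmUn.un_iSup, AsmUn.un_top]
    simp only [AsmUn.un_ad Q (I.le _)]
    exact I.sup
  dis i j hij := by
    rw [← AsmUn.un_inj, AsmUn.un_inf, AsmUn.un_ad Q (I.le i), AsmUn.un_ad Q (I.le j), AsmUn.un_bot]
    exact I.inf_bot (Ne.symm hij)

omit I in
/-- the class of the image -/
theorem cl_im {A : Subgroup G} {i : ι} (h : ∀ j, j ≠ i → A ≤ centralizer (W j : Set G)) :
    Cl (fun i => Q.ad (W i)) (im Q A) i := by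
  rintro j hj _ ⟨a, ha, rfl⟩ m hm
  rw [ph_smul, smul_eq_iff]
  exact cent (h j hj (mem_subgroupOf.1 ha)) hm

omit I in
/-- conversely -/
theorem of_cl_im {A : Subgroup G} (hA : A ≤ M) (hW : ∀ i, W i ≤ V) {i : ι} (h : Cl (fun i => Q.ad (W i)) (im Q A) i)
    {j : ι} (hj : j ≠ i) : A ≤ centralizer (W j : Set G) := by
  intro a ha
  rw [mem_centralizer_iff]
  intro w hw
  have h1 := h j hj (ph Q ⟨a, hA ha⟩) ⟨⟨a, hA ha⟩, ha, rfl⟩ (Q.of w (hW j hw)) hw
  rw [ph_smul, smul_eq_iff, Nrm.val_of] at h1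
  exact (mul_inv_eq_iff_eq_mul.1 h1).symm

end gen

section box

variable [Finite G] {S : Sylow 2 G} {ι : Type u} {W : ι → Subgroup G}

theorem irr_of (h : CM (S : Subgroup G) W) : ClsBlk.Irr (MZ (S : Subgroup G)) (Wd (S : Subgroup G)) W :=
  ⟨h.ne, h.sup, h.ind, h.inv, h.irr⟩

/-- every minimal exact offender has a class -/
theorem cl_EE (h : CM (S : Subgroup G) W) (Q : Nrm (MZ (S : Subgroup G)) (Wd (S : Subgroup G))) :
    ∀ D ∈ im Q '' AsmCore.EE (S : Subgroup G) (Wd (S : Subgroup G)), ∃ i, Cl (fun i => Q.ad (W i)) D i := by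
  rintro _ ⟨A, hA, rfl⟩
  obtain ⟨i, hi⟩ := h.off A hA.1 hA.2
  exact ⟨i, cl_im Q hi⟩

/-- **every class has an atom which moves `V_P`, `P` active** -/
theorem exists_atom (B : RB S) (mv : MvAct (S : Subgroup G)) (h : CM (S : Subgroup G) W) (i : ι)
    (hz : ∃ z ∈ W i ⊓ zc (S : Subgroup G), z ≠ 1) :
    ∃ P, Act (S : Subgroup G) P ∧ ∃ A ∈ EP (S : Subgroup G) P (Wd (S : Subgroup G)),
      ∀ j, j ≠ i → A ≤ centralizer (W j : Set G) := by
  obtain ⟨z, hzW, hz1⟩ := hz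
  obtain ⟨P, a, hPz⟩ := mv z hzW.2 hz1
  have hP := a.1
  obtain ⟨j, hj1, hj⟩ := h.one P a
  have hSz : (S : Subgroup G) ≤ centralizer ({z} : Set G) := fun s hs => by
    rw [mem_centralizer_singleton_iff]
    exact ((MinSimple.VModule.mem_zc.1 hzW.2).2.1 s hs)
  have hdec : P ≤ oddGen P ⊔ (S : Subgroup G) :=
    (NoFF.LinesPlug.oddGen_sup hP.le (MinSimple.Basic.not_dvd_relIndex S hP.le)).ge
  have hij : j = i := by
    by_contra hne
    apply hPz
    refine hdec.trans (sup_le ?_ hSz)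
    rw [MinSimple.VModule.oddGen_def, closure_le]
    rintro g ⟨hg, ho⟩
    have h1 := hj i (Ne.symm hne) g hg ho
    rw [SetLike.mem_coe, mem_centralizer_singleton_iff]
    exact (mem_centralizer_iff.1 h1 z hzW.1).symm
  subst hij
  obtain ⟨-, A, hA, hM, hn⟩ := a
  have hEP : A ∈ EP (S : Subgroup G) P (Wd (S : Subgroup G)) := by
    refine ⟨⟨hA, hM⟩, fun h1 => hn ?_⟩
    rw [← hP.inf_centralizer S B.ctx.char2]
    exact le_inf hA h1
  refine ⟨P, ⟨hP, A, hA, hM, hn⟩, A, hEP, ?_⟩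
  obtain ⟨k, hk⟩ := h.off A hA hM
  by_cases hkj : k = j
  · rw [hkj] at hk
    exact hk
  exfalso
  have h1 : NoFF.Basic.V A P ≤ centralizer (W j : Set G) := by
    refine NoFF.Basic.V_le fun p hp x hx => ?_
    obtain ⟨y, hy, rfl⟩ := hx
    have h2 : y ∈ centralizer (W j : Set G) := hk j (Ne.symm hkj) hy
    have h3 : p ∈ normalizer (W j : Set G) := h.inv j (le_MZ hP hp)
    change p * y * p⁻¹ ∈ centralizer (W j : Set G)
    rw [mem_centralizer_iff]
    intro w hw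
    have h4 : p⁻¹ * w * p ∈ W j := by
      have := (mem_normalizer_iff.1 (inv_mem h3) w).1 hw
      rwa [inv_inv] at this
    have h5 := mem_centralizer_iff.1 h2 _ h4
    calc w * (p * y * p⁻¹) = p * ((p⁻¹ * w * p) * y) * p⁻¹ := by group
      _ = p * y * p⁻¹ * w := by rw [h5]; group
  apply hPz
  refine hdec.trans (sup_le ?_ hSz)
  refine (odd_le_ncl hP hA hn).trans (h1.trans (centralizer_le ?_))
  exact Set.singleton_subset_iff.2 hzW.1

end box

section tv

variable {S : Subgroup G} {M V : Subgroup G} {I : Type u} {N E : I → Subgroup G}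
    {R₀ : Subgroup G} {Om : I → Type u} [∀ i, Fintype (Om i)] [∀ i, DecidableEq (Om i)] {phi : ∀ i, Finset (Om i) → G}

/-- an element of `E b` which acts as a transposition is a transvection -/
theorem transv (F : Full S M V N E R₀ Om phi) {b : I} {s : G} (hs : s ∈ E b) {x y : Om b} (hxy : x ≠ y)
    (hr : Rel (phi b) s (Equiv.swap x y)) : TvV V (phi b {x, y}) s := by
  obtain ⟨t, ht, hr', hT⟩ := F.swap b x y hxy
  have L := F.lett b
  intro w hw
  have key : s * w * s⁻¹ = t * w * t⁻¹ := by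
    obtain ⟨n, hn⟩ := F.toDec.ex_comp b hw
    obtain ⟨u, hu, e1⟩ := (L.mem n).1 hn.1
    have k : ∀ z : G, z ∈ E b → Rel (phi b) z (Equiv.swap x y) →
        z * w * z⁻¹ = phi b (u.map (Equiv.swap x y).toEmbedding) * (n⁻¹ * w) := by
      intro z hz hr
      have h3 : z * (n⁻¹ * w) * z⁻¹ = n⁻¹ * w := cent (AsmTwoC.E_Co F.toDec b hz) hn.2
      calc z * w * z⁻¹ = (z * n * z⁻¹) * (z * (n⁻¹ * w) * z⁻¹) := by group
        _ = _ := by rw [h3, ← e1, hr u hu]
    rw [k s hs hr, k t ht hr']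
  rw [key]
  exact hT w hw

end tv

end Cfsg.Agent.Omega.NOThreeL.RRed.Blk.AsmCls
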