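import Cfsg.Agent.Omega.NOThreeL.RRed.Blk.AsmCls
import Cfsg.Agent.Omega.NOThreeL.RRed.Blk.SrcBox

/-!
# NO-3L, box R: every class is natural or a class of letters (helper283)

* `Sml` : the two facts on transvections: a minimal exact offender with `|im| < 4` lies in one block; a transvection of `S`
  generates a minimal exact offender of order 2;
* **`cover`** : a class has a member of `RRs` or a block of letters;
* **`excl`** : not both.
-/

set_option autoImplicit false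
set_option linter.unusedSectionVars false

namespace Cfsg.Agent.Omega.NOThreeL.RRed.Blk.AsmCov

open Subgroup Cfsg Cfsg.Agent.ZN Cfsg.Agent.Omega.MinPar
open Cfsg.Agent.Omega.FFThm
open Cfsg.Agent.Omega.NOThreeL.RRed.TvFin (Full TvV)
open Cfsg.Agent.Omega.KL.TwoS (Rel Lett)
open Cfsg.Agent.Omega.NOThreeL.RSplit (Nrm)
open Cfsg.Agent.Omega.NOThreeL.RRed.NS (fxd brk mem_fxd smul_eq_iff un)
open Cfsg.Agent.Omega.NOThreeL.RRed.Blk.TypesNat (XH ph ph_smul ph_eq ph_surj XH_faith)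
open Cfsg.Agent.Omega.NOThreeL.RRed.Blk.Asm
open Cfsg.Agent.Omega.NOThreeL.RRed.Blk.AsmCore (im EP ph_mem_im)
open Cfsg.Agent.Omega.NOThreeL.RRed.Blk.AsmG (Inp RRs)
open Cfsg.Agent.Omega.NOThreeL.RRed.Blk.AsmCls
open Cfsg.Agent.Omega.NOThreeL.RRed.WideTree (Act MvAct CM)
open Cfsg.Agent.Omega.NOThreeL.RTree (RB)
open Cfsg.Agent.Omega.NOThreeL.Merge (MZ le_MZ isLoc_MZ)
open scoped Pointwise

universe u v

variable {G : Type u} [Group G] [Finite G] {S : Sylow 2 G} {ι : Type u} {W : ι → Subgroup G}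
  {I : Type u} {N E : I → Subgroup G} {R₀ : Subgroup G} {Om : I → Type u} [∀ i, Fintype (Om i)] [∀ i, DecidableEq (Om i)]
  {phi : ∀ i, Finset (Om i) → G}

/-- the facts on transvections -/
structure Sml (S : Subgroup G) {M V : Subgroup G} (Q : Nrm M V) (N E : I → Subgroup G) : Prop where
  blk : ∀ A ∈ AsmCore.EE S V, Nat.card (im Q A) < 4 → ∃ b, ∃ a ∈ A, a ∈ E b ∧ a ∉ centralizer (V : Set G) ∧
    ∀ x ∈ A, ∀ v ∈ V, x * v * x⁻¹ * v⁻¹ ∈ N b
  atom : ∀ s ∈ S, ∀ c ∈ V, TvV V c s → s ∉ centralizer (V : Set G) →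
    zpowers s ∈ AsmCore.EE S V ∧ Nat.card (im Q (zpowers s)) = 2

/-- `W i ⊓ Z ≠ 1` -/
theorem exists_z (B : RB S) (h : CM (S : Subgroup G) W) (i : ι) : ∃ z ∈ W i ⊓ zc (S : Subgroup G), z ≠ 1 := by
  have hL := isLoc_MZ B.ctx B.full B.data.noff
  have hle : W i ≤ Wd (S : Subgroup G) := (irr_of h).le i
  have hWS : W i ≤ (S : Subgroup G) := fun x hx => WS B (hle hx)
  obtain ⟨w, hw, hw1, hfix⟩ := exists_fix_of S.isPGroup' hWS (hL.le.trans (h.inv i)) (h.ne i)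
  exact ⟨w, ⟨hw, zc_of_fix B (hle hw) hfix⟩, hw1⟩

/-- **a class has a member of `RRs` or a block of letters** -/
theorem cover (B : RB S) (mv : MvAct (S : Subgroup G)) (h : CM (S : Subgroup G) W)
    (Q : Nrm (MZ (S : Subgroup G)) (Wd (S : Subgroup G)))
    (F : Full (S : Subgroup G) (MZ (S : Subgroup G)) (Wd (S : Subgroup G)) N E R₀ Om phi)
    (sm : Sml (S : Subgroup G) Q N E) (i : ι) :
    (∃ D : Subgroup (XH Q), D ∈ RRs S (MZ (S : Subgroup G)) Q ∧ Cl (fun i => Q.ad (W i)) D i) ∨ ∃ b, N b ≤ W i := by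
  obtain ⟨P, a, A, hA, hcl⟩ := exists_atom B mv h i (exists_z B h i)
  by_cases h4 : 4 ≤ Nat.card (im Q A)
  · exact Or.inl ⟨im Q A, ⟨h4, P, a.1, le_MZ a.1, A, hA, rfl⟩, cl_im Q hcl⟩
  · right
    obtain ⟨b, x, hxA, hxE, hxV, hb⟩ := sm.blk A hA.1 (by omega)
    obtain ⟨k, hk⟩ := ClsBlk.exists_le (irr_of h) F b
    refine ⟨b, ?_⟩
    by_cases hki : k = i
    · rwa [← hki]
    exfalso
    apply hxV
    have hI := irr_of h
    have key : ∀ j, ∀ w ∈ W j, x * w * x⁻¹ = w := by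
      intro j w hw
      by_cases hj : j = i
      · subst hj
        have h1 : x * w * x⁻¹ * w⁻¹ ∈ W k ⊓ W j := by
          refine mem_inf.2 ⟨hk (hb x hxA w (hI.le j hw)), (W j).mul_mem ?_ ((W j).inv_mem hw)⟩
          exact (mem_normalizer_iff.1 (h.inv j (F.EL b hxE)) w).1 hw
        rw [hI.inf_bot (Ne.symm hki), mem_bot] at h1
        exact mul_inv_eq_one.1 h1
      · exact cent (hcl j hj hxA) hw
    have h2 : Wd (S : Subgroup G) ≤ centralizer ({x} : Set G) := by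
      rw [← h.sup]
      refine iSup_le fun j w hw => ?_
      rw [mem_centralizer_singleton_iff]
      exact (mul_inv_eq_iff_eq_mul.1 (key j w hw)).symm
    rw [mem_centralizer_iff]
    intro v hv
    exact mem_centralizer_singleton_iff.1 (h2 hv)

/-- the class of a block is the class of its transpositions -/
theorem atom_of (h : CM (S : Subgroup G) W) (Q : Nrm (MZ (S : Subgroup G)) (Wd (S : Subgroup G)))
    (F : Full (S : Subgroup G) (MZ (S : Subgroup G)) (Wd (S : Subgroup G)) N E R₀ Om phi)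
    (sm : Sml (S : Subgroup G) Q N E) {b : I} {i : ι} (hb : N b ≤ W i) :
    ∃ s ∈ (S : Subgroup G) ⊓ E b, zpowers s ∈ AsmCore.EE (S : Subgroup G) (Wd (S : Subgroup G)) ∧
      Nat.card (im Q (zpowers s)) = 2 ∧ Cl (fun i => Q.ad (W i)) (im Q (zpowers s)) i := by
  obtain ⟨s, hs, x, y, hxy, hr⟩ := AsmTwo.exists_tr F b
  have L := F.lett b
  have hT := transv F hs.2 hxy hr
  have hc : phi b {x, y} ∈ N b := (L.mem _).2 ⟨_, by rw [Finset.card_pair hxy]; exact even_two, rfl⟩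
  have hne : s ∉ centralizer (Wd (S : Subgroup G) : Set G) := by
    intro hsc
    have h1 : Rel (phi b) s 1 := AsmTwoC.rel_one L ((centralizer_le (F.NU b)) hsc)
    exact hxy (Equiv.swap_eq_one_iff.1 (L.unique (F.three b) hr h1))
  obtain ⟨h1, h2⟩ := sm.atom s hs.1 _ (F.NU b hc) hT hne
  refine ⟨s, hs, h1, h2, cl_im Q fun j hj => ?_⟩
  rw [zpowers_le]
  rw [mem_centralizer_iff]
  intro w hw
  have hI := irr_of h
  have h3 : s * w * s⁻¹ * w⁻¹ ∈ W i ⊓ W j := by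
    refine mem_inf.2 ⟨hb ?_, (W j).mul_mem ((mem_normalizer_iff.1 (h.inv j (F.EL b hs.2)) w).1 hw) ((W j).inv_mem hw)⟩
    rcases hT w (hI.le j hw) with e | e
    · rw [e, mul_inv_cancel]; exact one_mem _
    · rw [e]
      have h4 := F.toDec.ucomm (hI.le j hw) (F.NU b hc)
      rw [h4, mul_inv_cancel_right]
      exact hc
  rw [hI.inf_bot hj, mem_bot] at h3
  exact (mul_inv_eq_iff_eq_mul.1 (mul_inv_eq_one.1 h3)).symm

/-- **a class with a natural block has no block of letters** -/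
theorem excl (h : CM (S : Subgroup G) W) (Q : Nrm (MZ (S : Subgroup G)) (Wd (S : Subgroup G)))
    (F : Full (S : Subgroup G) (MZ (S : Subgroup G)) (Wd (S : Subgroup G)) N E R₀ Om phi)
    (sm : Sml (S : Subgroup G) Q N E) (h2 : ∀ v : Q.Mod, v + v = 0) {FF₁ : Set (Subgroup (XH Q))}
    {N₁ K₁ : Subgroup (XH Q) → AddSubgroup Q.Mod} (h₁ : Fam (im Q (S : Subgroup G)) FF₁ N₁ K₁)
    (hGB : ∀ D ∈ FF₁, GB (im Q '' AsmCore.EE (S : Subgroup G) (Wd (S : Subgroup G))) D (N₁ D) (K₁ D))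
    (hsub : FF₁ ⊆ im Q '' AsmCore.EE (S : Subgroup G) (Wd (S : Subgroup G)))
    (h4 : ∀ D ∈ FF₁, 4 ≤ Nat.card D) {D : Subgroup (XH Q)} (hD : D ∈ FF₁) {i : ι}
    (hi : Cl (fun i => Q.ad (W i)) D i) {b : I} (hb : N b ≤ W i) : False := by
  obtain ⟨s, -, h5, h6, h7⟩ := atom_of h Q F sm hb
  have hC := cls_of (irr_of h) Q
  refine hC.disj h2 (fun x hx => XH_faith Q x hx) h₁ hGB h4 (fun D hD => cl_EE h Q D (hsub hD)) (D' := im Q (zpowers s))
    ⟨_, h5, rfl⟩ (by omega) ?_ hD hi h7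
  intro h0
  rw [h0, card_bot] at h6
  omega

end Cfsg.Agent.Omega.NOThreeL.RRed.Blk.AsmCov
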