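import Cfsg.Agent.Omega.NOThreeL.RRed.Blk.TypesAbs
import Cfsg.Agent.Omega.NOThreeL.RRed.Blk.TypesEq

/-!
# NO-3L, box R: assembly of the natural blocks, definitions (module level)

`X` acts faithfully on the elementary abelian 2-group `V` (written additively).

* `NB D N C` : `D ≤ X` is the root group of a natural `SL₂(F)`-block `N`, `V = N ⊕ C`, `|F| = |D|`;
* `Fam S FF N C` : a family of natural blocks, indexed by their root groups `D ∈ FF`, `D ≤ S`, permuted by `X`;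
* `Ac S EE P K EP` : `P` is active: `P ≤ K S`, `K` is generated by the `K`-conjugates of the members of `EP ⊆ EE`, all
  other members of `EE` centralise `[V, K]`, `C_[V,K](K) = 0`, and the members of `EP` have order at most 3 or they are
  root groups of natural blocks in `[V, K]` which `K` normalises.
-/

set_option autoImplicit false
set_option linter.unusedSectionVars false

namespace Cfsg.Agent.Omega.NOThreeL.RRed.Blk.Asm

open Cfsg.Agent.Omega.NOThreeL.RRed.NS (fxd brk mem_fxd)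
open Cfsg.Agent.Omega.NOThreeL.RRed.Blk.TypesGam
open scoped Pointwise

universe u v

variable {X : Type u} {V : Type v} [Group X] [AddCommGroup V] [DistribMulAction X V]

/-- `D` is the root group of the natural block `N`, `V = N ⊕ C`. -/
structure NB (D : Subgroup X) (N C : AddSubgroup V) : Prop where
  ex : ∃ (F : Type) (_ : Field F) (_ : Finite F) (e f : F →+ V) (up lo : F → X),
    Bk e f C up lo ∧ rt up = D ∧ e.range ⊔ f.range = N

/-- A family of natural blocks, indexed by their root groups. -/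
structure Fam (S : Subgroup X) (FF : Set (Subgroup X)) (N C : Subgroup X → AddSubgroup V) : Prop where
  le : ∀ D ∈ FF, D ≤ S
  nb : ∀ D ∈ FF, NB D (N D) (C D)
  ind : ∀ D ∈ FF, ∀ D' ∈ FF, D' ≠ D → N D' ≤ C D
  perm : ∀ g : X, ∀ D ∈ FF, ∃ D' ∈ FF, Nat.card D' = Nat.card D ∧ ∀ m : V, m ∈ N D ↔ g • m ∈ N D'
  sinv : ∀ s ∈ S, ∀ D ∈ FF, MulAut.conj s • D ∈ FF

/-- `P` is active. -/
structure Ac (S : Subgroup X) (EE : Set (Subgroup X)) (P K : Subgroup X) (EP : Set (Subgroup X)) (V : Type v)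
    [AddCommGroup V] [DistribMulAction X V] : Prop where
  gen : P ≤ K ⊔ S
  EPE : EP ⊆ EE
  EPK : ∀ A ∈ EP, A ≤ K
  spl : ∀ m ∈ brk V K, m ∈ (fxd K : AddSubgroup V) → m = 0
  dich : ∀ A ∈ EE, A ∈ EP ∨ ∀ a ∈ A, ∀ m ∈ brk V K, a • m = m
  genK : K ≤ Subgroup.closure {x | ∃ g ∈ K, ∃ A ∈ EP, ∃ a ∈ A, x = g * a * g⁻¹}
  typ : (∀ A ∈ EP, Nat.card A ≤ 3) ∨ ∀ A ∈ EP, 4 ≤ Nat.card A ∧ ∃ N C : AddSubgroup V, NB A N C ∧ N ≤ brk V K ∧
    (∀ k ∈ K, ∀ m ∈ N, k • m ∈ N) ∧ ∀ A' ∈ EP, A' ≠ A → ∀ a ∈ A', ∀ m ∈ N, a • m = m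

/-- The set of minimal exact subgroups (in `S`). -/
structure Es (S : Subgroup X) (EE : Set (Subgroup X)) (V : Type v) [AddCommGroup V] [DistribMulAction X V] : Prop where
  le : ∀ A ∈ EE, A ≤ S
  el : ∀ A ∈ EE, Types.El A
  exact : ∀ A ∈ EE, Nat.card V ≤ Nat.card A * Nat.card (fxd A : AddSubgroup V)
  quad : ∀ A ∈ EE, brk V A ≤ (fxd A : AddSubgroup V)
  nS : ∀ s ∈ S, ∀ A ∈ EE, MulAut.conj s • A ∈ EE

end Cfsg.Agent.Omega.NOThreeL.RRed.Blk.Asm
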