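import Cfsg.Agent.Omega.NOThreeL.RRed.Blk.Dich
import Cfsg.Agent.Omega.KL.TwoS.Sn

/-!
# Blocks of rank one from the letters (#23943, #24503)

`Lett (N b) (E b) φ` : `E b` acts on `N b = {φ s : s even}` as the symmetric group on an odd number of letters.

* `exists_ctr` : if `T` (Sylow in `E b`) fixes exactly one vector `z ≠ 1` of `N b`, then `z = φ (Ω - p)`, `T` fixes `p`
  and is transitive on the other letters;
* `all_of` : a group which contains `T` and moves `z` induces `Sym(Ω)`;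
* **`one_of`** : `Dec`, the letters and `C_{N b}(S ∩ E b) = {1, z b}` give `One`.
-/

set_option autoImplicit false
set_option linter.unusedSectionVars false

namespace Cfsg.Agent.Omega.NOThreeL.RRed.Blk

open Subgroup Cfsg
open Cfsg.Agent.Omega.KL.TwoS (Rel Lett even_symmDiff)
open Cfsg.Agent.ZN.ChoiceSit (Syl exists_syl syl_conj)
open Cfsg.Agent.ZN.ChoiceBase (cj)
open scoped Pointwise

universe u v w

variable {G : Type u} [Group G]

section letters

variable {Ω : Type w} [Fintype Ω] [DecidableEq Ω] {V R T : Subgroup G} {φ : Finset Ω → G}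

/-- the elements which act as a permutation of the letters -/
def RelS (φ : Finset Ω → G) : Subgroup G where
  carrier := {g | ∃ σ : Equiv.Perm Ω, Rel φ g σ}
  one_mem' := ⟨1, Rel.one⟩
  mul_mem' := by
    rintro g h ⟨σ, hσ⟩ ⟨τ, hτ⟩
    exact ⟨σ * τ, hσ.mul hτ⟩
  inv_mem' := by
    rintro g ⟨σ, hσ⟩
    exact ⟨σ⁻¹, hσ.inv⟩

theorem mem_RelS {g : G} : g ∈ RelS φ ↔ ∃ σ : Equiv.Perm Ω, Rel φ g σ := Iff.rfl

/-- the permutations induced by `K` -/
def PermS (φ : Finset Ω → G) (K : Subgroup G) : Subgroup (Equiv.Perm Ω) where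
  carrier := {σ | ∃ k ∈ K, Rel φ k σ}
  one_mem' := ⟨1, one_mem _, Rel.one⟩
  mul_mem' := by
    rintro σ τ ⟨g, hg, hσ⟩ ⟨h, hh, hτ⟩
    exact ⟨g * h, mul_mem hg hh, hσ.mul hτ⟩
  inv_mem' := by
    rintro σ ⟨g, hg, hσ⟩
    exact ⟨g⁻¹, inv_mem hg, hσ.inv⟩

theorem mem_PermS {K : Subgroup G} {σ : Equiv.Perm Ω} : σ ∈ PermS φ K ↔ ∃ k ∈ K, Rel φ k σ := Iff.rfl

theorem Rel.cent {V R : Subgroup G} (L : Lett V R φ) {g : G} (hg : g ∈ centralizer (V : Set G)) : Rel φ g 1 := by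
  intro s hs
  have h1 : φ s ∈ V := (L.mem _).2 ⟨s, hs, rfl⟩
  have e : (1 : Equiv.Perm Ω).toEmbedding = Function.Embedding.refl Ω := by
    ext x
    simp
  rw [e, Finset.map_refl, ← mem_centralizer_iff.1 hg _ h1, mul_inv_cancel_right]

theorem Rel.eq_of {V R : Subgroup G} (L : Lett V R φ) {g h : G} {σ : Equiv.Perm Ω} (hg : Rel φ g σ) (hh : Rel φ h σ)
    {x : G} (hx : x ∈ V) : g * x * g⁻¹ = h * x * h⁻¹ := by
  obtain ⟨s, hs, rfl⟩ := (L.mem x).1 hx
  rw [hg s hs, hh s hs]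

/-- two swaps are conjugate -/
theorem exists_perm {a b x y : Ω} (hab : a ≠ b) (hxy : x ≠ y) : ∃ f : Equiv.Perm Ω, f a = x ∧ f b = y := by
  refine ⟨Equiv.swap (Equiv.swap a x b) y * Equiv.swap a x, ?_, ?_⟩
  · rw [Equiv.Perm.mul_apply, Equiv.swap_apply_left]
    refine Equiv.swap_apply_of_ne_of_ne (fun h => hab ?_) hxy
    have h1 := congrArg (Equiv.swap a x) h
    rw [Equiv.swap_apply_self, Equiv.swap_apply_right] at h1
    exact h1
  · rw [Equiv.Perm.mul_apply, Equiv.swap_apply_left]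

theorem eq_top_of_swap {H : Subgroup (Equiv.Perm Ω)} (h : ∀ x y : Ω, x ≠ y → Equiv.swap x y ∈ H) : H = ⊤ := by
  rw [eq_top_iff, ← Equiv.Perm.closure_isSwap, closure_le]
  rintro σ ⟨x, y, hxy, rfl⟩
  exact h x y hxy

/-- a transposition is induced by a 2-element -/
theorem exists_two [Finite G] {r : G} {a b : Ω} (hr : Rel φ r (Equiv.swap a b)) :
    ∃ r' ∈ zpowers r, IsPGroup 2 (zpowers r') ∧ Rel φ r' (Equiv.swap a b) := by
  obtain ⟨k, m, hm, hn⟩ := Nat.exists_eq_two_pow_mul_odd (orderOf_pos r).ne'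
  refine ⟨r ^ m, pow_mem (mem_zpowers r) m, ?_, ?_⟩
  · intro x
    refine ⟨k, ?_⟩
    obtain ⟨x, hx⟩ := x
    obtain ⟨i, rfl⟩ := mem_zpowers_iff.1 hx
    apply Subtype.ext
    show ((r ^ m) ^ i) ^ 2 ^ k = 1
    have h1 : (r ^ m) ^ 2 ^ k = 1 := by
      rw [← pow_mul, mul_comm m, ← hn, pow_orderOf_eq_one]
    rw [← zpow_natCast, ← zpow_mul, mul_comm i, zpow_mul, zpow_natCast, h1, one_zpow]
  · have h1 := hr.pow m
    obtain ⟨j, rfl⟩ := hm
    have h2 : (Equiv.swap a b) ^ (2 * j + 1) = Equiv.swap a b := by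
      rw [pow_succ, pow_mul, sq, Equiv.swap_mul_self, one_pow, one_mul]
    rwa [h2] at h1

variable (L : Lett V R φ) (h3 : 3 ≤ Fintype.card Ω)

include L h3

/-- the action of a subgroup of `R` on the letters -/
theorem exists_hom (hTR : T ≤ R) : ∃ f : T →* Equiv.Perm Ω, ∀ t : T, Rel φ (t : G) (f t) := by
  choose f hf using fun t : T => L.act t (hTR t.2)
  exact ⟨MonoidHom.mk' f fun s t => L.unique h3 (hf (s * t)) ((hf s).mul (hf t)), hf⟩

/-- a 2-subgroup of `R` fixes a letter -/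
theorem exists_fix (hTR : T ≤ R) (hT : IsPGroup 2 T) : ∃ p : Ω, ∀ t ∈ T, ∀ σ, Rel φ t σ → σ p = p := by
  obtain ⟨f, hf⟩ := exists_hom L h3 hTR
  let _ : MulAction T Ω := MulAction.compHom Ω f
  have : Fact (Nat.Prime 2) := ⟨Nat.prime_two⟩
  have h1 : ¬ 2 ∣ Nat.card Ω := by
    rw [Nat.card_eq_fintype_card]
    exact L.odd.not_two_dvd_nat
  obtain ⟨p, hp⟩ := hT.nonempty_fixed_point_of_prime_not_dvd_card Ω h1
  refine ⟨p, fun t ht σ hσ => ?_⟩
  have h2 : σ = f ⟨t, ht⟩ := L.unique h3 hσ (hf ⟨t, ht⟩)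
  rw [h2]
  exact hp ⟨t, ht⟩

/-- `T` fixes `p` and is transitive on the other letters -/
structure Ctr (T : Subgroup G) (φ : Finset Ω → G) (p : Ω) : Prop where
  fix : ∀ t ∈ T, ∀ σ, Rel φ t σ → σ p = p
  tran : ∀ a b, a ≠ p → b ≠ p → ∃ t ∈ T, ∃ σ, Rel φ t σ ∧ σ a = b

theorem ne_one_of {s : Finset Ω} (hs : Even s.card) {a : Ω} (ha : a ∈ s) : φ s ≠ 1 := by
  intro h
  rw [L.inj s hs h] at ha
  simp at ha

theorem erase_ne_one (p : Ω) : φ (Finset.univ.erase p) ≠ 1 := by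
  obtain ⟨b, hb⟩ : ∃ b, b ≠ p := Fintype.exists_ne_of_one_lt_card (by omega) p
  exact ne_one_of L h3 (L.even_erase p) (Finset.mem_erase.2 ⟨hb, Finset.mem_univ b⟩)

theorem exists_ctr (hTR : T ≤ R) (hT : IsPGroup 2 T) {z : G}
    (hfix : ∀ x ∈ V, (∀ t ∈ T, t * x * t⁻¹ = x) → x = 1 ∨ x = z) :
    ∃ p : Ω, z = φ (Finset.univ.erase p) ∧ Ctr T φ p := by
  classical
  obtain ⟨p, hp⟩ := exists_fix L h3 hTR hT
  have hinv : ∀ s : Finset Ω, Even s.card → (∀ t ∈ T, ∀ σ : Equiv.Perm Ω, Rel φ t σ → s.map σ.toEmbedding = s) →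
      φ s = 1 ∨ φ s = z := by
    intro s hs hi
    refine hfix _ ((L.mem _).2 ⟨s, hs, rfl⟩) fun t ht => ?_
    obtain ⟨σ, hσ⟩ := L.act t (hTR ht)
    rw [hσ s hs, hi t ht σ hσ]
  have hz : z = φ (Finset.univ.erase p) := by
    rcases hinv _ (L.even_erase p) (fun t ht σ hσ => by
      rw [Finset.map_erase, Finset.map_univ_equiv]
      have : σ.toEmbedding p = p := hp t ht σ hσ
      rw [this]) with h | h
    · exact absurd h (erase_ne_one L h3 p)
    · exact h.symm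
  refine ⟨p, hz, hp, fun a b ha hb => ?_⟩
  let O : Finset Ω := Finset.univ.filter fun c => ∃ t ∈ T, ∃ σ : Equiv.Perm Ω, Rel φ t σ ∧ σ a = c
  have hO : ∀ c, c ∈ O ↔ ∃ t ∈ T, ∃ σ : Equiv.Perm Ω, Rel φ t σ ∧ σ a = c := fun c => by
    show c ∈ Finset.univ.filter _ ↔ _
    rw [Finset.mem_filter]
    exact ⟨fun h => h.2, fun h => ⟨Finset.mem_univ _, h⟩⟩
  have haO : a ∈ O := (hO a).2 ⟨1, one_mem _, 1, Rel.one, rfl⟩
  have hpO : p ∉ O := by
    intro h
    obtain ⟨t, ht, σ, hσ, h1⟩ := (hO p).1 h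
    exact ha (σ.injective (h1.trans (hp t ht σ hσ).symm))
  have hOi : ∀ t ∈ T, ∀ σ : Equiv.Perm Ω, Rel φ t σ → O.map σ.toEmbedding = O := by
    intro t ht σ hσ
    apply Finset.eq_of_subset_of_card_le
    · intro c hc
      obtain ⟨d, hd, rfl⟩ := Finset.mem_map.1 hc
      obtain ⟨t', ht', τ, hτ, h1⟩ := (hO d).1 hd
      exact (hO _).2 ⟨t * t', mul_mem ht ht', σ * τ, hσ.mul hτ, by rw [Equiv.Perm.mul_apply, h1]; rfl⟩
    · rw [Finset.card_map]
  rcases Nat.even_or_odd O.card with he | ho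
  · rcases hinv O he hOi with h | h
    · exact absurd h (ne_one_of L h3 he haO)
    · rw [hz] at h
      have h1 : O = Finset.univ.erase p := L.phi_inj he (L.even_erase p) h
      have h2 : b ∈ O := by rw [h1]; exact Finset.mem_erase.2 ⟨hb, Finset.mem_univ b⟩
      obtain ⟨t, ht, σ, hσ, h4⟩ := (hO b).1 h2
      exact ⟨t, ht, σ, hσ, h4⟩
  · exfalso
    have he : Even Oᶜ.card := by
      rw [Finset.card_compl]
      exact Nat.Odd.sub_odd L.odd ho
    have hpc : p ∈ Oᶜ := Finset.mem_compl.2 hpO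
    rcases hinv Oᶜ he (fun t ht σ hσ => by
      have h1 := hOi t ht σ hσ
      apply Finset.eq_of_subset_of_card_le
      · intro c hc
        obtain ⟨d, hd, rfl⟩ := Finset.mem_map.1 hc
        rw [Finset.mem_compl] at hd ⊢
        intro hcO
        apply hd
        rw [← h1, Finset.mem_map] at hcO
        obtain ⟨d', hd', e⟩ := hcO
        rwa [← σ.injective e]
      · rw [Finset.card_map]) with h | h
    · exact ne_one_of L h3 he hpc h
    · rw [hz] at h
      have h1 : Oᶜ = Finset.univ.erase p := L.phi_inj he (L.even_erase p) h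
      rw [h1] at hpc
      exact (Finset.mem_erase.1 hpc).1 rfl

/-- a Sylow subgroup contains a transposition -/
theorem exists_swap [Finite G] (hsyl : ∀ Q : Subgroup G, Q ≤ R → IsPGroup 2 Q → ∃ e ∈ R, ∀ q ∈ Q, e * q * e⁻¹ ∈ T) :
    ∃ t ∈ T, ∃ a b : Ω, a ≠ b ∧ Rel φ t (Equiv.swap a b) := by
  obtain ⟨a, b, hab⟩ := Fintype.exists_pair_of_one_lt_card (α := Ω) (by omega)
  obtain ⟨r, hr, hrel⟩ := L.all (Equiv.swap a b)
  obtain ⟨r', hr', h2, hrel'⟩ := exists_two hrel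
  have hle : zpowers r' ≤ R := by
    rw [zpowers_le]
    exact (zpowers_le.2 hr) hr'
  obtain ⟨e, he, h1⟩ := hsyl _ hle h2
  obtain ⟨σ, hσ⟩ := L.act e he
  refine ⟨e * r' * e⁻¹, h1 r' (mem_zpowers r'), σ a, σ b, σ.injective.ne hab, ?_⟩
  rw [Equiv.swap_apply_apply]
  exact (hσ.mul hrel').mul hσ.inv

variable {p : Ω}

/-- a group which contains `T` and moves the letter `p` induces all permutations -/
theorem all_of (hc : Ctr T φ p) (hsw : ∃ t ∈ T, ∃ a b : Ω, a ≠ b ∧ Rel φ t (Equiv.swap a b)) {K : Subgroup G}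
    (hTK : T ≤ K) (hmv : ∃ k ∈ K, ∃ σ, Rel φ k σ ∧ σ p ≠ p) : PermS φ K = ⊤ := by
  obtain ⟨t, ht, a, b, hab, hrel⟩ := hsw
  obtain ⟨k, hk, σ, hσ, hσp⟩ := hmv
  have hsp := hc.fix t ht _ hrel
  have hap : a ≠ p := by
    rintro rfl
    rw [Equiv.swap_apply_left] at hsp
    exact hab hsp.symm
  have hsK : Equiv.swap a b ∈ PermS φ K := ⟨t, hTK ht, hrel⟩
  have hσK : σ ∈ PermS φ K := ⟨k, hk, hσ⟩
  have hc0 : σ⁻¹ p ≠ p := by
    intro h
    apply hσp
    rw [Equiv.Perm.inv_eq_iff_eq] at h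
    exact h.symm
  obtain ⟨t1, ht1, τ, hτ, hτa⟩ := hc.tran a _ hap hc0
  have hτK : τ ∈ PermS φ K := ⟨t1, hTK ht1, hτ⟩
  have h1 : Equiv.swap ((σ * τ) a) ((σ * τ) b) ∈ PermS φ K := by
    rw [Equiv.swap_apply_apply]
    exact mul_mem (mul_mem (mul_mem hσK hτK) hsK) (inv_mem (mul_mem hσK hτK))
  have h2 : (σ * τ) a = p := by
    rw [Equiv.Perm.mul_apply, hτa]
    exact σ.apply_symm_apply p
  have h4 : (σ * τ) b ≠ p := by
    intro h
    exact hab ((σ * τ).injective (h2.trans h.symm))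
  rw [h2] at h1
  have h5 : ∀ c, c ≠ p → Equiv.swap p c ∈ PermS φ K := by
    intro c hcp
    obtain ⟨t2, ht2, ρ, hρ, hρb⟩ := hc.tran _ c h4 hcp
    have hρK : ρ ∈ PermS φ K := ⟨t2, hTK ht2, hρ⟩
    have h6 : Equiv.swap (ρ p) (ρ ((σ * τ) b)) ∈ PermS φ K := by
      rw [Equiv.swap_apply_apply]
      exact mul_mem (mul_mem hρK h1) (inv_mem hρK)
    rwa [hc.fix t2 ht2 ρ hρ, hρb] at h6
  apply eq_top_of_swap
  intro x y hxy
  by_cases hx : x = p
  · rw [hx]; exact h5 y fun h => hxy (hx.trans h.symm)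
  by_cases hy : y = p
  · rw [hy, Equiv.swap_comm]; exact h5 x hx
  have h6 : Equiv.swap (Equiv.swap p x p) (Equiv.swap p x y) ∈ PermS φ K := by
    rw [Equiv.swap_apply_apply]
    exact mul_mem (mul_mem (h5 x hx) (h5 y hy)) (inv_mem (h5 x hx))
  rwa [Equiv.swap_apply_left, Equiv.swap_apply_of_ne_of_ne hy hxy.symm] at h6

/-- a normal subgroup of `R` which contains a transposition induces all permutations -/
theorem all_of_normal (hsw : ∃ t ∈ T, ∃ a b : Ω, a ≠ b ∧ Rel φ t (Equiv.swap a b)) {K : Subgroup G}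
    (hTK : T ≤ K) (hn : R ≤ normalizer (K : Set G)) : PermS φ K = ⊤ := by
  obtain ⟨t, ht, a, b, hab, hrel⟩ := hsw
  apply eq_top_of_swap
  intro x y hxy
  obtain ⟨f, hfa, hfb⟩ := exists_perm hab hxy
  obtain ⟨r, hr, hrf⟩ := L.all f
  refine ⟨r * t * r⁻¹, (mem_normalizer_iff.1 (hn hr) t).1 (hTK ht), ?_⟩
  have h1 := (hrf.mul hrel).mul hrf.inv
  rwa [← Equiv.swap_apply_apply, hfa, hfb] at h1

/-- irreducibility -/
theorem le_of_inv {W : Subgroup G} (hW : W ≤ V) (hn : R ≤ normalizer (W : Set G)) (hne : W ≠ ⊥) : V ≤ W := by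
  obtain ⟨⟨x, hx⟩, hx1'⟩ := (Subgroup.ne_bot_iff_exists_ne_one).1 hne
  have hx1 : x ≠ 1 := fun h => hx1' (Subtype.ext h)
  obtain ⟨s, hs, rfl⟩ := (L.mem x).1 (hW hx)
  obtain ⟨a, ha⟩ : s.Nonempty := by
    rw [Finset.nonempty_iff_ne_empty]
    rintro rfl
    exact hx1 L.phi_empty
  obtain ⟨c, hc⟩ : ∃ c, c ∉ s := by
    by_contra hcon
    push Not at hcon
    have h1 : s = Finset.univ := Finset.eq_univ_of_forall hcon
    rw [h1, Finset.card_univ] at hs
    exact (Nat.not_even_iff_odd.2 L.odd) hs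
  have hac : a ≠ c := fun h => hc (h ▸ ha)
  have hpair : φ {a, c} ∈ W := by
    obtain ⟨r, hr, hrel⟩ := L.all (Equiv.swap a c)
    have h1 : φ s * (r * φ s * r⁻¹) ∈ W := mul_mem hx ((mem_normalizer_iff.1 (hn hr) _).1 hx)
    rw [hrel s hs, ← L.mul] at h1
    have h2 : symmDiff s (s.map (Equiv.swap a c).toEmbedding) = {a, c} := by
      ext y
      rw [Finset.mem_symmDiff, Finset.mem_map_equiv, Equiv.symm_swap, Finset.mem_insert, Finset.mem_singleton]
      by_cases hya : y = a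
      · rw [hya, Equiv.swap_apply_left]
        simp [ha, hc]
      · by_cases hyc : y = c
        · rw [hyc, Equiv.swap_apply_right]
          simp [ha, hc]
        · rw [Equiv.swap_apply_of_ne_of_ne hya hyc]
          simp [hya, hyc]
    rwa [h2] at h1
  have hall : ∀ x y : Ω, x ≠ y → φ {x, y} ∈ W := by
    intro x y hxy
    obtain ⟨f, hfa, hfc⟩ := exists_perm hac hxy
    obtain ⟨r, hr, hrel⟩ := L.all f
    have h1 := (mem_normalizer_iff.1 (hn hr) _).1 hpair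
    rwa [L.pair hrel hac, hfa, hfc] at h1
  have key : ∀ n : ℕ, ∀ s : Finset Ω, s.card = 2 * n → φ s ∈ W := by
    intro n
    induction n with
    | zero =>
      intro s hs
      rw [Finset.card_eq_zero.1 hs, L.phi_empty]
      exact one_mem _
    | succ n ih =>
      intro s hs
      obtain ⟨x, hx⟩ : s.Nonempty := by
        rw [← Finset.card_pos]; omega
      obtain ⟨y, hy⟩ : (s.erase x).Nonempty := by
        rw [← Finset.card_pos, Finset.card_erase_of_mem hx]; omega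
      have hyx := Finset.mem_erase.1 hy
      have h1 : symmDiff {x, y} ((s.erase x).erase y) = s := by
        ext c
        rw [Finset.mem_symmDiff, Finset.mem_insert, Finset.mem_singleton, Finset.mem_erase, Finset.mem_erase]
        constructor
        · rintro (⟨h | h, -⟩ | ⟨h, -⟩)
          · rw [h]; exact hx
          · rw [h]; exact hyx.2
          · exact h.2.2
        · intro h
          by_cases hcx : c = x
          · exact Or.inl ⟨Or.inl hcx, fun h' => h'.2.1 hcx⟩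
          · by_cases hcy : c = y
            · exact Or.inl ⟨Or.inr hcy, fun h' => h'.1 hcy⟩
            · exact Or.inr ⟨⟨hcy, hcx, h⟩, fun h' => h'.elim hcx hcy⟩
      rw [← h1, L.mul]
      refine mul_mem (hall x y (Ne.symm hyx.1)) (ih _ ?_)
      rw [Finset.card_erase_of_mem hy, Finset.card_erase_of_mem hx]
      omega
  intro x hx
  obtain ⟨s, ⟨n, hn'⟩, rfl⟩ := (L.mem x).1 hx
  exact key n s (by omega)

end letters

section sylow

variable [Finite G] (S : Sylow 2 G) {L E₀ E Q : Subgroup G}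

/-- the intersection of a Sylow subgroup with a normal subgroup -/
theorem syl_inf_of {T H N : Subgroup G} (hT : Syl T H) (hN : N ≤ H) (hn : H ≤ normalizer (N : Set G)) :
    Syl (T ⊓ N) N := by
  refine ⟨inf_le_right, hT.2.1.to_le inf_le_left, ?_⟩
  intro R hR h2 hTR
  obtain ⟨S, hS, hRS⟩ := exists_syl h2 (hR.trans hN)
  obtain ⟨x, hx, e⟩ := syl_conj hS hT
  have h1 : cj x R ≤ T ⊓ N := by
    refine le_inf ((Cfsg.Agent.ZN.ChoiceBase.cj_mono x hRS).trans e.le) ?_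
    have := Cfsg.Agent.ZN.ChoiceBase.cj_mono x hR
    rwa [Cfsg.Agent.ZN.ChoiceBase.mem_normalizer_iff_cj.1 (hn hx)] at this
  have h3 := Subgroup.card_le_of_le h1
  rw [Cfsg.Agent.ZN.ChoiceBase.card_cj] at h3
  exact (Subgroup.eq_of_le_of_card_ge hTR h3).symm

theorem exists_conj_sub (hS : (S : Subgroup G) ≤ L) (h0 : E₀ ≤ L) (hn0 : L ≤ normalizer (E₀ : Set G)) (hE : E ≤ E₀)
    (hn : E₀ ≤ normalizer (E : Set G)) (hQ : Q ≤ E) (h2 : IsPGroup 2 Q) :
    ∃ e ∈ E, ∀ q ∈ Q, e * q * e⁻¹ ∈ (S : Subgroup G) ⊓ E := by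
  have h1 : Syl (S : Subgroup G) L := Cfsg.Agent.MinSimple.EmptyTI.syl_of_le hS
  have h3 : Syl ((S : Subgroup G) ⊓ E₀) E₀ := syl_inf_of h1 h0 hn0
  have h4 : Syl ((S : Subgroup G) ⊓ E₀ ⊓ E) E := syl_inf_of h3 hE hn
  rw [inf_assoc, inf_eq_right.2 hE] at h4
  obtain ⟨T, hT, hQT⟩ := exists_syl h2 hQ
  obtain ⟨x, hx, e⟩ := syl_conj hT h4
  refine ⟨x, hx, fun q hq => ?_⟩
  rw [← e]
  exact ⟨q, hQT hq, rfl⟩

end sylow

variable {ι : Type v} [Finite G] {S : Sylow 2 G} {L U : Subgroup G} {N E : ι → Subgroup G} {R₀ : Subgroup G}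

theorem Dec.E_normal (hD : Dec (S : Subgroup G) L U N E R₀) (b : ι) : (⨆ c, E c) ≤ normalizer (E b : Set G) := by
  refine iSup_le fun c => ?_
  intro e he
  obtain ⟨d, h1, h2⟩ := hD.perm e (hD.EL c he) b
  have hd : d = b := by
    by_cases hcb : c = b
    · subst hcb
      apply hD.Ninj
      rw [← h1]
      exact smul_of_mem (hD.EN c he)
    · apply hD.Ninj
      rw [← h1]
      exact smul_of_mem (centralizer_le_normalizer _ (hD.EC c b hcb he))
  rw [hd] at h2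
  rw [mem_normalizer_iff]
  intro x
  exact conj_smul h2

/-- **`Dec`, the letters and `C_{N b}(S ∩ E b) = {1, z b}` give `One`.** -/
theorem one_of (hD : Dec (S : Subgroup G) L U N E R₀)
    (hl : ∀ b, ∃ (Ω : Type w) (_ : Fintype Ω) (_ : DecidableEq Ω) (φ : Finset Ω → G), 3 ≤ Fintype.card Ω ∧
      Lett (N b) (E b) φ) {z : ι → G} (zN : ∀ b, z b ∈ N b) (z1 : ∀ b, z b ≠ 1)
    (zS : ∀ b, ∀ s ∈ (S : Subgroup G) ⊓ E b, s * z b * s⁻¹ = z b)
    (fix : ∀ b, ∀ x ∈ N b, (∀ s ∈ (S : Subgroup G) ⊓ E b, s * x * s⁻¹ = x) → x = 1 ∨ x = z b) :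
    One (S : Subgroup G) L U N E z := by
  have hsyl : ∀ b, ∀ Q : Subgroup G, Q ≤ E b → IsPGroup 2 Q → ∃ e ∈ E b, ∀ q ∈ Q, e * q * e⁻¹ ∈ (S : Subgroup G) ⊓ E b :=
    fun b Q hQ h2 => exists_conj_sub S hD.SL (iSup_le hD.EL) hD.iSup_normal (le_iSup E b) (hD.E_normal b) hQ h2
  have hTp : ∀ b, IsPGroup 2 ((S : Subgroup G) ⊓ E b : Subgroup G) := fun b => S.isPGroup'.to_le inf_le_left
  refine
    { zN := zN
      z1 := z1
      zS := zS
      fix := fix
      mv := fun b => ?_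
      irr := fun b W hW hn hne => ?_
      gen := fun b K hK hSK hCK hn => ?_
      full := fun b K hK hSK hmv e he => ?_ }
  · obtain ⟨Ω, _, _, φ, h3, l⟩ := hl b
    obtain ⟨p, hz, hc⟩ := exists_ctr l h3 inf_le_right (hTp b) (fix b)
    obtain ⟨c, hcp⟩ : ∃ c, c ≠ p := Fintype.exists_ne_of_one_lt_card (by omega) p
    obtain ⟨r, hr, hrel⟩ := l.all (Equiv.swap p c)
    refine ⟨r, hr, fun h => ?_⟩
    rw [hz, l.fix_iff hrel, Equiv.swap_apply_left] at h
    exact hcp h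
  · obtain ⟨Ω, _, _, φ, h3, l⟩ := hl b
    exact le_of_inv l h3 hW hn hne
  · obtain ⟨Ω, _, _, φ, h3, l⟩ := hl b
    have htop := all_of_normal l h3 (exists_swap l h3 (hsyl b)) hSK hn
    intro e he
    obtain ⟨σ, hσ⟩ := l.act e he
    obtain ⟨k, hk, hkσ⟩ : σ ∈ PermS φ K := by rw [htop]; exact mem_top σ
    have h1 : Rel φ (k⁻¹ * e) 1 := by
      have := hkσ.inv.mul hσ
      rwa [inv_mul_cancel] at this
    have h2 : k⁻¹ * e ∈ E b := mul_mem (inv_mem (hK hk)) he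
    have h4 : k⁻¹ * e ∈ L ⊓ centralizer (U : Set G) := by
      refine mem_inf.2 ⟨hD.EL b h2, ?_⟩
      have key : U ≤ centralizer ({k⁻¹ * e} : Set G) := by
        rw [← hD.sup]
        refine sup_le (iSup_le fun c => ?_) ?_
        · intro x hx
          rw [mem_centralizer_singleton_iff]
          by_cases hcb : c = b
          · subst hcb
            exact mem_centralizer_iff.1 (l.cent_of_one h1) x hx
          · exact mem_centralizer_iff.1 (hD.EC b c (Ne.symm hcb) h2) x hx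
        · intro x hx
          rw [mem_centralizer_singleton_iff]
          exact mem_centralizer_iff.1 (hD.ER b h2) x hx
      rw [mem_centralizer_iff]
      intro x hx
      exact mem_centralizer_singleton_iff.1 (key hx)
    have e1 : e = k * (k⁻¹ * e) := by group
    rw [e1]
    exact mul_mem hk (hCK h4)
  · obtain ⟨Ω, _, _, φ, h3, l⟩ := hl b
    obtain ⟨p, hz, hc⟩ := exists_ctr l h3 inf_le_right (hTp b) (fix b)
    have hKR : K ≤ RelS φ := by
      refine hK.trans (iSup_le fun c => ?_)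
      intro g hg
      by_cases hcb : c = b
      · subst hcb
        exact l.act g hg
      · exact ⟨1, Rel.cent l (hD.EC c b hcb hg)⟩
    obtain ⟨k, hk, hkz⟩ := hmv
    obtain ⟨τ, hτ⟩ := hKR hk
    have htop := all_of l h3 hc (exists_swap l h3 (hsyl b)) hSK ⟨k, hk, τ, hτ, fun h => hkz (by
      rw [hz]; exact (l.fix_iff hτ p).2 h)⟩
    obtain ⟨σ, hσ⟩ := l.act e he
    obtain ⟨k', hk', hkσ⟩ : σ ∈ PermS φ K := by rw [htop]; exact mem_top σ
    exact ⟨k', hk', fun x hx => Rel.eq_of l hkσ hσ hx⟩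

end Cfsg.Agent.Omega.NOThreeL.RRed.Blk
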