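import Cfsg.Agent.Omega.NOThreeL.RRed.Blk.Asm
import Cfsg.Agent.Omega.NOThreeL.RRed.Blk.AsmOf
import Cfsg.Agent.Omega.NOThreeL.RRed.Blk.OneOf

/-!
# NO-3L, box R: the root groups of a family of natural blocks (`lnY` of `WideTree.NBs`)

* `imS Q S hS` : the image of the Sylow group `S ≤ H` is a Sylow group of `XH Q`;
* **`Fam.ln`** : for `g ∈ X`, `D ∈ FF` there are `D' ∈ FF` and `x ∈ X`, trivial on the blocks `≠ N D'`, such that
  `g N D = N D'` and `D^g = D'^x`.
-/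

set_option autoImplicit false
set_option linter.unusedSectionVars false

namespace Cfsg.Agent.Omega.NOThreeL.RRed.Blk.Asm

open Cfsg.Agent.Omega.NOThreeL.RRed.NS (fxd brk mem_fxd smul_brk mem_smul' conj_le_iff conj_inv_conj conj_conj_inv conj_conj)
open Cfsg.Agent.Omega.NOThreeL.RRed.Blk.TypesGam Cfsg.Agent.Omega.NOThreeL.RRed.Blk.Types
open Cfsg.Agent.Omega.NOThreeL.RRed.Blk.TypesEq
open scoped Pointwise

universe u v w

variable {X : Type u} {V : Type v} [Group X] [AddCommGroup V] [DistribMulAction X V]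

/-- the elements which are trivial on all blocks but `N D` -/
def EX (FF : Set (Subgroup X)) (N : Subgroup X → AddSubgroup V) (D : Subgroup X) : Subgroup X where
  carrier := {x | ∀ D' ∈ FF, D' ≠ D → ∀ m ∈ N D', x • m = m}
  one_mem' := fun D' _ _ m _ => one_smul _ _
  mul_mem' := fun {a b} ha hb D' h1 h3 m hm => by rw [mul_smul, hb D' h1 h3 m hm, ha D' h1 h3 m hm]
  inv_mem' := fun {a} ha D' h1 h3 m hm => by
    rw [inv_smul_eq_iff]
    exact (ha D' h1 h3 m hm).symm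

/-- the elements which fix all blocks -/
def EO (FF : Set (Subgroup X)) (N : Subgroup X → AddSubgroup V) : Subgroup X where
  carrier := {x | ∀ D ∈ FF, ∀ m, m ∈ N D ↔ x • m ∈ N D}
  one_mem' := fun D _ m => by rw [one_smul]
  mul_mem' := fun {a b} ha hb D hD m => by rw [mul_smul, ← ha D hD, ← hb D hD]
  inv_mem' := fun {a} ha D hD m => by
    rw [ha D hD (a⁻¹ • m), smul_inv_smul]

theorem NB.inf_bot {D : Subgroup X} {N C : AddSubgroup V} (h : NB D N C) {n : V} (hn : n ∈ N) (hc : n ∈ C) : n = 0 := by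
  obtain ⟨F, _, _, e, f, up, lo, hB, rfl, rfl⟩ := h.ex
  exact N_inf_C hB hn hc

theorem NB.C_le {D : Subgroup X} {N C : AddSubgroup V} (h : NB D N C) : C ≤ fxd D := by
  obtain ⟨F, _, _, e, f, up, lo, hB, rfl, rfl⟩ := h.ex
  exact C_le_fxd hB

/-- `D` moves `N` -/
theorem NB.moves {D : Subgroup X} {N C : AddSubgroup V} (h : NB D N C) : ∃ d ∈ D, ∃ m ∈ N, d • m ≠ m := by
  obtain ⟨F, _, _, e, f, up, lo, hB, rfl, rfl⟩ := h.ex
  refine ⟨up 1, up_mem 1, f 1, AddSubgroup.mem_sup_right ⟨1, rfl⟩, fun h1 => ?_⟩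
  rw [hB.up_f, mul_one] at h1
  have h3 : e 1 = 0 := add_eq_left.1 h1
  have h4 := hB.ind 1 0 (by rw [h3, map_zero, add_zero]; exact C.zero_mem)
  exact one_ne_zero h4.1

namespace Fam

variable {S : Subgroup X} {FF : Set (Subgroup X)} {N C : Subgroup X → AddSubgroup V} (F : Fam S FF N C)
include F

theorem inj {D D' : Subgroup X} (hD : D ∈ FF) (hD' : D' ∈ FF) (h : N D = N D') : D = D' := by
  by_contra hne
  have h1 := F.ind D hD D' hD' (fun e => hne e.symm)
  rw [← h] at h1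
  apply (F.nb D hD).ne_bot
  rw [eq_bot_iff]
  intro n hn
  exact AddSubgroup.mem_bot.2 ((F.nb D hD).inf_bot hn (h1 hn))

theorem EO_norm (g : X) {x : X} (hx : x ∈ EO FF N) : g * x * g⁻¹ ∈ EO FF N := by
  intro D hD m
  obtain ⟨D1, hD1, -, h1⟩ := F.perm g⁻¹ D hD
  rw [h1 m, hx D1 hD1, h1 ((g * x * g⁻¹) • m)]
  have e : g⁻¹ • (g * x * g⁻¹) • m = x • g⁻¹ • m := by
    rw [← mul_smul, ← mul_smul]
    congr 1
    group
  rw [e]

theorem EX_norm {D : Subgroup X} {e : X} (he : e ∈ EO FF N) {x : X} (hx : x ∈ EX FF N D) : e * x * e⁻¹ ∈ EX FF N D := by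
  intro D' hD' hne m hm
  have h1 : e⁻¹ • m ∈ N D' := ((inv_mem he : e⁻¹ ∈ EO FF N) D' hD' m).1 hm
  rw [mul_smul, mul_smul, hx D' hD' hne _ h1, smul_inv_smul]

theorem EX_le {D : Subgroup X} (hD : D ∈ FF) : EX FF N D ≤ EO FF N := by
  have key : ∀ x ∈ EX FF N D, ∀ D1 ∈ FF, ∀ m ∈ N D1, x • m ∈ N D1 := by
    intro x hx D1 hD1 m hm
    by_cases h1 : D1 = D
    · subst h1
      obtain ⟨D2, hD2, -, h3⟩ := F.perm x D1 hD
      by_cases h4 : D2 = D1
      · rw [← h4]
        have := (h3 m).1 hm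
        exact this
      · exfalso
        -- `N D2 = x N D2`, so `N D1 = N D2`
        have h5 : N D1 = N D2 := by
          apply le_antisymm
          · intro n hn
            have h6 := (h3 n).1 hn
            have h7 := (inv_mem hx : x⁻¹ ∈ EX FF N D1) D2 hD2 h4 _ h6
            rw [inv_smul_smul] at h7
            rw [h7]; exact h6
          · intro n hn
            have h6 := hx D2 hD2 h4 n hn
            exact (h3 n).2 (by rw [h6]; exact hn)
        exact h4 (F.inj hD hD2 h5).symm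
    · rw [hx D1 hD1 h1 m hm]; exact hm
  intro x hx D1 hD1 m
  refine ⟨key x hx D1 hD1 m, fun hm => ?_⟩
  have h1 := key x⁻¹ (inv_mem hx) D1 hD1 _ hm
  rwa [inv_smul_smul] at h1

theorem le_EX {D : Subgroup X} (hD : D ∈ FF) : D ≤ EX FF N D := fun d hd D' hD' hne m hm =>
  mem_fxd.1 ((F.nb D hD).C_le (F.ind D hD D' hD' hne hm)) d hd

end Fam

/-- **(lnY)** -/
theorem Fam.ln [Finite X] (S : Sylow 2 X) {EE FF : Set (Subgroup X)} {N C : Subgroup X → AddSubgroup V}
    (F : Fam (S : Subgroup X) FF N C) (hGB : ∀ D ∈ FF, GB EE D (N D) (C D)) (hFE : FF ⊆ EE)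
    (EEc : ∀ A ∈ EE, ∀ g : X, MulAut.conj g • A ≤ S → MulAut.conj g • A ∈ EE) (g : X) {D : Subgroup X} (hD : D ∈ FF) :
    ∃ D' ∈ FF, ∃ x ∈ EX FF N D', (∀ m, m ∈ N D ↔ g • m ∈ N D') ∧ MulAut.conj g • D = MulAut.conj x • D' := by
  obtain ⟨D', hD', -, h1⟩ := F.perm g D hD
  -- `D^g ≤ EX D'`
  have h3 : MulAut.conj g • D ≤ EX FF N D' := by
    intro y hy D'' hD'' hne m hm
    rw [mem_cj] at hy
    obtain ⟨D3, hD3, -, h4⟩ := F.perm g⁻¹ D'' hD''
    have h5 : D3 ≠ D := by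
      rintro rfl
      apply hne
      refine F.inj hD'' hD' ?_
      ext n
      rw [h4 n, h1 (g⁻¹ • n), smul_inv_smul]
    have h6 := F.le_EX hD hy D3 hD3 h5 _ ((h4 m).1 hm)
    rw [mul_smul, mul_smul, smul_inv_smul] at h6
    exact smul_left_cancel _ h6
  have h4 : IsPGroup 2 ↥(MulAut.conj g • D) :=
    (S.isPGroup'.to_le (F.le D hD)).of_equiv (Subgroup.equivSMul (MulAut.conj g) D)
  obtain ⟨e, he, hq⟩ := exists_conj_sub S (L := ⊤) (E₀ := EO FF N) (E := EX FF N D') le_top le_top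
    (fun y _ => by
      rw [Subgroup.mem_normalizer_iff]
      intro x
      refine ⟨F.EO_norm y, fun hx => ?_⟩
      have h5 := F.EO_norm y⁻¹ hx
      have e1 : y⁻¹ * (y * x * y⁻¹) * y⁻¹⁻¹ = x := by group
      rwa [e1] at h5) (F.EX_le hD')
    (fun y hy => by
      rw [Subgroup.mem_normalizer_iff]
      intro x
      refine ⟨F.EX_norm hy, fun hx => ?_⟩
      have h5 := F.EX_norm (inv_mem hy) hx
      have e1 : y⁻¹ * (y * x * y⁻¹) * y⁻¹⁻¹ = x := by group
      rwa [e1] at h5) h3 h4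
  have h5 : MulAut.conj (e * g) • D ≤ S := by
    rw [← conj_conj]
    intro y hy
    rw [mem_cj] at hy
    have h6 := (Subgroup.mem_inf.1 (hq _ hy)).1
    have e1 : e * (e⁻¹ * y * e) * e⁻¹ = y := by group
    rwa [e1] at h6
  have h6 := EEc D (hFE hD) (e * g) h5
  -- `D^(e g)` moves `N D'`
  have h7 : MulAut.conj (e * g) • D = D' := by
    by_contra hne
    obtain ⟨d, hd, m, hm, hdm⟩ := (F.nb D hD).moves
    have h8 : e • g • m ∈ N D' := (F.EX_le hD' he D' hD' _).1 ((h1 m).1 hm)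
    have h9 : (e * g) * d * (e * g)⁻¹ ∈ MulAut.conj (e * g) • D := by
      rw [mem_cj]; convert hd using 1; group
    have h10 := (hGB D' hD').oth _ h6 hne _ h9 _ h8
    rw [mul_smul, mul_smul] at h10
    have e1 : (e * g)⁻¹ • e • g • m = m := by
      rw [← mul_smul e g m, inv_smul_smul]
    rw [e1, mul_smul] at h10
    exact hdm (smul_left_cancel _ (smul_left_cancel _ h10))
  refine ⟨D', hD', e⁻¹, inv_mem he, h1, ?_⟩
  rw [← h7, ← conj_conj, conj_inv_conj]

end Cfsg.Agent.Omega.NOThreeL.RRed.Blk.Asm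

namespace Cfsg.Agent.Omega.NOThreeL.RRed.Blk.TypesNat

open Subgroup
open Cfsg.Agent.Omega.NOThreeL.RSplit (Nrm)

universe u

/-- the image of the Sylow group -/
noncomputable def imS {G : Type u} [Group G] [Finite G] {H U : Subgroup G} (Q : Nrm H U) (S : Sylow 2 G)
    (hS : (S : Subgroup G) ≤ H) : Sylow 2 (XH Q) :=
  haveI : Fact (Nat.Prime 2) := ⟨Nat.prime_two⟩
  (S.subtype hS).mapSurjective (ph_surj Q)

theorem coe_imS {G : Type u} [Group G] [Finite G] {H U : Subgroup G} (Q : Nrm H U) (S : Sylow 2 G)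
    (hS : (S : Subgroup G) ≤ H) : (imS Q S hS : Subgroup (XH Q)) = im Q S := rfl

end Cfsg.Agent.Omega.NOThreeL.RRed.Blk.TypesNat
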