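import Cfsg.Agent.Omega.NOThreeL.RRed.Blk.AsmDef

/-!
# NO-3L, box R: assembly of the natural blocks, the pair lemma ((T3) for one block)

* `sit` : `Types.Sit V ⊤` from `NO X V`;
* `dt` : the data `Types.Dt` of a natural block with `|F| ≥ 4`;
* **`ind`** : a natural block `(D, N, C)`, `|D| ≥ 4`, and a group `K` generated by the `K`-conjugates of exact groups
  which centralise `N`, such that `D` centralises `[V, K]` and `C_[V,K](K) = 0`: `K` centralises `N`, `[V, K] ≤ C`;
* `NB.uniq`, `NB.conj` : `N`, `C` are determined by `D`, conjugates;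
* **`NB.ind`** : two natural blocks.
-/

set_option autoImplicit false
set_option linter.unusedSectionVars false

namespace Cfsg.Agent.Omega.NOThreeL.RRed.Blk.Asm

open Cfsg.Agent.Omega.NOThreeL.RRed.NS (fxd brk mem_fxd)
open Cfsg.Agent.Omega.NOThreeL.RRed.Blk.TypesGam Cfsg.Agent.Omega.NOThreeL.RRed.Blk.Types
open Cfsg.Agent.Omega.NOThreeL.RRed.Blk.TypesEq
open scoped Pointwise

universe u v w

variable {X : Type u} {V : Type v} [Group X] [AddCommGroup V] [DistribMulAction X V]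

theorem sit [Finite V] (h2 : ∀ v : V, v + v = 0) (hf : ∀ x : X, (∀ v : V, x • v = v) → x = 1) (hno : NO X V) :
    Sit V (⊤ : Subgroup X) where
  faith := fun x _ hx => hf x hx
  ch := h2
  no := fun F _ hs hc => by
    have h1 := hno F hc hs
    have h3 := (fxd F : AddSubgroup V).card_mul_index
    calc Nat.card F * Nat.card (fxd F : AddSubgroup V) ≤ (fxd F : AddSubgroup V).index * Nat.card (fxd F : AddSubgroup V) :=
          Nat.mul_le_mul_right _ h1
      _ = Nat.card V := by rw [mul_comm]; exact h3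

section bk

variable {F : Type w} [Field F] {e f : F →+ V} {C : AddSubgroup V} {up lo : F → X}
variable (h : Bk e f C up lo) (h2 : ∀ v : V, v + v = 0) (hf : ∀ x : X, (∀ v : V, x • v = v) → x = 1)
include h

theorem rt_el (h2 : ∀ v : V, v + v = 0) (hf : ∀ x : X, (∀ v : V, x • v = v) → x = 1) : El (rt up) where
  sq := by
    intro x hx
    obtain ⟨t, rfl⟩ := (h.mem_rt h2 hf).1 hx
    rw [h.up_add hf, h.two h2, h.up_zero hf]
  cm := by
    intro x hx y hy
    obtain ⟨t, rfl⟩ := (h.mem_rt h2 hf).1 hx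
    obtain ⟨s, rfl⟩ := (h.mem_rt h2 hf).1 hy
    rw [h.up_add hf, h.up_add hf, add_comm]

/-- `[V, A] ≤ e(F)` -/
theorem brk_rt_le (h2 : ∀ v : V, v + v = 0) (hf : ∀ x : X, (∀ v : V, x • v = v) → x = 1) : brk V (rt up) ≤ e.range := by
  refine brk_le fun a ha m => ?_
  obtain ⟨t, rfl⟩ := (h.mem_rt h2 hf).1 ha
  obtain ⟨x, y, c, hc, rfl⟩ := h.dec m
  refine ⟨t * y, ?_⟩
  rw [smul_add, smul_add, h.up_e, h.up_f, h.up_c _ c hc]
  abel

theorem range_le_brk : e.range ≤ brk V (rt up) := by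
  rintro _ ⟨x, rfl⟩
  have h1 := sub_mem_brk (M := V) (up_mem (up := up) x) (f 1)
  rw [h.up_f, mul_one, add_sub_cancel_left] at h1
  exact h1

theorem C_le_fxd : C ≤ fxd (rt up) := by
  intro c hc
  rw [h.mem_fxd_rt]
  exact ⟨0, c, hc, by rw [map_zero, zero_add]⟩

theorem e_le_fxd : e.range ≤ fxd (rt up) := by
  rintro _ ⟨x, rfl⟩
  rw [h.mem_fxd_rt]
  exact ⟨x, 0, C.zero_mem, by rw [add_zero]⟩

theorem exact_rt [Finite V] [Finite F] (h2 : ∀ v : V, v + v = 0) (hf : ∀ x : X, (∀ v : V, x • v = v) → x = 1) :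
    Nat.card V ≤ Nat.card (rt up) * Nat.card (fxd (rt up) : AddSubgroup V) := by
  obtain ⟨px, py, pc, hv, hpc, hu⟩ := h.proj
  have h1 : (fxd (rt up) : AddSubgroup V) = py.ker := by
    ext v
    rw [h.mem_fxd_rt, AddMonoidHom.mem_ker]
    constructor
    · rintro ⟨x, c, hc, rfl⟩
      have := (hu x 0 c hc).2.1
      rwa [map_zero, add_zero] at this
    · intro hy
      refine ⟨px v, pc v, hpc v, ?_⟩
      conv_lhs => rw [hv v]
      rw [hy, map_zero, add_zero]
  rw [h.card_rt h2 hf, h1]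
  have h3 := py.ker.card_mul_index
  have h5 : py.ker.index = Nat.card py.range := AddSubgroup.index_ker py
  have h6 : Nat.card py.range ≤ Nat.card F := Nat.card_le_card_of_injective _ Subtype.val_injective
  calc Nat.card V = Nat.card py.ker * py.ker.index := h3.symm
    _ ≤ Nat.card py.ker * Nat.card F := Nat.mul_le_mul_left _ (h5 ▸ h6)
    _ = _ := mul_comm _ _

theorem N_inf_C {n : V} (hn : n ∈ e.range ⊔ f.range) (hc : n ∈ C) : n = 0 := by
  obtain ⟨_, ⟨x, rfl⟩, _, ⟨y, rfl⟩, rfl⟩ := AddSubgroup.mem_sup.1 hn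
  obtain ⟨rfl, rfl⟩ := h.ind x y hc
  rw [map_zero, map_zero, add_zero]

theorem dt [Finite V] [Finite F] (h2 : ∀ v : V, v + v = 0) (hf : ∀ x : X, (∀ v : V, x • v = v) → x = 1) {c₀ : F}
    (hc0 : c₀ ≠ 0) (hc1 : c₀ ≠ 1) : Dt (⊤ : Subgroup X) (rt up) (e.range ⊔ f.range) C (hh up lo c₀) where
  DX := le_top
  el := rt_el h h2 hf
  ex := exact_rt h h2 hf
  qd := (brk_rt_le h h2 hf).trans (e_le_fxd h)
  fD := by
    intro v hv
    obtain ⟨x, c, hc, rfl⟩ := h.mem_fxd_rt.1 hv
    exact add_mem (AddSubgroup.mem_sup_left (range_le_brk h ⟨x, rfl⟩)) (AddSubgroup.mem_sup_right hc)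
  CD := C_le_fxd h
  RN := (brk_rt_le h h2 hf).trans le_sup_left
  τX := Subgroup.mem_top _
  τD := by
    have key : ∀ t, hh up lo c₀ * up t * (hh up lo c₀)⁻¹ = up (c₀ * (t * c₀)) := by
      intro t
      refine h.ext hf (fun z => ?_) (fun z => ?_) fun c hc => ?_
      · rw [mul_smul, mul_smul, h.hhi_e h2 hc0, h.up_e, h.hh_e h2 hc0, h.up_e]
        congr 1; field_simp
      · rw [mul_smul, mul_smul, h.hhi_f h2 hc0, h.up_f, smul_add, h.hh_f h2 hc0, h.hh_e h2 hc0, h.up_f]
        congr 1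
        · congr 1; field_simp
        · congr 1; ring
      · rw [mul_smul, mul_smul, h.hhi_c _ hc, h.up_c _ c hc, h.hh_c _ hc, h.up_c _ c hc]
    rw [← rt_conj]
    apply le_antisymm
    · rw [rt, Subgroup.closure_le]
      rintro _ ⟨t, rfl⟩
      change hh up lo c₀ * up t * (hh up lo c₀)⁻¹ ∈ rt up
      rw [key]
      exact up_mem _
    · rw [rt, Subgroup.closure_le]
      rintro _ ⟨t, rfl⟩
      refine Subgroup.subset_closure ⟨c₀⁻¹ * (t * c₀⁻¹), ?_⟩
      change hh up lo c₀ * up _ * (hh up lo c₀)⁻¹ = up t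
      rw [key]
      congr 1; field_simp
  τC := fun c hc => h.hh_c _ hc
  τN := by
    intro n hn
    obtain ⟨_, ⟨x, rfl⟩, _, ⟨y, rfl⟩, rfl⟩ := AddSubgroup.mem_sup.1 hn
    rw [smul_add, h.hh_e h2 hc0, h.hh_f h2 hc0]
    exact add_mem (AddSubgroup.mem_sup_left ⟨_, rfl⟩) (AddSubgroup.mem_sup_right ⟨_, rfl⟩)
  fp := by
    intro n hn hfix
    refine N_inf_C h hn ((h.fix_tor h2 0 hc0 hc1 n).1 ?_)
    rw [h.up_zero hf, one_mul]
    exact hfix

theorem sup_eq_top : (e.range ⊔ f.range) ⊔ C = ⊤ := by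
  rw [eq_top_iff]
  intro v _
  obtain ⟨x, y, c, hc, rfl⟩ := h.dec v
  exact add_mem (AddSubgroup.mem_sup_left (add_mem (AddSubgroup.mem_sup_left ⟨x, rfl⟩) (AddSubgroup.mem_sup_right ⟨y, rfl⟩)))
    (AddSubgroup.mem_sup_right hc)

end bk

theorem exists_ne {F : Type w} [Field F] [Finite F] (h4 : 4 ≤ Nat.card F) : ∃ c : F, c ≠ 0 ∧ c ≠ 1 := by
  by_contra hcon
  push Not at hcon
  have h1 : (Set.univ : Set F) ⊆ {0, 1} := by
    intro x _
    by_cases hx : x = 0
    · exact Or.inl hx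
    · exact Or.inr (hcon x hx)
  have h3 := Set.ncard_le_ncard h1 (Set.toFinite _)
  rw [Set.ncard_univ] at h3
  have h5 : ({0, 1} : Set F).ncard ≤ 2 := Set.ncard_insert_le _ _ |>.trans (by rw [Set.ncard_singleton])
  omega

/-! ### the pair lemma -/

section pair

variable [Finite X] [Finite V] (h2 : ∀ v : V, v + v = 0) (hf : ∀ x : X, (∀ v : V, x • v = v) → x = 1) (hno : NO X V)

/-- **(T3) for one block.** -/
theorem ind (h2 : ∀ v : V, v + v = 0) (hf : ∀ x : X, (∀ v : V, x • v = v) → x = 1) (hno : NO X V)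
    {D : Subgroup X} {N C : AddSubgroup V} (hN : NB D N C) (h4 : 4 ≤ Nat.card D) {K : Subgroup X}
    {B₀ : Set (Subgroup X)} (hel : ∀ B ∈ B₀, El B)
    (hex : ∀ B ∈ B₀, Nat.card V ≤ Nat.card B * Nat.card (fxd B : AddSubgroup V)) (hqd : ∀ B ∈ B₀, brk V B ≤ fxd B)
    (hBK : ∀ B ∈ B₀, B ≤ K) (hBN : ∀ B ∈ B₀, ∀ b ∈ B, ∀ n ∈ N, b • n = n)
    (hDK : ∀ d ∈ D, ∀ m ∈ brk V K, d • m = m) (spl : ∀ m ∈ brk V K, m ∈ (fxd K : AddSubgroup V) → m = 0)
    (gen : K ≤ Subgroup.closure {x | ∃ g ∈ K, ∃ B ∈ B₀, ∃ b ∈ B, x = g * b * g⁻¹}) :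
    (∀ k ∈ K, ∀ n ∈ N, k • n = n) ∧ brk V K ≤ C := by
  obtain ⟨F, _, _, e, f, up, lo, h, rfl, rfl⟩ := hN.ex
  rw [h.card_rt h2 hf] at h4
  obtain ⟨c₀, hc0, hc1⟩ := exists_ne h4
  have S := sit h2 hf hno
  have T := dt h h2 hf hc0 hc1
  have hKD : brk V K ≤ fxd (rt up) := fun m hm d hd => hDK d hd m hm
  have brk_mono : ∀ {A B : Subgroup X}, A ≤ B → brk V A ≤ brk V B := by
    intro A B hAB
    exact brk_le fun a ha m => sub_mem_brk (hAB ha) m
  have hcm0 : ∀ B ∈ B₀, ∀ b ∈ B, ∀ d ∈ rt up, b * d = d * b := by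
    intro B hB b hb d hd
    refine (S.comm_of (Subgroup.mem_top _) (Subgroup.mem_top _) (fun m => ?_) fun m => ?_)
    · exact hDK d hd _ (brk_mono (hBK B hB) (sub_mem_brk hb m))
    · exact hBN B hB b hb _ (T.RN (sub_mem_brk hd m))
  obtain ⟨hKc, hDfK⟩ := S.cent (D := rt up) (K := K) le_top T.el T.ex T.qd le_top hKD
    (gen.trans (by
      apply Subgroup.closure_mono
      rintro x ⟨g, hg, B, hB, b, hb, rfl⟩
      exact ⟨g, hg, b, fun d hd => hcm0 B hB b hb d hd, rfl⟩))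
  -- conjugates
  have hBd : ∀ g ∈ K, ∀ B ∈ B₀, Bd (⊤ : Subgroup X) (rt up) (MulAut.conj g • B) V := by
    intro g hg B hB
    have hle : MulAut.conj g • B ≤ K := by
      intro x hx
      have h1 := hBK B hB (mem_cj.1 hx)
      have e1 : x = g * (g⁻¹ * x * g) * g⁻¹ := by group
      rw [e1]; exact mul_mem (mul_mem hg h1) (inv_mem hg)
    refine
      { BX := le_top
        el := (hel B hB).cj g
        ex := ?_
        qd := ?_
        cm := fun d hd b hb => (hKc b (hle hb) d hd).symm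
        BD := (brk_mono hle).trans hKD
        DB := fun m hm b hb => hDfK hm b (hle hb)
        tr := fun y hy hy' => spl y (brk_mono hle hy) (hDfK hy') }
    · have h1 : Nat.card (fxd (MulAut.conj g • B) : AddSubgroup V) = Nat.card (fxd B : AddSubgroup V) := by
        refine Nat.card_congr ⟨fun m => ⟨g⁻¹ • m.1, (fxd_cj g B).1 m.2⟩, fun m => ⟨g • m.1, ?_⟩, fun m => ?_, fun m => ?_⟩
        · rw [fxd_cj, inv_smul_smul]; exact m.2
        · exact Subtype.ext (smul_inv_smul g m.1)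
        · exact Subtype.ext (inv_smul_smul g m.1)
      rw [card_cj, h1]
      exact hex B hB
    · intro m hm
      rw [fxd_cj]
      exact hqd B hB (brk_cj hm)
  have hkeep : ∀ k ∈ K, ∀ c ∈ C, k • c ∈ C := by
    have h1 : K ≤ {
        carrier := {x | ∀ c, c ∈ C ↔ x • c ∈ C}
        mul_mem' := fun {a b} ha hb c => by rw [mul_smul, ← ha, ← hb]
        one_mem' := fun c => by rw [one_smul]
        inv_mem' := fun {a} ha c => by rw [ha (a⁻¹ • c), smul_inv_smul] } := by
      refine gen.trans ((Subgroup.closure_le _).2 ?_)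
      rintro x ⟨g, hg, B, hB, b, hb, rfl⟩ c
      have hb' : g * b * g⁻¹ ∈ MulAut.conj g • B := by
        rw [mem_cj]; convert hb using 1; group
      constructor
      · exact fun hc => T.keep S (hBd g hg B hB) hb' hc
      · intro hc
        have h3 := T.keep S (hBd g hg B hB) hb' hc
        have h5 : (g * b * g⁻¹) * (g * b * g⁻¹) = 1 := ((hel B hB).cj g).sq _ hb'
        rw [← mul_smul, h5, one_smul] at h3
        exact h3
    exact fun k hk c hc => (h1 hk c).1 hc
  have hBC0 : ∀ B ∈ B₀, brk V B ≤ C := by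
    intro B hB
    refine brk_le fun b hb m => ?_
    obtain ⟨n, hn, c, hc, rfl⟩ := AddSubgroup.mem_sup.1 ((sup_eq_top h).ge (AddSubgroup.mem_top m))
    rw [smul_add, hBN B hB b hb n hn]
    have e1 : n + b • c - (n + c) = b • c - c := by abel
    rw [e1]
    exact sub_mem (hkeep b (hBK B hB hb) c hc) hc
  have hBC : ∀ g ∈ K, ∀ B ∈ B₀, brk V (MulAut.conj g • B) ≤ C := by
    intro g hg B hB m hm
    have h1 := hkeep g hg _ (hBC0 B hB (brk_cj hm))
    rwa [smul_inv_smul] at h1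
  refine ⟨fun k hk n hn => ?_, ?_⟩
  · have h1 : K ≤ MulAction.stabilizer X n := by
      refine gen.trans ((Subgroup.closure_le _).2 ?_)
      rintro x ⟨g, hg, B, hB, b, hb, rfl⟩
      have hb' : g * b * g⁻¹ ∈ MulAut.conj g • B := by
        rw [mem_cj]; convert hb using 1; group
      exact MulAction.mem_stabilizer_iff.2 (T.kill S (hBd g hg B hB) (hBC g hg B hB) hb' hn)
    exact MulAction.mem_stabilizer_iff.1 (h1 hk)
  · have h1 : K ≤ {
        carrier := {x | (∀ c, c ∈ C ↔ x • c ∈ C) ∧ ∀ v : V, x • v - v ∈ C}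
        mul_mem' := by
          rintro a b ⟨ha, ha'⟩ ⟨hb, hb'⟩
          refine ⟨fun c => by rw [mul_smul, ← ha, ← hb], fun v => ?_⟩
          have e1 : (a * b) • v - v = a • (b • v - v) + (a • v - v) := by
            rw [mul_smul, smul_sub]; abel
          rw [e1]
          exact add_mem ((ha _).1 (hb' v)) (ha' v)
        one_mem' := ⟨fun c => by rw [one_smul], fun v => by rw [one_smul, sub_self]; exact C.zero_mem⟩
        inv_mem' := by
          rintro a ⟨ha, ha'⟩
          refine ⟨fun c => by rw [ha (a⁻¹ • c), smul_inv_smul], fun v => ?_⟩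
          rw [ha]
          have e1 : a • (a⁻¹ • v - v) = -(a • v - v) := by rw [smul_sub, smul_inv_smul]; abel
          rw [e1]
          exact neg_mem (ha' v) } := by
      refine gen.trans ((Subgroup.closure_le _).2 ?_)
      rintro x ⟨g, hg, B, hB, b, hb, rfl⟩
      have hb' : g * b * g⁻¹ ∈ MulAut.conj g • B := by
        rw [mem_cj]; convert hb using 1; group
      refine ⟨fun c => ⟨fun hc => T.keep S (hBd g hg B hB) hb' hc, fun hc => ?_⟩, fun v =>
        hBC g hg B hB (sub_mem_brk hb' v)⟩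
      have h3 := T.keep S (hBd g hg B hB) hb' hc
      have h5 : (g * b * g⁻¹) * (g * b * g⁻¹) = 1 := ((hel B hB).cj g).sq _ hb'
      rw [← mul_smul, h5, one_smul] at h3
      exact h3
    exact brk_le fun k hk v => (h1 hk).2 v

/-- `N` and `C` are determined by the root group -/
theorem NB.uniq (h2 : ∀ v : V, v + v = 0) (hf : ∀ x : X, (∀ v : V, x • v = v) → x = 1) (hno : NO X V)
    {D : Subgroup X} {N C N' C' : AddSubgroup V} (h : NB D N C) (h' : NB D N' C') (h4 : 4 ≤ Nat.card D) :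
    N = N' ∧ C = C' := by
  obtain ⟨F, _, _, e, f, up, lo, hB, rfl, rfl⟩ := h.ex
  obtain ⟨F', _, _, e', f', up', lo', hB', hD, rfl⟩ := h'.ex
  rw [hB.card_rt h2 hf] at h4
  obtain ⟨h1, -, h3⟩ := hB.eq hB' h2 hf hno h4 hD.symm
  exact ⟨h3, h1⟩

omit [Finite X] [Finite V] in
theorem NB.conj {D : Subgroup X} {N C : AddSubgroup V} (h : NB D N C) (g : X) :
    NB (MulAut.conj g • D) (N.map (DistribSMul.toAddMonoidHom V g)) (C.map (DistribSMul.toAddMonoidHom V g)) := by
  obtain ⟨F, _, _, e, f, up, lo, hB, rfl, rfl⟩ := h.ex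
  refine ⟨F, ‹_›, ‹_›, _, _, _, _, hB.conj g, rt_conj up g, ?_⟩
  rw [AddSubgroup.map_sup, AddMonoidHom.range_comp, AddMonoidHom.range_comp]

omit [Finite X] in
/-- the block group -/
theorem NB.exists_grp (h2 : ∀ v : V, v + v = 0) (hf : ∀ x : X, (∀ v : V, x • v = v) → x = 1)
    {D : Subgroup X} {N C : AddSubgroup V} (h : NB D N C) :
    ∃ K : Subgroup X, D ≤ K ∧ brk V K ≤ N ∧ (fxd K : AddSubgroup V) ≤ C ∧ C ≤ fxd K ∧ N ≤ brk V K ∧
      (∀ m ∈ N, m ∈ C → m = 0) ∧ El D ∧ Nat.card V ≤ Nat.card D * Nat.card (fxd D : AddSubgroup V) ∧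
      brk V D ≤ fxd D ∧ K ≤ Subgroup.closure {x | ∃ g ∈ K, ∃ b ∈ D, x = g * b * g⁻¹} := by
  obtain ⟨F, _, _, e, f, up, lo, hB, rfl, rfl⟩ := h.ex
  have hupK : ∀ t, up t ∈ Subgroup.closure (Set.range up ∪ Set.range lo) := fun t =>
    Subgroup.subset_closure (Or.inl ⟨t, rfl⟩)
  have hloK : ∀ t, lo t ∈ Subgroup.closure (Set.range up ∪ Set.range lo) := fun t =>
    Subgroup.subset_closure (Or.inr ⟨t, rfl⟩)
  have hC : C ≤ fxd (Subgroup.closure (Set.range up ∪ Set.range lo)) := by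
    intro c hc k hk
    have h1 : Subgroup.closure (Set.range up ∪ Set.range lo) ≤ MulAction.stabilizer X c := by
      refine (Subgroup.closure_le _).2 ?_
      rintro _ (⟨t, rfl⟩ | ⟨t, rfl⟩)
      · exact MulAction.mem_stabilizer_iff.2 (hB.up_c t c hc)
      · exact MulAction.mem_stabilizer_iff.2 (hB.lo_c t c hc)
    exact MulAction.mem_stabilizer_iff.1 (h1 hk)
  refine ⟨Subgroup.closure (Set.range up ∪ Set.range lo), ?_, ?_, ?_, hC, ?_, fun m hm hc => N_inf_C hB hm hc,
    rt_el hB h2 hf, exact_rt hB h2 hf, (brk_rt_le hB h2 hf).trans (e_le_fxd hB), ?_⟩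
  · exact Subgroup.closure_mono Set.subset_union_left
  · have h1 : Subgroup.closure (Set.range up ∪ Set.range lo) ≤ {
        carrier := {x | (∀ n, n ∈ e.range ⊔ f.range ↔ x • n ∈ e.range ⊔ f.range) ∧ ∀ v : V, x • v - v ∈ e.range ⊔ f.range}
        mul_mem' := by
          rintro a b ⟨ha, ha'⟩ ⟨hb, hb'⟩
          refine ⟨fun c => by rw [mul_smul, ← ha, ← hb], fun v => ?_⟩
          have e1 : (a * b) • v - v = a • (b • v - v) + (a • v - v) := by
            rw [mul_smul, smul_sub]; abel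
          rw [e1]
          exact add_mem ((ha _).1 (hb' v)) (ha' v)
        one_mem' := ⟨fun c => by rw [one_smul], fun v => by rw [one_smul, sub_self]; exact zero_mem _⟩
        inv_mem' := by
          rintro a ⟨ha, ha'⟩
          refine ⟨fun c => by rw [ha (a⁻¹ • c), smul_inv_smul], fun v => ?_⟩
          rw [ha]
          have e1 : a • (a⁻¹ • v - v) = -(a • v - v) := by rw [smul_sub, smul_inv_smul]; abel
          rw [e1]
          exact neg_mem (ha' v) } := by
      refine (Subgroup.closure_le _).2 ?_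
      have key : ∀ x : X, (∀ v : V, x • v - v ∈ e.range ⊔ f.range) →
          (∀ n, n ∈ e.range ⊔ f.range ↔ x • n ∈ e.range ⊔ f.range) ∧ ∀ v : V, x • v - v ∈ e.range ⊔ f.range := by
        intro x hx
        refine ⟨fun n => ⟨fun hn => ?_, fun hn => ?_⟩, hx⟩
        · have e1 : x • n = (x • n - n) + n := by abel
          rw [e1]; exact add_mem (hx n) hn
        · have e1 : n = x • n - (x • n - n) := by abel
          rw [e1]; exact sub_mem hn (hx n)
      rintro _ (⟨t, rfl⟩ | ⟨t, rfl⟩)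
      · refine key _ fun v => ?_
        obtain ⟨x, y, c, hc, rfl⟩ := hB.dec v
        rw [smul_add, smul_add, hB.up_e, hB.up_f, hB.up_c _ c hc]
        have e1 : e x + (f y + e (t * y)) + c - (e x + f y + c) = e (t * y) := by abel
        rw [e1]
        exact AddSubgroup.mem_sup_left ⟨_, rfl⟩
      · refine key _ fun v => ?_
        obtain ⟨x, y, c, hc, rfl⟩ := hB.dec v
        rw [smul_add, smul_add, hB.lo_e, hB.lo_f, hB.lo_c _ c hc]
        have e1 : e x + f (t * x) + f y + c - (e x + f y + c) = f (t * x) := by abel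
        rw [e1]
        exact AddSubgroup.mem_sup_right ⟨_, rfl⟩
    exact brk_le fun k hk v => (h1 hk).2 v
  · intro v hv
    obtain ⟨x, y, c, hc, rfl⟩ := hB.dec v
    have e1 := hv _ (hupK 1)
    rw [smul_add, smul_add, hB.up_e, hB.up_f, hB.up_c _ c hc, one_mul] at e1
    have e2 : e (x + y) + f y + c = e x + f y + c := by rw [← e1, map_add]; abel
    have e3 := (hB.uniq hc hc e2).1
    have hy : y = 0 := by
      have : x + y = x + 0 := by rw [e3, add_zero]
      exact add_left_cancel this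
    have e4 := hv _ (hloK 1)
    rw [smul_add, smul_add, hB.lo_e, hB.lo_f, hB.lo_c _ c hc, one_mul] at e4
    have e5 : e x + f (x + y) + c = e x + f y + c := by rw [← e4, map_add]; abel
    have e6 := (hB.uniq hc hc e5).2.1
    have hx : x = 0 := by
      have : x + y = 0 + y := by rw [e6, zero_add]
      exact add_right_cancel this
    rw [hx, hy, map_zero, map_zero, zero_add, zero_add]
    exact hc
  · refine sup_le ?_ ?_
    · rintro _ ⟨x, rfl⟩
      have h1 := sub_mem_brk (M := V) (hupK x) (f 1)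
      rw [hB.up_f, mul_one, add_sub_cancel_left] at h1
      exact h1
    · rintro _ ⟨x, rfl⟩
      have h1 := sub_mem_brk (M := V) (hloK x) (e 1)
      rw [hB.lo_e, mul_one, add_sub_cancel_left] at h1
      exact h1
  · refine (Subgroup.closure_le _).2 ?_
    rintro _ (⟨t, rfl⟩ | ⟨t, rfl⟩)
    · exact Subgroup.subset_closure ⟨1, one_mem _, up t, up_mem t, by group⟩
    · have hw : wt up lo 1 ∈ Subgroup.closure (Set.range up ∪ Set.range lo) :=
        mul_mem (mul_mem (hupK _) (hloK _)) (hupK _)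
      refine Subgroup.subset_closure ⟨wt up lo 1, hw, up t, up_mem t, ?_⟩
      have hwi : ∀ x : V, (wt up lo 1)⁻¹ • x = wt up lo 1 • x := by
        intro v
        rw [inv_smul_eq_iff]
        obtain ⟨x, y, c, hc, rfl⟩ := hB.dec v
        simp only [smul_add, hB.wt_e h2 one_ne_zero, hB.wt_f h2 one_ne_zero, hB.wt_c 1 hc, inv_one, one_mul]
      refine hB.ext hf (fun z => ?_) (fun z => ?_) fun c hc => ?_
      · rw [mul_smul, mul_smul, hwi, hB.wt_e h2 one_ne_zero, hB.up_f, smul_add, hB.wt_f h2 one_ne_zero,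
          hB.wt_e h2 one_ne_zero, hB.lo_e, inv_one, one_mul, one_mul, one_mul]
      · rw [mul_smul, mul_smul, hwi, hB.wt_f h2 one_ne_zero, hB.up_e, hB.wt_e h2 one_ne_zero, hB.lo_f, inv_one, one_mul,
          one_mul]
      · rw [mul_smul, mul_smul, hwi, hB.wt_c 1 hc, hB.up_c _ c hc, hB.wt_c 1 hc, hB.lo_c _ c hc]

/-- **Two natural blocks.** -/
theorem NB.ind (h2 : ∀ v : V, v + v = 0) (hf : ∀ x : X, (∀ v : V, x • v = v) → x = 1) (hno : NO X V)
    {D D' : Subgroup X} {N C N' C' : AddSubgroup V} (h : NB D N C) (h' : NB D' N' C') (h4 : 4 ≤ Nat.card D)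
    (hD : ∀ d ∈ D, ∀ m ∈ N', d • m = m) (hD' : ∀ d ∈ D', ∀ m ∈ N, d • m = m) : N' ≤ C := by
  obtain ⟨K, h1, h3, h5, h6, h7, h8, h9, h10, h11, h12⟩ := h'.exists_grp h2 hf
  refine h7.trans (Asm.ind h2 hf hno h h4 (K := K) (B₀ := {D'}) ?_ ?_ ?_ ?_ ?_ ?_ ?_ ?_).2
  · rintro B rfl; exact h9
  · rintro B rfl; exact h10
  · rintro B rfl; exact h11
  · rintro B rfl; exact h1
  · rintro B rfl; exact hD'
  · exact fun d hd m hm => hD d hd m (h3 hm)
  · exact fun m hm hm' => h8 m (h3 hm) (h5 hm')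
  · refine h12.trans (Subgroup.closure_mono ?_)
    rintro x ⟨g, hg, b, hb, rfl⟩
    exact ⟨g, hg, D', rfl, b, hb, rfl⟩

end pair

end Cfsg.Agent.Omega.NOThreeL.RRed.Blk.Asm
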