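import Cfsg.Agent.Omega.NOThreeL.RRed.Blk.AsmCore
import Cfsg.Agent.Omega.NOThreeL.RRed.Blk.AsmOf

/-!
# NO-3L, box R: `N_G(S)` permutes the minimal exact offenders in `S` (input `hn` of the mixed family)

* `nS_MZ`, `nS_Wd` : `N_G(S)` normalises `M₀ = MZ S` and `V* = Wd S`;
* `EE_nS` : `A ∈ EE S V*`, `g ∈ N_G(S)` ⟹ `A^g ∈ EE S V*`;
* **`hn_box`** : every `D ∈ im Q '' EE S V*` is `im Q A`, `A ≤ S`, with `im Q (A^g) ∈ im Q '' EE S V*`.
-/

set_option autoImplicit false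
set_option linter.unusedSectionVars false

namespace Cfsg.Agent.Omega.NOThreeL.RRed.Blk.AsmHn

open Subgroup Cfsg Cfsg.Agent.ZN Cfsg.Agent.Omega.MinPar
open Cfsg.Agent.ZN.ChoiceBase
open Cfsg.Agent.Omega.NOThreeL.RSplit (Nrm)
open Cfsg.Agent.Omega.NOThreeL.Merge (MZ le_MZ)
open Cfsg.Agent.Omega.NOThreeL.RRed.Blk.TypesNat (XH ph im)
open Cfsg.Agent.Omega.NOThreeL.RRed.NS (conj_eq_cj)
open scoped Pointwise

universe u

variable {G : Type u} [Group G] [Finite G] {S : Sylow 2 G}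

/-- `N_G(S)` normalises `M₀`. -/
theorem nS_MZ : normalizer ((S : Subgroup G) : Set G) ≤ normalizer (MZ (S : Subgroup G) : Set G) := by
  intro n hn
  refine mem_normalizer_of_cj_le ?_
  rw [cj, map_le_iff_le_comap]
  refine sSup_le fun P hP => ?_
  rw [← map_le_iff_le_comap]
  exact le_MZ ((FrameNOFF.inv S).nF n hn P hP)

/-- `N_G(S)` normalises `V*`. -/
theorem nS_Wd : normalizer ((S : Subgroup G) : Set G) ≤ normalizer (Wd (S : Subgroup G) : Set G) := by
  have key : ∀ x ∈ normalizer ((S : Subgroup G) : Set G), cj x (Wd (S : Subgroup G)) ≤ Wd (S : Subgroup G) := by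
    intro x hx
    refine NoFF.Basic.conj_V_le fun p hp => ?_
    have e : MulAut.conj (x * p) • zc (S : Subgroup G) =
        MulAut.conj (x * p * x⁻¹) • cj x (zc (S : Subgroup G)) := by
      change _ = MulAut.conj (x * p * x⁻¹) • (MulAut.conj x • zc (S : Subgroup G))
      rw [NoFF.Basic.conj_conj]
      congr 1
      group
    rw [e, cj_eq_of_mem_normalizer (normalizer_le_normalizer_zc _ hx)]
    exact NoFF.Basic.Z_le_V ((mem_normalizer_iff.1 (nS_MZ hx) p).1 hp)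
  exact fun x hx => mem_normalizer_of_cj_le (key x hx)

/-- `N_G(S)` permutes the minimal exact offenders in `S`. -/
theorem EE_nS {g : G} (hg : g ∈ normalizer ((S : Subgroup G) : Set G)) {A : Subgroup G}
    (hA : A ∈ AsmCore.EE (S : Subgroup G) (Wd (S : Subgroup G))) :
    MulAut.conj g • A ∈ AsmCore.EE (S : Subgroup G) (Wd (S : Subgroup G)) := by
  rw [conj_eq_cj]
  refine ⟨?_, CI.mx_conj hA.2 (nS_Wd hg)⟩
  have h2 := cj_mono g hA.1
  rwa [cj_eq_of_mem_normalizer hg] at h2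

/-- **The input `hn`** for all minimal exact offenders. -/
theorem hn_box (Q : Nrm (MZ (S : Subgroup G)) (Wd (S : Subgroup G))) :
    ∀ g ∈ normalizer ((S : Subgroup G) : Set G),
      ∀ D ∈ im Q '' AsmCore.EE (S : Subgroup G) (Wd (S : Subgroup G)),
        ∃ A ≤ (S : Subgroup G), im Q A = D ∧
          im Q (MulAut.conj g • A) ∈ im Q '' AsmCore.EE (S : Subgroup G) (Wd (S : Subgroup G)) := by
  rintro g hg _ ⟨A, hA, rfl⟩
  exact ⟨A, hA.1, rfl, _, EE_nS hg hA, rfl⟩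

end Cfsg.Agent.Omega.NOThreeL.RRed.Blk.AsmHn
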