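import Cfsg.Agent.Omega.NOThreeL.RRed.Blk.Def

/-!
# NO-3L, box R: a vector of full support whose `L`-conjugates are all `⨆ E b`-conjugate (#25135 (0), #25243 (4))

`Dec S L U N E R₀`, `B = ⨆ b, N b`; `O b ⊆ N b` is a set with: `O (b ^ g) = (O b) ^ g` for `g ∈ L`, `E b` transitive on
`O b`, `N_S(N b)` fixes an element of `O b`.

* `Dec.exists_comp` : an element of `B` with given components; `Dec.inf_R` : `B ⊓ R₀ = 1`; `Dec.le_norm_B`;
* `Dec.exists_equi` : a choice `z b ∈ O b` compatible with the action of `S`;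
* `Dec.exists_conj` : two elements of `B` with components in the `O b` are conjugate under `⨆ E b`;
* **`Dec.exists_tr`** : `e ∈ B` centralised by `S`, `e_b ∈ O b` for all `b`, and every `L`-conjugate of `e` is a
  `⨆ E b`-conjugate; `L ≤ (L ⊓ C(R₀)) ⊔ (L ⊓ C(e))`;
* `Dec.fix_split` : `C_U(S) = C_B(S) × C_{R₀}(S)`; `Dec.R_eq` : `U = ⟨C_U(S)^L⟩` ⇒ `R₀ = ⟨C_{R₀}(S)^L⟩`.
-/

set_option autoImplicit false
set_option linter.unusedSectionVars false

namespace Cfsg.Agent.Omega.NOThreeL.RRed.Blk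

open Subgroup Cfsg
open scoped Pointwise

universe u v

variable {G : Type u} [Group G] {ι : Type v}

namespace Dec

variable {S L U : Subgroup G} {N E : ι → Subgroup G} {R₀ : Subgroup G} (h : Dec S L U N E R₀)
include h

/-- an element with given components -/
theorem exists_comp [Finite ι] (z : ι → G) (hz : ∀ b, z b ∈ N b) :
    ∃ e ∈ ⨆ b, N b, ∀ b, IsC N R₀ b e (z b) := by
  classical
  have := Fintype.ofFinite ι
  have key : ∀ s : Finset ι, ∃ e ∈ ⨆ b, N b, (∀ b ∈ s, IsC N R₀ b e (z b)) ∧ ∀ b ∉ s, IsC N R₀ b e 1 := by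
    intro s
    induction s using Finset.induction_on with
    | empty => exact ⟨1, one_mem _, fun b hb => absurd hb (Finset.notMem_empty b), fun b _ => h.comp_one (one_mem _)⟩
    | insert b s hb ih =>
      obtain ⟨e, he, h1, h2⟩ := ih
      refine ⟨z b * e, mul_mem (le_iSup N b (hz b)) he, fun c hc => ?_, fun c hc => ?_⟩
      · rcases Finset.mem_insert.1 hc with rfl | hc
        · have := h.comp_mul (h.comp_self (hz c)) (h2 c hb)
          rwa [mul_one] at this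
        · have hne : b ≠ c := fun e => hb (e ▸ hc)
          have := h.comp_mul (h.comp_ne hne (hz b)) (h1 c hc)
          rwa [one_mul] at this
      · rw [Finset.mem_insert, not_or] at hc
        have := h.comp_mul (h.comp_ne (Ne.symm hc.1) (hz b)) (h2 c hc.2)
        rwa [one_mul] at this
  obtain ⟨e, he, h1, -⟩ := key Finset.univ
  exact ⟨e, he, fun b => h1 b (Finset.mem_univ b)⟩

/-- `B ⊓ R₀ = 1` -/
theorem inf_R [Finite ι] : (⨆ b, N b) ⊓ R₀ = ⊥ := by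
  rw [eq_bot_iff]
  intro x hx
  rw [mem_bot]
  exact h.ext hx.1 (one_mem _) fun b => ⟨1, h.comp_one (h.R_le_Co b hx.2), h.comp_one (one_mem _)⟩

theorem conj_B {g : G} (hg : g ∈ L) : MulAut.conj g • (⨆ b, N b) ≤ ⨆ b, N b := by
  rw [show MulAut.conj g • (⨆ b, N b) = ⨆ b, MulAut.conj g • N b from Subgroup.map_iSup _ _]
  refine iSup_le fun b => ?_
  obtain ⟨c, hc, -⟩ := h.perm g hg b
  rw [hc]
  exact le_iSup N c

theorem conj_mem_B {g : G} (hg : g ∈ L) {x : G} (hx : x ∈ ⨆ b, N b) : g * x * g⁻¹ ∈ ⨆ b, N b :=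
  h.conj_B hg ((conj_smul rfl).1 hx)

theorem le_norm_B : L ≤ normalizer ((⨆ b, N b : Subgroup G) : Set G) := by
  intro g hg
  rw [mem_normalizer_iff]
  refine fun x => ⟨fun hx => h.conj_mem_B hg hx, fun hx => ?_⟩
  have h1 := h.conj_mem_B (inv_mem hg) hx
  have e : g⁻¹ * (g * x * g⁻¹) * g⁻¹⁻¹ = x := by group
  rwa [e] at h1

theorem B_le : (⨆ b, N b) ≤ U := iSup_le h.NU

/-- the `E b` normalise all `N c` -/
theorem E_conj {b : ι} {a : G} (ha : a ∈ E b) (c : ι) : MulAut.conj a • N c = N c := by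
  have hn : a ∈ normalizer (N c : Set G) := by
    by_cases hbc : b = c
    · rw [← hbc]; exact h.EN b ha
    · exact centralizer_le_normalizer _ (h.EC b c hbc ha)
  ext x
  rw [mem_pointwise_smul_iff_inv_smul_mem, ← map_inv, MulAut.smul_def, MulAut.conj_apply, inv_inv]
  constructor
  · intro hx
    have := conj_of hn hx
    have e : a * (a⁻¹ * x * a) * a⁻¹ = x := by group
    rwa [e] at this
  · intro hx
    have := conj_of (inv_mem hn) hx
    rwa [inv_inv] at this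

theorem E_le : (⨆ b, E b) ≤ L := iSup_le h.EL

theorem E_le_cent : (⨆ b, E b) ≤ centralizer (R₀ : Set G) := iSup_le h.ER

/-- every index is an image -/
theorem exists_pre {g : G} (hg : g ∈ L) (c : ι) : ∃ b, MulAut.conj g • N b = N c := by
  obtain ⟨b, hb, -⟩ := h.perm g⁻¹ (inv_mem hg) c
  refine ⟨b, ?_⟩
  rw [← hb, map_inv, smul_inv_smul]

/-- **a choice compatible with the action of `S`** -/
theorem exists_equi (O : ι → Set G)
    (hO : ∀ b, ∃ x ∈ O b, ∀ s ∈ S, MulAut.conj s • N b = N b → s * x * s⁻¹ = x)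
    (hc : ∀ s ∈ S, ∀ b c, MulAut.conj s • N b = N c → ∀ x ∈ O b, s * x * s⁻¹ ∈ O c) :
    ∃ z : ι → G, (∀ b, z b ∈ O b) ∧
      ∀ s ∈ S, ∀ b c, MulAut.conj s • N b = N c → s * z b * s⁻¹ = z c := by
  classical
  have hp : ∀ (s : S) (b : ι), ∃ c, MulAut.conj (s : G) • N b = N c := fun s b => by
    obtain ⟨c, h1, -⟩ := h.perm s (h.SL s.2) b
    exact ⟨c, h1⟩
  choose ac hac using hp
  let act : MulAction S ι :=
    { smul := ac
      one_smul := fun b => h.Ninj (by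
        show N (ac 1 b) = N b
        rw [← hac, coe_one, map_one, one_smul])
      mul_smul := fun s t b => h.Ninj (by
        show N (ac (s * t) b) = N (ac s (ac t b))
        rw [← hac, ← hac, ← hac, coe_mul, map_mul, mul_smul]) }
  have hsm : ∀ (s : S) (b : ι), MulAut.conj (s : G) • N b = N (s • b) := hac
  choose f hf1 hf2 using hO
  set r : ι → ι := fun b => (Quotient.mk (MulAction.orbitRel S ι) b).out with hr
  have hex : ∀ b, ∃ t : S, t • r b = b := by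
    intro b
    have h1 : Quotient.mk (MulAction.orbitRel S ι) (r b) = Quotient.mk (MulAction.orbitRel S ι) b :=
      Quotient.out_eq _
    obtain ⟨t, ht⟩ := MulAction.orbitRel_apply.1 (Quotient.exact h1.symm)
    exact ⟨t, ht⟩
  choose t ht using hex
  refine ⟨fun b => (t b : G) * f (r b) * (t b : G)⁻¹, fun b => ?_, fun s hs b c hbc => ?_⟩
  · exact hc _ (t b).2 (r b) b (by rw [hsm, ht]) _ (hf1 _)
  · have hc' : (⟨s, hs⟩ : S) • b = c := h.Ninj (by rw [← hsm]; exact hbc)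
    have hrr : r c = r b := by
      rw [hr]
      refine congrArg Quotient.out (Quotient.sound ?_)
      exact MulAction.orbitRel_apply.2 ⟨⟨s, hs⟩, hc'⟩
    have h1 : ((t c)⁻¹ * ⟨s, hs⟩ * t b) • r b = r b := by
      rw [mul_smul, mul_smul, ht, hc', inv_smul_eq_iff, ← hrr, ht]
    have h2 := hf2 (r b) ((t c)⁻¹ * ⟨s, hs⟩ * t b : S) ((t c)⁻¹ * ⟨s, hs⟩ * t b).2 (by rw [hsm, h1])
    show s * ((t b : G) * f (r b) * (t b : G)⁻¹) * s⁻¹ = (t c : G) * f (r c) * (t c : G)⁻¹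
    rw [hrr]
    have e : s * ((t b : G) * f (r b) * (t b : G)⁻¹) * s⁻¹ =
        (t c : G) * ((((t c)⁻¹ * ⟨s, hs⟩ * t b : S) : G) * f (r b) * (((t c)⁻¹ * ⟨s, hs⟩ * t b : S) : G)⁻¹) *
          (t c : G)⁻¹ := by
      rw [coe_mul, coe_mul, coe_inv]
      group
    rw [e, h2]

/-- two elements of `B` with components in the `O b` are conjugate under `⨆ E b` -/
theorem exists_conj [Finite ι] {O : ι → Set G} (hON : ∀ b, O b ⊆ N b)
    (htr : ∀ b, ∀ x ∈ O b, ∀ y ∈ O b, ∃ e ∈ E b, e * x * e⁻¹ = y) {e e' : G} (he : e ∈ ⨆ b, N b)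
    (he' : e' ∈ ⨆ b, N b) {z z' : ι → G} (hz : ∀ b, z b ∈ O b) (hz' : ∀ b, z' b ∈ O b)
    (hc : ∀ b, IsC N R₀ b e (z b)) (hc' : ∀ b, IsC N R₀ b e' (z' b)) :
    ∃ g ∈ ⨆ b, E b, g * e * g⁻¹ = e' := by
  classical
  have := Fintype.ofFinite ι
  have key : ∀ s : Finset ι, ∃ g ∈ ⨆ b, E b, (∀ b ∈ s, IsC N R₀ b (g * e * g⁻¹) (z' b)) ∧
      ∀ b ∉ s, IsC N R₀ b (g * e * g⁻¹) (z b) := by
    intro s
    induction s using Finset.induction_on with
    | empty =>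
      refine ⟨1, one_mem _, fun b hb => absurd hb (Finset.notMem_empty b), fun b _ => ?_⟩
      rw [one_mul, inv_one, mul_one]
      exact hc b
    | insert b s hb ih =>
      obtain ⟨g, hg, h1, h2⟩ := ih
      obtain ⟨a, ha, h3⟩ := htr b (z b) (hz b) (z' b) (hz' b)
      have e1 : a * g * e * (a * g)⁻¹ = a * (g * e * g⁻¹) * a⁻¹ := by group
      refine ⟨a * g, mul_mem (le_iSup E b ha) hg, fun c hcs => ?_, fun c hcs => ?_⟩
      · rw [e1]
        rcases Finset.mem_insert.1 hcs with rfl | hcs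
        · have := h.comp_conj (h.EL c ha) (h.E_conj ha c) (h2 c hb)
          rwa [h3] at this
        · have hne : b ≠ c := fun e => hb (e ▸ hcs)
          have := h.comp_conj (h.EL b ha) (h.E_conj ha c) (h1 c hcs)
          rwa [cent (h.EC b c hne ha) (hON c (hz' c))] at this
      · rw [Finset.mem_insert, not_or] at hcs
        rw [e1]
        have := h.comp_conj (h.EL b ha) (h.E_conj ha c) (h2 c hcs.2)
        rwa [cent (h.EC b c (Ne.symm hcs.1) ha) (hON c (hz c))] at this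
  obtain ⟨g, hg, h1, -⟩ := key Finset.univ
  exact ⟨g, hg, h.ext (h.conj_mem_B (h.E_le hg) he) he' fun b => ⟨z' b, h1 b (Finset.mem_univ b), hc' b⟩⟩

/-- `Y = E C_Y(e)`, as groups -/
theorem le_sup_of_tr {e : G} (htr : ∀ y ∈ L, ∃ g ∈ ⨆ b, E b, g * e * g⁻¹ = y * e * y⁻¹) :
    L ≤ (L ⊓ centralizer (R₀ : Set G)) ⊔ (L ⊓ centralizer ({e} : Set G)) := by
  intro y hy
  obtain ⟨g, hg, h1⟩ := htr y hy
  have h2 : g⁻¹ * y ∈ L ⊓ centralizer ({e} : Set G) := by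
    refine mem_inf.2 ⟨mul_mem (inv_mem (h.E_le hg)) hy, mem_centralizer_singleton_iff.2 ?_⟩
    have e2 : g⁻¹ * y * e = g⁻¹ * (y * e * y⁻¹) * y := by group
    rw [e2, ← h1]
    group
  have e3 : y = g * (g⁻¹ * y) := by group
  rw [e3]
  exact mul_mem (mem_sup_left (mem_inf.2 ⟨h.E_le hg, h.E_le_cent hg⟩)) (mem_sup_right h2)

/-- **a vector of full support with `Y = E C_Y(e)`** -/
theorem exists_tr [Finite ι] (O : ι → Set G) (hON : ∀ b, O b ⊆ N b)
    (hO : ∀ b, ∃ x ∈ O b, ∀ s ∈ S, MulAut.conj s • N b = N b → s * x * s⁻¹ = x)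
    (hc : ∀ g ∈ L, ∀ b c, MulAut.conj g • N b = N c → ∀ x ∈ O b, g * x * g⁻¹ ∈ O c)
    (htr : ∀ b, ∀ x ∈ O b, ∀ y ∈ O b, ∃ e ∈ E b, e * x * e⁻¹ = y) :
    ∃ e ∈ ⨆ b, N b, (∀ s ∈ S, s * e = e * s) ∧ (∀ b, ∃ n ∈ O b, IsC N R₀ b e n) ∧
      (∀ y ∈ L, ∃ g ∈ ⨆ b, E b, g * e * g⁻¹ = y * e * y⁻¹) ∧
      L ≤ (L ⊓ centralizer (R₀ : Set G)) ⊔ (L ⊓ centralizer ({e} : Set G)) := by
  obtain ⟨z, hz1, hz2⟩ := h.exists_equi O hO fun s hs => hc s (h.SL hs)
  obtain ⟨e, he, hez⟩ := h.exists_comp z fun b => hON b (hz1 b)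
  have hT : ∀ y ∈ L, ∃ g ∈ ⨆ b, E b, g * e * g⁻¹ = y * e * y⁻¹ := by
    intro y hy
    choose p hp using h.exists_pre hy
    exact h.exists_conj hON htr he (h.conj_mem_B hy he) hz1
      (fun b => hc y hy (p b) b (hp b) _ (hz1 (p b))) hez fun b => h.comp_conj hy (hp b) (hez (p b))
  refine ⟨e, he, fun s hs => ?_, fun b => ⟨z b, hz1 b, hez b⟩, hT, h.le_sup_of_tr hT⟩
  have hsL := h.SL hs
  have h1 : s * e * s⁻¹ = e := by
    refine h.ext (h.conj_mem_B hsL he) he fun c => ⟨z c, ?_, hez c⟩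
    obtain ⟨b, hb⟩ := h.exists_pre hsL c
    have h2 := h.comp_conj hsL hb (hez b)
    rwa [hz2 s hs b c hb] at h2
  calc s * e = (s * e * s⁻¹) * s := by group
    _ = e * s := by rw [h1]

/-- the components of an `S`-fixed element are `S`-fixed -/
theorem fix_split [Finite ι] {z : G} (hz : z ∈ U) (hS : ∀ s ∈ S, s * z = z * s) :
    ∃ b ∈ ⨆ b, N b, ∃ r ∈ R₀, z = b * r ∧ (∀ s ∈ S, s * b = b * s) ∧ ∀ s ∈ S, s * r = r * s := by
  have hz' := hz
  rw [← h.sup] at hz'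
  obtain ⟨b, hb, r, hr, e⟩ := mem_sup_of (h.nor h.B_le h.RU) hz'
  have key : ∀ s ∈ S, s * b * s⁻¹ = b ∧ s * r * s⁻¹ = r := by
    intro s hs
    have hsL := h.SL hs
    have hb' := h.conj_mem_B hsL hb
    have hr' := conj_of (h.Rnor hsL) hr
    have h1 : (s * b * s⁻¹) * (s * r * s⁻¹) = b * r := by
      have e1 : (s * b * s⁻¹) * (s * r * s⁻¹) = s * (b * r) * s⁻¹ := by group
      rw [e1, ← e, hS s hs]; group
    have h2 : b⁻¹ * (s * b * s⁻¹) = r * (s * r * s⁻¹)⁻¹ := by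
      calc b⁻¹ * (s * b * s⁻¹) = b⁻¹ * ((s * b * s⁻¹) * (s * r * s⁻¹)) * (s * r * s⁻¹)⁻¹ := by group
        _ = r * (s * r * s⁻¹)⁻¹ := by rw [h1]; group
    have h3 : b⁻¹ * (s * b * s⁻¹) ∈ (⨆ b, N b) ⊓ R₀ :=
      mem_inf.2 ⟨mul_mem (inv_mem hb) hb', by rw [h2]; exact mul_mem hr (inv_mem hr')⟩
    rw [h.inf_R, mem_bot] at h3
    refine ⟨(inv_mul_eq_one.1 h3).symm, ?_⟩
    rw [h3] at h2
    exact (mul_inv_eq_one.1 h2.symm).symm
  refine ⟨b, hb, r, hr, e, fun s hs => ?_, fun s hs => ?_⟩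
  · calc s * b = (s * b * s⁻¹) * s := by group
      _ = b * s := by rw [(key s hs).1]
  · calc s * r = (s * r * s⁻¹) * s := by group
      _ = r * s := by rw [(key s hs).2]

/-- `U = ⟨C_U(S)^L⟩` gives `R₀ = ⟨C_{R₀}(S)^L⟩` -/
theorem R_le_of [Finite ι]
    (hgen : ∀ K : Subgroup G, (∀ g ∈ L, ∀ z ∈ U, (∀ s ∈ S, s * z = z * s) → g * z * g⁻¹ ∈ K) → U ≤ K)
    {K : Subgroup G} (hK : ∀ g ∈ L, ∀ z ∈ R₀, (∀ s ∈ S, s * z = z * s) → g * z * g⁻¹ ∈ K) : R₀ ≤ K := by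
  have h1 : U ≤ (⨆ b, N b) ⊔ (K ⊓ R₀) := by
    refine hgen _ fun g hg z hz hzS => ?_
    obtain ⟨b, hb, r, hr, e, -, h3⟩ := h.fix_split hz hzS
    have e1 : g * z * g⁻¹ = (g * b * g⁻¹) * (g * r * g⁻¹) := by rw [e]; group
    rw [e1]
    exact mul_mem (mem_sup_left (h.conj_mem_B hg hb))
      (mem_sup_right (mem_inf.2 ⟨hK g hg r hr h3, conj_of (h.Rnor hg) hr⟩))
  intro r hr
  obtain ⟨b, hb, k, hk, e⟩ := mem_sup_of (h.nor h.B_le (inf_le_right.trans h.RU)) (h1 (h.RU hr))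
  have hb' : b ∈ (⨆ b, N b) ⊓ R₀ := by
    refine mem_inf.2 ⟨hb, ?_⟩
    have e2 : b = r * k⁻¹ := by rw [e]; group
    rw [e2]
    exact mul_mem hr (inv_mem hk.2)
  rw [h.inf_R, mem_bot] at hb'
  rw [e, hb', one_mul]
  exact hk.1

end Dec

end Cfsg.Agent.Omega.NOThreeL.RRed.Blk
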