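import Cfsg.Agent.Omega.NOThreeL.RRed.Blk.AsmCov
import Cfsg.Agent.Omega.NOThreeL.RRed.LeftThree
import Cfsg.Agent.Omega.NOThreeL.RRed.FsOf
import Cfsg.Agent.Omega.NOThreeL.RZ.LowR

/-!
# NO-3L, box R, the left case: three letters in each block (helper283)

* `low` : `W i ≤ O₂(C(x) ∩ C(y))`;
* **`three_of`** : the left case: all blocks of letters have three letters.
-/

set_option autoImplicit false
set_option linter.unusedSectionVars false

namespace Cfsg.Agent.Omega.NOThreeL.RRed.Blk.AsmLeftA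

open Subgroup Cfsg Cfsg.Agent.ZN Cfsg.Agent.Omega.MinPar
open Cfsg.Agent.Omega.FFThm
open Cfsg.Agent.Omega.NOThreeL.RRed.TvFin (Full TvV)
open Cfsg.Agent.Omega.NOThreeL.RRed.WideTree (Act MvAct CM FS Left)
open Cfsg.Agent.Omega.NOThreeL.RTree (RB)
open Cfsg.Agent.Omega.NOThreeL.Merge (MZ le_MZ isLoc_MZ)
open Cfsg.Agent.Omega.NOThreeL.RZ.TwoC.DecE (Orbs)
open Cfsg.Agent.Omega.NOThreeL.RRed.FullSup (HBad exists_fs_left)
open Cfsg.Agent.Omega.NOThreeL.RRed.ClsBlk (other_le)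
open scoped Pointwise

universe u v

variable {G : Type u} [Group G] [Finite G] {S : Sylow 2 G} {ι : Type u} {W : ι → Subgroup G}

/-- **`W i ≤ O₂(C(x) ∩ C(y))`** -/
theorem low (B : RB S) (h : CM (S : Subgroup G) W) {i : ι} {x y : G} (hx : x ∈ W i)
    (hy : y ∈ zc (S : Subgroup G)) (hy1 : y ≠ 1)
    (fact : MZ (S : Subgroup G) ≤ (MZ (S : Subgroup G) ⊓ centralizer (W i : Set G)) ⊔
      (MZ (S : Subgroup G) ⊓ centralizer ({y} : Set G))) :
    W i ≤ o2 (centralizer ({x} : Set G) ⊓ centralizer ({y} : Set G)) := by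
  have hI := AsmCls.irr_of h
  have hK : IsLoc (S : Subgroup G) (centralizer ({y} : Set G)) := RZ.LowR.isLoc_cent hy hy1
  have hKn := MinSimple.VModule.le_normalizer_zl (S : Subgroup G) (centralizer ({y} : Set G))
  have hn : MZ (S : Subgroup G) ⊓ centralizer ({y} : Set G) ≤
      normalizer ((MZ (S : Subgroup G) ⊓ centralizer (W i : Set G) : Subgroup G) : Set G) := by
    intro g hg
    rw [mem_normalizer_iff]
    have key : ∀ g ∈ MZ (S : Subgroup G), ∀ a ∈ MZ (S : Subgroup G) ⊓ centralizer (W i : Set G),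
        g * a * g⁻¹ ∈ MZ (S : Subgroup G) ⊓ centralizer (W i : Set G) := by
      intro g hg a ha
      refine mem_inf.2 ⟨mul_mem (mul_mem hg ha.1) (inv_mem hg), ?_⟩
      rw [mem_centralizer_iff]
      intro w hw
      have h4 : g⁻¹ * w * g ∈ W i := by
        have := (mem_normalizer_iff.1 (inv_mem (h.inv i hg)) w).1 hw
        rwa [inv_inv] at this
      have h5 := mem_centralizer_iff.1 ha.2 _ h4
      calc w * (g * a * g⁻¹) = g * ((g⁻¹ * w * g) * a) * g⁻¹ := by group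
        _ = g * a * g⁻¹ * w := by rw [h5]; group
    refine fun a => ⟨key g hg.1 a, fun ha => ?_⟩
    have h1 := key g⁻¹ (inv_mem hg.1) _ ha
    have e : g⁻¹ * (g * a * g⁻¹) * g⁻¹⁻¹ = a := by group
    rwa [e] at h1
  have hU : W i ⊓ zc (S : Subgroup G) ≠ ⊥ := by
    obtain ⟨z, hz, hz1⟩ := AsmCov.exists_z B h i
    intro h0
    rw [h0, mem_bot] at hz
    exact hz1 hz
  -- `W i ≤ V_K`
  have h1 : W i ≤ zl (S : Subgroup G) (centralizer ({y} : Set G)) := by
    intro w hw
    have hV : NoFF.Basic.V (W i ⊓ zc (S : Subgroup G)) (MZ (S : Subgroup G)) ≤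
        zl (S : Subgroup G) (centralizer ({y} : Set G)) := by
      refine NoFF.Basic.V_le fun g hg => ?_
      rintro _ ⟨v, hv, rfl⟩
      change g * v * g⁻¹ ∈ _
      have h2 := fact hg
      rw [sup_comm] at h2
      obtain ⟨b, hb, a, ha, rfl⟩ := mem_sup_of hn h2
      have h3 : a * v * a⁻¹ = v := cent ha.2 hv.1
      have h4 : b * a * v * (b * a)⁻¹ = b * v * b⁻¹ := by
        calc b * a * v * (b * a)⁻¹ = b * (a * v * a⁻¹) * b⁻¹ := by group
          _ = _ := by rw [h3]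
      rw [h4]
      exact conj_of (hKn hb.2) (MinSimple.VModule.zc_le_zl _ _ hv.2)
    exact hV (h.zero i _ le_rfl hU w hw)
  have h2 : W i ≤ o2 (centralizer ({y} : Set G)) :=
    h1.trans ((hK.zl_le S B.ctx.char2).trans (MinSimple.VModule.zc_le _))
  have hab : Wd (S : Subgroup G) ≤ centralizer (Wd (S : Subgroup G) : Set G) := by
    intro a ha
    rw [mem_centralizer_iff]
    exact fun b hb => (AsmInp.nrm_box B).ab b hb a ha
  have h3 : W i ≤ centralizer ({x} : Set G) := fun w hw => by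
    rw [mem_centralizer_singleton_iff]
    exact (mem_centralizer_iff.1 (hab (hI.le i hw)) x (hI.le i hx)).symm
  have h4 : o2 (centralizer ({y} : Set G)) ⊓ centralizer ({x} : Set G) ≤
      o2 (centralizer ({x} : Set G) ⊓ centralizer ({y} : Set G)) := by
    refine MinSimple.VModule.le_o2 ?_ ((MinSimple.VModule.o2_isPGroup _).to_le inf_le_left) ?_
    · exact le_inf inf_le_right (inf_le_left.trans (MinSimple.VModule.o2_le _))
    · intro g hg
      rw [mem_normalizer_iff]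
      intro a
      rw [mem_inf, mem_inf]
      exact and_congr ((mem_normalizer_iff.1 (MinSimple.VModule.le_normalizer_o2 _ hg.2)) a)
        ((mem_normalizer_iff.1 (le_normalizer hg.1)) a)
  exact (le_inf h2 h3).trans h4

variable {I : Type u} {N E : I → Subgroup G} {R₀ : Subgroup G} {Om : I → Type u} [∀ i, Fintype (Om i)]
  [∀ i, DecidableEq (Om i)] {phi : ∀ i, Finset (Om i) → G} {κ₁ : Type u} {N₁ : κ₁ → Subgroup G}
  {EM : κ₁ ⊕ I → Subgroup G} {O₁ : κ₁ → Set G} {cls₁ : κ₁ → ι} {cls : I → ι}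

/-- **the left case: three letters in each block** -/
theorem three_of [Finite κ₁] [Finite I] (B : RB S) (h : CM (S : Subgroup G) W) (hL : Left (S : Subgroup G) W)
    (hij : ∃ i j : ι, i ≠ j)
    (F : Full (S : Subgroup G) (MZ (S : Subgroup G)) (Wd (S : Subgroup G)) N E R₀ Om phi)
    (hcl₁ : ∀ a, N₁ a ≤ W (cls₁ a)) (hcl : ∀ b, N b ≤ W (cls b)) (hne : ∀ a b, cls₁ a ≠ cls b)
    (D : Dec (S : Subgroup G) (MZ (S : Subgroup G)) (Wd (S : Subgroup G)) (Sum.elim N₁ N) EM ⊥)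
    (O : Orbs (MZ (S : Subgroup G)) (Sum.elim N₁ N) EM (Sum.elim O₁ (TvTr.Orb phi)))
    (hW : ∀ i, W i = ⨆ b : {b // Sum.elim cls₁ cls b = i}, Sum.elim N₁ N b)
    (hb : HBad (S : Subgroup G) (Sum.elim N₁ N) (Sum.elim O₁ (TvTr.Orb phi))) (b : I) :
    Fintype.card (Om b) = 3 := by
  have hI := AsmCls.irr_of h
  have hi : ∃ j, j ≠ cls b := by
    obtain ⟨i, j, hij⟩ := hij
    by_cases hi : i = cls b
    · exact ⟨j, fun e => hij (by rw [hi, e])⟩
    · exact ⟨i, hi⟩
  obtain ⟨z, hz, e, he, hzF, heF, hA⟩ := exists_fs_left B h hL D O hW hb (cls b) hi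
  have hSc : ∀ w ∈ zc (S : Subgroup G), (S : Subgroup G) ≤ centralizer ({w} : Set G) := fun w hw s hs => by
    rw [mem_centralizer_singleton_iff]
    exact (MinSimple.VModule.mem_zc.1 hw).2.1 s hs
  have hCoW : ∀ c : I, cls c = cls b → ∀ j, j ≠ cls b → W j ≤ Co N R₀ c := fun c hc j hj =>
    other_le hI F (hcl c) (by rw [hc]; exact hj)
  have key : ∀ c : I, cls c = cls b → Co (Sum.elim N₁ N) ⊥ (Sum.inr c) ≤ Co N R₀ c := by
    intro c hc
    refine sup_le (iSup_le ?_) bot_le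
    rintro ⟨d | d, hd⟩
    · exact (hcl₁ d).trans (hCoW c hc _ (hne d b))
    · exact F.toDec.N_le_Co fun e => hd (by rw [e])
  have hWJ : W (cls b) = ⨆ c : ({c | cls c = cls b} : Set I), N c := by
    refine le_antisymm ?_ (iSup_le fun c => ?_)
    · rw [hW]
      refine iSup_le ?_
      rintro ⟨d | d, hd⟩
      · exact absurd hd (hne d b)
      · exact le_iSup (fun c : ({c | cls c = cls b} : Set I) => N c) ⟨d, hd⟩
    · have := hcl c.1
      rwa [show cls c.1 = cls b from c.2] at this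
  refine LeftThree.three_of_left F (hSc z hzF.mem.2) (hSc e heF.mem.2) (W := W (cls b)) (J := {c | cls c = cls b}) hWJ
    (h.inv _) (h.irr _) (fun c hc => ?_) (fun c hc => ?_)
    (low B h hzF.mem.1 heF.mem.2 heF.ne heF.fact) (fun v hv => ?_) hA b rfl
  · obtain ⟨n, hn, hnc⟩ := hz.2 (Sum.inr c) hc
    exact ⟨n, hn, hnc.1, key c hc hnc.2⟩
  · have h1 := heF.mem.1
    refine (iSup_le fun j => ?_ : (⨆ j : {j // j ≠ cls b}, W j) ≤ Co N R₀ c) h1
    exact hCoW c hc j.1 j.2
  · have := NS.elem_Wd B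
    exact this.2 v hv

end Cfsg.Agent.Omega.NOThreeL.RRed.Blk.AsmLeftA
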