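import Cfsg.Agent.Omega.NOThreeL.RRed.Blk.AsmRR
import Cfsg.Agent.Omega.NOThreeL.RRed.Blk.AsmFour
import Cfsg.Agent.Omega.NOThreeL.RRed.Blk.AsmTwo
import Cfsg.Agent.Omega.NOThreeL.RRed.TvNorm
import Cfsg.Agent.Omega.NOThreeL.RRed.LeftThree

/-!
# NO-3L, box R: the inputs `hn` and `hln` of `nbs_of_fam` for natural blocks and blocks of three letters

* `two_le_rt` : a 2-group which contains the root group contains no other element of `clo up lo`;
* `small_uniq` : `|D| = 2`;  `Fam.conj_small`;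
* **`hln_mix`** : `hln` for `RRs ∪ FF₂`;
* **`hn_mix`** : `hn` for `RRs ∪ FF₂`.
-/

set_option autoImplicit false
set_option linter.unusedSectionVars false

namespace Cfsg.Agent.Omega.NOThreeL.RRed.Blk.MixLn

open Subgroup Cfsg Cfsg.Agent.ZN Cfsg.Agent.Omega.MinPar
open Cfsg.Agent.Lib
open Cfsg.Agent.Omega.FFThm (NatKM NoOverM)
open Cfsg.Agent.Omega.NOThreeL.RSplit (Nrm)
open Cfsg.Agent.Omega.NOThreeL.RRed.NS (fxd brk mem_fxd un conj_eq_cj)
open Cfsg.Agent.Omega.NOThreeL.RRed.Blk.TypesNat (XH ph ph_smul XH_faith ph_eq ph_surj no_XH)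
open Cfsg.Agent.Omega.NOThreeL.RRed.Blk.TypesGam
open Cfsg.Agent.Omega.NOThreeL.RRed.Blk.TypesClo
open Cfsg.Agent.Omega.NOThreeL.RRed.Blk.Asm
open Cfsg.Agent.Omega.NOThreeL.RRed.Blk.AsmG (Inp RRs)
open Cfsg.Agent.Omega.NOThreeL.RRed.Blk.AsmSL (SLA sla_of_clo sla_up sla_uniq mem_rt_of mem_clo_iff)
open Cfsg.Agent.Omega.NOThreeL.RRed.Blk.AsmCore (im EP KP im_cj mem_im ph_mem_im)
open Cfsg.Agent.Omega.NOThreeL.RRed.Blk.AsmOneBlk (EB nat_fam conj_rrs hn_rrs rrs_sub card_im_conj normS_le_Wd)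
open Cfsg.Agent.Omega.NOThreeL.RRed.WideTree (Act MvAct CM Wide)
open Cfsg.Agent.Omega.NOThreeL.RTree (RB)
open Cfsg.Agent.Omega.NOThreeL.Merge (MZ le_MZ isLoc_MZ)
open Cfsg.Agent.Omega.NOThreeL.RRed.TvFin (Full)
open scoped Pointwise

universe u v w

section mat

variable {F : Type w} [Field F]

/-- an element of trace 1 has order 3 -/
theorem cube_one (h2 : ∀ x : F, x + x = 0) (M : Matrix.SpecialLinearGroup (Fin 2) F)
    (ht : M.1 0 0 + M.1 1 1 = 1) : M * M * M = 1 := by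
  have hd : M.1 0 0 * M.1 1 1 - M.1 0 1 * M.1 1 0 = 1 := SL2Mat.det_eq M
  set a := M.1 0 0
  set b := M.1 0 1
  set c := M.1 1 0
  set d := M.1 1 1
  have hn : ∀ x : F, -x = x := fun x => neg_eq_of_add_eq_zero_left (h2 x)
  have hd' : d = 1 + a := by
    have := eq_sub_of_add_eq' ht
    rw [this, sub_eq_add_neg, hn]
  have hbc : b * c = 1 + a + a * a := by
    have h3 : b * c = a * d - 1 := by rw [← hd]; ring
    rw [h3, hd', sub_eq_add_neg, hn]
    ring
  have e : ∀ i j, (M * M * M).1 i j = (M.1 * M.1 * M.1) i j := fun i j => rfl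
  refine Matrix.SpecialLinearGroup.ext _ _ fun i j => ?_
  rw [e]
  have hM : M.1 = !![a, b; c, d] := by
    ext i j
    fin_cases i <;> fin_cases j <;> rfl
  rw [hM, hd']
  have two : (2 : F) = 0 := by rw [← one_add_one_eq_two, h2]
  fin_cases i <;> fin_cases j
  · simp [Matrix.mul_apply, Fin.sum_univ_two]
    linear_combination (2 * a + 1 + a) * hbc + (2 * a + 2 * a ^ 2 + 2 * a ^ 3) * two
  · simp [Matrix.mul_apply, Fin.sum_univ_two]
    linear_combination b * hbc + (2 * a * b + 2 * a ^ 2 * b + b) * two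
  · simp [Matrix.mul_apply, Fin.sum_univ_two]
    linear_combination c * hbc + (2 * a * c + 2 * a ^ 2 * c + c) * two
  · simp [Matrix.mul_apply, Fin.sum_univ_two]
    linear_combination (3 * a + 2) * hbc + (4 * a + 4 * a ^ 2 + 2 * a ^ 3 + 1) * two

end mat

section bk

variable {X : Type u} {V : Type v} [Group X] [AddCommGroup V] [DistribMulAction X V] [Finite V]
  {F : Type w} [Field F] {e f : F →+ V} {C : AddSubgroup V} {up lo : F → X}

/-- **A 2-group which contains the root group contains no other element of `clo up lo`.** -/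
theorem two_le_rt (h : Bk e f C up lo) (hf : ∀ x : X, (∀ v : V, x • v = v) → x = 1) (h2 : ∀ v : V, v + v = 0)
    {S : Subgroup X} (hS : IsPGroup 2 S) (hD : rt up ≤ S) {x : X} (hx : x ∈ S) (hxc : x ∈ clo up lo) : x ∈ rt up := by
  obtain ⟨B, hB⟩ := sla_of_clo h hxc
  have two := h.two h2
  have p2 : ∀ y ∈ S, ∃ n, y ^ 2 ^ n = 1 := fun y hy => by
    obtain ⟨n, hn⟩ := hS ⟨y, hy⟩
    exact ⟨n, congrArg Subtype.val hn⟩
  by_cases hc : B.1 1 0 = 0
  · refine mem_rt_of h hf h2 hxc (p2 x hx) ⟨B.1 0 0, ?_⟩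
    have h1 := hB.act ![1, 0]
    simp [Matrix.mulVec, dotProduct, Fin.sum_univ_two, hc] at h1
    exact h1
  · exfalso
    set t : F := (1 + B.1 0 0 + B.1 1 1) / B.1 1 0 with ht
    have hup := sla_up h t
    have hy := hB.mul hup
    have htr : (B * SL2Mat.up t).1 0 0 + (B * SL2Mat.up t).1 1 1 = 1 := by
      have e1 : (B * SL2Mat.up t).1 0 0 + (B * SL2Mat.up t).1 1 1 = B.1 0 0 + (B.1 1 0 * t + B.1 1 1) := by
        have e2 : (B * SL2Mat.up t).1 = B.1 * (SL2Mat.up t).1 := rfl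
        rw [e2]
        simp [Matrix.mul_apply, Fin.sum_univ_two, SL2Mat.up, SL2Mat.mk]
      rw [e1, ht, mul_div_cancel₀ _ hc]
      have e3 : B.1 0 0 + (1 + B.1 0 0 + B.1 1 1 + B.1 1 1) = 1 + (B.1 0 0 + B.1 0 0) + (B.1 1 1 + B.1 1 1) := by ring
      rw [e3, two, two, add_zero, add_zero]
    have h3 := cube_one two _ htr
    have h4 : (x * up t) * (x * up t) * (x * up t) = 1 := by
      have h5 := (hy.mul hy).mul hy
      rw [h3] at h5
      exact sla_uniq h hf h5 SLA.one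
    obtain ⟨n, hn⟩ := p2 _ (mul_mem hx (hD (up_mem t)))
    have h5 : x * up t = 1 := by
      have h6 : orderOf (x * up t) ∣ 3 := orderOf_dvd_of_pow_eq_one (by rw [pow_three', h4])
      have h7 : orderOf (x * up t) ∣ 2 ^ n := orderOf_dvd_of_pow_eq_one hn
      have h8 : Nat.Coprime 3 (2 ^ n) := Nat.Coprime.pow_right n (by decide)
      exact orderOf_eq_one_iff.1 (Nat.eq_one_of_dvd_coprimes h8 h6 h7)
    apply hc
    have h6 := hy.act ![1, 0]
    rw [h5, one_smul] at h6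
    have e2 : (B * SL2Mat.up t).1 = B.1 * (SL2Mat.up t).1 := rfl
    rw [e2] at h6
    simp [Matrix.mul_apply, Matrix.mulVec, dotProduct, Fin.sum_univ_two, SL2Mat.up, SL2Mat.mk] at h6
    have h7 : e 1 + f 0 = e (B.1 0 0) + f (B.1 1 0) := by rw [map_zero, add_zero]; exact h6
    exact (AsmSL.vec_uniq h h7).2.symm

/-- **`|D| = 2`** -/
theorem small_uniq {D : Subgroup X} {N C : AddSubgroup V} (h : NB D N C)
    (hf : ∀ x : X, (∀ v : V, x • v = v) → x = 1) (h2 : ∀ v : V, v + v = 0) (h3 : Nat.card D = 2) {S : Subgroup X}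
    (hS : IsPGroup 2 S) (hD : D ≤ S) {x : X} (hx : x ∈ S) (hC : ∀ c ∈ C, x • c = c) (hN : ∀ n ∈ N, x • n ∈ N) :
    x ∈ D := by
  obtain ⟨F, _, _, e, f, up, lo, hB, rfl, rfl⟩ := h.ex
  have hF : Nat.card F = 2 := by rw [← hB.card_rt h2 hf]; exact h3
  exact two_le_rt hB hf h2 hS hD hx (AsmT.clo_two hB hf h2 hF hC hN)

/-- the complement is the product of the other blocks -/
theorem C_le {S : Subgroup X} {FF : Set (Subgroup X)} {N C : Subgroup X → AddSubgroup V} (H : Fam S FF N C)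
    (hsup : ⨆ D ∈ FF, N D = ⊤) {D : Subgroup X} (hD : D ∈ FF) :
    C D ≤ ⨆ D' : {D' // D' ∈ FF ∧ D' ≠ D}, N D' := by
  intro m hm
  have h1 : (⊤ : AddSubgroup V) ≤ N D ⊔ ⨆ D' : {D' // D' ∈ FF ∧ D' ≠ D}, N D' := by
    rw [← hsup]
    refine iSup₂_le fun D' hD' => ?_
    by_cases e1 : D' = D
    · rw [e1]; exact le_sup_left
    · exact (le_iSup (fun D' : {D' // D' ∈ FF ∧ D' ≠ D} => N D') ⟨D', hD', e1⟩).trans le_sup_right
  obtain ⟨n, hn, r, hr, rfl⟩ := AddSubgroup.mem_sup.1 (h1 (AddSubgroup.mem_top m))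
  have h3 : r ∈ C D := by
    have h4 : (⨆ D' : {D' // D' ∈ FF ∧ D' ≠ D}, N D') ≤ C D := iSup_le fun D' => H.ind D hD D' D'.2.1 D'.2.2
    exact h4 hr
  have h4 : n ∈ C D := by
    have h5 := sub_mem hm h3
    rwa [add_sub_cancel_right] at h5
  rw [(H.nb D hD).inf_bot hn h4, zero_add]
  exact hr

/-- **The conjugates of the small root groups** -/
theorem conj_small {S : Subgroup X} {FF : Set (Subgroup X)} {N C : Subgroup X → AddSubgroup V} (H : Fam S FF N C)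
    (hf : ∀ x : X, (∀ v : V, x • v = v) → x = 1) (h2 : ∀ v : V, v + v = 0) (hS : IsPGroup 2 S)
    (hsup : ⨆ D ∈ FF, N D = ⊤) {D : Subgroup X} (hD : D ∈ FF) (h3 : Nat.card D = 2) {g : X}
    (hg : MulAut.conj g • D ≤ S) : MulAut.conj g • D ∈ FF := by
  obtain ⟨D', hD', hc, h1⟩ := H.perm g D hD
  have hfin : Finite D := Nat.finite_of_card_ne_zero (by omega)
  have hfin' : Finite D' := Nat.finite_of_card_ne_zero (by omega)
  have hle : MulAut.conj g • D ≤ D' := by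
    intro x hx
    refine small_uniq (H.nb D' hD') hf h2 (hc.trans h3) hS (H.le D' hD') (hg hx) (fun c hc' => ?_) fun n hn => ?_
    · have h5 := C_le H hsup hD' hc'
      have h6 : (⨆ D1 : {D1 // D1 ∈ FF ∧ D1 ≠ D'}, N D1) ≤ (fxd (MulAut.conj g • D) : AddSubgroup V) := by
        refine iSup_le fun D1 m hm => ?_
        rw [mem_fxd]
        intro y hy
        obtain ⟨D3, hD3, -, h4⟩ := H.perm g⁻¹ D1 D1.2.1
        have h7 : D3 ≠ D := by
          rintro rfl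
          apply D1.2.2
          refine H.inj D1.2.1 hD' ?_
          ext n
          rw [h4 n, h1 (g⁻¹ • n), smul_inv_smul]
        have h8 := H.le_EX hD (NS.mem_conj.1 hy) D3 hD3 h7 _ ((h4 m).1 hm)
        rw [mul_smul, mul_smul, smul_inv_smul] at h8
        exact smul_left_cancel _ h8
      exact mem_fxd.1 (h6 h5) x hx
    · have h5 := NS.mem_conj.1 hx
      have h6 : g⁻¹ • n ∈ N D := (h1 _).2 (by rwa [smul_inv_smul])
      have h7 : (g⁻¹ * x * g) • (g⁻¹ • n) ∈ N D := by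
        have h8 := (H.EX_le hD (H.le_EX hD h5)) D hD (g⁻¹ • n)
        exact h8.1 h6
      have h8 := (h1 _).1 h7
      rw [smul_smul, smul_smul] at h8
      have e1 : g * (g⁻¹ * x * g) * g⁻¹ = x := by group
      rwa [e1] at h8
  have he : MulAut.conj g • D = D' := by
    refine Subgroup.eq_of_le_of_card_ge hle ?_
    rw [hc, conj_ne_bot]
  rw [he]
  exact hD'

end bk

section box

variable {G : Type u} [Group G] [Finite G] {S : Sylow 2 G}

/-- **`hln`** -/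
theorem hln_mix (B : RB S) (mv : MvAct (S : Subgroup G))
    (no : NoOverM (zl (S : Subgroup G) (MZ (S : Subgroup G))) (MZ (S : Subgroup G)))
    (Q : Nrm (MZ (S : Subgroup G)) (zl (S : Subgroup G) (MZ (S : Subgroup G))))
    {FF₂ : Set (Subgroup (XH Q))} {N C : Subgroup (XH Q) → AddSubgroup Q.Mod}
    (H : Fam (im Q (S : Subgroup G)) (RRs S (MZ (S : Subgroup G)) Q ∪ FF₂) N C)
    (hsup : ⨆ D ∈ RRs S (MZ (S : Subgroup G)) Q ∪ FF₂, N D = ⊤) (hc : ∀ D ∈ FF₂, Nat.card D = 2) (g : XH Q)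
    {D : Subgroup (XH Q)} (hD : D ∈ RRs S (MZ (S : Subgroup G)) Q ∪ FF₂) :
    ∃ D' ∈ RRs S (MZ (S : Subgroup G)) Q ∪ FF₂, ∃ x ∈ EX (RRs S (MZ (S : Subgroup G)) Q ∪ FF₂) N D',
      (∀ m, m ∈ N D ↔ g • m ∈ N D') ∧ MulAut.conj g • D = MulAut.conj x • D' := by
  have hSL : (S : Subgroup G) ≤ MZ (S : Subgroup G) := (isLoc_MZ B.ctx B.full B.data.noff).le
  obtain ⟨hI, -⟩ := nat_fam B mv no Q
  have hS2 : IsPGroup 2 (im Q (S : Subgroup G)) := (TypesNat.imS Q S hSL).isPGroup'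
  refine Fam.ln (TypesNat.imS Q S hSL) (EE := RRs S (MZ (S : Subgroup G)) Q ∪ FF₂) H
    (fun D hD => ⟨H.nb D hD, fun A hA hne a ha m hm => ?_⟩) le_rfl (fun A hA g hg => ?_) g hD
  · exact mem_fxd.1 ((H.nb A hA).C_le (H.ind A hA D hD hne.symm hm)) a ha
  · rcases hA with hA | hA
    · exact Or.inl (conj_rrs B mv no Q hA hg)
    · exact conj_small H hI.hf hI.two hS2 hsup (Or.inr hA) (hc A hA) hg

end box

section tv

variable {G : Type u} [Group G] [Finite G] {S : Sylow 2 G} {I : Type u} [Finite I] {N E : I → Subgroup G}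
  {R₀ : Subgroup G} {Om : I → Type u} [∀ i, Fintype (Om i)] [∀ i, DecidableEq (Om i)] {phi : ∀ i, Finset (Om i) → G}
  (F : Full (S : Subgroup G) (MZ (S : Subgroup G)) (zl (S : Subgroup G) (MZ (S : Subgroup G))) N E R₀ Om phi)
include F

/-- the complements of the blocks of letters -/
theorem co_conj {d : G} (hM : d ∈ normalizer (MZ (S : Subgroup G) : Set G))
    (hV : d ∈ normalizer (zl (S : Subgroup G) (MZ (S : Subgroup G)) : Set G)) {b c : I}
    (h : MulAut.conj d • N b = N c) {x : G} (hx : x ∈ Co N R₀ c) : d⁻¹ * x * d ∈ Co N R₀ b := by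
  have hM' := inv_mem hM
  have hV' := inv_mem hV
  have h1 : Co N R₀ c ≤ (Co N R₀ b).comap (MulAut.conj d⁻¹).toMonoidHom := by
    refine sup_le (iSup_le fun c' y hy => ?_) fun y hy => ?_
    · rw [mem_comap]
      change d⁻¹ * y * d⁻¹⁻¹ ∈ _
      obtain ⟨b', hb'⟩ := TvTr.perm_norm F hM' hV' c'
      have h5 : d⁻¹ * y * d⁻¹⁻¹ ∈ N b' := by
        rw [← hb']
        exact ⟨y, hy, rfl⟩
      refine (F.toDec.N_le_Co ?_) h5
      rintro rfl
      apply c'.2
      apply F.toDec.Ninj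
      rw [← h, ← hb', ← mul_smul, ← map_mul, mul_inv_cancel, map_one, one_smul]
    · rw [mem_comap]
      change d⁻¹ * y * d⁻¹⁻¹ ∈ _
      have h5 := (mem_normalizer_iff.1 (TvTr.norm_R F hM' hV') y).1 hy
      exact (le_sup_right : R₀ ≤ Co N R₀ b) h5
  have h3 := h1 hx
  rw [mem_comap] at h3
  have h5 : d⁻¹ * x * d⁻¹⁻¹ ∈ Co N R₀ b := h3
  rwa [inv_inv] at h5

/-- **`hn` for the blocks of three letters** -/
theorem hn_two (hSL : (S : Subgroup G) ≤ MZ (S : Subgroup G))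
    (Q : Nrm (MZ (S : Subgroup G)) (zl (S : Subgroup G) (MZ (S : Subgroup G)))) (h2 : ∀ v : Q.Mod, v + v = 0)
    (hc : ∀ b, Fintype.card (Om b) = 3) {g : G} (hg : g ∈ normalizer ((S : Subgroup G) : Set G)) (b : I) :
    ∃ c, MulAut.conj g • N b = N c ∧
      im Q (MulAut.conj g • ((S : Subgroup G) ⊓ E b)) = im Q ((S : Subgroup G) ⊓ E c) := by
  have hM := CI.norm_MZ hg
  have hV := normS_le_Wd hg
  obtain ⟨c, hcb⟩ := TvTr.perm_norm F hM hV b
  refine ⟨c, hcb, ?_⟩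
  have hS2 : IsPGroup 2 (im Q (S : Subgroup G)) := (TypesNat.imS Q S hSL).isPGroup'
  have hA : MulAut.conj g • ((S : Subgroup G) ⊓ E b) ≤ (S : Subgroup G) := by
    intro x hx
    have h1 := NS.mem_conj.1 hx
    have h3 := (mem_normalizer_iff.1 hg _).1 h1.1
    have e : g * (g⁻¹ * x * g) * g⁻¹ = x := by group
    rwa [e] at h3
  have hle : im Q (MulAut.conj g • ((S : Subgroup G) ⊓ E b)) ≤ im Q ((S : Subgroup G) ⊓ E c) := by
    rintro _ ⟨x, hx, rfl⟩
    have hx' : g⁻¹ * (x : G) * g ∈ (S : Subgroup G) ⊓ E b := NS.mem_conj.1 hx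
    refine small_uniq (AsmTwo.nb F Q (hc c)) (fun x hx => XH_faith Q x hx) h2 (AsmTwo.card_im F Q (hc c) h2) hS2
      (AsmCore.im_mono Q inf_le_left) (ph_mem_im Q (hA hx)) (fun m hm => ?_) fun n hn => ?_
    · rw [ph_smul, NS.smul_eq_iff]
      have h3 := co_conj F hM hV hcb hm
      have h5 := mem_centralizer_iff.1 (LeftThree.cent_Co F.toDec b hx'.2) _ h3
      have e1 : (x : G) * Q.val m * (x : G)⁻¹ = g * ((g⁻¹ * x * g) * (g⁻¹ * Q.val m * g)) * (g⁻¹ * x * g)⁻¹ * g⁻¹ := by group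
      rw [e1, ← h5]
      group
    · rw [ph_smul, Nrm.mem_ad, Nrm.val_smul]
      have h3 : g⁻¹ * Q.val n * g ∈ N b := by
        have h5 : Q.val n ∈ MulAut.conj g • N b := by rw [hcb]; exact hn
        exact NS.mem_conj.1 h5
      have h5 := (mem_normalizer_iff.1 (F.EN b hx'.2) _).1 h3
      rw [← hcb, NS.mem_conj]
      have e1 : g⁻¹ * ((x : G) * Q.val n * (x : G)⁻¹) * g = (g⁻¹ * x * g) * (g⁻¹ * Q.val n * g) * (g⁻¹ * x * g)⁻¹ := by
        group
      rw [e1]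
      exact h5
  refine Subgroup.eq_of_le_of_card_ge hle ?_
  have e1 : Nat.card (im Q (MulAut.conj g • ((S : Subgroup G) ⊓ E b))) = Nat.card (im Q ((S : Subgroup G) ⊓ E b)) :=
    card_im_conj hSL hg inf_le_left
  rw [e1]
  exact ((AsmTwo.card_im F Q (hc c) h2).trans (AsmTwo.card_im F Q (hc b) h2).symm).le

/-- **`hn`** -/
theorem hn_mix (hSL : (S : Subgroup G) ≤ MZ (S : Subgroup G))
    (Q : Nrm (MZ (S : Subgroup G)) (zl (S : Subgroup G) (MZ (S : Subgroup G)))) (h2 : ∀ v : Q.Mod, v + v = 0)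
    (hc : ∀ b, Fintype.card (Om b) = 3) {g : G} (hg : g ∈ normalizer ((S : Subgroup G) : Set G))
    {D : Subgroup (XH Q)} (hD : D ∈ RRs S (MZ (S : Subgroup G)) Q ∪ AsmTwo.FF S E Q) :
    ∃ A ≤ (S : Subgroup G), im Q A = D ∧ im Q (MulAut.conj g • A) ∈ RRs S (MZ (S : Subgroup G)) Q ∪ AsmTwo.FF S E Q := by
  rcases hD with hD | ⟨b, rfl⟩
  · obtain ⟨A, h1, h3, h5⟩ := hn_rrs hSL hg hD
    exact ⟨A, h1, h3, Or.inl h5⟩
  · obtain ⟨c, -, h3⟩ := hn_two F hSL Q h2 hc hg b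
    exact ⟨_, inf_le_left, rfl, Or.inr ⟨c, h3.symm⟩⟩

end tv

end Cfsg.Agent.Omega.NOThreeL.RRed.Blk.MixLn
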