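import Cfsg.Agent.Omega.NOThreeL.RRed.Blk.SrcTwo
import Cfsg.Agent.Omega.NOThreeL.RRed.Blk.AsmInp
import Cfsg.Agent.Omega.NOThreeL.RRed.Blk.AsmTwo
import Cfsg.Agent.Omega.NOThreeL.RRed.Blk.SrcBox

/-!
# NO-3L, box R: `Src` for the blocks of three letters, the field `mov` (helper559)

`F : Full S L V N E R₀ Om phi`, `|Ω_b| = 3` for all `b`, `V = zl S L`.

* `cent_J` : the `P`-conjugates of the members of `EP` centralise the blocks of an `S`-invariant set `J`, if the members do;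
* `exists_z` : `C_V(S)` meets `⨆_{b ∈ J} N b`;
* `big_cent` : a minimal exact group of an active `P` over `K`, `|K| ≥ 4`, centralises all blocks of letters;
* `ep_nat` : `P` small, `A ∈ EP` : `A ≤ E b` for one block `b`, a block of `P`;
* **`act_two'`**, **`exists_small`** : every block is a block of a small active `P`.
-/

set_option autoImplicit false
set_option linter.unusedSectionVars false

namespace Cfsg.Agent.Omega.NOThreeL.RRed.Blk.SrcTwoM

open Subgroup Cfsg Cfsg.Agent.ZN Cfsg.Agent.Omega.MinPar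
open Cfsg.Agent.Omega.FFThm Cfsg.Agent.Lib.SL2Mat Cfsg.Agent.Omega.NatPair
open Cfsg.Agent.Omega.FrameFF (cv)
open Cfsg.Agent.Omega.NO3S.ThmB Cfsg.Agent.Omega.NO3S.KeyRad
open Cfsg.Agent.Omega.NOThreeL.RRed.NS (DD YY mem_YY)
open Cfsg.Agent.Omega.NOThreeL.RRed.TvFin (Full TvV)
open Cfsg.Agent.Omega.NOThreeL.RRed.Blk (Dec Co IsC)
open Cfsg.Agent.Omega.NOThreeL.RRed.Blk.SrcTwo
open Cfsg.Agent.Omega.NOThreeL.RRed.Blk.AsmCore (EP EE KP EP_cj)
open Cfsg.Agent.Omega.KL.TwoS (Rel Lett)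
open scoped Pointwise

universe u

section perm

variable {G : Type u} [Group G] {S : Subgroup G} {L V : Subgroup G} {I : Type u} {N E : I → Subgroup G} {R₀ : Subgroup G}

/-- `N b ≤ ⨆_{c ∈ J} N c` only for `b ∈ J` -/
theorem mem_of_le (D : Dec S L V N E R₀) {J : Set I} {b : I} (h : N b ≤ ⨆ c : J, N c) : b ∈ J := by
  by_contra hb
  apply D.ne b
  have h1 : (⨆ c : J, N c) ≤ (⨆ c : {c // c ≠ b}, N c) ⊔ R₀ := by
    refine iSup_le fun c => le_trans ?_ le_sup_left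
    exact le_iSup (fun c : {c // c ≠ b} => N c) ⟨c, fun e => hb (e ▸ c.2)⟩
  have h2 : N b ≤ N b ⊓ ((⨆ c : {c // c ≠ b}, N c) ⊔ R₀) := le_inf le_rfl (h.trans h1)
  rw [D.ind b] at h2
  exact le_bot_iff.1 h2

theorem norm_iSup {J : Set I} {g : G} (h : ∀ b ∈ J, ∃ c ∈ J, MulAut.conj g • N b = N c)
    (h' : ∀ b ∈ J, ∃ c ∈ J, MulAut.conj g⁻¹ • N b = N c) : g ∈ normalizer ((⨆ c : J, N c : Subgroup G) : Set G) := by
  have key : ∀ x : G, (∀ b ∈ J, ∃ c ∈ J, MulAut.conj x • N b = N c) →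
      MulAut.conj x • (⨆ c : J, N c) ≤ ⨆ c : J, N c := by
    intro x hx
    rw [Subgroup.pointwise_smul_subset_iff]
    refine iSup_le fun b => ?_
    rw [← Subgroup.pointwise_smul_subset_iff]
    obtain ⟨c, hc, e⟩ := hx b b.2
    rw [e]
    exact le_iSup (fun c : J => N c) ⟨c, hc⟩
  rw [mem_normalizer_iff]
  intro y
  constructor
  · intro hy
    exact key g h (Subgroup.smul_mem_pointwise_smul y _ _ hy)
  · intro hy
    have h1 := key g⁻¹ h' (Subgroup.smul_mem_pointwise_smul _ _ _ hy)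
    have e : MulAut.conj g⁻¹ • (g * y * g⁻¹) = y := by
      rw [MulAut.smul_def, MulAut.conj_apply]; group
    rw [e] at h1
    exact h1

variable [Finite G] {S : Sylow 2 G} {P : Subgroup G}

/-- **conjugates of the members of `EP`** -/
theorem cent_J (hc : IsCharacteristicTwoType G) (D : Dec (S : Subgroup G) L V N E R₀) (hP : IsParS (S : Subgroup G) P)
    (hPL : P ≤ L) (ne : (EP (S : Subgroup G) P V).Nonempty) {J : Set I}
    (hS : (S : Subgroup G) ≤ normalizer ((⨆ c : J, N c : Subgroup G) : Set G))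
    (hn : ∀ A ∈ EP (S : Subgroup G) P V, ∀ b, A ≤ normalizer (N b : Set G))
    (hA : ∀ A ∈ EP (S : Subgroup G) P V, ∀ b ∈ J, A ≤ centralizer (N b : Set G)) :
    P ≤ centralizer ((⨆ c : J, N c : Subgroup G) ⊓ centralizer ((S : Subgroup G) : Set G) : Subgroup G) := by
  have hKn : KP (S : Subgroup G) P V ≤ normalizer ((⨆ c : J, N c : Subgroup G) : Set G) := by
    rw [KP, closure_le]
    rintro _ ⟨p, hp, A, hAE, a, ha, rfl⟩
    have h1 : ∀ b, p * a * p⁻¹ ∈ normalizer (N b : Set G) := by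
      intro b
      obtain ⟨c, hc1, -⟩ := D.perm p⁻¹ (hPL (inv_mem hp)) b
      have h2 : N b = MulAut.conj p • N c := by
        rw [← hc1, ← mul_smul, ← map_mul, mul_inv_cancel, map_one, one_smul]
      have h3 := hn A hAE c ha
      rw [mem_normalizer_iff] at h3 ⊢
      intro y
      have e1 : ∀ w, w ∈ N b ↔ p⁻¹ * w * p ∈ N c := by
        intro w
        rw [h2, Subgroup.mem_pointwise_smul_iff_inv_smul_mem, ← map_inv, MulAut.smul_def, MulAut.conj_apply, inv_inv]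
      rw [e1, e1]
      have e2 : p⁻¹ * (p * a * p⁻¹ * y * (p * a * p⁻¹)⁻¹) * p = a * (p⁻¹ * y * p) * a⁻¹ := by group
      rw [e2]
      exact h3 (p⁻¹ * y * p)
    have key : ∀ x : G, (∀ b, x ∈ normalizer (N b : Set G)) → x ∈ normalizer ((⨆ c : J, N c : Subgroup G) : Set G) := by
      intro x hx
      have h4 : ∀ g : G, (∀ b, g ∈ normalizer (N b : Set G)) → ∀ b, MulAut.conj g • N b = N b :=
        fun g hg b => by
          ext y
          rw [Subgroup.mem_pointwise_smul_iff_inv_smul_mem, ← map_inv, MulAut.smul_def, MulAut.conj_apply]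
          exact ((mem_normalizer_iff.1 (inv_mem (hg b))) y).symm
      exact norm_iSup (fun b hb => ⟨b, hb, h4 x hx b⟩) fun b hb => ⟨b, hb, h4 x⁻¹ (fun b => inv_mem (hx b)) b⟩
    exact key _ h1
  have hPn : P ≤ normalizer ((⨆ c : J, N c : Subgroup G) : Set G) :=
    (AsmCore.le_KP_sup hc hP ne).trans (sup_le hKn hS)
  have hKc : KP (S : Subgroup G) P V ≤ centralizer ((⨆ c : J, N c : Subgroup G) : Set G) := by
    rw [le_centralizer_iff]
    refine iSup_le fun c => ?_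
    rw [le_centralizer_iff, KP, closure_le]
    rintro _ ⟨p, hp, A, hAE, a, ha, rfl⟩
    obtain ⟨b, hb1, -⟩ := D.perm p⁻¹ (hPL (inv_mem hp)) c
    have h2 : b ∈ J := by
      refine mem_of_le D ?_
      rw [← hb1]
      intro y hy
      rw [Subgroup.mem_pointwise_smul_iff_inv_smul_mem, ← map_inv, inv_inv, MulAut.smul_def, MulAut.conj_apply] at hy
      have h3 := le_iSup (fun c : J => N c) c hy
      exact (mem_normalizer_iff.1 (hPn hp) y).2 h3
    have h3 := hA A hAE b h2 ha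
    rw [SetLike.mem_coe, mem_centralizer_iff]
    intro n hn'
    have h4 : p⁻¹ * n * p ∈ N b := by
      rw [← hb1, Subgroup.mem_pointwise_smul_iff_inv_smul_mem, ← map_inv, inv_inv, MulAut.smul_def, MulAut.conj_apply]
      have e : p * (p⁻¹ * n * p) * p⁻¹ = n := by group
      rw [e]
      exact hn'
    have h5 := mem_centralizer_iff.1 h3 _ h4
    calc n * (p * a * p⁻¹) = p * (p⁻¹ * n * p * a) * p⁻¹ := by group
      _ = p * (a * (p⁻¹ * n * p)) * p⁻¹ := by rw [h5]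
      _ = _ := by group
  refine (AsmCore.le_KP_sup hc hP ne).trans (sup_le (hKc.trans ?_) ?_)
  · exact centralizer_le inf_le_left
  · rw [le_centralizer_iff]
    exact inf_le_right

/-- a fixed vector of `S` -/
theorem exists_z (hV2 : IsElementaryAbelian 2 V) (hVS : V ≤ (S : Subgroup G)) {B : Subgroup G} (hB : B ≤ V) (h1 : B ≠ ⊥)
    (hS : (S : Subgroup G) ≤ normalizer (B : Set G)) :
    ∃ z ∈ zc (S : Subgroup G), z ≠ 1 ∧ z ∈ B ⊓ centralizer ((S : Subgroup G) : Set G) := by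
  have hf2 : Fact (Nat.Prime 2) := ⟨Nat.prime_two⟩
  have h5 := PLocal.OffenderStep.inf_centralizer_ne_bot _ (S : Subgroup G) (S.isPGroup'.to_le (hB.trans hVS))
    S.isPGroup' hS h1
  obtain ⟨z, hz1⟩ := Subgroup.ne_bot_iff_exists_ne_one.1 h5
  exact ⟨z, ChoiceBase.mem_zc.2 ⟨hVS (hB z.2.1), hV2.2 _ (hB z.2.1), fun y hy => mem_centralizer_iff.1 z.2.2 y hy⟩,
    fun h => hz1 (Subtype.ext h), z.2⟩

end perm

section comp

variable {G : Type u} [Group G] {S : Subgroup G} {L V : Subgroup G} {I : Type u} {N E : I → Subgroup G} {R₀ : Subgroup G}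

/-- the component is unique -/
theorem comp_eq (D : Dec S L V N E R₀) {b : I} {m m' n n' : G} (hm : m ∈ N b) (hm' : m' ∈ N b) (hn : n ∈ Co N R₀ b)
    (hn' : n' ∈ Co N R₀ b) (e : m * n = m' * n') : m = m' := by
  have h1 : m'⁻¹ * m = n' * n⁻¹ := by
    rw [inv_mul_eq_iff_eq_mul, ← mul_assoc, ← e]; group
  have h2 : m'⁻¹ * m ∈ N b ⊓ Co N R₀ b := mem_inf.2 ⟨mul_mem (inv_mem hm') hm, h1 ▸ mul_mem hn' (inv_mem hn)⟩
  rw [show N b ⊓ Co N R₀ b = ⊥ from D.ind b, mem_bot, inv_mul_eq_one] at h2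
  exact h2.symm

end comp

section nat

variable {G : Type u} [Group G] {S L V : Subgroup G} {I : Type u} {N E : I → Subgroup G} {R₀ : Subgroup G} {Om : I → Type u}
    [∀ i, Fintype (Om i)] [∀ i, DecidableEq (Om i)] {phi : ∀ i, Finset (Om i) → G}

variable {K : Type} [Field K] [CharP K 2] {P V' D A : Subgroup G} {k : ℕ} {M : NatKM K S P V' D k} {j : Fin k}

theorem cent_of_zero (h : Nb M) (O : NO3S.ThmB.One M V A j) (hAP : A ≤ P) {a : G} (ha : a ∈ A)
    (hA : ActsSL M.e V' D a (sg j (up (0 : K)))) : a ∈ centralizer (V : Set G) := by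
  rw [mem_centralizer_iff]
  intro v hv
  obtain ⟨w, hw, -, c, -, hc, rfl⟩ := O.full v hv
  rw [up_zero, sg_one] at hA
  have h1 : a * w * a⁻¹ = w := by
    have := h.comm_of_one (hAP ha) hA hw
    rw [this]; group
  have h2 := mul_inv_eq_iff_eq_mul.1 h1
  calc w * c * a = w * (c * a) := by group
    _ = w * (a * c) := by rw [hc a ha]
    _ = w * a * c := by group
    _ = a * w * c := by rw [h2]
    _ = _ := by group

theorem zero_of_cent (hV' : V' ≤ V) {a : G} {β : K} (hA : ActsSL M.e V' D a (sg j (up β)))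
    (ha : a ∈ centralizer (V : Set G)) : β = 0 := by
  obtain ⟨w, hw, hwj, -⟩ := Nb.exists_single M j ![0, 1]
  have h1 := congrFun (hA.1 w hw j) 0
  rw [Blk.cent ha (hV' hw), sg_self, ap_up_0, hwj] at h1
  have h2 : 0 = β := by simpa using h1
  exact h2.symm

/-- `C_V(a) = C_V(A)` -/
theorem cent_all (h : Nb M) (O : NO3S.ThmB.One M V A j) (hAP : A ≤ P) {a : G} (ha : a ∈ A)
    (hn : a ∉ centralizer (V : Set G)) {v : G} (hv : v ∈ V) (hav : a * v * a⁻¹ = v) : ∀ x ∈ A, x * v * x⁻¹ = v := by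
  obtain ⟨β, hβ⟩ := O.act a ha
  have hβ0 : β ≠ 0 := by
    rintro rfl
    exact hn (cent_of_zero h O hAP ha hβ)
  obtain ⟨w, hw, -, c, -, hc, rfl⟩ := O.full v hv
  have e1 : ∀ x ∈ A, x * (w * c) * x⁻¹ = x * w * x⁻¹ * c := by
    intro x hx
    have h1 : x * c * x⁻¹ = c := by rw [hc x hx]; group
    calc x * (w * c) * x⁻¹ = (x * w * x⁻¹) * (x * c * x⁻¹) := by group
      _ = _ := by rw [h1]
  rw [e1 a ha] at hav
  have h2 : a * w * a⁻¹ = w := mul_right_cancel hav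
  have h3 := congrFun (hβ.1 w hw j) 0
  rw [h2, sg_self, ap_up_0] at h3
  have h4 : β * M.e w j 1 = 0 := by simpa using h3
  have h5 : M.e w j 1 = 0 := (mul_eq_zero.1 h4).resolve_left hβ0
  intro x hx
  rw [e1 x hx, (O.cen w hw).2 h5 x hx]
  group

/-- `A` is quadratic -/
theorem quad (h : Nb M) (O : NO3S.ThmB.One M V A j) (hAP : A ≤ P) {a x : G} (ha : a ∈ A) (hx : x ∈ A) {v : G} (hv : v ∈ V) :
    x * (a * v * a⁻¹ * v⁻¹) * x⁻¹ = a * v * a⁻¹ * v⁻¹ := by
  obtain ⟨β, hβ⟩ := O.act a ha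
  obtain ⟨w, hw, -, c, -, hc, rfl⟩ := O.full v hv
  have h1 : a * c * a⁻¹ = c := by rw [hc a ha]; group
  have e1 : a * (w * c) * a⁻¹ * (w * c)⁻¹ = a * w * a⁻¹ * w⁻¹ := by
    calc a * (w * c) * a⁻¹ * (w * c)⁻¹ = (a * w * a⁻¹) * (a * c * a⁻¹) * c⁻¹ * w⁻¹ := by group
      _ = _ := by rw [h1]; group
  have h3 : M.e (a * w * a⁻¹ * w⁻¹) j 1 = 0 := by
    have h4 : M.e (a * w * a⁻¹ * w⁻¹ * w) = M.e (a * w * a⁻¹ * w⁻¹) + M.e w :=
      M.mul _ (mul_mem (h.memV (hAP ha) hw) (inv_mem hw)) _ hw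
    have h5 : a * w * a⁻¹ * w⁻¹ * w = a * w * a⁻¹ := by group
    rw [h5] at h4
    have h6 := congrFun (hβ.1 w hw j) 1
    rw [sg_self, ap_up_1, h4] at h6
    exact add_eq_right.1 h6
  rw [e1, (O.cen _ (mul_mem (h.memV (hAP ha) hw) (inv_mem hw))).2 h3 x hx]
  group

/-- two images only -/
theorem two_orb (F : Full S L V N E R₀ Om phi) (h3 : ∀ b, Fintype.card (Om b) = 3) (hV2 : IsElementaryAbelian 2 V) (h : Nb M)
    (O : NO3S.ThmB.One M V A j) (hAP : A ≤ P) (hPL : P ≤ L) {a v : G} {b : I} (ha : a ∈ A) (hv : v ∈ N b)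
    (hav : a * v * a⁻¹ ≠ v) : ∀ x ∈ A, x * v * x⁻¹ = v ∨ x * v * x⁻¹ = a * v * a⁻¹ := by
  have D := F.toDec
  have hNV : ∀ c, N c ≤ V := fun c => by
    rw [← D.sup]
    exact (le_iSup N c).trans le_sup_left
  have hcj : ∀ {g : G} {c d : I}, MulAut.conj g • N c = N d → ∀ {y : G}, y ∈ N c → g * y * g⁻¹ ∈ N d := by
    intro g c d e y hy
    rw [← e]
    exact Subgroup.smul_mem_pointwise_smul y _ _ hy
  have hsq : ∀ y ∈ V, y * y = 1 := fun y hy => by rw [← pow_two]; exact hV2.2 y hy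
  have hinv : ∀ y ∈ V, y⁻¹ = y := fun y hy => inv_eq_of_mul_eq_one_left (hsq y hy)
  have hab : ∀ y ∈ V, ∀ z ∈ V, y * z = z * y := fun y hy z hz => mem_centralizer_iff.1 (D.ab hz) y hy
  have hv1 : v ≠ 1 := by
    rintro rfl
    apply hav; group
  intro x hx
  obtain ⟨c, hc, -⟩ := D.perm a (hPL (hAP ha)) b
  obtain ⟨d, hd, -⟩ := D.perm x (hPL (hAP hx)) b
  obtain ⟨d', hd', -⟩ := D.perm x (hPL (hAP hx)) c
  have m1 := hcj hc hv
  have m2 := hcj hd hv
  have m3 := hcj hd' m1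
  have hw := quad h O hAP ha hx (hNV b hv)
  have e1 : (x * v * x⁻¹) * (x * (a * v * a⁻¹) * x⁻¹) = v * (a * v * a⁻¹) := by
    have h4 : x * (a * v * a⁻¹ * v⁻¹) * x⁻¹ = (x * (a * v * a⁻¹) * x⁻¹) * (x * v * x⁻¹)⁻¹ := by group
    rw [h4, hinv _ (hNV _ m2), hinv _ (hNV _ hv)] at hw
    rw [hab _ (hNV _ m2) _ (hNV _ m3), hw, hab _ (hNV _ m1) _ (hNV _ hv)]
  have n2 : x * v * x⁻¹ ≠ 1 := by
    intro h4
    apply hv1
    have h5 : x * v * x⁻¹ = x * 1 * x⁻¹ := by rw [h4]; group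
    exact mul_left_cancel (mul_right_cancel h5)
  by_cases hbc : c = b
  · subst hbc
    have hdd : d' = d := D.Ninj (by rw [← hd', ← hd])
    subst hdd
    -- `x` fixes `v * a v`, so it fixes the block
    have hdc : d' = c := by
      by_contra hne
      have h4 : v * (a * v * a⁻¹) ∈ N d' := by rw [← e1]; exact mul_mem m2 m3
      have h5 := D.N_le_Co hne h4
      have h6 : v * (a * v * a⁻¹) ∈ N c ⊓ Co N R₀ c := mem_inf.2 ⟨mul_mem hv m1, h5⟩
      rw [show N c ⊓ Co N R₀ c = ⊥ from D.ind c, mem_bot] at h6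
      apply hav
      exact (eq_inv_of_mul_eq_one_right h6).trans (hinv v (hNV _ hv))
    subst hdc
    have Lb := F.lett d'
    obtain ⟨s, hs, hs'⟩ := (Lb.mem _).1 hv
    obtain ⟨s', hs1, hs1'⟩ := (Lb.mem _).1 m1
    have n1 : a * v * a⁻¹ ≠ 1 := by
      intro h4
      apply hv1
      have h5 : a * v * a⁻¹ = a * 1 * a⁻¹ := by rw [h4]; group
      exact mul_left_cancel (mul_right_cancel h5)
    rcases even_three (h3 d') hs with rfl | ⟨p, rfl⟩
    · exact absurd (hs'.symm.trans Lb.phi_empty) hv1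
    rcases even_three (h3 d') hs1 with rfl | ⟨q, rfl⟩
    · exact absurd (hs1'.symm.trans Lb.phi_empty) n1
    have hpq : p ≠ q := by
      rintro rfl
      exact hav (hs1'.symm.trans hs')
    have h4 := cover Lb (h3 d') hpq m2
    rw [hs', hs1'] at h4
    rcases h4 with h4 | h4 | h4 | h4
    · exact absurd h4 n2
    · exact Or.inl h4
    · exact Or.inr h4
    · exfalso
      rw [h4] at e1
      have h5 : x * (a * v * a⁻¹) * x⁻¹ = 1 := mul_eq_left.1 e1
      apply n1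
      have h6 : x * (a * v * a⁻¹) * x⁻¹ = x * 1 * x⁻¹ := by rw [h5]; group
      exact mul_left_cancel (mul_right_cancel h6)
  · have hdd : d ≠ d' := by
      intro h4
      apply hbc
      have h5 : MulAut.conj x • N b = MulAut.conj x • N c := by rw [hd, hd', h4]
      exact (D.Ninj ((MulAction.injective (MulAut.conj x)) h5)).symm
    have m3' := D.N_le_Co (Ne.symm hdd) m3
    by_cases hdb : d = b
    · subst hdb
      exact Or.inl (comp_eq D m2 hv m3' (D.N_le_Co hbc m1) e1)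
    by_cases hdc : d = c
    · subst hdc
      rw [hab _ (hNV _ hv) _ (hNV _ m1)] at e1
      exact Or.inr (comp_eq D m2 m1 m3' (D.N_le_Co (Ne.symm hdb) hv) e1)
    · exfalso
      apply n2
      refine comp_eq D m2 (one_mem _) m3' (mul_mem (D.N_le_Co (Ne.symm hdb) hv) (D.N_le_Co (Ne.symm hdc) m1)) ?_
      rw [e1, one_mul]

/-- **`A` over `K`, `|K| ≥ 4`, centralises all blocks of three letters** -/
theorem big_cent [Finite K] (F : Full S L V N E R₀ Om phi) (h3 : ∀ b, Fintype.card (Om b) = 3)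
    (hV2 : IsElementaryAbelian 2 V) (h : Nb M) (hK : 4 ≤ Nat.card K) (O : NO3S.ThmB.One M V A j) (hAP : A ≤ P) (hPL : P ≤ L)
    (hV' : V' ≤ V) (b : I) : A ≤ centralizer (N b : Set G) := by
  have hNV : ∀ c, N c ≤ V := fun c => by
    rw [← F.toDec.sup]
    exact (le_iSup N c).trans le_sup_left
  intro a ha
  by_contra hcon
  obtain ⟨v, hv, hav⟩ : ∃ v ∈ N b, a * v * a⁻¹ ≠ v := by
    by_contra h4
    push Not at h4
    exact hcon (mem_centralizer_iff.2 fun v hv => (mul_inv_eq_iff_eq_mul.1 (h4 v hv)).symm)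
  have key : ∀ x ∈ A, x ∈ centralizer (V : Set G) ∨ a⁻¹ * x ∈ centralizer (V : Set G) := by
    intro x hx
    rcases two_orb F h3 hV2 h O hAP hPL ha hv hav x hx with h4 | h4
    · left
      by_contra hn
      exact hav (cent_all h O hAP hx hn (hNV b hv) h4 a ha)
    · right
      by_contra hn
      have h5 : a⁻¹ * x * v * (a⁻¹ * x)⁻¹ = v := by
        have e : a⁻¹ * x * v * (a⁻¹ * x)⁻¹ = a⁻¹ * (x * v * x⁻¹) * a := by group
        rw [e, h4]; group
      exact hav (cent_all h O hAP (mul_mem (inv_mem ha) hx) hn (hNV b hv) h5 a ha)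
  obtain ⟨β, hβ⟩ := O.act a ha
  obtain ⟨γ, hγ0, hγ1⟩ : ∃ γ : K, γ ≠ 0 ∧ γ ≠ β := by
    by_contra h4
    push Not at h4
    have h5 : (Set.univ : Set K) ⊆ {0, β} := by
      intro x _
      rcases eq_or_ne x 0 with h6 | h6
      · exact Or.inl h6
      · exact Or.inr (h4 x h6)
    have h6 := Set.ncard_le_ncard h5 (Set.toFinite _)
    rw [Set.ncard_univ] at h6
    have h7 := h6.trans (Set.ncard_insert_le _ _)
    rw [Set.ncard_singleton] at h7
    omega
  obtain ⟨x, hx, hxγ⟩ := O.all γ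
  rcases key x hx with h4 | h4
  · exact hγ0 (zero_of_cent hV' hxγ h4)
  · have h5 := h.acts_mul (hAP hx) (h.acts_inv (hAP ha) hβ) hxγ
    rw [inv_sg, ← sg_mul] at h5
    have e1 : (up β)⁻¹ * up γ = up (γ - β) := by
      rw [inv_mul_eq_iff_eq_mul, up_mul]
      congr 1; ring
    rw [e1] at h5
    exact hγ1 (sub_eq_zero.1 (zero_of_cent hV' h5 h4))

end nat

section main

variable {G : Type u} [Group G] [Finite G] {S : Sylow 2 G} {L P : Subgroup G} {I : Type u} {N E : I → Subgroup G}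
    {R₀ : Subgroup G} {Om : I → Type u} [∀ i, Fintype (Om i)] [∀ i, DecidableEq (Om i)] {phi : ∀ i, Finset (Om i) → G}

/-- `A` belongs to the block `b` -/
def At (S : Sylow 2 G) (L : Subgroup G) (E : I → Subgroup G) (A : Subgroup G) (b : I) : Prop :=
  A ≤ E b ∧ ∃ t ∈ A, t ∉ centralizer (zl (S : Subgroup G) L : Set G)

/-- one block only -/
theorem At.uniq (F : Full (S : Subgroup G) L (zl (S : Subgroup G) L) N E R₀ Om phi) {A : Subgroup G} {b c : I}
    (h : At S L E A b) (h' : A ≤ E c) : b = c := by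
  by_contra hbc
  obtain ⟨h1, t, ht, hn⟩ := h
  apply hn
  rw [mem_centralizer_iff]
  intro v hv
  obtain ⟨n, hn1, hn2⟩ := F.toDec.ex_comp b hv
  have h3 := mem_centralizer_iff.1 (F.EC c b (Ne.symm hbc) (h' ht)) _ hn1
  have h4 := mem_centralizer_iff.1 (LeftThree.cent_Co F.toDec b (h1 ht)) _ hn2
  have e : v = n * (n⁻¹ * v) := by group
  rw [e]
  calc n * (n⁻¹ * v) * t = n * ((n⁻¹ * v) * t) := by group
    _ = n * (t * (n⁻¹ * v)) := by rw [h4]
    _ = n * t * (n⁻¹ * v) := by group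
    _ = t * n * (n⁻¹ * v) := by rw [h3]
    _ = _ := by group

/-- what `P` does -/
def BlkAt (S : Sylow 2 G) (L : Subgroup G) (N E : I → Subgroup G) (phi : ∀ i, Finset (Om i) → G) {K : Type} [Field K]
    [CharP K 2] {P V' D : Subgroup G} {k : ℕ} {M : NatKM K (S : Subgroup G) P V' D k} (h : Nb M) (j : Fin k) (b : I) : Prop :=
  N b = blk M j ∧ YY h j = N b ⊓ centralizer (((S : Subgroup G) ⊓ E b : Subgroup G) : Set G) ∧
    (∃ t ∈ (S : Subgroup G) ⊓ E b, t ∉ centralizer (zl (S : Subgroup G) L : Set G)) ∧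
    ∃ p, (∀ s ∈ (S : Subgroup G) ⊓ E b, ∀ σ, Rel (phi b) s σ → σ p = p) ∧
      YY h j = zpowers (phi b (Finset.univ.erase p))

/-- **the members of `EP` for a small natural `P`** -/
theorem ep_nat (hG : IsCharacteristicTwoType G) (hL : IsLoc (S : Subgroup G) L) (hP : IsParS (S : Subgroup G) P)
    (hPL : P ≤ L) (no : NoOverM (zl (S : Subgroup G) L) L)
    (F : Full (S : Subgroup G) L (zl (S : Subgroup G) L) N E R₀ Om phi) (h3 : ∀ b, Fintype.card (Om b) = 3)
    {K : Type} [Field K] [Finite K] [CharP K 2] {k : ℕ} (hK : Nat.card K = 2) (hk : 0 < k)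
    (M : NatKM K (S : Subgroup G) P (zl (S : Subgroup G) P) (cv (S : Subgroup G) P) k) (h : Nb M) {A : Subgroup G}
    (hA : A ∈ EP (S : Subgroup G) P (zl (S : Subgroup G) L)) {j : Fin k}
    (O : NO3S.ThmB.One M (zl (S : Subgroup G) L) A j) :
    DD M j = ⊥ ∧ ∃ b, At S L E A b ∧ BlkAt S L N E phi h j b := by
  have hVU : zl (S : Subgroup G) P ≤ zl (S : Subgroup G) L := NOThreeL.Star.zl_mono _ hPL
  have hU2 := FFThm.elem_zl hG S hL
  have g := AsmSmall.gone_of_EP hG hL hP hPL no hA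
  obtain ⟨t, ht, c, hc, hc1, hT, hn⟩ := g.tv hG (Or.inl ⟨K, inferInstance, inferInstance, k, hK, hk, ⟨M⟩⟩)
  obtain ⟨β, hβ⟩ := O.act t ht
  have htS : t ∈ (S : Subgroup G) := hA.1.1 ht
  have hAP : A ≤ P := hA.1.1.trans hP.le
  have hn' : ∃ v ∈ zl (S : Subgroup G) P, t * v * t⁻¹ ≠ v := by
    by_contra hcon
    push Not at hcon
    apply hn
    apply g.cent
    refine mem_inf.2 ⟨ht, mem_centralizer_iff.2 fun v hv => ?_⟩
    exact (mul_inv_eq_iff_eq_mul.1 (hcon v hv)).symm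
  obtain ⟨b, h4, h5, h6, p, h7, h8⟩ := nat_blk F h3 h (two_of_card hK) hVU hPL hβ (hP.le htS) hc hT hn'
  have htc : t * c * t⁻¹ = c := by
    rcases hT c (hVU hc) with h9 | h9
    · exact h9
    · exfalso
      apply hc1
      have h10 : c * c = 1 := by rw [← pow_two]; exact hU2.2 c (hVU hc)
      rw [h10] at h9
      have h11 : t * c * t⁻¹ = t * 1 * t⁻¹ := by rw [h9]; group
      exact mul_left_cancel (mul_right_cancel h11)
  have hp := fix_p F h3 S.isPGroup' htS h6 hn (p := p) (by rw [← h7]; exact htc)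
  have hβ0 : β ≠ 0 := by
    rintro rfl
    exact hn (cent_of_zero h O hAP ht hβ)
  have hβ1 : β = 1 := (two_of_card hK β).resolve_left hβ0
  refine ⟨h5, b, ⟨fun a ha => ?_, t, ht, hn⟩, h4.symm, ?_, ⟨t, mem_inf.2 ⟨htS, h6⟩, hn⟩, p, hp, by rw [h8, h7]⟩
  · obtain ⟨γ, hγ⟩ := O.act a ha
    rcases two_of_card hK γ with rfl | rfl
    · exact F.CE b (mem_inf.2 ⟨hPL (hAP ha), cent_of_zero h O hAP ha hγ⟩)
    · have h9 := h.acts_mul (hAP ha) (h.acts_inv (hAP ht) hβ) hγ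
      rw [hβ1, inv_sg, ← sg_mul, inv_mul_cancel] at h9
      have h10 : t⁻¹ * a ∈ centralizer (zl (S : Subgroup G) L : Set G) :=
        cent_of_zero h O hAP (mul_mem (inv_mem ht) ha) (by rw [up_zero]; exact h9)
      have h11 : t⁻¹ * a ∈ E b := F.CE b (mem_inf.2 ⟨hPL (hAP (mul_mem (inv_mem ht) ha)), h10⟩)
      have e : a = t * (t⁻¹ * a) := by group
      rw [e]
      exact mul_mem h6 h11
  · rw [h8, h7, line_eq F h3 htS h6 hn hp]

/-- **A small active `P`.** -/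
theorem act_two' (hG : IsCharacteristicTwoType G) (hL : IsLoc (S : Subgroup G) L) (hP : IsParS (S : Subgroup G) P)
    (hPL : P ≤ L) (no : NoOverM (zl (S : Subgroup G) L) L)
    (F : Full (S : Subgroup G) L (zl (S : Subgroup G) L) N E R₀ Om phi) (h3 : ∀ b, Fintype.card (Om b) = 3)
    (h2 : Two2 S P) (ne : (EP (S : Subgroup G) P (zl (S : Subgroup G) L)).Nonempty) :
    ∃ (K : Type) (_ : Field K) (_ : Finite K) (_ : CharP K 2) (k : ℕ) (_ : 0 < k)
      (M : NatKM K (S : Subgroup G) P (zl (S : Subgroup G) P) (cv (S : Subgroup G) P) k) (h : Nb M),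
      Nat.card K = 2 ∧ (∀ j, DD M j = ⊥) ∧ (∀ j, ∃ b, BlkAt S L N E phi h j b) ∧
      (∀ A ∈ EP (S : Subgroup G) P (zl (S : Subgroup G) L), ∃ b, At S L E A b) ∧
        ∀ A ∈ EP (S : Subgroup G) P (zl (S : Subgroup G) L), ∀ b, At S L E A b → ∃ j, BlkAt S L N E phi h j b := by
  have hVU : zl (S : Subgroup G) P ≤ zl (S : Subgroup G) L := NOThreeL.Star.zl_mono _ hPL
  have hU2 := FFThm.elem_zl hG S hL
  obtain ⟨K, i1, i2, i3, k, hk, M, h, hK, -⟩ := act_two hG hL hP hPL no F h3 h2 ne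
  have one : ∀ A ∈ EP (S : Subgroup G) P (zl (S : Subgroup G) L), NS.Tt (zl (S : Subgroup G) L) A ∧
      ∃ j, NO3S.ThmB.One M (zl (S : Subgroup G) L) A j := fun A hA => by
    have hAL : A ≤ L := hA.1.1.trans (hP.le.trans hPL)
    have t := NS.tt_of_mx hA.1.2 no hAL
    exact ⟨t, t.one h hU2 hVU hA.1.1 hA.2⟩
  have hPU : P ≤ normalizer (zl (S : Subgroup G) L : Set G) := hPL.trans F.LU
  have all : ∀ j, ∃ A ∈ EP (S : Subgroup G) P (zl (S : Subgroup G) L), NO3S.ThmB.One M (zl (S : Subgroup G) L) A j := by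
    intro j
    obtain ⟨A, hA⟩ := ne
    obtain ⟨t, i, O⟩ := one A hA
    obtain ⟨s, hs, -, -, O'⟩ := NS.exists_cj h hU2 hVU hPU hA.1.1 t O j
    have h4 := EP_cj hP.le hs (hPU (hP.le hs)) hA
    rw [NS.conj_eq_cj] at h4
    exact ⟨_, h4, O'⟩
  refine ⟨K, i1, i2, i3, k, hk, M, h, hK, fun j => ?_, fun j => ?_, fun A hA => ?_, fun A hA b hb => ?_⟩
  · obtain ⟨A, hA, O⟩ := all j
    exact (ep_nat hG hL hP hPL no F h3 hK hk M h hA O).1
  · obtain ⟨A, hA, O⟩ := all j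
    obtain ⟨-, b, -, hb⟩ := ep_nat hG hL hP hPL no F h3 hK hk M h hA O
    exact ⟨b, hb⟩
  · obtain ⟨-, j, O⟩ := one A hA
    obtain ⟨-, b, hb, -⟩ := ep_nat hG hL hP hPL no F h3 hK hk M h hA O
    exact ⟨b, hb⟩
  · obtain ⟨-, j, O⟩ := one A hA
    obtain ⟨-, c, hc, hc'⟩ := ep_nat hG hL hP hPL no F h3 hK hk M h hA O
    have e : b = c := hb.uniq F hc.1
    subst e
    exact ⟨j, hc'⟩

/-- the blocks of the orbit of `b` -/
theorem norm_orb (F : Full (S : Subgroup G) L (zl (S : Subgroup G) L) N E R₀ Om phi) (b : I) :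
    (S : Subgroup G) ≤ normalizer ((⨆ c : {c | ∃ s ∈ (S : Subgroup G), MulAut.conj s • N b = N c}, N c : Subgroup G) :
      Set G) := by
  have key : ∀ g ∈ (S : Subgroup G), ∀ c ∈ {c | ∃ s ∈ (S : Subgroup G), MulAut.conj s • N b = N c},
      ∃ d ∈ {c | ∃ s ∈ (S : Subgroup G), MulAut.conj s • N b = N c}, MulAut.conj g • N c = N d := by
    rintro g hg c ⟨s, hs, e⟩
    obtain ⟨d, hd, -⟩ := F.toDec.perm g (F.SL hg) c
    refine ⟨d, ⟨g * s, mul_mem hg hs, ?_⟩, hd⟩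
    rw [map_mul, mul_smul, e, hd]
  exact fun g hg => norm_iSup (key g hg) (key g⁻¹ (inv_mem hg))

/-- **Every block of three letters is a block of a small active `P`.** -/
theorem exists_small (hG : IsCharacteristicTwoType G) (hL : IsLoc (S : Subgroup G) L)
    (no : NoOverM (zl (S : Subgroup G) L) L)
    (F : Full (S : Subgroup G) L (zl (S : Subgroup G) L) N E R₀ Om phi) (h3 : ∀ b, Fintype.card (Om b) = 3)
    (mv : ∀ z ∈ zc (S : Subgroup G), z ≠ 1 → ∃ P, IsParS (S : Subgroup G) P ∧ P ≤ L ∧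
      (EP (S : Subgroup G) P (zl (S : Subgroup G) L)).Nonempty ∧ ¬ P ≤ centralizer ({z} : Set G)) (b : I) :
    ∃ P, IsParS (S : Subgroup G) P ∧ P ≤ L ∧ Two2 S P ∧
      ∃ A ∈ EP (S : Subgroup G) P (zl (S : Subgroup G) L), At S L E A b := by
  have hU2 := FFThm.elem_zl hG S hL
  have hVS : zl (S : Subgroup G) L ≤ (S : Subgroup G) :=
    ((hL.zl_le S hG).trans (MinSimple.VModule.zc_le _)).trans (hL.o2_le S)
  have D := F.toDec
  set J : Set I := {c | ∃ s ∈ (S : Subgroup G), MulAut.conj s • N b = N c} with hJ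
  have hbJ : b ∈ J := ⟨1, one_mem _, by rw [map_one, one_smul]⟩
  have hBV : (⨆ c : J, N c) ≤ zl (S : Subgroup G) L := by
    rw [← D.sup]
    exact (iSup_le fun c : J => le_iSup N c.1 : (⨆ c : J, N c) ≤ ⨆ b, N b).trans le_sup_left
  have hB1 : (⨆ c : J, N c) ≠ ⊥ := by
    intro h4
    apply D.ne b
    rw [eq_bot_iff, ← h4]
    exact le_iSup (fun c : J => N c) ⟨b, hbJ⟩
  have hSJ : (S : Subgroup G) ≤ normalizer ((⨆ c : J, N c : Subgroup G) : Set G) := norm_orb F b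
  obtain ⟨z, hz, hz1, hzB⟩ := exists_z hU2 hVS hBV hB1 hSJ
  obtain ⟨P, hP, hPL, ne, hPz⟩ := mv z hz hz1
  have hVU : zl (S : Subgroup G) P ≤ zl (S : Subgroup G) L := NOThreeL.Star.zl_mono _ hPL
  have fin : ∀ (_ : ∀ A ∈ EP (S : Subgroup G) P (zl (S : Subgroup G) L), ∀ b, A ≤ normalizer (N b : Set G))
      (_ : ∀ A ∈ EP (S : Subgroup G) P (zl (S : Subgroup G) L), ∀ b ∈ J, A ≤ centralizer (N b : Set G)), False := by
    intro h4 h5
    apply hPz
    refine (cent_J hG D hP hPL ne hSJ h4 h5).trans (centralizer_le ?_)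
    rintro _ rfl
    exact hzB
  rcases AsmInp.type_of hG hL no hP hPL ne with h2 | ⟨K, i1, i2, i3, k, hK, hk, ⟨M⟩⟩
  · refine ⟨P, hP, hPL, h2, ?_⟩
    obtain ⟨K, i1, i2, i3, k, hk, M, h, hK, -, -, h4, -⟩ := act_two' hG hL hP hPL no F h3 h2 ne
    obtain ⟨A, hA, c, hc, hcJ⟩ : ∃ A ∈ EP (S : Subgroup G) P (zl (S : Subgroup G) L), ∃ c, At S L E A c ∧ c ∈ J := by
      by_contra hcon
      push Not at hcon
      refine fin (fun A hA b => ?_) fun A hA b hb => ?_
      · obtain ⟨c, hc⟩ := h4 A hA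
        by_cases hbc : c = b
        · subst hbc
          exact hc.1.trans (F.EN c)
        · exact (hc.1.trans (F.EC c b hbc)).trans (centralizer_le_normalizer _)
      · obtain ⟨c, hc⟩ := h4 A hA
        exact hc.1.trans (F.EC c b fun e => hcon A hA c hc (e ▸ hb))
    obtain ⟨s, hs, e⟩ := hcJ
    have hPU : P ≤ normalizer (zl (S : Subgroup G) L : Set G) := hPL.trans F.LU
    have h5 := EP_cj hP.le (inv_mem hs) (hPU (hP.le (inv_mem hs))) hA
    refine ⟨_, h5, ?_, ?_⟩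
    · obtain ⟨d, hd1, hd2⟩ := D.perm s⁻¹ (F.SL (inv_mem hs)) c
      have hdb : d = b := by
        apply D.Ninj
        rw [← hd1, ← e, ← mul_smul, ← map_mul, inv_mul_cancel, map_one, one_smul]
      rw [hdb] at hd2
      rw [← hd2]
      exact Subgroup.pointwise_smul_le_pointwise_smul_iff.2 hc.1
    · obtain ⟨-, t, ht, hn⟩ := hc
      refine ⟨s⁻¹ * t * s⁻¹⁻¹, Subgroup.smul_mem_pointwise_smul t _ _ ht, fun h6 => hn ?_⟩
      rw [mem_centralizer_iff] at h6 ⊢
      intro v hv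
      have h7 : s⁻¹ * v * s ∈ zl (S : Subgroup G) L := by
        have := (mem_normalizer_iff.1 (hPU (hP.le (inv_mem hs))) v).1 hv
        rwa [inv_inv] at this
      have h8 := h6 _ h7
      have h9 : s * (s⁻¹ * v * s * (s⁻¹ * t * s⁻¹⁻¹)) * s⁻¹ = s * (s⁻¹ * t * s⁻¹⁻¹ * (s⁻¹ * v * s)) * s⁻¹ := by rw [h8]
      have e1 : s * (s⁻¹ * v * s * (s⁻¹ * t * s⁻¹⁻¹)) * s⁻¹ = v * t := by group
      have e2 : s * (s⁻¹ * t * s⁻¹⁻¹ * (s⁻¹ * v * s)) * s⁻¹ = t * v := by group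
      rwa [e1, e2] at h9
  · exfalso
    have h := Inst.nb hG hP M
    have h6 : ∀ A ∈ EP (S : Subgroup G) P (zl (S : Subgroup G) L), ∀ b, A ≤ centralizer (N b : Set G) := by
      intro A hA b
      obtain ⟨j, O⟩ := AsmAct.one_of hG hL hP hPL no M hA
      exact big_cent F h3 hU2 h hK O (hA.1.1.trans hP.le) hPL hVU b
    exact fin (fun A hA b => (h6 A hA b).trans (centralizer_le_normalizer _)) fun A hA b _ => h6 A hA b

end main

section cov

open Cfsg.Agent.Omega.NOThreeL.RSplit (Nrm)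
open Cfsg.Agent.Omega.NOThreeL.RRed.NS (un fxd brk val_mem_un mem_fxd)
open Cfsg.Agent.Omega.NOThreeL.RRed.Blk.TypesNat (XH ph ph_smul)
open Cfsg.Agent.Omega.NOThreeL.RRed.Blk.AsmCore (im mem_im ph_mem_im)

variable {G : Type u} [Group G] [Finite G] {S : Sylow 2 G} {L V : Subgroup G} {I : Type u} {N E : I → Subgroup G}
    {R₀ : Subgroup G} {Om : I → Type u} [∀ i, Fintype (Om i)] [∀ i, DecidableEq (Om i)] {phi : ∀ i, Finset (Om i) → G}

/-- the line in the module -/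
theorem line_un (D : Dec (S : Subgroup G) L V N E R₀) (Q : Nrm L V) (b : I) :
    N b ⊓ centralizer (((S : Subgroup G) ⊓ E b : Subgroup G) : Set G) =
      un Q (Q.ad (N b) ⊓ (fxd (im Q ((S : Subgroup G) ⊓ E b)) : AddSubgroup Q.Mod)) := by
  have hNV : N b ≤ V := by
    rw [← D.sup]
    exact (le_iSup N b).trans le_sup_left
  ext x
  constructor
  · rintro ⟨hx, hx'⟩
    refine ⟨Q.of x (hNV hx), ⟨hx, ?_⟩, rfl⟩
    rintro a ⟨y, hy, rfl⟩
    rw [ph_smul]
    refine (NS.smul_eq_iff Q _ _).2 ?_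
    have h1 := mem_centralizer_iff.1 hx' _ hy
    exact mul_inv_eq_iff_eq_mul.2 h1
  · rintro ⟨m, ⟨hm, hm'⟩, rfl⟩
    refine ⟨hm, mem_centralizer_iff.2 fun y hy => ?_⟩
    have hyL : y ∈ L := D.EL b hy.2
    have h1 := hm' (ph Q ⟨y, hyL⟩) (ph_mem_im Q (a := ⟨y, hyL⟩) hy)
    rw [ph_smul] at h1
    exact mul_inv_eq_iff_eq_mul.1 ((NS.smul_eq_iff Q _ _).1 h1)

/-- **The letters' blocks in the form of `SrcBox`.** -/
theorem cov_let (F : Full (S : Subgroup G) L V N E R₀ Om phi) (Q : Nrm L V) (hV2 : ∀ v : Q.Mod, v + v = 0) {b : I}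
    (hc : Fintype.card (Om b) = 3) :
    SrcBox.Cov Q (im Q ((S : Subgroup G) ⊓ E b)) (AsmTwo.NF S E Q N (im Q ((S : Subgroup G) ⊓ E b))) (N b)
      (N b ⊓ centralizer (((S : Subgroup G) ⊓ E b : Subgroup G) : Set G)) 2 := by
  have hNV : N b ≤ V := by
    rw [← F.toDec.sup]
    exact (le_iSup N b).trans le_sup_left
  have h1 := AsmTwo.nb F Q hc
  have e : AsmTwo.NF S E Q N (im Q ((S : Subgroup G) ⊓ E b)) = Q.ad (N b) := AsmTwo.NF_im F Q N b
  rw [e]
  exact SrcBox.cov_of hV2 h1 (AsmMv.un_ad Q hNV).symm (line_un F.toDec Q b) (AsmTwo.card_im F Q hc hV2).symm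

end cov

end Cfsg.Agent.Omega.NOThreeL.RRed.Blk.SrcTwoM
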