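import Cfsg.Agent.Omega.NOThreeL.RRed.Blk.SrcMix
import Cfsg.Agent.Omega.NOThreeL.RRed.Blk.SrcTwoM

/-!
# NO-3L, box R: the structure `Src` in the mixed case, final form

* `mov_letters` : the field `mov` for the letters (from helper559's `exists_small`, `act_two'`);
* **`src_mixed`** : `Src` for the index type `↥(RRs ∪ FF₂)`, no hypothesis left.
-/

set_option autoImplicit false
set_option linter.unusedSectionVars false

namespace Cfsg.Agent.Omega.NOThreeL.RRed.Blk.SrcMix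

open Subgroup Cfsg Cfsg.Agent.ZN Cfsg.Agent.Omega.MinPar
open Cfsg.Agent.Omega.FFThm (NatKM SymKM)
open Cfsg.Agent.Omega.FrameFF (cv)
open Cfsg.Agent.Omega.NO3S.ThmB (Nb)
open Cfsg.Agent.Omega.NO3S.KeyRad (blk)
open Cfsg.Agent.Omega.NOThreeL.RSplit (Nrm)
open Cfsg.Agent.Omega.NOThreeL.RRed.NS (fxd brk mem_fxd un val_mem_un DD YY)
open Cfsg.Agent.Omega.NOThreeL.RRed.WideTree (Act MvAct Src)
open Cfsg.Agent.Omega.NOThreeL.RTree (RB)
open Cfsg.Agent.Omega.NOThreeL.Merge (MZ le_MZ isLoc_MZ)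
open Cfsg.Agent.Omega.NOThreeL.RRed.TvFin (Full)
open Cfsg.Agent.Omega.NOThreeL.RRed.Blk (Dec Co)
open Cfsg.Agent.Omega.NOThreeL.RRed.Blk.TypesNat (XH)
open Cfsg.Agent.Omega.NOThreeL.RRed.Blk.Asm (NN CC uN)
open Cfsg.Agent.Omega.NOThreeL.RRed.Blk.AsmG (RRs)
open Cfsg.Agent.Omega.NOThreeL.RRed.Blk.AsmOneBlk (EB)
open scoped Pointwise

universe u

variable {G : Type u} [Group G] [Finite G] {S : Sylow 2 G} {I : Type u} {N E : I → Subgroup G} {R₀ : Subgroup G}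
  {Om : I → Type u} [∀ i, Fintype (Om i)] [∀ i, DecidableEq (Om i)] {phi : ∀ i, Finset (Om i) → G}

/-- the field `mov` for the letters -/
theorem mov_letters (B : RB S) (mv : MvAct (S : Subgroup G))
    (no : FFThm.NoOverM (zl (S : Subgroup G) (MZ (S : Subgroup G))) (MZ (S : Subgroup G)))
    (F : Full (S : Subgroup G) (MZ (S : Subgroup G)) (zl (S : Subgroup G) (MZ (S : Subgroup G))) N E R₀ Om phi)
    (h3 : ∀ b, Fintype.card (Om b) = 3) (b : I) :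
    ∃ P, Act (S : Subgroup G) P ∧ ∃ (K : Type) (_ : Field K) (_ : Finite K) (_ : CharP K 2) (k : ℕ)
      (_ : 0 < k) (M : NatKM K (S : Subgroup G) P (zl (S : Subgroup G) P) (cv (S : Subgroup G) P) k) (h : Nb M),
      (∀ j, DD M j = ⊥) ∧
      (∃ j, N b = blk M j ∧ N b ⊓ centralizer (((S : Subgroup G) ⊓ E b : Subgroup G) : Set G) = YY h j ∧ 2 = Nat.card K) ∧
      ∀ j, ∃ c, N c = blk M j ∧
        N c ⊓ centralizer (((S : Subgroup G) ⊓ E c : Subgroup G) : Set G) = YY h j ∧ 2 = Nat.card K := by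
  have hc := B.ctx.char2
  have hL := isLoc_MZ B.ctx B.full B.data.noff
  obtain ⟨P, hP, hPL, h2, A, hA, hAt⟩ := SrcTwoM.exists_small hc hL no F h3 (fun z hz hz1 => by
    obtain ⟨P, a, hPz⟩ := mv z hz hz1
    exact ⟨P, a.1, le_MZ a.1, AsmMv.EP_ne B a, hPz⟩) b
  have a : Act (S : Subgroup G) P := AsmMv.act_of_EP B hP hA
  obtain ⟨K, i1, i2, i3, k, hk, M, h, hK, hD, h4, h5, h6⟩ := SrcTwoM.act_two' hc hL hP hPL no F h3 h2 ⟨A, hA⟩
  obtain ⟨j, hj⟩ := h6 A hA b hAt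
  refine ⟨P, a, K, i1, i2, i3, k, hk, M, h, hD, ⟨j, hj.1, hj.2.1.symm, hK.symm⟩, fun j => ?_⟩
  obtain ⟨c, hc'⟩ := h4 j
  exact ⟨c, hc'.1, hc'.2.1.symm, hK.symm⟩

/-- **`Src`, mixed case.** -/
theorem src_mixed (B : RB S) (mv : MvAct (S : Subgroup G))
    (Q : Nrm (MZ (S : Subgroup G)) (zl (S : Subgroup G) (MZ (S : Subgroup G))))
    (no : FFThm.NoOverM (zl (S : Subgroup G) (MZ (S : Subgroup G))) (MZ (S : Subgroup G)))
    (F : Full (S : Subgroup G) (MZ (S : Subgroup G)) (zl (S : Subgroup G) (MZ (S : Subgroup G))) N E R₀ Om phi)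
    (h3 : ∀ b, Fintype.card (Om b) = 3) :
    Src (S : Subgroup G)
      (fun b : ↥(RRs S (MZ (S : Subgroup G)) Q ∪ AsmTwo.FF S E Q) =>
        un Q (uN (RRs S (MZ (S : Subgroup G)) Q) (NN (EB S Q) Q.Mod) (AsmTwo.NF S E Q N) (b : Subgroup (XH Q))))
      (fun b => un Q (brk Q.Mod (b : Subgroup (XH Q)))) (fun b => Nat.card (b : Subgroup (XH Q))) :=
  src_mix B mv Q no F h3 fun b => mov_letters B mv no F h3 b

end Cfsg.Agent.Omega.NOThreeL.RRed.Blk.SrcMix
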