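import Cfsg.Agent.Omega.NOThreeL.RRed.Blk.AsmCov
import Cfsg.Agent.Omega.NOThreeL.RRed.Blk.MixLn
import Cfsg.Agent.Omega.NOThreeL.RRed.Blk.SrcMixed
import Cfsg.Agent.Omega.NOThreeL.RRed.Blk.AsmNBs

/-!
# NO-3L, box R, the left case: the blocks (helper283)

* **`fin`** : if the blocks of letters have three letters: `NBs`, `Src`, `Fits` for the mixed family.
-/

set_option autoImplicit false
set_option linter.unusedSectionVars false

namespace Cfsg.Agent.Omega.NOThreeL.RRed.Blk.AsmLeftB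

open Subgroup Cfsg Cfsg.Agent.ZN Cfsg.Agent.Omega.MinPar
open Cfsg.Agent.Omega.FFThm (NatKM SymKM NoOverM)
open Cfsg.Agent.Omega.FrameFF (cv)
open Cfsg.Agent.Omega.NO3S.ThmB (Nb)
open Cfsg.Agent.Omega.NO3S.KeyRad (blk)
open Cfsg.Agent.Omega.NOThreeL.RSplit (Nrm)
open Cfsg.Agent.Omega.NOThreeL.RRed.NS (fxd brk mem_fxd un val_mem_un DD YY)
open Cfsg.Agent.Omega.NOThreeL.RRed.WideTree (Act MvAct Src NBs Fits CM)
open Cfsg.Agent.Omega.NOThreeL.RTree (RB)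
open Cfsg.Agent.Omega.NOThreeL.Merge (MZ le_MZ isLoc_MZ)
open Cfsg.Agent.Omega.NOThreeL.RRed.TvFin (Full)
open Cfsg.Agent.Omega.NOThreeL.RRed.Blk (Dec Co)
open Cfsg.Agent.Omega.NOThreeL.RRed.Blk.TypesNat (XH ph ph_smul XH_faith ph_eq ph_surj no_XH)
open Cfsg.Agent.Omega.NOThreeL.RRed.Blk.Asm
open Cfsg.Agent.Omega.NOThreeL.RRed.Blk.AsmCore (EP KP im)
open Cfsg.Agent.Omega.NOThreeL.RRed.Blk.AsmG (Inp RRs)
open Cfsg.Agent.Omega.NOThreeL.RRed.Blk.AsmTwo (NF_im NF)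
open Cfsg.Agent.Omega.NOThreeL.RRed.Blk.AsmOneBlk (EB nat_fam rrs_sub)
open Cfsg.Agent.Omega.NOThreeL.RRed.Blk.AsmCls
open Cfsg.Agent.Omega.NOThreeL.RRed.Blk.AsmCov (Sml cover atom_of)
open scoped Pointwise

universe u

variable {G : Type u} [Group G] [Finite G] {S : Sylow 2 G} {ι : Type u} {W : ι → Subgroup G}
  {I : Type u} [Finite I] {N E : I → Subgroup G} {R₀ : Subgroup G} {Om : I → Type u} [∀ i, Fintype (Om i)]
  [∀ i, DecidableEq (Om i)] {phi : ∀ i, Finset (Om i) → G}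

/-- the image of a transposition -/
theorem im_atom (Q : Nrm (MZ (S : Subgroup G)) (Wd (S : Subgroup G)))
    (F : Full (S : Subgroup G) (MZ (S : Subgroup G)) (Wd (S : Subgroup G)) N E R₀ Om phi)
    (h3 : ∀ b, Fintype.card (Om b) = 3) (h2 : ∀ v : Q.Mod, v + v = 0) {b : I} {s : G}
    (hs : s ∈ (S : Subgroup G) ⊓ E b) (hc : Nat.card (im Q (zpowers s)) = 2) :
    im Q (zpowers s) = im Q ((S : Subgroup G) ⊓ E b) := by
  refine Subgroup.eq_of_le_of_card_ge (AsmCore.im_mono Q (zpowers_le.2 hs)) ?_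
  rw [hc]
  exact (AsmTwo.card_im F Q (h3 b) h2).le

/-- **The blocks in the left case, three letters.** -/
theorem fin (B : RB S) (mv : MvAct (S : Subgroup G)) (h : CM (S : Subgroup G) W)
    (no : NoOverM (zl (S : Subgroup G) (MZ (S : Subgroup G))) (MZ (S : Subgroup G)))
    (Q : Nrm (MZ (S : Subgroup G)) (zl (S : Subgroup G) (MZ (S : Subgroup G))))
    (F : Full (S : Subgroup G) (MZ (S : Subgroup G)) (Wd (S : Subgroup G)) N E R₀ Om phi)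
    (sm : Sml (S : Subgroup G) Q N E) (h3 : ∀ b, Fintype.card (Om b) = 3) :
    ∃ (κ : Type u) (_ : Finite κ) (N' E' D' l : κ → Subgroup G) (q : κ → ℕ) (side : κ → ι),
      NBs (S : Subgroup G) N' E' D' l q ∧ Src (S : Subgroup G) N' l q ∧ Fits N' W side := by
  have hSL : (S : Subgroup G) ≤ MZ (S : Subgroup G) := (isLoc_MZ B.ctx B.full B.data.noff).le
  obtain ⟨hI, h4, hGB, hF, hTD⟩ := nat_fam B mv no Q
  have h2 : ∀ v : Q.Mod, v + v = 0 := hI.two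
  have hf : ∀ x : XH Q, (∀ v : Q.Mod, x • v = v) → x = 1 := hI.hf
  have hC : Cls (XH Q) (fun i => Q.ad (W i)) := cls_of (irr_of h) Q
  have h₂ : Fam (im Q (S : Subgroup G)) (AsmTwo.FF S E Q) (NF S E Q N) (NF S E Q (Co N R₀)) := AsmTwo.fam F Q h3 h2
  have c2 : ∀ D ∈ AsmTwo.FF S E Q, Nat.card D = 2 := by
    rintro _ ⟨b, rfl⟩
    exact AsmTwo.card_im F Q (h3 b) h2
  have e2 : AsmTwo.FF S E Q ⊆ EB S Q := by
    rintro _ ⟨b, rfl⟩
    obtain ⟨i, hi⟩ := ClsBlk.exists_le (irr_of h) F b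
    obtain ⟨s, hs, h5, h6, -⟩ := atom_of h Q F sm hi
    exact ⟨zpowers s, h5, im_atom Q F h3 h2 hs h6⟩
  have hc₁ : ∀ D ∈ RRs S (MZ (S : Subgroup G)) Q, ∃ i, Cl (fun i => Q.ad (W i)) D i :=
    fun D hD => cl_EE h Q D (rrs_sub hD)
  have hc₂ : ∀ D ∈ AsmTwo.FF S E Q, ∃ i, Cl (fun i => Q.ad (W i)) D i := fun D hD => cl_EE h Q D (e2 hD)
  have c3 : ∀ D ∈ AsmTwo.FF S E Q, Nat.card D < 4 := fun D hD => by rw [c2 D hD]; omega
  obtain ⟨mF, mC, mT⟩ := Cls.mix (W := fun i => Q.ad (W i)) hC h2 hf hF hGB h4 h₂ e2 c3 hc₁ hc₂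
  have hne : ∀ i, ∃ D ∈ RRs S (MZ (S : Subgroup G)) Q ∪ AsmTwo.FF S E Q, Cl (fun i => Q.ad (W i)) D i := by
    intro i
    rcases cover B mv h Q F sm i with ⟨D, hD, hi⟩ | ⟨b, hb⟩
    · exact ⟨D, Or.inl hD, hi⟩
    · obtain ⟨s, hs, h5, h6, h7⟩ := atom_of h Q F sm hb
      rw [im_atom Q F h3 h2 hs h6] at h7
      exact ⟨_, Or.inr ⟨b, rfl⟩, h7⟩
  have hsup := mT hne
  have hTor : AsmT.Tor (im Q (S : Subgroup G)) (RRs S (MZ (S : Subgroup G)) Q ∪ AsmTwo.FF S E Q)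
      (uN (RRs S (MZ (S : Subgroup G)) Q) (NN (EB S Q) Q.Mod) (NF S E Q N))
      (uN (RRs S (MZ (S : Subgroup G)) Q) (CC (EB S Q) Q.Mod) (NF S E Q (Co N R₀))) := by
    rintro D (hD | hD) h5
    · exact ⟨D, Or.inl hD, 1, by rw [map_one, one_smul], by rw [uN_pos hD, uN_pos hD]; exact hTD D hD⟩
    · rw [c2 D hD] at h5
      omega
  obtain ⟨E', D', hNB⟩ := AsmNBs.nbs_of_fam Q hSL h2 hI.hno mF hsup hTor
    (fun g hg D hD => MixLn.hn_mix F hSL Q h2 h3 hg hD) (fun g D hD => MixLn.hln_mix B mv no Q mF hsup c2 g hD)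
  have hcl : ∀ b : ↥(RRs S (MZ (S : Subgroup G)) Q ∪ AsmTwo.FF S E Q), ∃ i, Cl (fun i => Q.ad (W i)) (b : Subgroup (XH Q)) i := by
    rintro ⟨D, hD | hD⟩
    · exact hc₁ D hD
    · exact hc₂ D hD
  choose side hside using hcl
  refine ⟨↥(RRs S (MZ (S : Subgroup G)) Q ∪ AsmTwo.FF S E Q), inferInstance, _, E', D', _, _, side, hNB,
    SrcMix.src_mixed B mv Q no F h3, fun i => ?_⟩
  have h5 := congrArg (un Q) (mC i (hne i))
  rw [AsmUn.un_ad Q ((irr_of h).le i), AsmUn.un_iSup₂] at h5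
  rw [← h5]
  apply le_antisymm
  · refine iSup₂_le fun D hD => ?_
    have h0 : D ≠ ⊥ := fun h0 => (mF.nb D hD.1).move fun d hd m _ => by
      rw [h0, Subgroup.mem_bot] at hd
      rw [hd, one_smul]
    have h6 : side ⟨D, hD.1⟩ = i := hC.uniq hf (hside ⟨D, hD.1⟩) hD.2 h0
    exact le_iSup (fun b : {b : ↥(RRs S (MZ (S : Subgroup G)) Q ∪ AsmTwo.FF S E Q) // side b = i} =>
      un Q (uN (RRs S (MZ (S : Subgroup G)) Q) (NN (EB S Q) Q.Mod) (NF S E Q N) (b.1 : Subgroup (XH Q)))) ⟨⟨D, hD.1⟩, h6⟩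
  · refine iSup_le ?_
    rintro ⟨b, hb⟩
    have h7 : Cl (fun i => Q.ad (W i)) (b : Subgroup (XH Q)) i := by rw [← hb]; exact hside b
    exact le_iSup₂ (f := fun (D : Subgroup (XH Q)) (_ : D ∈ {D | D ∈ RRs S (MZ (S : Subgroup G)) Q ∪ AsmTwo.FF S E Q ∧
      Cl (fun i => Q.ad (W i)) D i}) => un Q (uN (RRs S (MZ (S : Subgroup G)) Q) (NN (EB S Q) Q.Mod) (NF S E Q N) D))
      (b : Subgroup (XH Q)) ⟨b.2, h7⟩

end Cfsg.Agent.Omega.NOThreeL.RRed.Blk.AsmLeftB
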