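import Cfsg.Agent.Omega.NOThreeL.RRed.Blk.AsmG
import Cfsg.Agent.Omega.NOThreeL.RRed.Blk.AsmAct
import Cfsg.Agent.Omega.NOThreeL.RRed.Blk.AsmSmall
import Cfsg.Agent.Omega.NOThreeL.RRed.Blk.AsmEsB
import Cfsg.Agent.Omega.NOThreeL.RRed.Blk.AsmMv

/-!
# NO-3L, box R: assembly of the natural blocks, all inputs

`L = M₀ = MZ S`, `U = V* = Wd S`, from `RB S` and `MvAct S`.

* `exists_act` : some `P` is active; `no` : `NoOverM V* M₀`;
* `ac_of` : `Asm.Ac` for every `P ∈ P*(S)` with one moving `V_P`;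
* **`inp_of`** : `AsmG.Inp S (MZ S) Q`;
* **`main`** : the natural blocks; `src`, `mov`.
-/

set_option autoImplicit false
set_option linter.unusedSectionVars false

namespace Cfsg.Agent.Omega.NOThreeL.RRed.Blk.AsmMain

open Subgroup Cfsg Cfsg.Agent.ZN Cfsg.Agent.Omega.MinPar
open Cfsg.Agent.Omega.FFThm (NatKM SymKM OffM ElemM NoOverM)
open Cfsg.Agent.Omega.FrameFF (cv)
open Cfsg.Agent.Omega.NO3S.ThmB Cfsg.Agent.Omega.NO3S.KeyRad
open Cfsg.Agent.Omega.NOThreeL.RSplit (Nrm)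
open Cfsg.Agent.Omega.NOThreeL.RRed.NS (fxd brk DD YY un gen_MZ' elem_Wd act_inf_eq_bot)
open Cfsg.Agent.Omega.NOThreeL.RRed.WideTree (Act MvAct)
open Cfsg.Agent.Omega.NOThreeL.RTree (RB)
open Cfsg.Agent.Omega.NOThreeL.Merge (MZ le_MZ isLoc_MZ)
open Cfsg.Agent.Omega.NOThreeL.RRed.Blk.TypesNat (XH)
open Cfsg.Agent.Omega.NOThreeL.RRed.Blk.Asm (Ac Es Fam FFs NN CC GB)
open Cfsg.Agent.Omega.NOThreeL.RRed.Blk.AsmCore (EP KP im)
open Cfsg.Agent.Omega.NOThreeL.RRed.Blk.AsmG (Inp RRs)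
open scoped Pointwise

universe u

variable {G : Type u} [Group G] [Finite G] {S : Sylow 2 G} {P : Subgroup G}

/-- some `P` is active -/
theorem exists_act (B : RB S) (mv : MvAct (S : Subgroup G)) : ∃ P, Act (S : Subgroup G) P := by
  have h1 : zc (S : Subgroup G) ≠ ⊥ := MinSimple.Basic.zc_ne_bot S.isPGroup' (B.ctx.sylow_ne_bot S)
  obtain ⟨z, hz1⟩ := Subgroup.ne_bot_iff_exists_ne_one.1 h1
  obtain ⟨P, a, -⟩ := mv z z.2 fun h => hz1 (Subtype.ext h)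
  exact ⟨P, a⟩

/-- (NO) -/
theorem no (B : RB S) (mv : MvAct (S : Subgroup G)) : NoOverM (Wd (S : Subgroup G)) (MZ (S : Subgroup G)) := by
  obtain ⟨P, a⟩ := exists_act B mv
  exact AsmMv.no_of B a

/-- **`Ac`.** -/
theorem ac_of (B : RB S) (mv : MvAct (S : Subgroup G)) (Q : Nrm (MZ (S : Subgroup G)) (Wd (S : Subgroup G)))
    (hP : IsParS (S : Subgroup G) P) (ne : (EP (S : Subgroup G) P (Wd (S : Subgroup G))).Nonempty) :
    Ac (im Q (S : Subgroup G)) (im Q '' AsmCore.EE (S : Subgroup G) (Wd (S : Subgroup G))) (im Q P)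
      (im Q (KP (S : Subgroup G) P (Wd (S : Subgroup G)))) (im Q '' EP (S : Subgroup G) P (Wd (S : Subgroup G)))
      Q.Mod := by
  obtain ⟨A, hA⟩ := ne
  have a := AsmMv.act_of_EP B hP hA
  have hc := B.ctx.char2
  have hL := isLoc_MZ B.ctx B.full B.data.noff
  have hPL : P ≤ MZ (S : Subgroup G) := le_MZ hP
  have no := AsmMv.no_of B a
  have hcomm := AsmSp.comm_zl hc hL
  have g := AsmSp.gone_mx hc hP hPL no hcomm hA.1.1 hA.1.2 hA.2
  rcases g.concl with ⟨F, i1, i2, i3, k, hk, ⟨M⟩⟩ | ⟨k, m, hk, hm, ⟨M⟩⟩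
  · rcases SplitAll.card_field F with h2 | h4
    · have h3 : Nat.card F = 2 := Nat.card_eq_two_iff.2 ⟨0, 1, zero_ne_one, Set.eq_univ_of_forall fun x => by
        rcases h2 x with h5 | h5 <;> simp [h5]⟩
      exact AsmSmall.ac_small hc hL hP hPL no (Or.inl ⟨F, i1, i3, k, h3, hk, ⟨M⟩⟩) Q ⟨A, hA⟩
    · exact AsmAct.ac_nat hc hL hP hPL no M h4 (act_inf_eq_bot B mv a M (by omega)) Q ⟨A, hA⟩
  · exact AsmSmall.ac_small hc hL hP hPL no (Or.inr ⟨k, m, hk, hm, ⟨M⟩⟩) Q ⟨A, hA⟩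

/-- **All inputs.** -/
theorem inp_of (B : RB S) (mv : MvAct (S : Subgroup G)) (Q : Nrm (MZ (S : Subgroup G)) (Wd (S : Subgroup G))) :
    Inp S (MZ (S : Subgroup G)) Q where
  hc := B.ctx.char2
  gen := gen_MZ' S
  el := elem_Wd B
  no := no B mv
  es := AsmEsB.es_of Q (isLoc_MZ B.ctx B.full B.data.noff).le (no B mv) (elem_Wd B)
  ac P hP _ ne := ac_of B mv Q hP ne

end Cfsg.Agent.Omega.NOThreeL.RRed.Blk.AsmMain
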