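import Cfsg.Agent.Omega.NOThreeL.RRed.Blk.AsmT
import Cfsg.Agent.Omega.NOThreeL.RRed.Blk.AsmCore
import Cfsg.Agent.Omega.NOThreeL.RRed.Blk.AsmOf
import Cfsg.Agent.Omega.NOThreeL.RRed.Blk.TypesAway
import Cfsg.Agent.Omega.NOThreeL.RRed.WideTree
import Cfsg.Agent.PLocal.OffenderStep

/-!
# NO-3L, box R: the field `nat` of `NBs` from `NBT`

`Q : Nrm H U`, `S ≤ H` a 2-group, `D ≤ im Q S` the root group of the natural block `N` of `Q.Mod`, `T = clo up lo`.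

* `pre Q T` : the preimage of `T ≤ XH Q` in `G`;
* **`natBlk_of`** : `NatBlk S (pre Q T) (un Q N) (un Q [V, D]) F e`, `|F| = |D|`.
-/

set_option autoImplicit false
set_option linter.unusedSectionVars false

namespace Cfsg.Agent.Omega.NOThreeL.RRed.Blk.AsmNatBlk

open Subgroup Cfsg Cfsg.Agent.ZN
open Cfsg.Agent.Omega.NOThreeL.RSplit (Nrm)
open Cfsg.Agent.Omega.NOThreeL.RRed.NS (fxd brk un val_mem_un)
open Cfsg.Agent.Omega.NOThreeL.RRed.WideTree (NatBlk)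
open Cfsg.Agent.Omega.NOThreeL.RRed.Blk.TypesGam (Bk rt up_mem)
open Cfsg.Agent.Omega.NOThreeL.RRed.Blk.TypesClo (clo)
open Cfsg.Agent.Omega.NOThreeL.RRed.Blk.TypesNat (XH ph ph_smul XH_faith ph_surj two_of)
open Cfsg.Agent.Omega.NOThreeL.RRed.Blk.AsmSL
open Cfsg.Agent.Omega.NOThreeL.RRed.Blk.AsmT (NBT TD)

open scoped Pointwise

universe u

variable {G : Type u} [Group G] {H U : Subgroup G}

/-- the preimage in `G` -/
def pre (Q : Nrm H U) (T : Subgroup (XH Q)) : Subgroup G := (T.comap (ph Q)).map H.subtype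

theorem mem_pre {Q : Nrm H U} {T : Subgroup (XH Q)} {x : G} : x ∈ pre Q T ↔ ∃ hx : x ∈ H, ph Q ⟨x, hx⟩ ∈ T := by
  constructor
  · rintro ⟨y, hy, rfl⟩
    exact ⟨y.2, hy⟩
  · rintro ⟨hx, h⟩
    exact ⟨⟨x, hx⟩, h, rfl⟩

/-- **The field `nat`.** -/
theorem natBlk_of [Finite G] (Q : Nrm H U) (hU2 : IsElementaryAbelian 2 U) {S : Subgroup G} (hSH : S ≤ H)
    (hS2 : IsPGroup 2 S) {D T : Subgroup (XH Q)} {N C : AddSubgroup Q.Mod} (h : NBT D T N C)
    (hD : D ≤ AsmCore.im Q S) :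
    ∃ (F : Type) (_ : Field F) (_ : Finite F) (_ : CharP F 2) (e : G → Fin 2 → F),
      Nat.card F = Nat.card D ∧ NatBlk S (pre Q T) (un Q N) (un Q (brk Q.Mod D)) F e := by
  classical
  obtain ⟨F, i1, i2, e, f, up, lo, hB, rfl, rfl, rfl⟩ := h.ex
  have h2 : ∀ v : Q.Mod, v + v = 0 := two_of Q hU2
  have hf : ∀ x : XH Q, (∀ v : Q.Mod, x • v = v) → x = 1 := fun x hx => XH_faith Q x hx
  have hch : CharP F 2 := by
    refine CharTwo.of_one_ne_zero_of_two_eq_zero one_ne_zero ?_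
    have := hB.two h2 1
    rwa [one_add_one_eq_two] at this
  -- vectors
  let m : (Fin 2 → F) → Q.Mod := fun w => e (w 0) + f (w 1)
  have hm : ∀ w, m w = e (w 0) + f (w 1) := fun _ => rfl
  have m_inj : ∀ w w', m w = m w' → w = w' := fun w w' h1 => by
    obtain ⟨h3, h4⟩ := vec_uniq hB h1
    funext i
    fin_cases i
    · exact h3
    · exact h4
  have m_add : ∀ w w', m w + m w' = m (w + w') := fun w w' => by
    rw [hm, hm, hm, Pi.add_apply, Pi.add_apply, map_add, map_add]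
    abel
  let cd : G → Fin 2 → F := fun v => if h : ∃ w, Q.val (m w) = v then h.choose else 0
  have hcd : ∀ w, cd (Q.val (m w)) = w := fun w => by
    have hex : ∃ w', Q.val (m w') = Q.val (m w) := ⟨w, rfl⟩
    have h1 : cd (Q.val (m w)) = hex.choose := dif_pos hex
    rw [h1]
    exact m_inj _ _ (Nrm.ext hex.choose_spec)
  have hN : ∀ v, v ∈ un Q (e.range ⊔ f.range) ↔ ∃ w, Q.val (m w) = v := fun v => by
    constructor
    · rintro ⟨n, hn, rfl⟩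
      obtain ⟨_, ⟨a, rfl⟩, _, ⟨b, rfl⟩, rfl⟩ := AddSubgroup.mem_sup.1 hn
      exact ⟨![a, b], rfl⟩
    · rintro ⟨w, rfl⟩
      exact (val_mem_un Q).2 (add_mem (AddSubgroup.mem_sup_left ⟨_, rfl⟩) (AddSubgroup.mem_sup_right ⟨_, rfl⟩))
  have hcj : ∀ (g : H) (w : Fin 2 → F), (g : G) * Q.val (m w) * (g : G)⁻¹ = Q.val (ph Q g • m w) := fun g w => by
    rw [ph_smul, Nrm.val_smul]
  have hact : ∀ (g : H) (B : Matrix.SpecialLinearGroup (Fin 2) F), SLA e f C (ph Q g) B → ∀ w,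
      (g : G) * Q.val (m w) * (g : G)⁻¹ = Q.val (m (B.1.mulVec w)) := fun g B hgB w => by
    rw [hcj, hm, hgB.act]
  have hl : ∀ v, v ∈ un Q (brk Q.Mod (rt up)) ↔ ∃ a, Q.val (e a) = v := fun v => by
    rw [Types.Bk.brk_rt hB h2 hf]
    constructor
    · rintro ⟨_, ⟨a, rfl⟩, rfl⟩
      exact ⟨a, rfl⟩
    · rintro ⟨a, rfl⟩
      exact ⟨_, ⟨a, rfl⟩, rfl⟩
  -- a vector fixed by `S ∩ T`
  obtain ⟨a₀, ha₀, hfix⟩ : ∃ a₀ : F, a₀ ≠ 0 ∧ ∀ (s : H), (s : G) ∈ S → ph Q s ∈ clo up lo → ph Q s • e a₀ = e a₀ := by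
    have hf2 : Fact (Nat.Prime 2) := ⟨Nat.prime_two⟩
    have hU : un Q (e.range ⊔ f.range) ≤ U := by
      rintro _ ⟨n, -, rfl⟩
      exact Q.val_mem n
    have hUp : IsPGroup 2 (un Q (e.range ⊔ f.range)) := fun x => ⟨1, Subtype.ext (by
      rw [pow_one]; exact hU2.2 _ (hU x.2))⟩
    have hcj' : ∀ x ∈ S ⊓ pre Q (clo up lo), ∀ v ∈ un Q (e.range ⊔ f.range), x * v * x⁻¹ ∈ un Q (e.range ⊔ f.range) := by
      rintro x ⟨-, hx⟩ v hv
      obtain ⟨hxH, hx1⟩ := mem_pre.1 hx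
      obtain ⟨w, rfl⟩ := (hN v).1 hv
      obtain ⟨B, hxB⟩ := sla_of_clo hB hx1
      exact (hN _).2 ⟨_, (hact ⟨x, hxH⟩ B hxB w).symm⟩
    have hnorm : S ⊓ pre Q (clo up lo) ≤ normalizer (un Q (e.range ⊔ f.range) : Set G) := fun x hx => by
      refine mem_normalizer_iff.2 fun v => ⟨hcj' x hx v, fun hv => ?_⟩
      have h5 := hcj' x⁻¹ (inv_mem hx) _ hv
      have e1 : x⁻¹ * (x * v * x⁻¹) * x⁻¹⁻¹ = v := by group
      rwa [e1] at h5
    have hne : un Q (e.range ⊔ f.range) ≠ ⊥ := fun h5 => by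
      have h6 : Q.val (e 1) ∈ un Q (e.range ⊔ f.range) := (val_mem_un Q).2 (AddSubgroup.mem_sup_left ⟨1, rfl⟩)
      rw [h5, Subgroup.mem_bot] at h6
      have h7 : e 1 = 0 := Nrm.eq_zero_iff.2 h6
      have h8 : e 1 + f 0 = e 0 + f 0 := by rw [h7, map_zero, map_zero]
      exact one_ne_zero (vec_uniq hB h8).1
    have h5 := PLocal.OffenderStep.inf_centralizer_ne_bot _ (S ⊓ pre Q (clo up lo)) hUp (hS2.to_le inf_le_left) hnorm hne
    obtain ⟨⟨z, hz, hzc⟩, hz1⟩ := Subgroup.ne_bot_iff_exists_ne_one.1 h5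
    obtain ⟨w, rfl⟩ := (hN z).1 hz
    have hfx : ∀ s : H, (s : G) ∈ S → ph Q s ∈ clo up lo → ph Q s • m w = m w := fun s hs hsT => by
      refine Nrm.ext ?_
      rw [← hcj, mul_inv_eq_iff_eq_mul]
      exact mem_centralizer_iff.1 hzc _ ⟨hs, mem_pre.2 ⟨s.2, hsT⟩⟩
    -- the second coordinate vanishes
    have hw1 : w 1 = 0 := by
      obtain ⟨s, hs, h6⟩ := hD (up_mem 1)
      have h7 := hfx s hs (by rw [h6]; exact TypesClo.up_mem_clo up lo 1)
      rw [h6, hm, smul_add, hB.up_e, hB.up_f, one_mul] at h7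
      have h8 : e (w 0 + w 1) + f (w 1) = e (w 0) + f (w 1) := by
        rw [map_add, ← h7]
        conv_rhs => rw [h7]
        rw [← h7]
        abel
      have h9 := (vec_uniq hB h8).1
      exact left_eq_add.1 h9.symm
    have hmw : m w = e (w 0) := by rw [hm, hw1, map_zero, add_zero]
    refine ⟨w 0, fun h6 => hz1 (Subtype.ext ?_), fun s hs hsT => ?_⟩
    · change Q.val (m w) = 1
      rw [hmw, h6, map_zero, Nrm.val_zero]
    · have h6 := hfx s hs hsT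
      rwa [hmw] at h6
  refine ⟨F, i1, i2, hch, cd, (hB.card_rt h2 hf).symm, ?_⟩
  refine
    { mul := ?_
      inj := ?_
      sur := ?_
      act := ?_
      full := ?_
      line := ?_
      root := ?_
      sylow := ?_ }
  · intro v hv v' hv'
    obtain ⟨w, rfl⟩ := (hN v).1 hv
    obtain ⟨w', rfl⟩ := (hN v').1 hv'
    rw [← Nrm.val_add, m_add, hcd, hcd, hcd]
  · intro v hv h1
    obtain ⟨w, rfl⟩ := (hN v).1 hv
    rw [hcd] at h1
    rw [h1, hm, Pi.zero_apply, Pi.zero_apply, map_zero, map_zero, add_zero, Nrm.val_zero]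
  · exact fun x => ⟨Q.val (m x), (hN _).2 ⟨x, rfl⟩, hcd x⟩
  · intro g hg
    obtain ⟨hgH, hg1⟩ := mem_pre.1 hg
    obtain ⟨B, hgB⟩ := sla_of_clo hB hg1
    refine ⟨B, fun v hv => ?_⟩
    obtain ⟨w, rfl⟩ := (hN v).1 hv
    rw [hact ⟨g, hgH⟩ B hgB w, hcd, hcd]
  · intro B
    obtain ⟨x, hx, hxB⟩ := exists_sla hB B
    obtain ⟨g, rfl⟩ := ph_surj Q x
    refine ⟨g, mem_pre.2 ⟨g.2, hx⟩, fun v hv => ?_⟩
    obtain ⟨w, rfl⟩ := (hN v).1 hv
    rw [hact g B hxB w, hcd, hcd]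
  · intro v
    rw [hl]
    constructor
    · rintro ⟨a, rfl⟩
      have h1 : e a = m ![a, 0] := by
        rw [hm]
        change e a = e a + f 0
        rw [map_zero, add_zero]
      rw [h1]
      exact ⟨(hN _).2 ⟨_, rfl⟩, by rw [hcd]; rfl⟩
    · rintro ⟨hv, hv1⟩
      obtain ⟨w, rfl⟩ := (hN v).1 hv
      rw [hcd] at hv1
      exact ⟨w 0, by rw [hm, hv1, map_zero, add_zero]⟩
  · rintro s ⟨hs, hsT⟩
    obtain ⟨hsH, hs1⟩ := mem_pre.1 hsT
    obtain ⟨B, hsB⟩ := sla_of_clo hB hs1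
    have h1 := hfix ⟨s, hsH⟩ hs hs1
    have h3 := hsB.act ![a₀, 0]
    simp only [Matrix.cons_val_zero, Matrix.cons_val_one, map_zero, add_zero] at h3
    rw [h1] at h3
    have h4 : e a₀ + f 0 = e (B.1.mulVec ![a₀, 0] 0) + f (B.1.mulVec ![a₀, 0] 1) := by
      rw [map_zero, add_zero]; exact h3
    obtain ⟨h5, h6⟩ := vec_uniq hB h4
    simp [Matrix.mulVec, dotProduct, Fin.sum_univ_two] at h5 h6
    have h10 : B.1 1 0 = 0 := by
      rcases h6 with h7 | h7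
      · exact h7
      · exact absurd h7 ha₀
    have h00 : B.1 0 0 = 1 := by
      have h8 : B.1 0 0 * a₀ = 1 * a₀ := by rw [one_mul]; exact h5.symm
      exact mul_right_cancel₀ ha₀ h8
    have h11 : B.1 1 1 = 1 := by
      have h7 := B.2
      rw [Matrix.det_fin_two, h10, h00, mul_zero, sub_zero, one_mul] at h7
      exact h7
    have hBe : B = Cfsg.Agent.Lib.SL2Mat.up (B.1 0 1) := by
      refine Cfsg.Agent.Lib.SL2Mat.ext_ent ?_ ?_ ?_ ?_
      · exact h00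
      · rfl
      · exact h10
      · exact h11
    refine ⟨B.1 0 1, fun v hv => ?_⟩
    obtain ⟨w, rfl⟩ := (hN v).1 hv
    rw [hact ⟨s, hsH⟩ B hsB w, hcd, hcd, hBe, up_vec]
    rfl
  · intro c
    obtain ⟨s, hs, h6⟩ := hD (up_mem c)
    have h7 : ph Q s ∈ clo up lo := by
      rw [h6]
      exact TypesClo.up_mem_clo up lo c
    refine ⟨s, ⟨hs, mem_pre.2 ⟨s.2, h7⟩⟩, fun v hv => ?_⟩
    obtain ⟨w, rfl⟩ := (hN v).1 hv
    have h8 : SLA e f C (ph Q s) (Cfsg.Agent.Lib.SL2Mat.up c) := by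
      rw [h6]
      exact sla_up hB c
    rw [hact s _ h8 w, hcd, hcd, up_vec]

end Cfsg.Agent.Omega.NOThreeL.RRed.Blk.AsmNatBlk
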