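import Cfsg.Agent.Omega.NOThreeL.RZ.TwoC.DecE

/-!
# Blocks: restriction to an `L`-invariant set `J` of blocks, vectors of full support in `∏_{b ∈ J} N b`

* `Dec.restrict` : `Dec S L U (N|J) (E|J) ((⨆ b ∉ J, N b) ⊔ R₀)`; `Orbs.restrict`; `isC_restrict`;
* `FSup N R₀ O J` : the elements of `∏_{b ∈ J} N b` whose components `b ∈ J` lie in `O b`;
* **`exists_fsup`** : `S` centralises some `z ∈ FSup J`; **`fsup_le`** : `L ≤ (L ⊓ C((⨆ b ∉ J, N b) ⊔ R₀)) ⊔ (L ⊓ C(z))`;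
* **`fsup_joint`** : `z ∈ FSup J`, `z' ∈ FSup Jᶜ` : for `y ∈ L` some `g ∈ ⨆ E b` has `g⁻¹ y ∈ C(z) ⊓ C(z')`.
-/

set_option autoImplicit false
set_option linter.unusedSectionVars false

namespace Cfsg.Agent.Omega.NOThreeL.RRed.Blk

open Subgroup Cfsg
open Cfsg.Agent.Omega.NOThreeL.RZ.TwoC.DecE (Orbs PP)
open scoped Pointwise

universe u v

variable {G : Type u} [Group G] {ι : Type v}

/-- `J` is `L`-invariant -/
def InvJ (L : Subgroup G) (N : ι → Subgroup G) (J : Set ι) : Prop :=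
  ∀ g ∈ L, ∀ b ∈ J, ∀ c, MulAut.conj g • N b = N c → c ∈ J

/-- the complement of the blocks in `J` -/
def CoJ (N : ι → Subgroup G) (R₀ : Subgroup G) (J : Set ι) : Subgroup G := (⨆ b : {b // b ∉ J}, N b) ⊔ R₀

variable {S L U : Subgroup G} {N E : ι → Subgroup G} {R₀ : Subgroup G} {O : ι → Set G} {J : Set ι}

theorem co_restrict (b : J) : Co (fun c : J => N c) (CoJ N R₀ J) b = Co N R₀ b := by
  unfold Co CoJ
  apply le_antisymm
  · refine sup_le (iSup_le fun c => ?_) (sup_le (iSup_le fun c => ?_) le_sup_right)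
    · exact (le_iSup (fun d : {d // d ≠ (b : ι)} => N d) ⟨c.1, fun e => c.2 (Subtype.ext e)⟩).trans le_sup_left
    · exact (le_iSup (fun d : {d // d ≠ (b : ι)} => N d) ⟨c.1, fun e => c.2 (e ▸ b.2)⟩).trans le_sup_left
  · refine sup_le (iSup_le fun c => ?_) (le_sup_right.trans le_sup_right)
    by_cases hc : c.1 ∈ J
    · exact (le_iSup (fun d : {d : J // d ≠ b} => N d.1) ⟨⟨c.1, hc⟩, fun e => c.2 (congrArg Subtype.val e)⟩).trans
        le_sup_left
    · exact (le_iSup (fun d : {d // d ∉ J} => N d) ⟨c.1, hc⟩).trans (le_sup_left.trans le_sup_right)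

theorem isC_restrict {b : J} {x n : G} : IsC (fun c : J => N c) (CoJ N R₀ J) b x n ↔ IsC N R₀ b x n := by
  unfold IsC
  rw [co_restrict]

/-- the complement is invariant -/
theorem InvJ.compl (hJ : InvJ L N J) : InvJ L N Jᶜ := by
  intro g hg b hb c hc hcJ
  refine hb (hJ g⁻¹ (inv_mem hg) c hcJ b ?_)
  rw [← hc, map_inv, inv_smul_smul]

theorem CoJ_le (h : Dec S L U N E R₀) : CoJ N R₀ J ≤ U := by
  rw [← h.sup]
  exact sup_le ((iSup_le fun c : {c // c ∉ J} => le_iSup N c.1).trans le_sup_left) le_sup_right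

theorem le_norm_CoJ (h : Dec S L U N E R₀) (hJ : InvJ L N J) : L ≤ normalizer (CoJ N R₀ J : Set G) := by
  have key : ∀ g ∈ L, ∀ x ∈ CoJ N R₀ J, g * x * g⁻¹ ∈ CoJ N R₀ J := by
    intro g hg x hx
    have h1 : MulAut.conj g • CoJ N R₀ J ≤ CoJ N R₀ J := by
      unfold CoJ
      rw [smul_sup]
      refine sup_le ?_ ?_
      · rw [show MulAut.conj g • (⨆ d : {d // d ∉ J}, N d) = ⨆ d : {d // d ∉ J}, MulAut.conj g • N d from
          Subgroup.map_iSup _ _]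
        refine iSup_le fun d => ?_
        obtain ⟨e, he, _⟩ := h.perm g hg d
        rw [he]
        exact (le_iSup (fun d : {d // d ∉ J} => N d) ⟨e, hJ.compl g hg d d.2 e he⟩).trans le_sup_left
      · refine le_trans ?_ le_sup_right
        rintro y ⟨w, hw, rfl⟩
        exact conj_of (h.Rnor hg) hw
    exact h1 ((conj_smul rfl).1 hx)
  intro g hg
  rw [mem_normalizer_iff]
  refine fun x => ⟨fun hx => key g hg x hx, fun hx => ?_⟩
  have h1 := key g⁻¹ (inv_mem hg) _ hx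
  have e : g⁻¹ * (g * x * g⁻¹) * g⁻¹⁻¹ = x := by group
  rwa [e] at h1

theorem cent_CoJ (h : Dec S L U N E R₀) {b : ι} (hb : b ∈ J) : E b ≤ centralizer (CoJ N R₀ J : Set G) := by
  rw [le_centralizer_iff]
  refine sup_le (iSup_le fun c => ?_) ?_
  · rw [le_centralizer_iff]
    exact h.EC b c fun e => c.2 (e ▸ hb)
  · rw [le_centralizer_iff]
    exact h.ER b

/-- **Restriction.** -/
theorem Dec.restrict (h : Dec S L U N E R₀) (hJ : InvJ L N J) :
    Dec S L U (fun b : J => N b) (fun b : J => E b) (CoJ N R₀ J) where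
  SL := h.SL
  LU := h.LU
  ab := h.ab
  sup := by
    apply le_antisymm
    · exact sup_le (iSup_le fun b => h.NU b) (CoJ_le h)
    · conv_lhs => rw [← h.sup]
      refine sup_le (iSup_le fun b => ?_) (le_sup_right.trans le_sup_right)
      by_cases hb : b ∈ J
      · exact (le_iSup (fun b : J => N b) ⟨b, hb⟩).trans le_sup_left
      · exact (le_iSup (fun d : {d // d ∉ J} => N d) ⟨b, hb⟩).trans (le_sup_left.trans le_sup_right)
  ind b := by
    have h1 := co_restrict (N := N) (R₀ := R₀) b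
    have h2 : N b ⊓ Co N R₀ b = ⊥ := h.ind b
    rw [← h1] at h2
    exact h2
  ne b := h.ne b
  Rnor := le_norm_CoJ h hJ
  EL b := h.EL b
  CE b := h.CE b
  perm g hg b := by
    obtain ⟨c, h1, h2⟩ := h.perm g hg b
    exact ⟨⟨c, hJ g hg b b.2 c h1⟩, h1, h2⟩
  EN b := h.EN b
  EC b c hbc := h.EC b c fun e => hbc (Subtype.ext e)
  ER b := cent_CoJ h b.2

theorem Orbs.restrict (o : Orbs L N E O) : Orbs L (fun b : J => N b) (fun b : J => E b) (fun b : J => O b) where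
  sub b := o.sub b
  one b := o.one b
  odd b := o.odd b
  tr b := o.tr b
  inv g hg b c hbc := o.inv g hg b c hbc

/-- the vectors of full support in `∏_{b ∈ J} N b` -/
def FSup (N : ι → Subgroup G) (R₀ : Subgroup G) (O : ι → Set G) (J : Set ι) : Set G :=
  {z | z ∈ (⨆ b : J, N b) ∧ ∀ b ∈ J, ∃ n ∈ O b, IsC N R₀ b z n}

theorem mem_PP_restrict {z : G} :
    z ∈ PP (fun b : J => N b) (CoJ N R₀ J) (fun b : J => O b) ↔ z ∈ FSup N R₀ O J := by
  constructor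
  · rintro ⟨h1, h2⟩
    refine ⟨h1, fun b hb => ?_⟩
    obtain ⟨n, hn, hc⟩ := h2 ⟨b, hb⟩
    exact ⟨n, hn, isC_restrict.1 hc⟩
  · rintro ⟨h1, h2⟩
    refine ⟨h1, fun b => ?_⟩
    obtain ⟨n, hn, hc⟩ := h2 b b.2
    exact ⟨n, hn, isC_restrict.2 hc⟩

/-- **a vector of full support in the blocks `J`** -/
theorem exists_fsup [Finite ι] (h : Dec S L U N E R₀) (o : Orbs L N E O) (hS : IsPGroup 2 S) (hJ : InvJ L N J) :
    ∃ z ∈ FSup N R₀ O J, S ≤ centralizer ({z} : Set G) := by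
  obtain ⟨z, h1, h2⟩ := RZ.TwoC.DecE.exists_e (h.restrict hJ) (Orbs.restrict o) hS
  exact ⟨z, mem_PP_restrict.1 h1, h2⟩

theorem fsup_ne_one (h : Dec S L U N E R₀) (o : Orbs L N E O) {z : G} (hz : z ∈ FSup N R₀ O J) (hJ : J.Nonempty) :
    z ≠ 1 := by
  rintro rfl
  obtain ⟨b, hb⟩ := hJ
  obtain ⟨n, hn, hc⟩ := hz.2 b hb
  have h1 := h.uniq hc (h.comp_one (one_mem _))
  exact o.one b (h1 ▸ hn)

/-- **`L = C_L(U_{Jᶜ}) C_L(z)`** -/
theorem fsup_le [Finite ι] (h : Dec S L U N E R₀) (o : Orbs L N E O) (hJ : InvJ L N J) {z : G}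
    (hz : z ∈ FSup N R₀ O J) :
    L ≤ (L ⊓ centralizer (CoJ N R₀ J : Set G)) ⊔ (L ⊓ centralizer ({z} : Set G)) := by
  refine (RZ.TwoC.DecE.le_of (h.restrict hJ) (Orbs.restrict o) (mem_PP_restrict.2 hz)).trans (sup_le le_sup_right ?_)
  refine iSup_le fun b => le_sup_of_le_left (le_inf (h.EL b) (cent_CoJ h b.2))

/-- the product of full support vectors of `J`, `Jᶜ` -/
theorem fsup_mul (h : Dec S L U N E R₀) {z z' : G} (hz : z ∈ FSup N R₀ O J) (hz' : z' ∈ FSup N R₀ O Jᶜ) :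
    z * z' ∈ PP N R₀ O := by
  have hle : ∀ K : Set ι, (⨆ b : K, N b) ≤ ⨆ b, N b := fun K => iSup_le fun b => le_iSup N b.1
  have hco : ∀ (K : Set ι) (b : ι), b ∉ K → (⨆ b : K, N b) ≤ Co N R₀ b := fun K b hb =>
    iSup_le fun c => h.N_le_Co fun e => hb (e ▸ c.2)
  refine ⟨mul_mem (hle _ hz.1) (hle _ hz'.1), fun b => ?_⟩
  by_cases hb : b ∈ J
  · obtain ⟨n, hn, hc⟩ := hz.2 b hb
    have h1 := h.comp_mul hc (h.comp_one (hco Jᶜ b (fun h => h hb) hz'.1))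
    rw [mul_one] at h1
    exact ⟨n, hn, h1⟩
  · obtain ⟨n, hn, hc⟩ := hz'.2 b hb
    have h1 := h.comp_mul (h.comp_one (hco J b hb hz.1)) hc
    rw [one_mul] at h1
    exact ⟨n, hn, h1⟩

/-- **the joint form** : modulo `⨆ E b` (which fixes every block) `y ∈ L` fixes both vectors -/
theorem fsup_joint [Finite ι] (h : Dec S L U N E R₀) (o : Orbs L N E O) (hJ : InvJ L N J) {z z' : G}
    (hz : z ∈ FSup N R₀ O J) (hz' : z' ∈ FSup N R₀ O Jᶜ) {y : G} (hy : y ∈ L) :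
    ∃ g ∈ ⨆ b, E b, g⁻¹ * y ∈ centralizer ({z} : Set G) ⊓ centralizer ({z'} : Set G) := by
  have h1 := fsup_mul h hz hz'
  obtain ⟨g, hg, hgy⟩ := RZ.TwoC.DecE.tr_PP h o h1 (RZ.TwoC.DecE.PP_conj h o hy h1)
  have hE : (⨆ b, E b) ≤ L := RZ.TwoC.DecE.E_le h
  have h2 : g⁻¹ * y ∈ L := mul_mem (inv_mem (hE hg)) hy
  have h3 : (g⁻¹ * y) * (z * z') * (g⁻¹ * y)⁻¹ = z * z' := by
    calc (g⁻¹ * y) * (z * z') * (g⁻¹ * y)⁻¹ = g⁻¹ * (y * (z * z') * y⁻¹) * g := by group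
      _ = g⁻¹ * (g * (z * z') * g⁻¹) * g := by rw [← hgy]
      _ = z * z' := by group
  have hz2 : z' ∈ CoJ N R₀ J := by
    have h4 : (⨆ b : (Jᶜ : Set ι), N b) ≤ CoJ N R₀ J :=
      iSup_le fun c => (le_iSup (fun d : {d // d ∉ J} => N d) ⟨c.1, c.2⟩).trans le_sup_left
    exact h4 hz'.1
  obtain ⟨h4, h5⟩ := RZ.TwoC.DecE.sep (h.restrict hJ) h2 (b := z) (r := z') hz.1 hz2 h3
  refine ⟨g, hg, mem_inf.2 ⟨mem_centralizer_singleton_iff.2 ?_, mem_centralizer_singleton_iff.2 ?_⟩⟩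
  · exact mul_inv_eq_iff_eq_mul.1 h4
  · exact mul_inv_eq_iff_eq_mul.1 h5

end Cfsg.Agent.Omega.NOThreeL.RRed.Blk
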