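import Cfsg.Agent.Omega.NOThreeL.RRed.ClsBlk
import Cfsg.Agent.Omega.NOThreeL.RRed.TvOrbs

/-!
# Blocks: `Dec`, `Orbs` for a mixed family of natural blocks and blocks of letters (#27237 (M4))

* `EB M N b := M ⊓ C(⨆ c ≠ b, N c)`; **`dec_of_ind`** : `M` permutes the `N b`, `V = ∏ N b` (direct) gives
  `Dec S M V N (EB M N) ⊥`;
* `cent_other` : `P ≤ N(N) ⊓ C(C)`, `V = N C`, `P ≤ N(W)`, `N ⊓ W = 1` : `P` centralises `W`;
* **`Mix.main`** : letters `F : Full S M V N E R₀ Om phi`, a second family `N₁`, `C₁`, `T₁`, class modules `Irr M V W`,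
  no class with blocks of both kinds: `Dec`, `Orbs` for `Sum.elim N₁ N` and `W i = ⨆ (blocks of class i)`.
-/

set_option autoImplicit false
set_option linter.unusedSectionVars false

namespace Cfsg.Agent.Omega.NOThreeL.RRed.Blk

open Subgroup Cfsg
open scoped Pointwise

universe u v w

section dec

variable {G : Type u} [Group G] {κ : Type v}

/-- the elements of `M` which centralise the other blocks -/
def EB (M : Subgroup G) (N : κ → Subgroup G) (b : κ) : Subgroup G :=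
  M ⊓ centralizer ((⨆ c : {c // c ≠ b}, N c : Subgroup G) : Set G)

variable {M V : Subgroup G} {N : κ → Subgroup G}

theorem inj_of_ind (ne : ∀ b, N b ≠ ⊥) (ind : ∀ b, N b ⊓ (⨆ c : {c // c ≠ b}, N c) = ⊥) {b c : κ}
    (e : N b = N c) : b = c := by
  by_contra hbc
  apply ne c
  rw [eq_bot_iff, ← ind c]
  exact le_inf le_rfl (by rw [← e]; exact le_iSup (fun d : {d // d ≠ c} => N d) ⟨b, hbc⟩)

variable (ne : ∀ b, N b ≠ ⊥) (ind : ∀ b, N b ⊓ (⨆ c : {c // c ≠ b}, N c) = ⊥)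
  (perm : ∀ g ∈ M, ∀ b, ∃ c, MulAut.conj g • N b = N c)
include ne ind perm

theorem co_map {g : G} (hg : g ∈ M) {b c : κ} (hbc : MulAut.conj g • N b = N c) {x : G}
    (hx : x ∈ ⨆ d : {d // d ≠ b}, N d) : g * x * g⁻¹ ∈ ⨆ d : {d // d ≠ c}, N d := by
  have h1 : MulAut.conj g • (⨆ d : {d // d ≠ b}, N d) ≤ ⨆ d : {d // d ≠ c}, N d := by
    rw [show MulAut.conj g • (⨆ d : {d // d ≠ b}, N d) = ⨆ d : {d // d ≠ b}, MulAut.conj g • N d from
      Subgroup.map_iSup _ _]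
    refine iSup_le fun d => ?_
    obtain ⟨e, he⟩ := perm g hg d
    rw [he]
    refine le_iSup (fun d : {d // d ≠ c} => N d) ⟨e, fun h => d.2 ?_⟩
    rw [h, ← hbc] at he
    exact inj_of_ind ne ind (smul_left_cancel _ he)
  exact h1 ((conj_smul rfl).1 hx)

theorem EB_map {g : G} (hg : g ∈ M) {b c : κ} (hbc : MulAut.conj g • N b = N c) {x : G} (hx : x ∈ EB M N b) :
    g * x * g⁻¹ ∈ EB M N c := by
  refine mem_inf.2 ⟨mul_mem (mul_mem hg hx.1) (inv_mem hg), mem_centralizer_iff.2 fun y hy => ?_⟩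
  have hcb : MulAut.conj g⁻¹ • N c = N b := by rw [← hbc, map_inv, inv_smul_smul]
  have h1 := co_map ne ind perm (inv_mem hg) hcb hy
  have h2 := mem_centralizer_iff.1 hx.2 _ h1
  rw [inv_inv] at h2
  calc y * (g * x * g⁻¹) = g * (g⁻¹ * y * g * x) * g⁻¹ := by group
    _ = g * (x * (g⁻¹ * y * g)) * g⁻¹ := by rw [h2]
    _ = g * x * g⁻¹ * y := by group

theorem EB_conj {g : G} (hg : g ∈ M) {b c : κ} (hbc : MulAut.conj g • N b = N c) :
    MulAut.conj g • EB M N b = EB M N c := by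
  have hcb : MulAut.conj g⁻¹ • N c = N b := by rw [← hbc, map_inv, inv_smul_smul]
  apply le_antisymm
  · rintro _ ⟨x, hx, rfl⟩
    exact EB_map ne ind perm hg hbc hx
  · intro y hy
    rw [mem_pointwise_smul_iff_inv_smul_mem, ← map_inv, MulAut.smul_def, MulAut.conj_apply]
    exact EB_map ne ind perm (inv_mem hg) hcb hy

/-- an element of `M` which centralises `C` with `V = N b C` and `N c ≤ C` for `c ≠ b` fixes `b` -/
theorem fix_of_cent {g : G} (hg : g ∈ M) {b : κ} (hc : ∀ c, c ≠ b → g ∈ centralizer (N c : Set G)) :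
    MulAut.conj g • N b = N b := by
  obtain ⟨c, h1⟩ := perm g hg b
  by_cases hcb : c = b
  · rw [hcb] at h1; exact h1
  · exfalso
    apply hcb
    have h2 : MulAut.conj g • N c = N c := by
      have h3 : g ∈ normalizer (N c : Set G) := centralizer_le_normalizer _ (hc c hcb)
      ext x
      rw [mem_pointwise_smul_iff_inv_smul_mem, ← map_inv, MulAut.smul_def, MulAut.conj_apply]
      exact (mem_normalizer_iff.1 (inv_mem h3) x).symm
    rw [← h2] at h1
    exact (inj_of_ind ne ind (smul_left_cancel _ h1)).symm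

/-- **(a)** -/
theorem dec_of_ind {S : Subgroup G} (SM : S ≤ M) (nV : M ≤ normalizer (V : Set G)) (ab : V ≤ centralizer (V : Set G))
    (sup : ⨆ b, N b = V) : Dec S M V N (EB M N) ⊥ where
  SL := SM
  LU := nV
  ab := ab
  sup := by rw [sup_bot_eq, sup]
  ind b := by rw [sup_bot_eq, ind b]
  ne := ne
  Rnor := by
    intro g _
    rw [mem_normalizer_iff]
    intro x
    show x ∈ (⊥ : Subgroup G) ↔ g * x * g⁻¹ ∈ (⊥ : Subgroup G)
    rw [mem_bot, mem_bot, conj_eq_one_iff]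
  EL _ := inf_le_left
  CE b := inf_le_inf_left _ (centralizer_le (by
    rw [← sup]
    exact iSup_le fun c : {c // c ≠ b} => le_iSup N c.1))
  perm g hg b := by
    obtain ⟨c, h1⟩ := perm g hg b
    exact ⟨c, h1, EB_conj ne ind perm hg h1⟩
  EN b g hg := by
    have h1 := fix_of_cent ne ind perm (b := b) hg.1 fun c hc =>
      centralizer_le (show N c ≤ ⨆ c : {c // c ≠ b}, N c from
        le_iSup (fun c : {c // c ≠ b} => N c) ⟨c, hc⟩) hg.2
    rw [mem_normalizer_iff]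
    exact fun x => conj_smul h1
  EC b c hbc := inf_le_right.trans (centralizer_le (le_iSup (fun d : {d // d ≠ b} => N d) ⟨c, Ne.symm hbc⟩))
  ER b g _ := by
    rw [mem_centralizer_iff]
    intro x hx
    have h1 : x = 1 := hx
    rw [h1, one_mul, mul_one]

end dec

/-- `P` normalises `N`, centralises `C`, `V = N C`; `W ≤ V` is normalised by `P`, `N ⊓ W = 1` -/
theorem cent_other {G : Type u} [Group G] {V N C P W : Subgroup G} (ab : V ≤ centralizer (V : Set G))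
    (hV : N ⊔ C = V) (hN : P ≤ normalizer (N : Set G)) (hC : P ≤ centralizer (C : Set G))
    (hW : P ≤ normalizer (W : Set G)) (hWV : W ≤ V) (hi : N ⊓ W = ⊥) : P ≤ centralizer (W : Set G) := by
  intro t ht
  rw [mem_centralizer_iff]
  intro w hw
  have hNV : N ≤ V := hV ▸ le_sup_left
  have hCV : C ≤ V := hV ▸ le_sup_right
  have hw' : w ∈ N ⊔ C := by rw [hV]; exact hWV hw
  obtain ⟨n, hn, c, hc, e⟩ := mem_sup_of ((hNV.trans ab).trans ((centralizer_le hCV).trans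
    (centralizer_le_normalizer _))) hw'
  have h1 : t * w * t⁻¹ * w⁻¹ = t * n * t⁻¹ * n⁻¹ := by
    have h2 := cent (hC ht) hc
    calc t * w * t⁻¹ * w⁻¹ = (t * n * t⁻¹) * (t * c * t⁻¹) * w⁻¹ := by rw [e]; group
      _ = (t * n * t⁻¹) * c * w⁻¹ := by rw [h2]
      _ = t * n * t⁻¹ * n⁻¹ := by rw [e]; group
  have h3 : t * w * t⁻¹ * w⁻¹ ∈ N ⊓ W := by
    refine mem_inf.2 ⟨?_, mul_mem (conj_of (hW ht) hw) (inv_mem hw)⟩
    rw [h1]
    exact mul_mem (conj_of (hN ht) hn) (inv_mem hn)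
  rw [hi, mem_bot] at h3
  have h4 : t * w * t⁻¹ = w := mul_inv_eq_one.1 h3
  exact (mul_inv_eq_iff_eq_mul.1 h4).symm

/-! ### The mixed family -/

section mix

open Cfsg.Agent.Omega.NOThreeL.RRed.TvFin (Full)
open Cfsg.Agent.Omega.NOThreeL.RRed.TvTr (Orb)
open Cfsg.Agent.Omega.NOThreeL.RZ.TwoC.DecE (Orbs)

variable {G : Type u} [Group G] {S M V : Subgroup G} {I : Type u} {N E : I → Subgroup G} {R₀ : Subgroup G}
  {Om : I → Type u} [∀ i, Fintype (Om i)] [∀ i, DecidableEq (Om i)] {phi : ∀ i, Finset (Om i) → G}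
  {ι : Type w} {W : ι → Subgroup G} {κ₁ : Type v} {N₁ C₁ T₁ : κ₁ → Subgroup G} {cls₁ : κ₁ → ι} {cls : I → ι}

/-- The second family and the classes. -/
structure Mix (M V : Subgroup G) (N : I → Subgroup G) (W : ι → Subgroup G) (N₁ C₁ T₁ : κ₁ → Subgroup G)
    (cls₁ : κ₁ → ι) (cls : I → ι) : Prop where
  irr : ClsBlk.Irr M V W
  ne : ∀ b, N₁ b ≠ ⊥
  sup : ∀ b, N₁ b ⊔ C₁ b = V
  inf : ∀ b, N₁ b ⊓ C₁ b = ⊥
  oth : ∀ b c, c ≠ b → N₁ c ≤ C₁ b
  perm : ∀ g ∈ M, ∀ b, ∃ c, MulAut.conj g • N₁ b = N₁ c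
  TM : ∀ b, T₁ b ≤ M
  TC : ∀ b, T₁ b ≤ centralizer (C₁ b : Set G)
  tr : ∀ b, ∀ x ∈ N₁ b, x ≠ 1 → ∀ y ∈ N₁ b, y ≠ 1 → ∃ t ∈ T₁ b, t * x * t⁻¹ = y
  le₁ : ∀ b, N₁ b ≤ W (cls₁ b)
  le₂ : ∀ b, N b ≤ W (cls b)
  dis : ∀ a b, cls₁ a ≠ cls b
  cov : ∀ i, (∃ a, cls₁ a = i) ∨ ∃ b, cls b = i

variable (F : Full S M V N E R₀ Om phi) (X : Mix M V N W N₁ C₁ T₁ cls₁ cls)

namespace Mix

include X

theorem conjW {g : G} (hg : g ∈ M) {i : ι} {x : G} (hx : x ∈ W i) : g * x * g⁻¹ ∈ W i := conj_of (X.irr.inv i hg) hx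

theorem uni {i j : ι} {x : G} (hi : x ∈ W i) (hj : x ∈ W j) (hx : x ≠ 1) : i = j := by
  by_contra hij
  apply hx
  have h1 : x ∈ W i ⊓ W j := mem_inf.2 ⟨hi, hj⟩
  rwa [X.irr.inf_bot (Ne.symm hij), mem_bot] at h1

include F

theorem ne' (b : κ₁ ⊕ I) : Sum.elim N₁ N b ≠ ⊥ := by
  rcases b with b | b
  · exact X.ne b
  · exact F.ne b

omit F in
theorem le' (b : κ₁ ⊕ I) : Sum.elim N₁ N b ≤ W (Sum.elim cls₁ cls b) := by
  rcases b with b | b
  · exact X.le₁ b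
  · exact X.le₂ b

theorem perm' (g : G) (hg : g ∈ M) (b : κ₁ ⊕ I) :
    ∃ c : κ₁ ⊕ I, MulAut.conj g • Sum.elim N₁ N b = Sum.elim N₁ N c := by
  rcases b with b | b
  · obtain ⟨c, hc⟩ := X.perm g hg b
    exact ⟨Sum.inl c, hc⟩
  · obtain ⟨c, hc, -⟩ := F.perm g hg b
    exact ⟨Sum.inr c, hc⟩

/-- conjugate blocks have the same class -/
theorem cls_conj {g : G} (hg : g ∈ M) {b c : κ₁ ⊕ I} (h : MulAut.conj g • Sum.elim N₁ N b = Sum.elim N₁ N c) :
    Sum.elim cls₁ cls c = Sum.elim cls₁ cls b := by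
  obtain ⟨⟨x, hx⟩, hx0⟩ := Subgroup.ne_bot_iff_exists_ne_one.1 (ne' F X b)
  have hx1 : x ≠ 1 := fun e => hx0 (Subtype.ext e)
  refine uni X (le' X c ((conj_smul h).1 hx)) (conjW X hg (le' X b hx)) fun e => hx1 ?_
  exact conj_eq_one_iff.1 e

/-- **the class modules are the products of their blocks** -/
theorem W_eq (i : ι) : W i = ⨆ b : {b : κ₁ ⊕ I // Sum.elim cls₁ cls b = i}, Sum.elim N₁ N b.1 := by
  apply le_antisymm
  · refine X.irr.irr i _ (iSup_le fun b => ?_) ?_ ?_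
    · have h1 := le' X b.1
      rwa [b.2] at h1
    · have h1 : ∀ g ∈ M, ∀ x ∈ (⨆ b : {b : κ₁ ⊕ I // Sum.elim cls₁ cls b = i}, Sum.elim N₁ N b.1),
          g * x * g⁻¹ ∈ ⨆ b : {b : κ₁ ⊕ I // Sum.elim cls₁ cls b = i}, Sum.elim N₁ N b.1 := by
        intro g hg x hx
        have h2 : MulAut.conj g • (⨆ b : {b : κ₁ ⊕ I // Sum.elim cls₁ cls b = i}, Sum.elim N₁ N b.1) ≤
            ⨆ b : {b : κ₁ ⊕ I // Sum.elim cls₁ cls b = i}, Sum.elim N₁ N b.1 := by
          rw [show MulAut.conj g • (⨆ b : {b : κ₁ ⊕ I // Sum.elim cls₁ cls b = i}, Sum.elim N₁ N b.1) =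
            ⨆ b : {b : κ₁ ⊕ I // Sum.elim cls₁ cls b = i}, MulAut.conj g • Sum.elim N₁ N b.1 from
            Subgroup.map_iSup _ _]
          refine iSup_le fun b => ?_
          obtain ⟨c, hc⟩ := perm' F X g hg b.1
          rw [hc]
          exact le_iSup (fun b : {b : κ₁ ⊕ I // Sum.elim cls₁ cls b = i} => Sum.elim N₁ N b.1)
            ⟨c, by rw [cls_conj F X hg hc]; exact b.2⟩
        exact h2 ((conj_smul rfl).1 hx)
      intro g hg
      rw [mem_normalizer_iff]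
      refine fun x => ⟨fun hx => h1 g hg x hx, fun hx => ?_⟩
      have h2 := h1 g⁻¹ (inv_mem hg) _ hx
      have e : g⁻¹ * (g * x * g⁻¹) * g⁻¹⁻¹ = x := by group
      rwa [e] at h2
    · obtain ⟨b, hb⟩ : ∃ b : κ₁ ⊕ I, Sum.elim cls₁ cls b = i := by
        rcases X.cov i with ⟨a, ha⟩ | ⟨b, hb⟩
        · exact ⟨Sum.inl a, ha⟩
        · exact ⟨Sum.inr b, hb⟩
      intro h0
      apply ne' F X b
      rw [eq_bot_iff, ← h0]
      exact le_iSup (fun b : {b : κ₁ ⊕ I // Sum.elim cls₁ cls b = i} => Sum.elim N₁ N b.1) ⟨b, hb⟩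
  · refine iSup_le fun b => ?_
    have h1 := le' X b.1
    rwa [b.2] at h1

theorem sup' : ⨆ b, Sum.elim N₁ N b = V := by
  apply le_antisymm
  · exact iSup_le fun b => (le' X b).trans (X.irr.le _)
  · rw [← X.irr.sup]
    refine iSup_le fun i => ?_
    rw [W_eq F X i]
    exact iSup_le fun b => le_iSup (Sum.elim N₁ N) b.1

/-- the other blocks: those of the same class, and the other classes -/
theorem oth_le (b : κ₁ ⊕ I) : (⨆ c : {c // c ≠ b}, Sum.elim N₁ N c.1) ≤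
    (⨆ c : {c // c ≠ b ∧ Sum.elim cls₁ cls c = Sum.elim cls₁ cls b}, Sum.elim N₁ N c.1) ⊔
      ⨆ j : {j // j ≠ Sum.elim cls₁ cls b}, W j := by
  refine iSup_le fun c => ?_
  by_cases hc : Sum.elim cls₁ cls c.1 = Sum.elim cls₁ cls b
  · exact (le_iSup (fun c : {c // c ≠ b ∧ Sum.elim cls₁ cls c = Sum.elim cls₁ cls b} => Sum.elim N₁ N c.1)
      ⟨c.1, c.2, hc⟩).trans le_sup_left
  · exact ((le' X c.1).trans (le_iSup (fun j : {j // j ≠ Sum.elim cls₁ cls b} => W j) ⟨_, hc⟩)).trans le_sup_right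

theorem ind' (b : κ₁ ⊕ I) : Sum.elim N₁ N b ⊓ (⨆ c : {c // c ≠ b}, Sum.elim N₁ N c.1) = ⊥ := by
  rw [eq_bot_iff]
  intro x hx
  have hsame : (⨆ c : {c // c ≠ b ∧ Sum.elim cls₁ cls c = Sum.elim cls₁ cls b}, Sum.elim N₁ N c.1) ≤
      W (Sum.elim cls₁ cls b) := by
    refine iSup_le fun c => ?_
    have h1 := le' X c.1
    rwa [c.2.2] at h1
  have hoth : (⨆ j : {j // j ≠ Sum.elim cls₁ cls b}, W j) ≤ V := iSup_le fun j => X.irr.le j.1
  obtain ⟨y, hy, z, hz, e⟩ := mem_sup_of (((hsame.trans (X.irr.le _)).trans F.ab).trans ((centralizer_le hoth).trans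
    (centralizer_le_normalizer _))) (oth_le F X b hx.2)
  have h1 : z ∈ W (Sum.elim cls₁ cls b) ⊓ ⨆ j : {j // j ≠ Sum.elim cls₁ cls b}, W j := by
    refine mem_inf.2 ⟨?_, hz⟩
    have e1 : z = y⁻¹ * x := by rw [e]; group
    rw [e1]
    exact mul_mem (inv_mem (hsame hy)) (le' X b hx.1)
  rw [X.irr.ind, mem_bot] at h1
  rw [h1, mul_one] at e
  subst e
  rcases b with b | b
  · have h2 : (⨆ c : {c : κ₁ ⊕ I // c ≠ Sum.inl b ∧ Sum.elim cls₁ cls c = Sum.elim cls₁ cls (Sum.inl b)},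
        Sum.elim N₁ N c.1) ≤ C₁ b := by
      refine iSup_le fun c => ?_
      obtain ⟨c, hc1, hc2⟩ := c
      rcases c with c | c
      · exact X.oth b c fun e => hc1 (by rw [e])
      · exact absurd hc2.symm (X.dis b c)
    have h3 : x ∈ N₁ b ⊓ C₁ b := mem_inf.2 ⟨hx.1, h2 hy⟩
    rwa [X.inf b] at h3
  · have h2 : (⨆ c : {c : κ₁ ⊕ I // c ≠ Sum.inr b ∧ Sum.elim cls₁ cls c = Sum.elim cls₁ cls (Sum.inr b)},
        Sum.elim N₁ N c.1) ≤ Co N R₀ b := by
      refine iSup_le fun c => ?_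
      obtain ⟨c, hc1, hc2⟩ := c
      rcases c with c | c
      · exact absurd hc2 (X.dis c b)
      · exact F.toDec.N_le_Co fun e => hc1 (by rw [e])
    have h3 : x ∈ N b ⊓ Co N R₀ b := mem_inf.2 ⟨hx.1, h2 hy⟩
    rwa [show N b ⊓ Co N R₀ b = ⊥ from F.ind b] at h3

/-- `T₁ b` normalises `N₁ b` -/
theorem T_norm (b : κ₁) : T₁ b ≤ normalizer (N₁ b : Set G) := by
  intro t ht
  obtain ⟨c, hc⟩ := perm' F X t (X.TM b ht) (Sum.inl b)
  have h1 : MulAut.conj t • N₁ b = N₁ b := by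
    rcases c with c | c
    · by_cases hcb : c = b
      · rw [hcb] at hc; exact hc
      · exfalso
        apply hcb
        have h2 : t ∈ centralizer (N₁ c : Set G) := centralizer_le (X.oth b c hcb) (X.TC b ht)
        have h3 : MulAut.conj t • N₁ c = N₁ c := TvTr.conj_eq (centralizer_le_normalizer _ h2)
        have h4 : MulAut.conj t • N₁ b = MulAut.conj t • N₁ c := hc.trans h3.symm
        have h5 := inj_of_ind (N := Sum.elim N₁ N) (ne' F X) (ind' F X) (b := Sum.inl b) (c := Sum.inl c)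
          (smul_left_cancel _ h4)
        exact (Sum.inl.inj h5).symm
    · exact absurd (cls_conj F X (X.TM b ht) hc).symm (X.dis b c)
  rw [mem_normalizer_iff]
  exact fun x => conj_smul h1

/-- `T₁ b` is in the group of the block -/
theorem T_le (b : κ₁) : T₁ b ≤ EB M (Sum.elim N₁ N) (Sum.inl b) := by
  refine le_inf (X.TM b) ?_
  rw [le_centralizer_iff]
  refine iSup_le fun c => ?_
  obtain ⟨c, hc⟩ := c
  rw [le_centralizer_iff]
  rcases c with c | c
  · exact (X.TC b).trans (centralizer_le (X.oth b c fun e => hc (by rw [e])))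
  · refine le_trans (cent_other (W := W (cls c)) F.ab (X.sup b) (T_norm F X b) (X.TC b)
      ((X.TM b).trans (X.irr.inv _)) (X.irr.le _) ?_) (centralizer_le (X.le₂ c))
    rw [eq_bot_iff, ← X.irr.inf_bot (Ne.symm (X.dis b c))]
    exact inf_le_inf_right _ (X.le₁ b)

/-- `E b` is in the group of the block -/
theorem E_le (b : I) : E b ≤ EB M (Sum.elim N₁ N) (Sum.inr b) := by
  refine le_inf (F.EL b) ?_
  rw [le_centralizer_iff]
  refine iSup_le fun c => ?_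
  obtain ⟨c, hc⟩ := c
  rw [le_centralizer_iff]
  rcases c with c | c
  · have hCo : E b ≤ centralizer (Co N R₀ b : Set G) := by
      unfold Co
      rw [le_centralizer_iff]
      refine sup_le (iSup_le fun d => ?_) ?_
      · rw [le_centralizer_iff]
        exact F.EC b d fun e => d.2 e.symm
      · rw [le_centralizer_iff]
        exact F.ER b
    refine le_trans (cent_other (W := W (cls₁ c)) F.ab (F.toDec.sup_Co b) (F.EN b) hCo
      ((F.EL b).trans (X.irr.inv _)) (X.irr.le _) ?_) (centralizer_le (X.le₁ c))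
    rw [eq_bot_iff, ← X.irr.inf_bot (X.dis c b)]
    exact inf_le_inf_right _ (X.le₂ b)
  · exact F.EC b c fun e => hc (by rw [e])

/-- **`Dec` for the mixed family** -/
theorem dec : Dec S M V (Sum.elim N₁ N) (EB M (Sum.elim N₁ N)) ⊥ :=
  dec_of_ind (ne' F X) (ind' F X) (perm' F X) F.SL F.LU F.ab (sup' F X)

omit F in
theorem odd₁ [Finite G] (sq : ∀ v ∈ V, v * v = 1) (b : κ₁) : Odd (Nat.card {x | x ∈ N₁ b ∧ x ≠ 1}) := by
  have h1 : Nat.card {x | x ∈ N₁ b ∧ x ≠ 1} + 1 = Nat.card (N₁ b) := by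
    have e1 : {x | x ∈ N₁ b ∧ x ≠ 1} = (N₁ b : Set G) \ {1} := rfl
    rw [e1]
    exact Set.ncard_sdiff_singleton_add_one (s := (N₁ b : Set G)) (a := 1) (N₁ b).one_mem (Set.toFinite _)
  have h2 : Even (Nat.card (N₁ b)) := by
    obtain ⟨⟨x, hx⟩, hx0⟩ := Subgroup.ne_bot_iff_exists_ne_one.1 (X.ne b)
    have hx1 : x ≠ 1 := fun e => hx0 (Subtype.ext e)
    have h3 : orderOf (⟨x, hx⟩ : N₁ b) = 2 := by
      refine orderOf_eq_prime ?_ fun e1 => hx1 (congrArg Subtype.val e1)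
      refine Subtype.ext ?_
      show x ^ 2 = 1
      rw [pow_two]
      exact sq x ((X.sup b) ▸ mem_sup_left hx)
    rw [even_iff_two_dvd, ← h3]
    exact orderOf_dvd_natCard _
  rw [← h1] at h2
  rcases Nat.even_or_odd (Nat.card {x | x ∈ N₁ b ∧ x ≠ 1}) with h3 | h3
  · exact absurd h2 (Nat.not_even_iff_odd.2 h3.add_one)
  · exact h3

/-- the vectors of full support in the blocks -/
def OM (N₁ : κ₁ → Subgroup G) (phi : ∀ i, Finset (Om i) → G) : κ₁ ⊕ I → Set G :=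
  Sum.elim (fun b => {x | x ∈ N₁ b ∧ x ≠ 1}) (Orb phi)

/-- **`Orbs` for the mixed family** -/
theorem orbs [Finite G] (sq : ∀ v ∈ V, v * v = 1) (oF : Orbs M N E (Orb phi)) :
    Orbs M (Sum.elim N₁ N) (EB M (Sum.elim N₁ N)) (OM N₁ phi) where
  sub b := by
    rcases b with b | b
    · exact fun _ hx => hx.1
    · exact oF.sub b
  one b := by
    rcases b with b | b
    · exact fun hx => hx.2 rfl
    · exact oF.one b
  odd b := by
    rcases b with b | b
    · exact odd₁ X sq b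
    · exact oF.odd b
  tr b := by
    rcases b with b | b
    · intro x hx y hy
      obtain ⟨t, ht, h1⟩ := X.tr b x hx.1 hx.2 y hy.1 hy.2
      exact ⟨t, T_le F X b ht, h1⟩
    · intro x hx y hy
      obtain ⟨t, ht, h1⟩ := oF.tr b x hx y hy
      exact ⟨t, E_le F X b ht, h1⟩
  inv g hg b c hbc x hx := by
    have h0 := cls_conj F X hg hbc
    rcases b with b | b <;> rcases c with c | c
    · exact ⟨(conj_smul hbc).1 hx.1, fun h1 => hx.2 (conj_eq_one_iff.1 h1)⟩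
    · exact absurd h0.symm (X.dis b c)
    · exact absurd h0 (X.dis c b)
    · exact oF.inv g hg b c hbc x hx

end Mix

/-- **(b)** -/
theorem mix_main [Finite G] [Finite I] (sq : ∀ v ∈ V, v * v = 1) (F : Full S M V N E R₀ Om phi)
    (X : Mix M V N W N₁ C₁ T₁ cls₁ cls) :
    Dec S M V (Sum.elim N₁ N) (EB M (Sum.elim N₁ N)) ⊥ ∧
      Orbs M (Sum.elim N₁ N) (EB M (Sum.elim N₁ N)) (Mix.OM N₁ phi) ∧
      ∀ i, W i = ⨆ b : {b : κ₁ ⊕ I // Sum.elim cls₁ cls b = i}, Sum.elim N₁ N b.1 :=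
  ⟨Mix.dec F X, Mix.orbs F X sq (TvTr.orbs F), Mix.W_eq F X⟩

end mix

end Cfsg.Agent.Omega.NOThreeL.RRed.Blk
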