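import Cfsg.Agent.Omega.NOThreeL.RRed.Blk.TypesLine
import Cfsg.Agent.Omega.NOThreeL.RRed.Blk.AsmDef

/-!
# NO-3L, box R: natural blocks under `N_G(U) ∩ N_G(H)`

* `tau Q hU` : conjugation by `n ∈ N(U)` on `Q.Mod`; `sig Q hU hH` : conjugation by `n ∈ N(U) ∩ N(H)` on `XH Q`;
* `NB.tr`, `NB.uniq` (module level: `Asm.NB`);
* `IsNB.conjN` : conjugation of `IsNB` by `n ∈ N(U) ∩ N(H)`;
* **`IsNB.perm`** : a set of root groups closed under conjugation by `n`: `n` permutes the blocks and the lines.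
-/

set_option autoImplicit false
set_option linter.unusedSectionVars false

namespace Cfsg.Agent.Omega.NOThreeL.RRed.Blk.TypesNat

open Subgroup Cfsg Cfsg.Agent.ZN
open Cfsg.Agent.Omega.FFThm Cfsg.Agent.Lib.SL2Mat
open Cfsg.Agent.Omega.NO3S.ThmB Cfsg.Agent.Omega.NO3S.KeyRad
open Cfsg.Agent.Omega.NOThreeL.RSplit (Nrm)
open Cfsg.Agent.Omega.NOThreeL.RRed.NS hiding rt
open Cfsg.Agent.Omega.NOThreeL.RRed.Blk.TypesGam (Bk rt NO)
open scoped Pointwise

universe u v w w'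

/-! ### module level -/

section ml

variable {X : Type u} {V : Type w} [Group X] [AddCommGroup V] [DistribMulAction X V]

/-- transport by a pair of automorphisms -/
theorem Bk_tr {F : Type w'} [Field F] {e f : F →+ V} {C : AddSubgroup V} {up lo : F → X} (h : Bk e f C up lo)
    (τ : V ≃+ V) (σ : X ≃* X) (hτ : ∀ (x : X) (v : V), τ (x • v) = σ x • τ v) :
    Bk (τ.toAddMonoidHom.comp e) (τ.toAddMonoidHom.comp f) (C.map τ.toAddMonoidHom) (fun t => σ (up t))
      (fun t => σ (lo t)) where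
  dec v := by
    obtain ⟨x, y, c, hc, hv⟩ := h.dec (τ.symm v)
    refine ⟨x, y, τ c, ⟨c, hc, rfl⟩, ?_⟩
    change v = τ (e x) + τ (f y) + τ c
    rw [← map_add, ← map_add, ← hv, τ.apply_symm_apply]
  ind x y hxy := by
    obtain ⟨c, hc, h1⟩ := hxy
    have h2 : τ c = τ (e x + f y) := by
      rw [map_add]
      exact h1
    exact h.ind x y (τ.injective h2 ▸ hc)
  up_e t x := by
    change σ (up t) • τ (e x) = τ (e x)
    rw [← hτ, h.up_e]
  up_f t x := by
    change σ (up t) • τ (f x) = τ (f x) + τ (e (t * x))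
    rw [← hτ, h.up_f, map_add]
  up_c t c hc := by
    obtain ⟨c, hc, rfl⟩ := hc
    change σ (up t) • τ c = τ c
    rw [← hτ, h.up_c t c hc]
  lo_e t x := by
    change σ (lo t) • τ (e x) = τ (e x) + τ (f (t * x))
    rw [← hτ, h.lo_e, map_add]
  lo_f t x := by
    change σ (lo t) • τ (f x) = τ (f x)
    rw [← hτ, h.lo_f]
  lo_c t c hc := by
    obtain ⟨c, hc, rfl⟩ := hc
    change σ (lo t) • τ c = τ c
    rw [← hτ, h.lo_c t c hc]

theorem map_rt {F : Type w'} {up : F → X} (σ : X ≃* X) : rt (fun t => σ (up t)) = (rt up).map σ.toMonoidHom := by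
  rw [rt, rt, MonoidHom.map_closure]
  congr 1
  ext y
  constructor
  · rintro ⟨t, rfl⟩
    exact ⟨up t, ⟨t, rfl⟩, rfl⟩
  · rintro ⟨_, ⟨t, rfl⟩, rfl⟩
    exact ⟨t, rfl⟩

/-- transport of `Asm.NB` -/
theorem NB_tr {D : Subgroup X} {N C : AddSubgroup V} (h : Asm.NB D N C) (τ : V ≃+ V) (σ : X ≃* X)
    (hτ : ∀ (x : X) (v : V), τ (x • v) = σ x • τ v) :
    Asm.NB (D.map σ.toMonoidHom) (N.map τ.toAddMonoidHom) (C.map τ.toAddMonoidHom) := by
  obtain ⟨F, i1, i2, e, f, up, lo, hb, rfl, rfl⟩ := h.ex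
  refine ⟨F, i1, i2, _, _, _, _, Bk_tr hb τ σ hτ, map_rt σ, ?_⟩
  rw [AddSubgroup.map_sup]
  congr 1
  · exact AddMonoidHom.range_comp _ _
  · exact AddMonoidHom.range_comp _ _

/-- uniqueness -/
theorem NB_uniq [Finite X] [Finite V] {D : Subgroup X} {N C N' C' : AddSubgroup V} (h : Asm.NB D N C) (h' : Asm.NB D N' C')
    (h2 : ∀ v : V, v + v = 0) (hf : ∀ x : X, (∀ v : V, x • v = v) → x = 1) (hno : NO X V) (h4 : 4 ≤ Nat.card D) :
    N = N' ∧ C = C' := by
  obtain ⟨F, i1, i2, e, f, up, lo, hb, hD, rfl⟩ := h.ex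
  obtain ⟨F', j1, j2, e', f', up', lo', hb', hD', rfl⟩ := h'.ex
  have h4' : 4 ≤ Nat.card F := by
    rw [← hb.card_rt h2 hf, hD]
    exact h4
  obtain ⟨h5, -, h7⟩ := Bk.eq hb hb' h2 hf hno h4' (hD.trans hD'.symm)
  exact ⟨h7, h5⟩

end ml

/-! ### conjugation by `n` -/

section tau

variable {G : Type u} [Group G] {H U : Subgroup G} (Q : Nrm H U) {n : G}

/-- conjugation by `n ∈ N(U)` on `U` -/
def tau (hU : n ∈ normalizer (U : Set G)) : Q.Mod ≃+ Q.Mod where
  toFun m := Q.of (n * Q.val m * n⁻¹) ((mem_normalizer_iff.1 hU _).1 (Q.val_mem m))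
  invFun m := Q.of (n⁻¹ * Q.val m * n) (by
    have := (mem_normalizer_iff.1 (inv_mem hU) _).1 (Q.val_mem m)
    rwa [inv_inv] at this)
  left_inv m := Nrm.ext (by rw [Nrm.val_of, Nrm.val_of]; group)
  right_inv m := Nrm.ext (by rw [Nrm.val_of, Nrm.val_of]; group)
  map_add' a b := Nrm.ext (by rw [Nrm.val_of, Nrm.val_add, Nrm.val_add, Nrm.val_of, Nrm.val_of]; group)

theorem val_tau (hU : n ∈ normalizer (U : Set G)) (m : Q.Mod) : Q.val (tau Q hU m) = n * Q.val m * n⁻¹ := rfl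

theorem map_tau (hU : n ∈ normalizer (U : Set G)) (B : Subgroup G) :
    (Q.ad B).map (tau Q hU).toAddMonoidHom = Q.ad (MulAut.conj n • B) := by
  ext m
  constructor
  · rintro ⟨m, hm, rfl⟩
    exact conj_mem' (Nrm.mem_ad.1 hm)
  · intro hm
    refine ⟨(tau Q hU).symm m, ?_, (tau Q hU).apply_symm_apply m⟩
    exact mem_conj.1 (Nrm.mem_ad.1 hm)

/-- `n h n⁻¹` -/
def cjH (hH : n ∈ normalizer (H : Set G)) (h : H) : H := ⟨n * h * n⁻¹, (mem_normalizer_iff.1 hH _).1 h.2⟩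

theorem tau_smul (hU : n ∈ normalizer (U : Set G)) (hH : n ∈ normalizer (H : Set G)) (h : H) (m : Q.Mod) :
    tau Q hU (h • m) = cjH hH h • tau Q hU m := Nrm.ext (by
  rw [val_tau, Nrm.val_smul, Nrm.val_smul, val_tau]
  change _ = n * h * n⁻¹ * (n * Q.val m * n⁻¹) * (n * h * n⁻¹)⁻¹
  group)

/-- `tau` as a unit -/
def tauU (hU : n ∈ normalizer (U : Set G)) : (AddMonoid.End Q.Mod)ˣ where
  val := (tau Q hU).toAddMonoidHom
  inv := (tau Q hU).symm.toAddMonoidHom
  val_inv := AddMonoidHom.ext fun m => (tau Q hU).apply_symm_apply m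
  inv_val := AddMonoidHom.ext fun m => (tau Q hU).symm_apply_apply m

theorem tauU_conj (hU : n ∈ normalizer (U : Set G)) (hH : n ∈ normalizer (H : Set G)) (h : H) :
    tauU Q hU * (ph Q h : (AddMonoid.End Q.Mod)ˣ) * (tauU Q hU)⁻¹ = ph Q (cjH hH h) := by
  refine Units.ext (AddMonoidHom.ext fun m => ?_)
  change tau Q hU (h • (tau Q hU).symm m) = cjH hH h • m
  rw [tau_smul Q hU hH, (tau Q hU).apply_symm_apply]

/-- conjugation by `n ∈ N(U) ∩ N(H)` on `XH Q` -/
noncomputable def sig (hU : n ∈ normalizer (U : Set G)) (hH : n ∈ normalizer (H : Set G)) : XH Q ≃* XH Q :=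
  MulEquiv.ofBijective
    ({ toFun := fun x => ⟨tauU Q hU * x * (tauU Q hU)⁻¹, by
        obtain ⟨h, rfl⟩ := ph_surj Q x
        rw [tauU_conj Q hU hH]
        exact (ph Q _).2⟩
       map_one' := Subtype.ext (by simp)
       map_mul' := fun x y => Subtype.ext (by simp [mul_assoc]) } : XH Q →* XH Q) (by
      constructor
      · intro x y hxy
        have h1 : tauU Q hU * (x : (AddMonoid.End Q.Mod)ˣ) * (tauU Q hU)⁻¹ = tauU Q hU * y * (tauU Q hU)⁻¹ :=
          congrArg Subtype.val hxy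
        exact Subtype.ext (mul_left_cancel (mul_right_cancel h1))
      · intro x
        obtain ⟨h, rfl⟩ := ph_surj Q x
        have hH' := inv_mem hH
        refine ⟨ph Q (cjH hH' h), Subtype.ext ?_⟩
        change tauU Q hU * (ph Q (cjH hH' h) : (AddMonoid.End Q.Mod)ˣ) * (tauU Q hU)⁻¹ = ph Q h
        rw [tauU_conj Q hU hH]
        congr 2
        apply Subtype.ext
        change n * (n⁻¹ * h * n⁻¹⁻¹) * n⁻¹ = h
        group)

theorem sig_ph (hU : n ∈ normalizer (U : Set G)) (hH : n ∈ normalizer (H : Set G)) (h : H) :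
    sig Q hU hH (ph Q h) = ph Q (cjH hH h) := Subtype.ext (tauU_conj Q hU hH h)

theorem tau_sig (hU : n ∈ normalizer (U : Set G)) (hH : n ∈ normalizer (H : Set G)) (x : XH Q) (v : Q.Mod) :
    tau Q hU (x • v) = sig Q hU hH x • tau Q hU v := by
  obtain ⟨h, rfl⟩ := ph_surj Q x
  rw [sig_ph, ph_smul, ph_smul, tau_smul Q hU hH]

/-- the image in `XH Q` -/
theorem map_sig (hU : n ∈ normalizer (U : Set G)) (hH : n ∈ normalizer (H : Set G)) (A : Subgroup G) (hA : A ≤ H) :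
    ((A.subgroupOf H).map (ph Q)).map (sig Q hU hH).toMonoidHom =
      ((MulAut.conj n • A).subgroupOf H).map (ph Q) := by
  ext y
  constructor
  · rintro ⟨_, ⟨h, hh, rfl⟩, rfl⟩
    refine ⟨cjH hH h, ?_, (sig_ph Q hU hH h).symm⟩
    exact mem_subgroupOf.2 (conj_mem' (mem_subgroupOf.1 hh))
  · rintro ⟨h, hh, rfl⟩
    have h1 : n⁻¹ * (h : G) * n ∈ A := mem_conj.1 (mem_subgroupOf.1 hh)
    refine ⟨ph Q ⟨_, hA h1⟩, ⟨⟨_, hA h1⟩, mem_subgroupOf.2 h1, rfl⟩, ?_⟩
    change sig Q hU hH (ph Q ⟨_, hA h1⟩) = ph Q h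
    rw [sig_ph]
    congr 1
    apply Subtype.ext
    change n * (n⁻¹ * (h : G) * n) * n⁻¹ = h
    group

end tau

/-! ### `IsNB` -/

section isnb

variable {G : Type u} [Group G] {H U : Subgroup G} {Q : Nrm H U} {n : G}

theorem conj_le_U {B : Subgroup G} (hU : n ∈ normalizer (U : Set G)) (hB : B ≤ U) : MulAut.conj n • B ≤ U := by
  rintro _ ⟨x, hx, rfl⟩
  exact (mem_normalizer_iff.1 hU _).1 (hB hx)

theorem NB.conjN {A R N C : Subgroup G} {F : Type} [Field F] {e f : F →+ Q.Mod} {up lo : F → H}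
    (h : NB Q A R N C e f up lo) (hU : n ∈ normalizer (U : Set G)) (hH : n ∈ normalizer (H : Set G)) :
    NB Q (MulAut.conj n • A) (MulAut.conj n • R) (MulAut.conj n • N) (MulAut.conj n • C)
      ((tau Q hU).toAddMonoidHom.comp e) ((tau Q hU).toAddMonoidHom.comp f) (fun t => cjH hH (up t))
      (fun t => cjH hH (lo t)) where
  bk := by
    have hinj : Function.Injective (cjH hH) := by
      intro x y hxy
      have h1 : n * (x : G) * n⁻¹ = n * y * n⁻¹ := congrArg Subtype.val hxy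
      exact Subtype.ext (mul_left_cancel (mul_right_cancel h1))
    have hsur : Function.Surjective (cjH hH) := by
      intro x
      refine ⟨cjH (inv_mem hH) x, Subtype.ext ?_⟩
      change n * (n⁻¹ * x * n⁻¹⁻¹) * n⁻¹ = x
      group
    let σ : H ≃* H := MulEquiv.ofBijective
      ({ toFun := cjH hH
         map_one' := Subtype.ext (by change n * 1 * n⁻¹ = 1; group)
         map_mul' := fun x y => Subtype.ext (by
          change n * (x * y) * n⁻¹ = n * x * n⁻¹ * (n * y * n⁻¹)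
          group) } : H →* H) ⟨hinj, hsur⟩
    have h1 := Bk_tr h.bk (tau Q hU) σ fun x v => tau_smul Q hU hH x v
    rw [map_tau] at h1
    exact h1
  upA t := conj_mem' (h.upA t)
  Aup a ha := by
    have h0 : n⁻¹ * (a : G) * n ∈ A := mem_conj.1 ha
    obtain ⟨t, ht⟩ := h.Aup ⟨_, h.AH h0⟩ h0
    refine ⟨t, fun m => ?_⟩
    have h2 := congrArg (tau Q hU) (ht ((tau Q hU).symm m))
    rw [tau_smul Q hU hH, tau_smul Q hU hH, (tau Q hU).apply_symm_apply] at h2
    have h3 : cjH hH ⟨_, h.AH h0⟩ = a := by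
      apply Subtype.ext
      change n * (n⁻¹ * (a : G) * n) * n⁻¹ = a
      group
    rwa [h3] at h2
  AH := by
    intro x hx
    have h1 := (mem_normalizer_iff.1 hH _).1 (h.AH (mem_conj.1 hx))
    have e1 : n * (n⁻¹ * x * n) * n⁻¹ = x := by group
    rwa [e1] at h1
  eR := by rw [AddMonoidHom.range_comp, h.eR, map_tau]
  eN := by rw [AddMonoidHom.range_comp, AddMonoidHom.range_comp, ← AddSubgroup.map_sup, h.eN, map_tau]
  RU := conj_le_U hU h.RU
  NU := conj_le_U hU h.NU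
  CU := conj_le_U hU h.CU

theorem IsNB.conjN {A R N C : Subgroup G} (h : IsNB Q A R N C) (hU : n ∈ normalizer (U : Set G))
    (hH : n ∈ normalizer (H : Set G)) :
    IsNB Q (MulAut.conj n • A) (MulAut.conj n • R) (MulAut.conj n • N) (MulAut.conj n • C) := by
  obtain ⟨F, i1, i2, i3, e, f, up, lo, hF, h⟩ := h
  exact ⟨F, i1, i2, i3, _, _, _, _, hF, h.conjN hU hH⟩

/-- the line is `[U, A]` -/
theorem IsNB.line [Finite G] {A R N C : Subgroup G} (h : IsNB Q A R N C) : closure (covs U A) = R := by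
  obtain ⟨F, i1, i2, i3, e, f, up, lo, hF, h⟩ := h
  apply le_antisymm
  · rw [closure_le]
    rintro _ ⟨a, ha, u, hu, rfl⟩
    obtain ⟨t, ht⟩ := h.Aup ⟨a, h.AH ha⟩ ha
    obtain ⟨x, hx⟩ := h.sub_mem t (Q.of u hu)
    have h1 : (⟨a, h.AH ha⟩ : H) • Q.of u hu - Q.of u hu ∈ Q.ad R := by
      rw [ht, hx, add_sub_cancel_left, ← h.eR]
      exact ⟨x, rfl⟩
    rw [Nrm.mem_ad, Nrm.val_sub, Nrm.val_smul, Nrm.val_of] at h1
    exact h1
  · intro r hr
    have h1 : Q.of r (h.RU hr) ∈ e.range := by rw [h.eR]; exact hr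
    obtain ⟨x, hx⟩ := h1
    have h2 := h.bk.up_f x 1
    rw [mul_one, hx] at h2
    have h3 : up x • f 1 - f 1 = Q.of r (h.RU hr) := by rw [h2]; abel
    have h4 := congrArg Q.val h3
    rw [Nrm.val_sub, Nrm.val_smul, Nrm.val_of] at h4
    rw [← h4]
    exact subset_closure ⟨_, h.upA x, _, Q.val_mem _, rfl⟩

/-- **conjugate root groups have conjugate blocks** -/
theorem IsNB.perm [Finite G] {A R N C A' R' N' C' : Subgroup G} (h : IsNB Q A R N C) (h' : IsNB Q A' R' N' C')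
    (hU2 : IsElementaryAbelian 2 U) (hno : NoOverM U H) (hU : n ∈ normalizer (U : Set G))
    (hH : n ∈ normalizer (H : Set G)) (hA : MulAut.conj n • A = A') :
    MulAut.conj n • R = R' ∧ MulAut.conj n • N = N' ∧ MulAut.conj n • C = C' := by
  have h1 := h.conjN hU hH
  rw [hA] at h1
  have h2 : MulAut.conj n • R = R' := h1.line.symm.trans h'.line
  rw [h2] at h1
  obtain ⟨h3, h4, -⟩ := h1.eq h' hU2 hno
  exact ⟨h2, h3, h4⟩

end isnb

end Cfsg.Agent.Omega.NOThreeL.RRed.Blk.TypesNat
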