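import Cfsg.Agent.Omega.NOThreeL.RRed.Blk.AsmDef

/-!
# NO-3L, box R: the union of two families of natural blocks

* `Fam.union` : two families whose blocks are independent from each other form one family (indexed by
  `FF₁ ∪ FF₂`, `uN FF₁ N₁ N₂ D = N₁ D` for `D ∈ FF₁` and `N₂ D` otherwise).
* `Fam.congr` : a family depends only on the values of `N`, `C` on `FF`.
-/

set_option autoImplicit false
set_option linter.unusedSectionVars false

namespace Cfsg.Agent.Omega.NOThreeL.RRed.Blk.Asm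

open Cfsg.Agent.Omega.NOThreeL.RRed.NS (fxd brk mem_fxd)
open scoped Pointwise Classical

universe u v

variable {X : Type u} {V : Type v} [Group X] [AddCommGroup V] [DistribMulAction X V]

/-- `N₁` on `FF₁`, `N₂` elsewhere -/
noncomputable def uN (FF₁ : Set (Subgroup X)) (N₁ N₂ : Subgroup X → AddSubgroup V) (D : Subgroup X) : AddSubgroup V :=
  if D ∈ FF₁ then N₁ D else N₂ D

theorem uN_pos {FF₁ : Set (Subgroup X)} {N₁ N₂ : Subgroup X → AddSubgroup V} {D : Subgroup X} (h : D ∈ FF₁) :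
    uN FF₁ N₁ N₂ D = N₁ D := if_pos h

theorem uN_neg {FF₁ : Set (Subgroup X)} {N₁ N₂ : Subgroup X → AddSubgroup V} {D : Subgroup X} (h : D ∉ FF₁) :
    uN FF₁ N₁ N₂ D = N₂ D := if_neg h

variable {S : Subgroup X} {FF₁ FF₂ : Set (Subgroup X)} {N₁ N₂ C₁ C₂ : Subgroup X → AddSubgroup V}

theorem Fam.congr (h : Fam S FF₁ N₁ C₁) (hN : ∀ D ∈ FF₁, N₂ D = N₁ D) (hC : ∀ D ∈ FF₁, C₂ D = C₁ D) :
    Fam S FF₁ N₂ C₂ where
  le := h.le
  nb D hD := by rw [hN D hD, hC D hD]; exact h.nb D hD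
  ind D hD D' hD' hne := by rw [hN D' hD', hC D hD]; exact h.ind D hD D' hD' hne
  perm g D hD := by
    obtain ⟨D', hD', h1, h2⟩ := h.perm g D hD
    exact ⟨D', hD', h1, fun m => by rw [hN D hD, hN D' hD']; exact h2 m⟩
  sinv := h.sinv

/-- **The union of two families.** -/
theorem Fam.union (h₁ : Fam S FF₁ N₁ C₁) (h₂ : Fam S FF₂ N₂ C₂)
    (h : ∀ D ∈ FF₁, ∀ D' ∈ FF₂, D ≠ D' ∧ N₂ D' ≤ C₁ D ∧ N₁ D ≤ C₂ D') :
    Fam S (FF₁ ∪ FF₂) (uN FF₁ N₁ N₂) (uN FF₁ C₁ C₂) := by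
  have k : ∀ D ∈ FF₂, D ∉ FF₁ := fun D hD h1 => (h D h1 D hD).1 rfl
  constructor
  · rintro D (hD | hD)
    · exact h₁.le D hD
    · exact h₂.le D hD
  · rintro D (hD | hD)
    · rw [uN_pos hD, uN_pos hD]; exact h₁.nb D hD
    · rw [uN_neg (k D hD), uN_neg (k D hD)]; exact h₂.nb D hD
  · rintro D (hD | hD) D' (hD' | hD') hne
    · rw [uN_pos hD', uN_pos hD]; exact h₁.ind D hD D' hD' hne
    · rw [uN_neg (k D' hD'), uN_pos hD]; exact (h D hD D' hD').2.1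
    · rw [uN_pos hD', uN_neg (k D hD)]; exact (h D' hD' D hD).2.2
    · rw [uN_neg (k D' hD'), uN_neg (k D hD)]; exact h₂.ind D hD D' hD' hne
  · rintro g D (hD | hD)
    · obtain ⟨D', hD', h1, h2⟩ := h₁.perm g D hD
      exact ⟨D', Or.inl hD', h1, fun m => by rw [uN_pos hD, uN_pos hD']; exact h2 m⟩
    · obtain ⟨D', hD', h1, h2⟩ := h₂.perm g D hD
      exact ⟨D', Or.inr hD', h1, fun m => by rw [uN_neg (k D hD), uN_neg (k D' hD')]; exact h2 m⟩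
  · rintro s hs D (hD | hD)
    · exact Or.inl (h₁.sinv s hs D hD)
    · exact Or.inr (h₂.sinv s hs D hD)

/-- the values of the union -/
theorem iSup_uN (h : ∀ D ∈ FF₂, D ∉ FF₁) :
    (⨆ D : ↥(FF₁ ∪ FF₂), uN FF₁ N₁ N₂ D) = (⨆ D : FF₁, N₁ D) ⊔ ⨆ D : FF₂, N₂ D := by
  apply le_antisymm
  · refine iSup_le ?_
    rintro ⟨D, hD | hD⟩
    · change uN FF₁ N₁ N₂ D ≤ _
      rw [uN_pos hD]
      exact (le_iSup (fun D : FF₁ => N₁ D) ⟨D, hD⟩).trans le_sup_left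
    · change uN FF₁ N₁ N₂ D ≤ _
      rw [uN_neg (h D hD)]
      exact (le_iSup (fun D : FF₂ => N₂ D) ⟨D, hD⟩).trans le_sup_right
  · refine sup_le (iSup_le fun D => ?_) (iSup_le fun D => ?_)
    · have := le_iSup (fun D : ↥(FF₁ ∪ FF₂) => uN FF₁ N₁ N₂ D) ⟨D.1, Or.inl D.2⟩
      change uN FF₁ N₁ N₂ D.1 ≤ _ at this
      rwa [uN_pos D.2] at this
    · have := le_iSup (fun D : ↥(FF₁ ∪ FF₂) => uN FF₁ N₁ N₂ D) ⟨D.1, Or.inr D.2⟩
      change uN FF₁ N₁ N₂ D.1 ≤ _ at this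
      rwa [uN_neg (h D.1 D.2)] at this

end Cfsg.Agent.Omega.NOThreeL.RRed.Blk.Asm
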