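import Cfsg.Agent.Omega.NOThreeL.RRed.Blk.AsmOneBlk
import Cfsg.Agent.Omega.NOThreeL.RRed.Blk.AsmEEc

/-!
# NO-3L, box R: the family of all natural blocks, mixed case (any number of classes)

`FF₁ = RRs S (MZ S) Q` : the images of the minimal exact groups `A`, `|im Q A| ≥ 4`, which move `V_P` for some `P ∈ P*(S)`.

* `rrs_eq` : `FFs EE RRs = RRs`; **`nat_fam`** : `Fam (im Q S) RRs NN CC`, `GB`, `TD`;
* `hn_rrs` : `N_G(S)` permutes `RRs`;
* `conj_rrs` : `D ∈ RRs`, `D^g ≤ im Q S` ⟹ `D^g ∈ RRs`;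
* `srcAct`, `srcMov` : the fields of `Src` for the natural active `P`.
-/

set_option autoImplicit false
set_option linter.unusedSectionVars false

namespace Cfsg.Agent.Omega.NOThreeL.RRed.Blk.AsmOneBlk

open Subgroup Cfsg Cfsg.Agent.ZN Cfsg.Agent.Omega.MinPar
open Cfsg.Agent.Omega.FFThm (NatKM NoOverM)
open Cfsg.Agent.Omega.FrameFF (cv)
open Cfsg.Agent.Omega.NO3S.ThmB (Nb)
open Cfsg.Agent.Omega.NO3S.KeyRad (blk)
open Cfsg.Agent.Omega.NOThreeL.RSplit (Nrm)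
open Cfsg.Agent.Omega.NOThreeL.RRed.NS (fxd brk mem_fxd un conj_eq_cj YY)
open Cfsg.Agent.Omega.NOThreeL.RRed.Blk.TypesNat (XH ph ph_smul XH_faith ph_eq ph_surj no_XH)
open Cfsg.Agent.Omega.NOThreeL.RRed.Blk.Asm
open Cfsg.Agent.Omega.NOThreeL.RRed.Blk.AsmG (Inp RRs)
open Cfsg.Agent.Omega.NOThreeL.RRed.Blk.AsmInp (nrm_box inp_box no_of_act spl_of_mvAct td_RRs act_iff)
open Cfsg.Agent.Omega.NOThreeL.RRed.Blk.AsmT (TD)
open Cfsg.Agent.Omega.NOThreeL.RRed.Blk.AsmCore (im EP KP im_cj mem_im ph_mem_im)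
open Cfsg.Agent.Omega.NOThreeL.RRed.WideTree (Act MvAct CM Wide)
open Cfsg.Agent.Omega.NOThreeL.RTree (RB)
open Cfsg.Agent.Omega.NOThreeL.Merge (MZ le_MZ isLoc_MZ)
open scoped Pointwise

universe u

variable {G : Type u} [Group G] [Finite G] {S : Sylow 2 G}

theorem rrs_sub {Q : Nrm (MZ (S : Subgroup G)) (zl (S : Subgroup G) (MZ (S : Subgroup G)))} :
    RRs S (MZ (S : Subgroup G)) Q ⊆ EB S Q := by
  rintro _ ⟨-, P, -, -, A, hA, rfl⟩
  exact ⟨A, hA.1, rfl⟩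

/-- **`FFs EE RRs = RRs`** -/
theorem rrs_eq (B : RB S) (mv : MvAct (S : Subgroup G))
    (no : NoOverM (zl (S : Subgroup G) (MZ (S : Subgroup G))) (MZ (S : Subgroup G)))
    (Q : Nrm (MZ (S : Subgroup G)) (zl (S : Subgroup G) (MZ (S : Subgroup G)))) :
    FFs (EB S Q) (RRs S (MZ (S : Subgroup G)) Q) = RRs S (MZ (S : Subgroup G)) Q := by
  refine Set.Subset.antisymm (fun D hD => ?_) le_FFs
  have hI := inp_box B mv no Q
  obtain ⟨h1, h4, hGB, hFam⟩ := hI.main (RR := RRs S (MZ (S : Subgroup G)) Q) le_rfl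
  obtain ⟨P, a, A, hA, rfl⟩ := AsmMv.exists_EP B mv Q hI.es
    (fun P hP => hI.ac P hP.1 (le_MZ hP.1) ((act_iff B.ctx.char2 hP.1).1 hP)) hGB h4 hFam.sinv h1 hD
  exact ⟨h4 _ hD, P, a.1, le_MZ a.1, A, hA, rfl⟩

/-- **The family of all natural blocks.** -/
theorem nat_fam (B : RB S) (mv : MvAct (S : Subgroup G))
    (no : NoOverM (zl (S : Subgroup G) (MZ (S : Subgroup G))) (MZ (S : Subgroup G)))
    (Q : Nrm (MZ (S : Subgroup G)) (zl (S : Subgroup G) (MZ (S : Subgroup G)))) :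
    Inp S (MZ (S : Subgroup G)) Q ∧ (∀ D ∈ RRs S (MZ (S : Subgroup G)) Q, 4 ≤ Nat.card D) ∧
    (∀ D ∈ RRs S (MZ (S : Subgroup G)) Q, GB (EB S Q) D (NN (EB S Q) Q.Mod D) (CC (EB S Q) Q.Mod D)) ∧
    Fam (im Q (S : Subgroup G)) (RRs S (MZ (S : Subgroup G)) Q) (NN (EB S Q) Q.Mod) (CC (EB S Q) Q.Mod) ∧
    ∀ D ∈ RRs S (MZ (S : Subgroup G)) Q, TD (im Q (S : Subgroup G)) D (NN (EB S Q) Q.Mod D) (CC (EB S Q) Q.Mod D) := by
  have hI := inp_box B mv no Q
  obtain ⟨h1, h4, hGB, hFam⟩ := hI.main (RR := RRs S (MZ (S : Subgroup G)) Q) le_rfl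
  have e := rrs_eq B mv no Q
  rw [e] at h1 h4 hGB hFam
  exact ⟨hI, h4, hGB, hFam, fun D hD => td_of B mv no Q hGB h4 hFam.sinv h1 hD⟩

/-- the image of a conjugate under `N_G(S)` has the same order -/
theorem card_im_conj {Q : Nrm (MZ (S : Subgroup G)) (zl (S : Subgroup G) (MZ (S : Subgroup G)))} {g : G}
    (hL : (S : Subgroup G) ≤ MZ (S : Subgroup G)) (hg : g ∈ normalizer ((S : Subgroup G) : Set G)) {A : Subgroup G}
    (hA : A ≤ (S : Subgroup G)) : Nat.card (im Q (MulAut.conj g • A)) = Nat.card (im Q A) := by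
  have hU := normS_le_Wd hg
  have hA' : MulAut.conj g • A ≤ (S : Subgroup G) := by
    intro x hx
    have h1 := NS.mem_conj.1 hx
    have h2 := (mem_normalizer_iff.1 hg _).1 (hA h1)
    have e : g * (g⁻¹ * x * g) * g⁻¹ = x := by group
    rwa [e] at h2
  have h1 := AsmCore.card_im Q (hA.trans hL)
  have h2 := AsmCore.card_im Q (hA'.trans hL)
  have h3 : Nat.card ↥(MulAut.conj g • A) = Nat.card A := Types.card_cj g A
  have h5 : MulAut.conj g • A ⊓ centralizer (zl (S : Subgroup G) (MZ (S : Subgroup G)) : Set G) =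
      MulAut.conj g • (A ⊓ centralizer (zl (S : Subgroup G) (MZ (S : Subgroup G)) : Set G)) := by
    rw [Subgroup.smul_inf]
    congr 1
    have h6 := ChoiceBase.cj_centralizer g (zl (S : Subgroup G) (MZ (S : Subgroup G)))
    rw [ChoiceBase.cj_eq_of_mem_normalizer hU] at h6
    rw [conj_eq_cj]
    exact h6.symm
  have h6 : Nat.card ↥(MulAut.conj g • (A ⊓ centralizer (zl (S : Subgroup G) (MZ (S : Subgroup G)) : Set G))) =
      Nat.card ↥(A ⊓ centralizer (zl (S : Subgroup G) (MZ (S : Subgroup G)) : Set G)) := Types.card_cj g _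
  rw [h5, h6, h3, ← h1] at h2
  exact Nat.eq_of_mul_eq_mul_right Nat.card_pos h2

/-- **`N_G(S)` permutes `RRs`** -/
theorem hn_rrs (hL : (S : Subgroup G) ≤ MZ (S : Subgroup G))
    {Q : Nrm (MZ (S : Subgroup G)) (zl (S : Subgroup G) (MZ (S : Subgroup G)))} {g : G}
    (hg : g ∈ normalizer ((S : Subgroup G) : Set G)) {D : Subgroup (XH Q)} (hD : D ∈ RRs S (MZ (S : Subgroup G)) Q) :
    ∃ A ≤ (S : Subgroup G), im Q A = D ∧ im Q (MulAut.conj g • A) ∈ RRs S (MZ (S : Subgroup G)) Q := by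
  obtain ⟨h4, P, hP, hPL, A, hA, rfl⟩ := hD
  refine ⟨A, hA.1.1, rfl, ?_, MulAut.conj g • P, ?_, ?_, _, ⟨perm_EE hg (normS_le_Wd hg) hA.1, ?_⟩, rfl⟩
  · rw [card_im_conj hL hg hA.1.1]; exact h4
  · have h5 := IsParS.map (MulAut.conj g) hP
    have h6 : (S : Subgroup G).map (MulAut.conj g).toMonoidHom = S := CM.mem_norm_iff.1 hg
    rw [h6] at h5
    exact h5
  · rw [← CM.mem_norm_iff.1 (CI.norm_MZ hg)]
    exact NoFF.Basic.conj_le_iff.2 hPL
  · intro h1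
    apply hA.2
    have h2 : zl (S : Subgroup G) (MulAut.conj g • P) = MulAut.conj g • zl (S : Subgroup G) P := by
      have h3 := MinSimple.CosetFam.zl_conj g (S : Subgroup G) P
      rw [CM.mem_norm_iff.1 hg] at h3
      exact h3
    rw [h2] at h1
    rw [conj_eq_cj, conj_eq_cj, ← ChoiceBase.cj_centralizer] at h1
    exact NO3S.ThmB.cj_le_cj_iff.1 h1

/-- **The conjugates of the members of `RRs` in `im Q S`** -/
theorem conj_rrs (B : RB S) (mv : MvAct (S : Subgroup G))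
    (no : NoOverM (zl (S : Subgroup G) (MZ (S : Subgroup G))) (MZ (S : Subgroup G)))
    (Q : Nrm (MZ (S : Subgroup G)) (zl (S : Subgroup G) (MZ (S : Subgroup G)))) {D : Subgroup (XH Q)}
    (hD : D ∈ RRs S (MZ (S : Subgroup G)) Q) {g : XH Q} (hg : MulAut.conj g • D ≤ im Q (S : Subgroup G)) :
    MulAut.conj g • D ∈ RRs S (MZ (S : Subgroup G)) Q := by
  obtain ⟨hI, h4, hGB, hF, -⟩ := nat_fam B mv no Q
  have hSL : (S : Subgroup G) ≤ MZ (S : Subgroup G) := (isLoc_MZ B.ctx B.full B.data.noff).le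
  have hE : MulAut.conj g • D ∈ EB S Q := AsmG.EEc Q hSL D (rrs_sub hD) g hg
  obtain ⟨D', hD', h5, h6⟩ := hF.perm g D hD
  by_cases e : MulAut.conj g • D = D'
  · rw [e]; exact hD'
  · exfalso
    obtain ⟨d, hd, m, hm, hdm⟩ := (hF.nb D hD).moves
    have h7 := (hGB D' hD').oth _ hE e (g * d * g⁻¹) (NS.conj_mem' hd) _ ((h6 m).1 hm)
    apply hdm
    rw [smul_smul] at h7
    have e2 : g * d * g⁻¹ * g = g * d := by group
    rw [e2, mul_smul] at h7
    exact smul_left_cancel g h7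

end Cfsg.Agent.Omega.NOThreeL.RRed.Blk.AsmOneBlk
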