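import Cfsg.Agent.Omega.NOThreeL.RRed.Blk.AsmNBs

/-!
# NO-3L, box R: the group `T = clo up lo` of a natural block is transitive on `N \ {1}` (for 329's / 283's `MixDec`)

* **`exists_tr`** : `T ≤ H`, `T` centralises `C`, normalises `N` and is transitive on `N \ {1}` (in `G`).
-/

set_option autoImplicit false
set_option linter.unusedSectionVars false

namespace Cfsg.Agent.Omega.NOThreeL.RRed.Blk.AsmTr

open Subgroup Cfsg
open Cfsg.Agent.Omega.NOThreeL.RSplit (Nrm)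
open Cfsg.Agent.Omega.NOThreeL.RRed.NS (un val_mem_un)
open Cfsg.Agent.Omega.NOThreeL.RRed.Blk.TypesNat (XH ph ph_smul ph_surj XH_faith)
open Cfsg.Agent.Omega.NOThreeL.RRed.Blk.Asm (NB)
open Cfsg.Agent.Omega.NOThreeL.RRed.Blk.AsmT
open Cfsg.Agent.Omega.NOThreeL.RRed.Blk.AsmSL
open Cfsg.Agent.Omega.NOThreeL.RRed.Blk.AsmNBs (ov mem_ov mem_cent_un)
open scoped Pointwise

universe u v w

/-! ### `SL₂(F)` -/

/-- a matrix with the given first column -/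
theorem exists_col {F : Type w} [Field F] (a : Fin 2 → F) (ha : a ≠ 0) :
    ∃ B : Matrix.SpecialLinearGroup (Fin 2) F, B.1.mulVec ![1, 0] = a := by
  by_cases h0 : a 0 = 0
  · have h1 : a 1 ≠ 0 := fun h1 => ha (by funext i; fin_cases i; exacts [h0, h1])
    refine ⟨⟨!![0, -(a 1)⁻¹; a 1, 0], by rw [Matrix.det_fin_two_of]; field_simp; ring⟩, ?_⟩
    funext i
    fin_cases i <;> simp [Matrix.mulVec, dotProduct, Fin.sum_univ_two, h0]
  · refine ⟨⟨!![a 0, 0; a 1, (a 0)⁻¹], by rw [Matrix.det_fin_two_of]; field_simp; ring⟩, ?_⟩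
    funext i
    fin_cases i <;> simp [Matrix.mulVec, dotProduct, Fin.sum_univ_two]

theorem exists_mat {F : Type w} [Field F] {a b : Fin 2 → F} (ha : a ≠ 0) (hb : b ≠ 0) :
    ∃ B : Matrix.SpecialLinearGroup (Fin 2) F, B.1.mulVec a = b := by
  obtain ⟨A, hA⟩ := exists_col a ha
  obtain ⟨B, hB⟩ := exists_col b hb
  refine ⟨B * A⁻¹, ?_⟩
  rw [Matrix.SpecialLinearGroup.coe_mul, ← Matrix.mulVec_mulVec]
  have h1 : (A⁻¹).1.mulVec a = ![1, 0] := by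
    rw [← hA, Matrix.mulVec_mulVec, ← Matrix.SpecialLinearGroup.coe_mul, inv_mul_cancel,
      Matrix.SpecialLinearGroup.coe_one, Matrix.one_mulVec]
  rw [h1, hB]

/-! ### module level -/

section mod

variable {X : Type u} {V : Type v} [Group X] [AddCommGroup V] [DistribMulAction X V]

/-- `T` is transitive on the nonzero vectors of `N` -/
theorem NBT.tr {D T : Subgroup X} {N C : AddSubgroup V} (h : NBT D T N C) {x y : V} (hx : x ∈ N) (hx0 : x ≠ 0)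
    (hy : y ∈ N) (hy0 : y ≠ 0) : ∃ t ∈ T, t • x = y := by
  obtain ⟨F, i1, i2, e, f, up, lo, h1, h2, h3, h4⟩ := h.ex
  rw [← h4] at hx hy
  obtain ⟨_, ⟨a, rfl⟩, _, ⟨b, rfl⟩, rfl⟩ := AddSubgroup.mem_sup.1 hx
  obtain ⟨_, ⟨c, rfl⟩, _, ⟨d, rfl⟩, rfl⟩ := AddSubgroup.mem_sup.1 hy
  have ha : (![a, b] : Fin 2 → F) ≠ 0 := fun e0 => hx0 (by
    have e1 := congrFun e0 0
    have e2 := congrFun e0 1
    simp only [Matrix.cons_val_zero, Matrix.cons_val_one, Pi.zero_apply] at e1 e2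
    rw [e1, e2, map_zero, map_zero, add_zero])
  have hb : (![c, d] : Fin 2 → F) ≠ 0 := fun e0 => hy0 (by
    have e1 := congrFun e0 0
    have e2 := congrFun e0 1
    simp only [Matrix.cons_val_zero, Matrix.cons_val_one, Pi.zero_apply] at e1 e2
    rw [e1, e2, map_zero, map_zero, add_zero])
  obtain ⟨B, hB⟩ := exists_mat ha hb
  obtain ⟨t, ht, hBt⟩ := exists_sla h1 B
  refine ⟨t, h3 ▸ ht, ?_⟩
  have h5 := hBt.act ![a, b]
  rw [hB] at h5
  simpa using h5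

end mod

/-! ### in `G` -/

variable {G : Type u} [Group G] {H U : Subgroup G} (Q : Nrm H U)

/-- **`T` in `G`** -/
theorem exists_tr_of {D T : Subgroup (XH Q)} {N C : AddSubgroup Q.Mod} (h : NBT D T N C) :
    ov Q T ≤ H ∧ ov Q T ≤ centralizer (un Q C : Set G) ∧ ov Q T ≤ normalizer (un Q N : Set G) ∧
      ∀ x ∈ un Q N, x ≠ 1 → ∀ y ∈ un Q N, y ≠ 1 → ∃ t ∈ ov Q T, t * x * t⁻¹ = y := by
  refine ⟨?_, ?_, ?_, ?_⟩
  · intro g hg
    obtain ⟨x, rfl, -⟩ := (mem_ov Q).1 hg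
    exact x.2
  · intro g hg
    obtain ⟨x, rfl, hx⟩ := (mem_ov Q).1 hg
    refine (mem_cent_un Q).2 fun m hm => ?_
    rw [← ph_smul]
    exact h.cent hx hm
  · have key : ∀ g ∈ ov Q T, ∀ v ∈ un Q N, g * v * g⁻¹ ∈ un Q N := by
      rintro g hg _ ⟨m, hm, rfl⟩
      obtain ⟨x, rfl, hx⟩ := (mem_ov Q).1 hg
      rw [← Nrm.val_smul]
      refine ⟨x • m, ?_, rfl⟩
      rw [← ph_smul]
      exact h.norm hx hm
    intro g hg
    refine mem_normalizer_iff.2 fun v => ⟨key g hg v, fun hv => ?_⟩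
    have h1 := key g⁻¹ (inv_mem hg) _ hv
    have e : g⁻¹ * (g * v * g⁻¹) * g⁻¹⁻¹ = v := by group
    rwa [e] at h1
  · rintro _ ⟨m, hm, rfl⟩ hm1 _ ⟨n, hn, rfl⟩ hn1
    have hm0 : m ≠ 0 := fun e0 => hm1 (by rw [e0, Nrm.val_zero])
    have hn0 : n ≠ 0 := fun e0 => hn1 (by rw [e0, Nrm.val_zero])
    obtain ⟨t, ht, htm⟩ := NBT.tr h hm hm0 hn hn0
    obtain ⟨x, rfl⟩ := ph_surj Q t
    refine ⟨x, (mem_ov Q).2 ⟨x, rfl, ht⟩, ?_⟩
    rw [ph_smul] at htm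
    rw [← Nrm.val_smul, htm]

/-- **A group which centralises `C` and is transitive on `N \ {1}`.** -/
theorem exists_tr {D : Subgroup (XH Q)} {N C : AddSubgroup Q.Mod} (h : NB D N C) :
    ∃ T : Subgroup G, T ≤ H ∧ T ≤ centralizer (un Q C : Set G) ∧ T ≤ normalizer (un Q N : Set G) ∧
      ∀ x ∈ un Q N, x ≠ 1 → ∀ y ∈ un Q N, y ≠ 1 → ∃ t ∈ T, t * x * t⁻¹ = y := by
  obtain ⟨T, hT⟩ := AsmT.NB.exists_nbt h
  exact ⟨ov Q T, exists_tr_of Q hT⟩

end Cfsg.Agent.Omega.NOThreeL.RRed.Blk.AsmTr
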