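import Cfsg.Agent.Omega.NOThreeL.RRed.Blk.AsmCov
import Cfsg.Agent.Omega.NOThreeL.RRed.Blk.AsmRR
import Cfsg.Agent.Omega.NOThreeL.RRed.Blk.AsmTr
import Cfsg.Agent.Omega.NOThreeL.RRed.Blk.MixDec

/-!
# NO-3L, box R: the mixed family of natural blocks and blocks of letters (helper744, for helper283)

* `nb_sup`, `nb_inf` : `V = N ⊕ C` for a natural block;
* **`exists_mix`** : `Mix` for the family of all natural blocks (`AsmOneBlk.nat_fam`) and the blocks of letters.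
-/

set_option autoImplicit false
set_option linter.unusedSectionVars false

namespace Cfsg.Agent.Omega.NOThreeL.RRed.Blk.AsmMixX

open Subgroup Cfsg Cfsg.Agent.ZN Cfsg.Agent.Omega.MinPar
open Cfsg.Agent.Omega.FFThm
open Cfsg.Agent.Omega.NOThreeL.RRed.TvFin (Full TvV)
open Cfsg.Agent.Omega.KL.TwoS (Rel Lett)
open Cfsg.Agent.Omega.NOThreeL.RSplit (Nrm)
open Cfsg.Agent.Omega.NOThreeL.RRed.NS (fxd brk mem_fxd smul_eq_iff un)
open Cfsg.Agent.Omega.NOThreeL.RRed.Blk.TypesNat (XH ph ph_smul ph_eq ph_surj XH_faith)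
open Cfsg.Agent.Omega.NOThreeL.RRed.Blk.Asm
open Cfsg.Agent.Omega.NOThreeL.RRed.Blk.AsmCore (im EP ph_mem_im)
open Cfsg.Agent.Omega.NOThreeL.RRed.Blk.AsmG (Inp RRs)
open Cfsg.Agent.Omega.NOThreeL.RRed.Blk.AsmCls
open Cfsg.Agent.Omega.NOThreeL.RRed.WideTree (Act MvAct CM)
open Cfsg.Agent.Omega.NOThreeL.RTree (RB)
open Cfsg.Agent.Omega.NOThreeL.Merge (MZ le_MZ isLoc_MZ)
open scoped Pointwise

universe u v

section mod

variable {X : Type u} {V : Type v} [Group X] [AddCommGroup V] [DistribMulAction X V] {D : Subgroup X}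
  {N C : AddSubgroup V}

theorem nb_sup (h : NB D N C) : N ⊔ C = ⊤ := by
  obtain ⟨F, _, _, e, f, up, lo, hB, rfl, rfl⟩ := h.ex
  rw [eq_top_iff]
  intro m _
  obtain ⟨x, y, c, hc, rfl⟩ := hB.dec m
  exact add_mem (AddSubgroup.mem_sup_left (add_mem (AddSubgroup.mem_sup_left ⟨x, rfl⟩)
    (AddSubgroup.mem_sup_right ⟨y, rfl⟩))) (AddSubgroup.mem_sup_right hc)

theorem nb_inf (h : NB D N C) : N ⊓ C = ⊥ := by
  obtain ⟨F, _, _, e, f, up, lo, hB, rfl, rfl⟩ := h.ex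
  rw [eq_bot_iff]
  rintro m ⟨hm, hc⟩
  obtain ⟨_, ⟨x, rfl⟩, _, ⟨y, rfl⟩, rfl⟩ := AddSubgroup.mem_sup.1 hm
  obtain ⟨rfl, rfl⟩ := hB.ind x y hc
  rw [map_zero, map_zero, add_zero]
  exact zero_mem _

end mod

variable {G : Type u} [Group G] [Finite G] {S : Sylow 2 G} {ι : Type u} {W : ι → Subgroup G}
  {I : Type u} {N E : I → Subgroup G} {R₀ : Subgroup G} {Om : I → Type u} [∀ i, Fintype (Om i)] [∀ i, DecidableEq (Om i)]
  {phi : ∀ i, Finset (Om i) → G}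

/-- **`Mix` for the natural blocks and the blocks of letters.** -/
theorem exists_mix (B : RB S) (mv : MvAct (S : Subgroup G)) (h : CM (S : Subgroup G) W)
    (no : NoOverM (zl (S : Subgroup G) (MZ (S : Subgroup G))) (MZ (S : Subgroup G)))
    (Q : Nrm (MZ (S : Subgroup G)) (zl (S : Subgroup G) (MZ (S : Subgroup G))))
    (F : Full (S : Subgroup G) (MZ (S : Subgroup G)) (Wd (S : Subgroup G)) N E R₀ Om phi)
    (sm : AsmCov.Sml (S : Subgroup G) Q N E) :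
    ∃ (T₁ : ↥(RRs S (MZ (S : Subgroup G)) Q) → Subgroup G) (cls₁ : ↥(RRs S (MZ (S : Subgroup G)) Q) → ι)
      (cls : I → ι), (∀ D, Cl (fun i => Q.ad (W i)) D.1 (cls₁ D)) ∧
      Blk.Mix (MZ (S : Subgroup G)) (Wd (S : Subgroup G)) N W
        (fun D : ↥(RRs S (MZ (S : Subgroup G)) Q) => un Q (NN (AsmOneBlk.EB S Q) Q.Mod D.1))
        (fun D : ↥(RRs S (MZ (S : Subgroup G)) Q) => un Q (CC (AsmOneBlk.EB S Q) Q.Mod D.1)) T₁ cls₁ cls := by
  obtain ⟨hI, h4, hGB, hF, -⟩ := AsmOneBlk.nat_fam B mv no Q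
  have irr : ClsBlk.Irr (MZ (S : Subgroup G)) (zl (S : Subgroup G) (MZ (S : Subgroup G))) W := irr_of h
  have hC := cls_of irr Q
  have hnb : ∀ D : ↥(RRs S (MZ (S : Subgroup G)) Q),
      NB D.1 (NN (AsmOneBlk.EB S Q) Q.Mod D.1) (CC (AsmOneBlk.EB S Q) Q.Mod D.1) := fun D => hF.nb D.1 D.2
  choose T₁ TM TC TN Ttr using fun D : ↥(RRs S (MZ (S : Subgroup G)) Q) => AsmTr.exists_tr Q (hnb D)
  have hcl : ∀ D ∈ RRs S (MZ (S : Subgroup G)) Q, ∃ i, Cl (fun i => Q.ad (W i)) D i :=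
    fun D hD => cl_EE h Q D (AsmOneBlk.rrs_sub hD)
  choose cls₁ hcls₁ using fun D : ↥(RRs S (MZ (S : Subgroup G)) Q) => hcl D.1 D.2
  have hne : ∀ D ∈ RRs S (MZ (S : Subgroup G)) Q, D ≠ ⊥ := by
    intro D hD h0
    have h5 := h4 D hD
    rw [h0, card_bot] at h5
    omega
  choose cls hcls using ClsBlk.exists_le irr F
  have hNW : ∀ D : ↥(RRs S (MZ (S : Subgroup G)) Q),
      un Q (NN (AsmOneBlk.EB S Q) Q.Mod D.1) ≤ W (cls₁ D) := fun D => by
    rw [AsmUn.un_le_sub]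
    exact hC.le hI.two (hnb D) (hcls₁ D)
  refine ⟨T₁, cls₁, cls, hcls₁, ?_⟩
  exact
    { irr := irr
      ne := fun D h0 => (hnb D).ne_bot ((AsmUn.un_eq_bot Q).1 h0)
      sup := fun D => by
        show un Q _ ⊔ un Q _ = _
        rw [← AsmUn.un_sup, nb_sup (hnb D), AsmUn.un_top]
        rfl
      inf := fun D => by
        show un Q _ ⊓ un Q _ = _
        rw [← AsmUn.un_inf, nb_inf (hnb D), AsmUn.un_bot]
      oth := fun D D' hne => AsmUn.un_mono (hF.ind D.1 D.2 D'.1 D'.2 fun e => hne (Subtype.ext e))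
      perm := by
        intro g hg D
        obtain ⟨D', hD', -, h3⟩ := hF.perm (ph Q ⟨g, hg⟩) D.1 D.2
        refine ⟨⟨D', hD'⟩, ?_⟩
        show MulAut.conj g • un Q _ = un Q _
        rw [show MulAut.conj g • un Q (NN (AsmOneBlk.EB S Q) Q.Mod D.1) =
          un Q ((NN (AsmOneBlk.EB S Q) Q.Mod D.1).map (DistribSMul.toAddMonoidHom Q.Mod (ph Q ⟨g, hg⟩))) from
          (AsmUn.un_map Q ⟨g, hg⟩ _).symm]
        congr 1
        ext m
        rw [Asm.mem_map, h3, smul_inv_smul]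
      TM := TM
      TC := TC
      tr := Ttr
      le₁ := hNW
      le₂ := hcls
      dis := by
        intro D b e
        refine AsmCov.excl h Q F sm hI.two hF hGB AsmOneBlk.rrs_sub h4 D.2 (hcls₁ D) (b := b) ?_
        rw [e]
        exact hcls b
      cov := by
        intro i
        rcases AsmCov.cover B mv h Q F sm i with ⟨D, hD, hi⟩ | ⟨b, hb⟩
        · left
          refine ⟨⟨D, hD⟩, ?_⟩
          exact hC.uniq (fun x hx => XH_faith Q x hx) (hcls₁ ⟨D, hD⟩) hi (hne D hD)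
        · right
          refine ⟨b, ?_⟩
          exact ClsBlk.not_le_two irr F hb (hcls b) }

end Cfsg.Agent.Omega.NOThreeL.RRed.Blk.AsmMixX
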