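import Cfsg.Agent.Omega.NOThreeL.RRed.Blk.AsmN

/-!
# NO-3L, box R: natural blocks WITH RADICALS (#26560), consequences of `FamN`, module level

`F : FamN S EE FF N C L Z` (`AsmN`), `V` elementary abelian, `X` faithful.

* `sup_inf` : `V = (⨆ N) + (⨅ C)`; `N_inf` : `(⨆ N) ∩ (⨅ C) = ⨆ Z`; `L_inf` : `(⨆ L) ∩ (⨅ C) = 0`;
* `fxd_sup` : `C_V(⟨FF⟩) = (⨆ L) + (⨅ C)`;
* `inv_N`, `inv_C`, `inv_Z`, `inv_L` : invariance;
* `EB FF` : the normal closure of `FF` in `X`; `fxd_EB`, `brk_EB`;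
* `tor` : the torus of `D` is transitive on `L D - 0` and trivial on `C D`;
* `EE_Z`, `ncl_Z` : `EE` and its normal closure centralise `⨆ Z`; `exists_z` : an `S`-fixed vector in `⨆ Z`;
* **`full`** : `EB` is transitive on the elements of `⨆ L` with full support.
-/

set_option autoImplicit false
set_option linter.unusedSectionVars false

namespace Cfsg.Agent.Omega.NOThreeL.RRed.Blk.AsmN

open Cfsg.Agent.Omega.NOThreeL.RRed.NS (fxd brk mem_fxd)
open Cfsg.Agent.Omega.NOThreeL.RRed.Blk.TypesGam (NO rt up_mem hh wt)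
open Cfsg.Agent.Omega.NOThreeL.RRed.Blk.Types
open Cfsg.Agent.Omega.NOThreeL.RRed.Blk.TypesN
open Cfsg.Agent.Omega.NOThreeL.RRed.Blk.GamD
open Cfsg.Agent.Omega.NOThreeL.RRed.Blk.Asm (Es St mem_St le_St mem_map FFs le_FFs conj_FFs FFs_sub sit exists_ne)
open scoped Pointwise

universe u v w

variable {X : Type u} {V : Type v} [Group X] [AddCommGroup V] [DistribMulAction X V]

/-! ### one block -/

/-- the torus -/
theorem NBd.tor [Finite V] (h2 : ∀ v : V, v + v = 0) (hf : ∀ x : X, (∀ v : V, x • v = v) → x = 1)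
    {D : Subgroup X} {N C L Z : AddSubgroup V} (h : NBd D N C L Z) (h4 : 4 ≤ Nat.card D) {u v : V} (hu : u ∈ L)
    (hu0 : u ≠ 0) (hv : v ∈ L) (hv0 : v ≠ 0) :
    ∃ x : X, MulAut.conj x • D = D ∧ x • u = v ∧ (∀ c ∈ C, x • c = c) ∧
      x ∈ Subgroup.normalClosure (D : Set X) ∧ (∀ m, m ∈ L ↔ x • m ∈ L) ∧ ∀ m, m ∈ N ↔ x • m ∈ N := by
  obtain ⟨F, _, _, e, f, d, up, lo, hB, rfl, rfl, rfl, rfl⟩ := h.ex
  rw [hB.card_rt h2 hf] at h4
  obtain ⟨c₀, hc0, hc1⟩ := exists_ne h4
  obtain ⟨a, rfl⟩ := hu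
  obtain ⟨b, rfl⟩ := hv
  have ha : a ≠ 0 := fun h0 => hu0 (by rw [h0, map_zero])
  have hb : b ≠ 0 := fun h0 => hv0 (by rw [h0, map_zero])
  have hc : b * a⁻¹ ≠ 0 := mul_ne_zero hb (inv_ne_zero ha)
  have hclo : clo up lo ≤ Subgroup.normalClosure ((rt up : Subgroup X) : Set X) := by
    refine (clo_gen hB h2 hf).trans ((Subgroup.closure_le _).2 ?_)
    rintro x ⟨g, -, y, hy, rfl⟩
    exact Subgroup.normalClosure_normal.conj_mem _ (Subgroup.subset_normalClosure hy) g
  have hx : hh up lo (b * a⁻¹) ∈ clo up lo := by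
    have hw : ∀ t, wt up lo t ∈ clo up lo := fun t => mul_mem (mul_mem (up_clo _) (lo_clo _)) (up_clo _)
    exact mul_mem (hw _) (hw _)
  have hN : ∀ y ∈ clo up lo, ∀ m ∈ (e.range ⊔ f.range) ⊔ d.range, y • m ∈ (e.range ⊔ f.range) ⊔ d.range := by
    intro y hy m hm
    have e1 : y • m = (y • m - m) + m := by abel
    rw [e1]
    exact add_mem (brk_clo_le hB (sub_mem_brk hy m)) hm
  refine ⟨hh up lo (b * a⁻¹), ?_, ?_, fun c hc => hB.hh_c _ hc, hclo hx, fun m => ⟨?_, fun hm => ?_⟩,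
    fun m => ⟨hN _ hx m, fun hm => ?_⟩⟩
  · by_cases h1 : b * a⁻¹ = 1
    · rw [h1]
      have e1 : hh up lo (1 : F) = 1 := by
        refine hB.ext hf (fun z => ?_) (fun z => ?_) fun c hc => ?_
        · rw [hB.hh_e h2 one_ne_zero, one_mul, one_smul]
        · rw [hB.hh_f h2 one_ne_zero, inv_one, one_mul, one_smul]
        · rw [hB.hh_c _ hc, one_smul]
      rw [e1, map_one, one_smul]
    · exact (dtN hB h2 hf hc h1).τD
  · rw [hB.hh_e h2 hc, mul_assoc, inv_mul_cancel₀ ha, mul_one]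
  · rintro ⟨z, rfl⟩
    rw [hB.hh_e h2 hc]
    exact ⟨_, rfl⟩
  · obtain ⟨z, hz⟩ := hm
    refine ⟨(b * a⁻¹)⁻¹ * z, ?_⟩
    rw [← hB.hhi_e h2 hc, hz, inv_smul_smul]
  · have h3 := hN _ (inv_mem hx) _ hm
    rwa [inv_smul_smul] at h3

namespace FamN

variable {S : Subgroup X} {EE FF : Set (Subgroup X)} {N C L Z : Subgroup X → AddSubgroup V}
  (F : FamN S EE FF N C L Z) (h2 : ∀ v : V, v + v = 0) (hf : ∀ x : X, (∀ v : V, x • v = v) → x = 1)
include F

/-- `⨆ N` -/
abbrev sN (FF : Set (Subgroup X)) (N : Subgroup X → AddSubgroup V) : AddSubgroup V := ⨆ D ∈ FF, N D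

/-- `⨅ C` -/
abbrev iC (FF : Set (Subgroup X)) (C : Subgroup X → AddSubgroup V) : AddSubgroup V := ⨅ D ∈ FF, C D

section fin

variable [Finite V]
include h2 hf

theorem ZC {D : Subgroup X} (hD : D ∈ FF) : Z D ≤ C D := by
  obtain ⟨K, -, -, -, -, k5, -⟩ := (F.gb D hD).nb.exists_grp h2 hf (F.four D hD)
  exact k5

theorem NC {D : Subgroup X} (hD : D ∈ FF) : N D ⊓ C D = Z D := by
  obtain ⟨K, -, -, -, -, -, -, k7, -⟩ := (F.gb D hD).nb.exists_grp h2 hf (F.four D hD)
  exact k7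

theorem ZN {D : Subgroup X} (hD : D ∈ FF) : Z D ≤ N D := by
  rw [← F.NC h2 hf hD]
  exact inf_le_left

theorem LC {D : Subgroup X} (hD : D ∈ FF) : L D ⊓ C D = ⊥ := by
  obtain ⟨K, -, -, -, -, -, k6, -⟩ := (F.gb D hD).nb.exists_grp h2 hf (F.four D hD)
  exact k6

theorem fx {D : Subgroup X} (hD : D ∈ FF) : (fxd D : AddSubgroup V) = L D ⊔ C D := by
  obtain ⟨K, -, -, -, -, -, -, -, -, -, k10, -⟩ := (F.gb D hD).nb.exists_grp h2 hf (F.four D hD)
  exact k10

theorem bk {D : Subgroup X} (hD : D ∈ FF) : brk V D = L D ⊔ Z D := by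
  obtain ⟨K, -, -, -, k4, -⟩ := (F.gb D hD).nb.exists_grp h2 hf (F.four D hD)
  exact k4

theorem Z_iC {D : Subgroup X} (hD : D ∈ FF) : Z D ≤ iC FF C := by
  refine le_iInf₂ fun D' hD' => ?_
  by_cases h : D = D'
  · subst h; exact F.ZC h2 hf hD
  · exact (F.ZN h2 hf hD).trans (F.ind D' hD' D hD h)

end fin

theorem LN {D : Subgroup X} (hD : D ∈ FF) : L D ≤ N D := by
  obtain ⟨K, _, _, e, f, d, up, lo, hB, -, h1, h3, -⟩ := (F.gb D hD).nb.ex
  rw [← h1, ← h3]
  exact le_sup_left.trans le_sup_left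

theorem NC_top {D : Subgroup X} (hD : D ∈ FF) : N D ⊔ C D = ⊤ := by
  obtain ⟨K, _, _, e, f, d, up, lo, hB, -, h1, h3, -⟩ := (F.gb D hD).nb.ex
  rw [eq_top_iff, ← sup_eq_top hB, ← h1]
  exact sup_le_sup_right le_sup_left _

/-- `V = ∑ N + ⋂ C` for a finite set of blocks -/
theorem fin_top (s : Finset (Subgroup X)) (hs : ∀ D ∈ s, D ∈ FF) :
    (⨆ D ∈ s, N D) ⊔ (⨅ D ∈ s, C D) = ⊤ := by
  classical
  induction s using Finset.induction_on with
  | empty => simp
  | insert D s hD ih =>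
    have ih' := ih fun D' hD' => hs D' (Finset.mem_insert_of_mem hD')
    have hDF := hs D (Finset.mem_insert_self _ _)
    rw [eq_top_iff]
    intro v _
    rw [Finset.iSup_insert, Finset.iInf_insert]
    have h1 : v ∈ (⨆ D ∈ s, N D) ⊔ (⨅ D ∈ s, C D) := by rw [ih']; exact AddSubgroup.mem_top v
    obtain ⟨n, hn, c, hc, rfl⟩ := AddSubgroup.mem_sup.1 h1
    have h3 : c ∈ N D ⊔ C D := by rw [F.NC_top hDF]; exact AddSubgroup.mem_top c
    obtain ⟨n', hn', c', hc', rfl⟩ := AddSubgroup.mem_sup.1 h3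
    have h5 : c' ∈ (⨅ D ∈ s, C D) := by
      have h6 : n' ∈ (⨅ D ∈ s, C D) := by
        have h7 : N D ≤ (⨅ D ∈ s, C D) := le_iInf₂ fun D' hD' =>
          F.ind D' (hs D' (Finset.mem_insert_of_mem hD')) D hDF fun e => hD (e ▸ hD')
        exact h7 hn'
      have h7 := sub_mem hc h6
      rwa [add_sub_cancel_left] at h7
    have e1 : n + (n' + c') = (n' + n) + c' := by abel
    rw [e1]
    exact add_mem (AddSubgroup.mem_sup_left (add_mem (AddSubgroup.mem_sup_left hn') (AddSubgroup.mem_sup_right hn)))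
      (AddSubgroup.mem_sup_right (AddSubgroup.mem_inf.2 ⟨hc', h5⟩))

omit F in
/-- components -/
theorem fin_comp (s : Finset (Subgroup X)) {T : Subgroup X → AddSubgroup V} {v : V} (hv : v ∈ ⨆ D ∈ s, T D) :
    ∃ t : Subgroup X → V, (∀ D, t D ∈ T D) ∧ v = ∑ D ∈ s, t D := by
  classical
  induction s using Finset.induction_on generalizing v with
  | empty =>
    refine ⟨fun _ => 0, fun D => zero_mem _, ?_⟩
    simpa using hv
  | insert D s hD ih =>
    rw [Finset.iSup_insert] at hv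
    obtain ⟨a, ha, b, hb, rfl⟩ := AddSubgroup.mem_sup.1 hv
    obtain ⟨t, ht, rfl⟩ := ih hb
    refine ⟨Function.update t D a, fun D' => ?_, ?_⟩
    · by_cases h : D' = D
      · subst h; rw [Function.update_self]; exact ha
      · rw [Function.update_of_ne h]; exact ht D'
    · rw [Finset.sum_insert hD, Function.update_self]
      congr 1
      refine Finset.sum_congr rfl fun D' hD' => ?_
      have hne : D' ≠ D := by
        rintro rfl
        exact hD hD'
      rw [Function.update_of_ne hne]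

/-! ### the sums -/

section all

variable [Finite X] [Finite V]

omit [Finite V] in
theorem sup_inf : sN FF N ⊔ iC FF C = ⊤ := by
  classical
  have hfin : FF.Finite := Set.toFinite _
  have h1 := F.fin_top hfin.toFinset fun D hD => hfin.mem_toFinset.1 hD
  simpa only [hfin.mem_toFinset] using h1

omit [Finite V] F in
/-- components -/
theorem comp {T : Subgroup X → AddSubgroup V} {v : V} (hv : v ∈ ⨆ D ∈ FF, T D) :
    ∃ t : Subgroup X → V, (∀ D, t D ∈ T D) ∧ v = ∑ D ∈ (Set.toFinite FF).toFinset, t D := by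
  classical
  refine fin_comp _ ?_
  simpa only [(Set.toFinite FF).mem_toFinset] using hv

omit [Finite V] in
/-- the component of a sum with terms in `N D` -/
theorem sum_sub_mem {t : Subgroup X → V} (ht : ∀ D, t D ∈ N D) {D : Subgroup X} (hD : D ∈ FF) :
    (∑ D' ∈ (Set.toFinite FF).toFinset, t D') - t D ∈ C D := by
  classical
  have h1 : D ∈ (Set.toFinite FF).toFinset := (Set.toFinite FF).mem_toFinset.2 hD
  rw [← Finset.add_sum_erase _ _ h1, add_sub_cancel_left]
  refine sum_mem fun D' hD' => ?_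
  have h3 := Finset.mem_erase.1 hD'
  exact F.ind D hD D' ((Set.toFinite FF).mem_toFinset.1 h3.2) h3.1 (ht D')

include h2 hf

/-- `(⨆ N) ∩ (⨅ C) = ⨆ Z` -/
theorem N_inf : sN FF N ⊓ iC FF C = ⨆ D ∈ FF, Z D := by
  classical
  apply le_antisymm
  · rintro v ⟨hv, hc⟩
    obtain ⟨t, ht, rfl⟩ := comp hv
    refine sum_mem fun D hD => ?_
    have hD' := (Set.toFinite FF).mem_toFinset.1 hD
    have h1 : t D ∈ C D := by
      have h3 := F.sum_sub_mem ht hD'
      have h5 : (∑ D' ∈ (Set.toFinite FF).toFinset, t D') ∈ C D := (iInf₂_le D hD' : iC FF C ≤ C D) hc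
      have h6 := sub_mem h5 h3
      rwa [sub_sub_cancel] at h6
    have h7 : t D ∈ Z D := by rw [← F.NC h2 hf hD']; exact ⟨ht D, h1⟩
    exact (le_iSup₂ (f := fun D (_ : D ∈ FF) => Z D) D hD') h7
  · refine iSup₂_le fun D hD => le_inf ?_ (F.Z_iC h2 hf hD)
    exact (F.ZN h2 hf hD).trans (le_iSup₂ (f := fun D (_ : D ∈ FF) => N D) D hD)

/-- `(⨆ L) ∩ (⨅ C) = 0` -/
theorem L_inf : (⨆ D ∈ FF, L D) ⊓ iC FF C = ⊥ := by
  classical
  rw [eq_bot_iff]
  rintro v ⟨hv, hc⟩
  obtain ⟨t, ht, rfl⟩ := comp hv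
  rw [AddSubgroup.mem_bot]
  refine Finset.sum_eq_zero fun D hD => ?_
  have hD' := (Set.toFinite FF).mem_toFinset.1 hD
  have ht' : ∀ D ∈ FF, t D ∈ N D := fun D hD => F.LN hD (ht D)
  have h3 : (∑ D' ∈ (Set.toFinite FF).toFinset, t D') - t D ∈ C D := by
    rw [← Finset.add_sum_erase _ _ hD, add_sub_cancel_left]
    refine sum_mem fun D₁ hD₁ => ?_
    have h3 := Finset.mem_erase.1 hD₁
    have h5 := (Set.toFinite FF).mem_toFinset.1 h3.2
    exact F.ind D hD' D₁ h5 h3.1 (ht' D₁ h5)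
  have h5 : (∑ D' ∈ (Set.toFinite FF).toFinset, t D') ∈ C D := (iInf₂_le D hD' : iC FF C ≤ C D) hc
  have h6 := sub_mem h5 h3
  rw [sub_sub_cancel] at h6
  have h7 : t D ∈ L D ⊓ C D := ⟨ht D, h6⟩
  rw [F.LC h2 hf hD'] at h7
  exact AddSubgroup.mem_bot.1 h7

/-- components in `L D` are unique -/
theorem L_uniq {t t' : Subgroup X → V} (ht : ∀ D, t D ∈ L D) (ht' : ∀ D, t' D ∈ L D)
    (h : (∑ D ∈ (Set.toFinite FF).toFinset, t D) - (∑ D ∈ (Set.toFinite FF).toFinset, t' D) ∈ iC FF C) :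
    ∀ D ∈ FF, t D = t' D := by
  classical
  intro D hD
  have hm : D ∈ (Set.toFinite FF).toFinset := (Set.toFinite FF).mem_toFinset.2 hD
  have hd : ∀ D, t D - t' D ∈ L D := fun D => sub_mem (ht D) (ht' D)
  rw [← Finset.sum_sub_distrib] at h
  have h3 : (∑ D' ∈ (Set.toFinite FF).toFinset, (t D' - t' D')) - (t D - t' D) ∈ C D := by
    rw [← Finset.add_sum_erase _ _ hm, add_sub_cancel_left]
    refine sum_mem fun D₁ hD₁ => ?_
    have h3 := Finset.mem_erase.1 hD₁
    have h5 := (Set.toFinite FF).mem_toFinset.1 h3.2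
    exact F.ind D hD D₁ h5 h3.1 (F.LN h5 (hd D₁))
  have h5 := (iInf₂_le D hD : iC FF C ≤ C D) h
  have h6 := sub_mem h5 h3
  rw [sub_sub_cancel] at h6
  have h7 : t D - t' D ∈ L D ⊓ C D := ⟨hd D, h6⟩
  rw [F.LC h2 hf hD] at h7
  exact sub_eq_zero.1 (AddSubgroup.mem_bot.1 h7)

omit h2 hf [Finite X] [Finite V] in
/-- the other members of `FF` centralise `N D` -/
theorem cent_N {D D' : Subgroup X} (hD : D ∈ FF) (hD' : D' ∈ FF) (hne : D' ≠ D) : ∀ x ∈ D', ∀ m ∈ N D, x • m = m :=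
  (F.gb D hD).oth D' (F.sub hD') hne

/-- `C_V(⟨FF⟩) = (⨆ L) + (⨅ C)` -/
theorem fxd_sup : (fxd (⨆ D ∈ FF, D) : AddSubgroup V) = (⨆ D ∈ FF, L D) ⊔ iC FF C := by
  classical
  apply le_antisymm
  · intro v hv
    have h1 : v ∈ sN FF N ⊔ iC FF C := by rw [F.sup_inf]; exact AddSubgroup.mem_top v
    obtain ⟨n, hn, c, hc, rfl⟩ := AddSubgroup.mem_sup.1 h1
    obtain ⟨t, ht, rfl⟩ := comp hn
    refine add_mem (sum_mem fun D hD => ?_) (AddSubgroup.mem_sup_right hc)
    have hD' := (Set.toFinite FF).mem_toFinset.1 hD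
    -- `t D` is fixed by `D`
    have h3 : t D ∈ (fxd D : AddSubgroup V) := by
      rw [mem_fxd]
      intro x hx
      have e1 := mem_fxd.1 hv x ((le_iSup₂ (f := fun (D : Subgroup X) (_ : D ∈ FF) => D) D hD') hx)
      have h5 : (∑ D' ∈ (Set.toFinite FF).toFinset, t D') - t D + c ∈ (fxd D : AddSubgroup V) := by
        rw [F.fx h2 hf hD']
        exact add_mem (AddSubgroup.mem_sup_right (F.sum_sub_mem ht hD'))
          (AddSubgroup.mem_sup_right ((iInf₂_le D hD' : iC FF C ≤ C D) hc))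
      have e3 := mem_fxd.1 h5 x hx
      have e5 : t D = (∑ D' ∈ (Set.toFinite FF).toFinset, t D') + c
          - ((∑ D' ∈ (Set.toFinite FF).toFinset, t D') - t D + c) := by abel
      rw [e5, smul_sub, e1, e3]
    rw [F.fx h2 hf hD'] at h3
    obtain ⟨l, hl, z, hz, h5⟩ := AddSubgroup.mem_sup.1 h3
    have h6 : z ∈ Z D := by
      rw [← F.NC h2 hf hD']
      refine ⟨?_, hz⟩
      have h7 := sub_mem (ht D) (F.LN hD' hl)
      rwa [← h5, add_sub_cancel_left] at h7
    rw [← h5]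
    exact add_mem (AddSubgroup.mem_sup_left ((le_iSup₂ (f := fun D (_ : D ∈ FF) => L D) D hD') hl))
      (AddSubgroup.mem_sup_right (F.Z_iC h2 hf hD' h6))
  · refine sup_le (iSup₂_le fun D hD => ?_) ?_
    · intro l hl
      rw [mem_fxd]
      have h1 : (⨆ D ∈ FF, D) ≤ MulAction.stabilizer X l := iSup₂_le fun D' hD' x hx => by
        rw [MulAction.mem_stabilizer_iff]
        by_cases h : D' = D
        · subst h
          have h3 : l ∈ (fxd D' : AddSubgroup V) := by rw [F.fx h2 hf hD]; exact AddSubgroup.mem_sup_left hl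
          exact mem_fxd.1 h3 x hx
        · exact F.cent_N hD hD' h x hx l (F.LN hD hl)
      exact fun x hx => MulAction.mem_stabilizer_iff.1 (h1 hx)
    · intro c hc
      rw [mem_fxd]
      have h1 : (⨆ D ∈ FF, D) ≤ MulAction.stabilizer X c := iSup₂_le fun D' hD' x hx => by
        rw [MulAction.mem_stabilizer_iff]
        have h3 : c ∈ (fxd D' : AddSubgroup V) := by
          rw [F.fx h2 hf hD']
          exact AddSubgroup.mem_sup_right ((iInf₂_le D' hD' : iC FF C ≤ C D') hc)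
        exact mem_fxd.1 h3 x hx
      exact fun x hx => MulAction.mem_stabilizer_iff.1 (h1 hx)

end all

/-! ### invariance -/

theorem inv_N (g : X) {m : V} (hm : m ∈ sN FF N) : g • m ∈ sN FF N := by
  have h1 : sN FF N ≤ (sN FF N).comap (DistribSMul.toAddMonoidHom V g) := by
    refine iSup₂_le fun D hD x hx => ?_
    obtain ⟨D', hD', -, h3, -⟩ := F.perm g D hD
    exact (le_iSup₂ (f := fun D (_ : D ∈ FF) => N D) D' hD') ((h3 x).1 hx)
  exact h1 hm

theorem inv_Z (g : X) {m : V} (hm : m ∈ ⨆ D ∈ FF, Z D) : g • m ∈ ⨆ D ∈ FF, Z D := by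
  have h1 : (⨆ D ∈ FF, Z D) ≤ (⨆ D ∈ FF, Z D).comap (DistribSMul.toAddMonoidHom V g) := by
    refine iSup₂_le fun D hD x hx => ?_
    obtain ⟨D', hD', -, -, -, h3⟩ := F.perm g D hD
    exact (le_iSup₂ (f := fun D (_ : D ∈ FF) => Z D) D' hD') ((h3 x).1 hx)
  exact h1 hm

theorem inv_C (g : X) {m : V} (hm : m ∈ iC FF C) : g • m ∈ iC FF C := by
  simp only [AddSubgroup.mem_iInf] at hm ⊢
  intro D hD
  obtain ⟨D', hD', -, -, h3, -⟩ := F.perm g⁻¹ D hD
  rw [h3, inv_smul_smul]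
  exact hm D' hD'

theorem inv_L {g : X} (hg : g ∈ St EE) {m : V} (hm : m ∈ ⨆ D ∈ FF, L D) : g • m ∈ ⨆ D ∈ FF, L D := by
  have h1 : (⨆ D ∈ FF, L D) ≤ (⨆ D ∈ FF, L D).comap (DistribSMul.toAddMonoidHom V g) := by
    refine iSup₂_le fun D hD x hx => ?_
    obtain ⟨hD', -, -, h3, -⟩ := F.st g hg D hD
    exact (le_iSup₂ (f := fun D (_ : D ∈ FF) => L D) _ hD') ((h3 x).1 hx)
  exact h1 hm

/-- a member of `EE` outside `FF` centralises the blocks -/
theorem oth_EE {A : Subgroup X} (hA : A ∈ EE) (hAF : A ∉ FF) : ∀ a ∈ A, ∀ m ∈ sN FF N, a • m = m := by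
  intro a ha m hm
  have h1 : sN FF N ≤ (fxd A : AddSubgroup V) := iSup₂_le fun D hD x hx b hb =>
    (F.gb D hD).oth A hA (fun e => hAF (e ▸ hD)) b hb x hx
  exact mem_fxd.1 (h1 hm) a ha

/-! ### the block group -/

omit F in
/-- the normal closure of the root groups -/
def EB (FF : Set (Subgroup X)) : Subgroup X := Subgroup.normalClosure ((⨆ D ∈ FF, D : Subgroup X) : Set X)

omit F in
instance EB_normal : (EB FF).Normal := Subgroup.normalClosure_normal

omit F in
theorem le_EB {D : Subgroup X} (hD : D ∈ FF) : D ≤ EB FF :=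
  (le_iSup₂ (f := fun (D : Subgroup X) (_ : D ∈ FF) => D) D hD).trans Subgroup.subset_normalClosure

omit F in
theorem ncl_le_EB {D : Subgroup X} (hD : D ∈ FF) : Subgroup.normalClosure (D : Set X) ≤ EB FF := by
  exact Subgroup.normalClosure_le_normal (le_EB hD)

section eb

variable [Finite X] [Finite V]
include h2 hf

/-- `C_V(EB) = ⨅ C` -/
theorem fxd_EB : (fxd (EB FF) : AddSubgroup V) = iC FF C := by
  apply le_antisymm
  · refine le_iInf₂ fun D hD v hv => ?_
    obtain ⟨K, k1, -, k3, -, -, -, -, -, -, -, k11⟩ := (F.gb D hD).nb.exists_grp h2 hf (F.four D hD)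
    have hK : K ≤ EB FF := by
      refine k11.trans ((Subgroup.closure_le _).2 ?_)
      rintro x ⟨g, -, y, hy, rfl⟩
      exact (EB_normal (FF := FF)).conj_mem _ (le_EB hD hy) g
    rw [← k3]
    exact fun k hk => hv k (hK hk)
  · intro v hv
    rw [mem_fxd]
    have h1 : EB FF ≤ {
        carrier := {x | ∀ c ∈ iC FF C, x • c = c}
        mul_mem' := fun {a b} ha hb c hc => by rw [mul_smul, hb c hc, ha c hc]
        one_mem' := fun c _ => one_smul _ _
        inv_mem' := fun {a} ha c hc => by rw [inv_smul_eq_iff, ha c hc] } := by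
      have hle : (⨆ D ∈ FF, D : Subgroup X) ≤ {
        carrier := {x | ∀ c ∈ iC FF C, x • c = c}
        mul_mem' := fun {a b} ha hb c hc => by rw [mul_smul, hb c hc, ha c hc]
        one_mem' := fun c _ => one_smul _ _
        inv_mem' := fun {a} ha c hc => by rw [inv_smul_eq_iff, ha c hc] } := iSup₂_le fun D hD x hx c hc => by
        have h3 : c ∈ (fxd D : AddSubgroup V) := by
          rw [F.fx h2 hf hD]
          exact AddSubgroup.mem_sup_right ((iInf₂_le D hD : iC FF C ≤ C D) hc)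
        exact mem_fxd.1 h3 x hx
      rw [EB, Subgroup.normalClosure, Subgroup.closure_le]
      intro x hx
      obtain ⟨y, hy, hyx⟩ := Group.mem_conjugatesOfSet_iff.1 hx
      obtain ⟨g, hg⟩ := isConj_iff.1 hyx
      intro c hc
      have h3 := hle hy (g⁻¹ • c) (F.inv_C g⁻¹ hc)
      rw [← hg, mul_smul, mul_smul, h3, smul_inv_smul]
    exact fun k hk => h1 hk v hv

/-- `[V, EB] = ⨆ N` -/
theorem brk_EB : brk V (EB FF) = sN FF N := by
  apply le_antisymm
  · have h1 : EB FF ≤ {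
        carrier := {x | ∀ v : V, x • v - v ∈ sN FF N}
        mul_mem' := by
          intro a b ha hb v
          have e1 : (a * b) • v - v = (a • (b • v) - b • v) + (b • v - v) := by rw [mul_smul]; abel
          rw [e1]
          exact add_mem (ha _) (hb v)
        one_mem' := fun v => by rw [one_smul, sub_self]; exact zero_mem _
        inv_mem' := by
          intro a ha v
          have e1 : a⁻¹ • v - v = -(a • (a⁻¹ • v) - a⁻¹ • v) := by rw [smul_inv_smul]; abel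
          rw [e1]
          exact neg_mem (ha _) } := by
      have hle : (⨆ D ∈ FF, D : Subgroup X) ≤ {
        carrier := {x | ∀ v : V, x • v - v ∈ sN FF N}
        mul_mem' := by
          intro a b ha hb v
          have e1 : (a * b) • v - v = (a • (b • v) - b • v) + (b • v - v) := by rw [mul_smul]; abel
          rw [e1]
          exact add_mem (ha _) (hb v)
        one_mem' := fun v => by rw [one_smul, sub_self]; exact zero_mem _
        inv_mem' := by
          intro a ha v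
          have e1 : a⁻¹ • v - v = -(a • (a⁻¹ • v) - a⁻¹ • v) := by rw [smul_inv_smul]; abel
          rw [e1]
          exact neg_mem (ha _) } := iSup₂_le fun D hD x hx v => by
        have h3 := sub_mem_brk hx v
        rw [F.bk h2 hf hD] at h3
        exact (sup_le (F.LN hD) (F.ZN h2 hf hD)).trans (le_iSup₂ (f := fun D (_ : D ∈ FF) => N D) D hD) h3
      rw [EB, Subgroup.normalClosure, Subgroup.closure_le]
      intro x hx
      obtain ⟨y, hy, hyx⟩ := Group.mem_conjugatesOfSet_iff.1 hx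
      obtain ⟨g, hg⟩ := isConj_iff.1 hyx
      intro v
      have h3 := F.inv_N g (hle hy (g⁻¹ • v))
      rw [← hg, mul_smul, mul_smul]
      rwa [smul_sub, smul_inv_smul] at h3
    exact brk_le fun x hx v => h1 hx v
  · refine iSup₂_le fun D hD => ?_
    obtain ⟨K, k1, k2, -, -, -, -, -, -, -, -, k11⟩ := (F.gb D hD).nb.exists_grp h2 hf (F.four D hD)
    have hK : K ≤ EB FF := by
      refine k11.trans ((Subgroup.closure_le _).2 ?_)
      rintro x ⟨g, -, y, hy, rfl⟩
      exact (EB_normal (FF := FF)).conj_mem _ (le_EB hD hy) g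
    rw [← k2]
    exact brk_le fun x hx v => sub_mem_brk (hK hx) v

/-- the torus -/
theorem tor {D : Subgroup X} (hD : D ∈ FF) {u v : V} (hu : u ∈ L D) (hu0 : u ≠ 0) (hv : v ∈ L D) (hv0 : v ≠ 0) :
    ∃ x ∈ EB FF, (∀ D' ∈ FF, MulAut.conj x • D' = D' ∨ D' ≠ D) ∧ MulAut.conj x • D = D ∧ x • u = v ∧
      (∀ c ∈ C D, x • c = c) ∧ (∀ m, m ∈ L D ↔ x • m ∈ L D) ∧ ∀ m, m ∈ N D ↔ x • m ∈ N D := by
  obtain ⟨x, h1, h3, h5, h6, h7, h8⟩ := (F.gb D hD).nb.tor h2 hf (F.four D hD) hu hu0 hv hv0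
  refine ⟨x, ncl_le_EB hD h6, fun D' _ => ?_, h1, h3, h5, h7, h8⟩
  by_cases h : D' = D
  · subst h; exact Or.inl h1
  · exact Or.inr h

/-- **`EB` is transitive on the elements of `⨆ L` with full support** (modulo nothing); the element centralises
`⨅ C` and normalises every `L D`. -/
theorem full {t t' : Subgroup X → V} (ht : ∀ D, t D ∈ L D) (ht' : ∀ D, t' D ∈ L D) (h0 : ∀ D ∈ FF, t D ≠ 0)
    (h0' : ∀ D ∈ FF, t' D ≠ 0) :
    ∃ x ∈ EB FF, (∀ D ∈ FF, x • t D = t' D) ∧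
      x • (∑ D ∈ (Set.toFinite FF).toFinset, t D) = ∑ D ∈ (Set.toFinite FF).toFinset, t' D := by
  classical
  have key : ∀ s : Finset (Subgroup X), (∀ D ∈ s, D ∈ FF) →
      ∃ x ∈ EB FF, (∀ D ∈ s, x • t D = t' D) ∧ ∀ D ∈ FF, D ∉ s → ∀ m ∈ N D, x • m = m := by
    intro s
    induction s using Finset.induction_on with
    | empty => exact fun _ => ⟨1, one_mem _, by simp, fun D _ _ m _ => one_smul _ _⟩
    | insert D s hD ih =>
      intro hs
      obtain ⟨x, hx, h1, h3⟩ := ih fun D' hD' => hs D' (Finset.mem_insert_of_mem hD')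
      have hDF := hs D (Finset.mem_insert_self _ _)
      obtain ⟨y, hy, -, -, h5, h6, -⟩ := F.tor h2 hf hDF (ht D) (h0 D hDF) (ht' D) (h0' D hDF)
      have hyN : ∀ D' ∈ FF, D' ≠ D → ∀ m ∈ N D', y • m = m := fun D' hD' hne m hm =>
        h6 m (F.ind D hDF D' hD' hne hm)
      refine ⟨y * x, mul_mem hy hx, fun D' hD' => ?_, fun D' hD' hns m hm => ?_⟩
      · rw [mul_smul]
        rcases Finset.mem_insert.1 hD' with rfl | hD's
        · rw [h3 D' hDF hD _ (F.LN hDF (ht D'))]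
          exact h5
        · have hne : D' ≠ D := by
            rintro rfl
            exact hD hD's
          rw [h1 D' hD's]
          exact hyN D' (hs D' hD') hne _ (F.LN (hs D' hD') (ht' D'))
      · have hne : D' ≠ D := by
          rintro rfl
          exact hns (Finset.mem_insert_self _ _)
        rw [mul_smul, h3 D' hD' (fun h => hns (Finset.mem_insert_of_mem h)) m hm]
        exact hyN D' hD' hne m hm
  obtain ⟨x, hx, h1, -⟩ := key (Set.toFinite FF).toFinset fun D hD => (Set.toFinite FF).mem_toFinset.1 hD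
  refine ⟨x, hx, fun D hD => h1 D ((Set.toFinite FF).mem_toFinset.2 hD), ?_⟩
  rw [Finset.smul_sum]
  exact Finset.sum_congr rfl fun D hD => h1 D hD

/-- every member of `EE` centralises `⨆ Z` -/
theorem EE_Z {A : Subgroup X} (hA : A ∈ EE) : (⨆ D ∈ FF, Z D) ≤ (fxd A : AddSubgroup V) := by
  refine iSup₂_le fun D hD => ?_
  by_cases h : A = D
  · subst h
    rw [F.fx h2 hf hD]
    exact (F.ZC h2 hf hD).trans le_sup_right
  · intro m hm
    rw [mem_fxd]
    exact fun a ha => (F.gb D hD).oth A hA h a ha m (F.ZN h2 hf hD hm)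

/-- the normal closure of `EE` centralises `⨆ Z` -/
theorem ncl_Z : (⨆ D ∈ FF, Z D) ≤ (fxd (Subgroup.normalClosure ((⨆ A ∈ EE, A : Subgroup X) : Set X)) :
    AddSubgroup V) := by
  intro m hm
  rw [mem_fxd]
  let T : Subgroup X := {
    carrier := {x | ∀ c ∈ (⨆ D ∈ FF, Z D), x • c = c}
    mul_mem' := fun {a b} ha hb c hc => by rw [mul_smul, hb c hc, ha c hc]
    one_mem' := fun c _ => one_smul _ _
    inv_mem' := fun {a} ha c hc => by rw [inv_smul_eq_iff, ha c hc] }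
  have hle : (⨆ A ∈ EE, A : Subgroup X) ≤ T := iSup₂_le fun A hA a ha c hc =>
    mem_fxd.1 (F.EE_Z h2 hf hA hc) a ha
  have h1 : Subgroup.normalClosure ((⨆ A ∈ EE, A : Subgroup X) : Set X) ≤ T := by
    rw [Subgroup.normalClosure, Subgroup.closure_le]
    intro x hx
    obtain ⟨y, hy, hyx⟩ := Group.mem_conjugatesOfSet_iff.1 hx
    obtain ⟨g, hg⟩ := isConj_iff.1 hyx
    intro c hc
    have h3 := hle hy (g⁻¹ • c) (F.inv_Z g⁻¹ hc)
    rw [← hg, mul_smul, mul_smul, h3, smul_inv_smul]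
  exact fun k hk => h1 hk m hm

/-- a nonzero radical: `S` fixes a nonzero vector of `⨆ Z` -/
theorem exists_z {D : Subgroup X} (hD : D ∈ FF) (hZ : Z D ≠ ⊥) (hS : IsPGroup 2 S) :
    ∃ z ∈ (⨆ D ∈ FF, Z D), z ≠ 0 ∧ ∀ s ∈ S, s • z = z := by
  have hf2 : Fact (Nat.Prime 2) := ⟨Nat.prime_two⟩
  set T : AddSubgroup V := ⨆ D ∈ FF, Z D with hT
  let _ : MulAction S T :=
    { smul := fun s t => ⟨(s : X) • (t : V), F.inv_Z s t.2⟩
      one_smul := fun t => Subtype.ext (one_smul _ _)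
      mul_smul := fun a b t => Subtype.ext (mul_smul (a : X) (b : X) (t : V)) }
  have hT0 : T ≠ ⊥ := fun h0 => hZ (le_bot_iff.1 ((le_iSup₂ (f := fun D (_ : D ∈ FF) => Z D) D hD).trans h0.le))
  have hcard : 2 ∣ Nat.card T := by
    obtain ⟨t, ht, ht0⟩ := (AddSubgroup.bot_or_exists_ne_zero T).resolve_left hT0
    have h1 : addOrderOf (⟨t, ht⟩ : T) = 2 := by
      refine addOrderOf_eq_prime ?_ fun h0 => ht0 (congrArg Subtype.val h0)
      rw [two_nsmul]
      exact Subtype.ext (h2 t)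
    rw [← h1]
    exact addOrderOf_dvd_natCard _
  have h0 : (0 : T) ∈ MulAction.fixedPoints S T := fun s => Subtype.ext (smul_zero (s : X))
  obtain ⟨z, hz, hz0⟩ := hS.exists_fixed_point_of_prime_dvd_card_of_fixed_point T hcard h0
  exact ⟨z, z.2, fun h => hz0 (Subtype.ext h.symm), fun s hs => congrArg Subtype.val (hz ⟨s, hs⟩)⟩

end eb

end FamN

end Cfsg.Agent.Omega.NOThreeL.RRed.Blk.AsmN
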