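import Cfsg.Agent.Omega.NOThreeL.RRed.Blk.UniZ
import Cfsg.Agent.Omega.NOThreeL.RRed.Blk.NBdEq

/-!
# NO-3L, box R, blocks with a radical (#26560): (UNI), two `GBd` with the same root group are equal

`uni_of` : all inputs of `UniZ.hy`.
-/

set_option autoImplicit false
set_option linter.unusedSectionVars false

namespace Cfsg.Agent.Omega.NOThreeL.RRed.Blk.UniAll

open Cfsg.Agent.Omega.NOThreeL.RRed.NS (fxd brk mem_fxd)
open Cfsg.Agent.Omega.NOThreeL.RRed.Blk.TypesGam (NO)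
open Cfsg.Agent.Omega.NOThreeL.RRed.Blk.Asm (Es)
open Cfsg.Agent.Omega.NOThreeL.RRed.Blk.AsmN (NBd GBd)
open Cfsg.Agent.Omega.NOThreeL.RRed.Blk.UniFrame (Hy)
open Cfsg.Agent.Omega.NOThreeL.RRed.Blk.Uni (PsH)
open scoped Pointwise

universe u v

variable {X : Type u} {V : Type v} [Group X] [AddCommGroup V] [DistribMulAction X V] [Finite X] [Finite V]

/-- **(UNI)** -/
theorem uni {S : Sylow 2 X} {EE : Set (Subgroup X)} {A : Subgroup X} (H : Hy V S EE A) (h4 : 4 ≤ Nat.card A)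
    {N C L Z N' C' L' Z' : AddSubgroup V} (g : GBd EE A N C L Z) (g' : GBd EE A N' C' L' Z')
    (SD : ∀ s ∈ S, (∀ m ∈ brk V A, s • m ∈ brk V A) → ∀ m ∈ Z, s • m ∈ Z) :
    N' = N ∧ C' = C ∧ L' = L ∧ Z' = Z := by
  have h1 := UniZ.eq_Z H h4 g g' SD
  subst h1
  obtain ⟨h3, h5, h6⟩ := g.nb.eq_of H.h2 H.hf H.hno h4 g'.nb
  exact ⟨h3.symm, h5.symm, h6.symm, rfl⟩

/-- **(UNI)**, all inputs -/
theorem uni_of (h2 : ∀ v : V, v + v = 0) (hf : ∀ x : X, (∀ v : V, x • v = v) → x = 1) (hno : NO X V) {S : Sylow 2 X}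
    {EE : Set (Subgroup X)} (E : Es (S : Subgroup X) EE V) (EEc : ∀ B ∈ EE, ∀ x : X, MulAut.conj x • B ≤ S →
      MulAut.conj x • B ∈ EE) {Ps : Set (Subgroup X)} (hPs : PsH V (S : Subgroup X) EE Ps) (htop : sSup Ps = ⊤)
    {A : Subgroup X} (hA : A ∈ EE) (h4 : 4 ≤ Nat.card A) {N C L Z : AddSubgroup V} (g : GBd EE A N C L Z)
    (SD : ∀ s ∈ S, (∀ m ∈ brk V A, s • m ∈ brk V A) → ∀ m ∈ Z, s • m ∈ Z) :
    ∀ N' C' L' Z' : AddSubgroup V, GBd EE A N' C' L' Z' → N' = N ∧ C' = C ∧ L' = L ∧ Z' = Z :=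
  fun _ _ _ _ g' => uni (UniZ.hy h2 hf hno E EEc hPs htop hA h4 (UniZ.GB1.of_GBd g)) h4 g g' SD

end Cfsg.Agent.Omega.NOThreeL.RRed.Blk.UniAll
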