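import Cfsg.Agent.Omega.NOThreeL.RRed.Blk.AsmN
import Cfsg.Agent.Omega.NOThreeL.RRed.Blk.UniAll

/-!
# NO-3L, box R, blocks with a radical (#26560): `AsmN.mainN` with (UNI) from `UniAll.uni_of`

* `psH_of` : the hypothesis of `mainN` on the members of `Ps` gives `Uni.PsH`;
* **`mainSD`** : `mainN` with (UNI) replaced by (SD) for one block of every `A ∈ RR`.
-/

set_option autoImplicit false
set_option linter.unusedSectionVars false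

namespace Cfsg.Agent.Omega.NOThreeL.RRed.Blk.AsmNSD

open Cfsg.Agent.Omega.NOThreeL.RRed.NS (fxd brk mem_fxd)
open Cfsg.Agent.Omega.NOThreeL.RRed.Blk.TypesGam (NO)
open Cfsg.Agent.Omega.NOThreeL.RRed.Blk.Asm
open Cfsg.Agent.Omega.NOThreeL.RRed.Blk.AsmN
open Cfsg.Agent.Omega.NOThreeL.RRed.Blk.Uni (PsH)
open scoped Pointwise

universe u v

variable {X : Type u} {V : Type v} [Group X] [AddCommGroup V] [DistribMulAction X V] [Finite X] [Finite V]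

theorem psH_of {S : Subgroup X} {EE Ps : Set (Subgroup X)}
    (hPs : ∀ P ∈ Ps, (∀ g ∈ P, ∀ A ∈ EE, MulAut.conj g • A ∈ EE) ∨ ∃ K EP, AcN S EE P K EP V) : PsH V S EE Ps := by
  intro P hP
  rcases hPs P hP with h | ⟨K, EP, h⟩
  · exact Or.inl h
  · refine Or.inr ⟨K, EP, h.gen, h.EPE, h.EPK, h.dich, fun A hA h4 => ?_⟩
    obtain ⟨N, C, L, Z, h1, -⟩ := h.gb hA h4
    exact UniZ.GB1.of_GBd h1

/-- **The natural blocks with radicals.** -/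
theorem mainSD (h2 : ∀ v : V, v + v = 0) (hf : ∀ x : X, (∀ v : V, x • v = v) → x = 1) (hno : NO X V)
    {S : Sylow 2 X} {EE : Set (Subgroup X)} (E : Es (S : Subgroup X) EE V)
    (EEc : ∀ B ∈ EE, ∀ x : X, MulAut.conj x • B ≤ S → MulAut.conj x • B ∈ EE) {Ps : Set (Subgroup X)}
    (hPs : ∀ P ∈ Ps, (∀ g ∈ P, ∀ A ∈ EE, MulAut.conj g • A ∈ EE) ∨ ∃ K EP, AcN (S : Subgroup X) EE P K EP V)
    (htop : sSup Ps = ⊤) {RR : Set (Subgroup X)} (hRE : RR ⊆ EE) (hR4 : ∀ A ∈ RR, 4 ≤ Nat.card A)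
    (hRG : ∀ A ∈ RR, ∃ N C L Z : AddSubgroup V, GBd EE A N C L Z ∧
      ∀ s ∈ S, (∀ m ∈ brk V A, s • m ∈ brk V A) → ∀ m ∈ Z, s • m ∈ Z) :
    ∃ N C L Z : Subgroup X → AddSubgroup V, FamN (S : Subgroup X) EE (FFs EE RR) N C L Z := by
  refine mainN h2 hf hno E hPs htop hRE hR4 (fun A hA => ?_) fun A hA N C L Z N' C' L' Z' h h' => ?_
  · obtain ⟨N, C, L, Z, h, -⟩ := hRG A hA
    exact ⟨N, C, L, Z, h⟩
  · obtain ⟨N0, C0, L0, Z0, g, SD⟩ := hRG A hA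
    have u := UniAll.uni_of h2 hf hno E EEc (psH_of hPs) htop (hRE hA) (hR4 A hA) g SD
    obtain ⟨a1, a2, a3, a4⟩ := u _ _ _ _ h
    obtain ⟨b1, b2, b3, b4⟩ := u _ _ _ _ h'
    exact ⟨a1.trans b1.symm, a2.trans b2.symm, a3.trans b3.symm, a4.trans b4.symm⟩

/-- the same for the members `≥ 4` of the `EP`'s of active `P`'s -/
theorem mainP (h2 : ∀ v : V, v + v = 0) (hf : ∀ x : X, (∀ v : V, x • v = v) → x = 1) (hno : NO X V)
    {S : Sylow 2 X} {EE : Set (Subgroup X)} (E : Es (S : Subgroup X) EE V)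
    (EEc : ∀ B ∈ EE, ∀ x : X, MulAut.conj x • B ≤ S → MulAut.conj x • B ∈ EE) {Ps : Set (Subgroup X)}
    (hPs : ∀ P ∈ Ps, (∀ g ∈ P, ∀ A ∈ EE, MulAut.conj g • A ∈ EE) ∨ ∃ K EP, AcN (S : Subgroup X) EE P K EP V)
    (htop : sSup Ps = ⊤) {RR : Set (Subgroup X)}
    (hRP : ∀ A ∈ RR, ∃ P K EP, AcN (S : Subgroup X) EE P K EP V ∧ A ∈ EP) (hR4 : ∀ A ∈ RR, 4 ≤ Nat.card A)
    (hSD : ∀ A ∈ RR, ∃ N C L Z : AddSubgroup V, NBd A N C L Z ∧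
      (∀ P K EP, AcN (S : Subgroup X) EE P K EP V → A ∈ EP → (∀ B ∈ EP, B ≠ A → ∀ b ∈ B, ∀ m ∈ N, b • m = m) ∧
        N ≤ brk V K) ∧
      ∀ s ∈ S, (∀ m ∈ brk V A, s • m ∈ brk V A) → ∀ m ∈ Z, s • m ∈ Z) :
    ∃ N C L Z : Subgroup X → AddSubgroup V, FamN (S : Subgroup X) EE (FFs EE RR) N C L Z := by
  refine mainSD h2 hf hno E EEc hPs htop (fun A hA => ?_) hR4 fun A hA => ?_
  · obtain ⟨P, K, EP, h, h1⟩ := hRP A hA
    exact h.EPE h1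
  · obtain ⟨P, K, EP, h, h1⟩ := hRP A hA
    obtain ⟨N, C, L, Z, h3, h5, h6⟩ := hSD A hA
    obtain ⟨h7, h8⟩ := h5 P K EP h h1
    refine ⟨N, C, L, Z, ⟨h3, fun A' hA' hne a ha m hm => ?_⟩, h6⟩
    rcases h.dich A' hA' with h9 | h9
    · exact h7 A' h9 hne a ha m hm
    · exact h9 a ha m (h8 hm)

end Cfsg.Agent.Omega.NOThreeL.RRed.Blk.AsmNSD
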