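import Cfsg.Agent.Omega.NOThreeL.RRed.Blk.AsmInp
import Cfsg.Agent.Omega.NOThreeL.RRed.Blk.AsmUn
import Cfsg.Agent.Omega.NOThreeL.RRed.Blk.AsmMv
import Cfsg.Agent.Omega.NOThreeL.RRed.Blk.AsmLn
import Cfsg.Agent.Omega.NOThreeL.RRed.WideTree

/-!
# NO-3L, box R: the family of natural blocks for one class (`V*` irreducible)

`Q = nrm_box B`, `EE = im Q '' EE S V*`, `N = NN EE Q.Mod`, `C = CC EE Q.Mod`.

* `Fam.card_eq` : all root groups have the same order, if `V` is irreducible;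
* `exists_big` : `Fld S` gives a member of `RRs`;
* `td_of` : `TD (im Q S) D (N D) (C D)` for every `D ∈ FF`;
* **`one_fam`** : one class and `Fld S`: `Fam (im Q S) EE N C`, `⨆ N D = ⊤`, one `q ≥ 4`;
* `perm_EE` : `N_G(S)` permutes the minimal exact groups of `S`;
* `srcAct`, `srcMov` : the fields of `Src`.
-/

set_option autoImplicit false
set_option linter.unusedSectionVars false

namespace Cfsg.Agent.Omega.NOThreeL.RRed.Blk.AsmOneBlk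

open Subgroup Cfsg Cfsg.Agent.ZN Cfsg.Agent.Omega.MinPar
open Cfsg.Agent.Omega.FFThm (NatKM NoOverM)
open Cfsg.Agent.Omega.FrameFF (cv)
open Cfsg.Agent.Omega.NO3S.ThmB (Nb)
open Cfsg.Agent.Omega.NO3S.KeyRad (blk)
open Cfsg.Agent.Omega.NOThreeL.RSplit (Nrm)
open Cfsg.Agent.Omega.NOThreeL.RRed.NS (fxd brk mem_fxd un conj_eq_cj)
open Cfsg.Agent.Omega.NOThreeL.RRed.Blk.TypesNat (XH ph ph_smul XH_faith ph_eq ph_surj no_XH)
open Cfsg.Agent.Omega.NOThreeL.RRed.Blk.TypesGam (NO)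
open Cfsg.Agent.Omega.NOThreeL.RRed.Blk.Asm
open Cfsg.Agent.Omega.NOThreeL.RRed.Blk.AsmG (Inp RRs)
open Cfsg.Agent.Omega.NOThreeL.RRed.Blk.AsmInp (nrm_box inp_box no_of_act spl_of_mvAct td_RRs act_iff)
open Cfsg.Agent.Omega.NOThreeL.RRed.Blk.AsmT (TD)
open Cfsg.Agent.Omega.NOThreeL.RRed.Blk.AsmCore (im EP KP im_cj mem_im ph_mem_im)
open Cfsg.Agent.Omega.NOThreeL.RRed.WideTree (Act MvAct CM Wide)
open Cfsg.Agent.Omega.NOThreeL.RRed.FourTree (Fld)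
open Cfsg.Agent.Omega.NOThreeL.RTree (RB)
open Cfsg.Agent.Omega.NOThreeL.Merge (MZ le_MZ isLoc_MZ)
open scoped Pointwise

universe u v

section abs

variable {X : Type u} {V : Type v} [Group X] [AddCommGroup V] [DistribMulAction X V]

/-- the members of order `q` -/
theorem Fam.sub {S : Subgroup X} {FF : Set (Subgroup X)} {N C : Subgroup X → AddSubgroup V} (h : Fam S FF N C) (q : ℕ) :
    Fam S {D | D ∈ FF ∧ Nat.card D = q} N C where
  le D hD := h.le D hD.1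
  nb D hD := h.nb D hD.1
  ind D hD D' hD' hne := h.ind D hD.1 D' hD'.1 hne
  perm g D hD := by
    obtain ⟨D', h1, h2, h3⟩ := h.perm g D hD.1
    exact ⟨D', ⟨h1, h2.trans hD.2⟩, h2.trans rfl, h3⟩
  sinv s hs D hD := ⟨h.sinv s hs D hD.1, (conj_ne_bot).trans hD.2⟩

/-- **All root groups have the same order.** -/
theorem Fam.card_eq {S : Subgroup X} (h2 : ∀ v : V, v + v = 0) {FF : Set (Subgroup X)} {N C : Subgroup X → AddSubgroup V}
    (h : Fam S FF N C)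
    (irr : ∀ U : AddSubgroup V, (∀ (g : X), ∀ m ∈ U, g • m ∈ U) → U ≠ ⊥ → U = ⊤) {D D' : Subgroup X} (hD : D ∈ FF)
    (hD' : D' ∈ FF) : Nat.card D' = Nat.card D := by
  by_contra hne
  have h1 := Asm.Fam.sup_eq (W := ⊤) h2 (Fam.sub h (Nat.card D)) ⟨D, hD, rfl⟩ (fun _ _ _ => AddSubgroup.mem_top _)
    (fun U _ hU hU0 => (irr U hU hU0).ge) fun _ _ => le_top
  have h3 : (⊤ : AddSubgroup V) ≤ C D' := by
    rw [← h1]
    refine iSup₂_le fun E hE => h.ind D' hD' E hE.1 ?_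
    rintro rfl
    exact hne hE.2
  apply (h.nb D' hD').ne_bot
  rw [eq_bot_iff]
  intro m hm
  exact AddSubgroup.mem_bot.2 ((h.nb D' hD').inf_bot hm (h3 (AddSubgroup.mem_top m)))

end abs

section box

variable {G : Type u} [Group G] [Finite G] {S : Sylow 2 G}

/-- the images of the minimal exact groups -/
abbrev EB {H : Subgroup G} (S : Sylow 2 G) (Q : Nrm H (zl (S : Subgroup G) (MZ (S : Subgroup G)))) :
    Set (Subgroup (XH Q)) :=
  im Q '' AsmCore.EE (S : Subgroup G) (zl (S : Subgroup G) (MZ (S : Subgroup G)))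

/-- the members of `EE` are not trivial -/
theorem ne_bot {Q : Nrm (MZ (S : Subgroup G)) (zl (S : Subgroup G) (MZ (S : Subgroup G)))}
    (hSL : (S : Subgroup G) ≤ MZ (S : Subgroup G)) {A : Subgroup (XH Q)} (hA : A ∈ EB S Q) : A ≠ ⊥ := by
  obtain ⟨A, hA, rfl⟩ := hA
  intro h
  refine hA.2.ne fun a ha => ?_
  have h1 : ph Q ⟨a, hSL (hA.1 ha)⟩ ∈ im Q A := ph_mem_im Q ha
  rw [h, Subgroup.mem_bot] at h1
  exact (TypesNat.mem_ker Q).1 (MonoidHom.mem_ker.2 h1)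

/-- **`Fld S` gives a member of `RRs`** -/
theorem exists_big (B : RB S) (mv : MvAct (S : Subgroup G)) (hF : Fld S)
    (Q : Nrm (MZ (S : Subgroup G)) (zl (S : Subgroup G) (MZ (S : Subgroup G)))) :
    (RRs S (MZ (S : Subgroup G)) Q).Nonempty := by
  obtain ⟨P, A, g, F, i1, i2, i3, k, h4, hk, ⟨M⟩⟩ := hF
  have hc := B.ctx.char2
  have hL := isLoc_MZ B.ctx B.full B.data.noff
  obtain ⟨A', -, -, hM, g'⟩ := g.exists_mx hc
  have hEP : A' ∈ EP (S : Subgroup G) P (zl (S : Subgroup G) (MZ (S : Subgroup G))) :=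
    ⟨⟨g'.AS, hM⟩, g'.offP.ne⟩
  have hsp := spl_of_mvAct B mv P g'.par g'.PL ⟨A', hEP⟩ F k M h4
  obtain ⟨h5, -⟩ := AsmAct.typ_of hc hL g'.par g'.PL g'.no M h4 hsp Q hEP
  exact ⟨im Q A', h5, P, g'.par, g'.PL, A', hEP, rfl⟩

/-- **(mv) for the members of `FF`** -/
theorem td_of (B : RB S) (mv : MvAct (S : Subgroup G))
    (no : NoOverM (zl (S : Subgroup G) (MZ (S : Subgroup G))) (MZ (S : Subgroup G)))
    (Q : Nrm (MZ (S : Subgroup G)) (zl (S : Subgroup G) (MZ (S : Subgroup G)))) {FF : Set (Subgroup (XH Q))}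
    {N C : Subgroup (XH Q) → AddSubgroup Q.Mod} (hn : ∀ D ∈ FF, GB (EB S Q) D (N D) (C D))
    (h4 : ∀ D ∈ FF, 4 ≤ Nat.card D) (hS : ∀ s ∈ im Q (S : Subgroup G), ∀ D ∈ FF, MulAut.conj s • D ∈ FF)
    (hsub : FF ⊆ EB S Q) {D : Subgroup (XH Q)} (hD : D ∈ FF) : TD (im Q (S : Subgroup G)) D (N D) (C D) := by
  have hI := inp_box B mv no Q
  have hc := B.ctx.char2
  have hL := isLoc_MZ B.ctx B.full B.data.noff
  obtain ⟨P, a, A, hA, rfl⟩ := AsmMv.exists_EP B mv Q hI.es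
    (fun P hP => hI.ac P hP.1 (le_MZ hP.1) ((act_iff hc hP.1).1 hP)) hn h4 hS hsub hD
  exact td_RRs hc hL no (spl_of_mvAct B mv) ⟨h4 _ hD, P, a.1, le_MZ a.1, A, hA, rfl⟩ (hn _ hD).nb

/-- `Q.Mod` is irreducible -/
theorem irr_top {Q : Nrm (MZ (S : Subgroup G)) (zl (S : Subgroup G) (MZ (S : Subgroup G)))}
    (irr : ∀ U : Subgroup G, U ≤ zl (S : Subgroup G) (MZ (S : Subgroup G)) → MZ (S : Subgroup G) ≤ normalizer (U : Set G) →
      U ≠ ⊥ → zl (S : Subgroup G) (MZ (S : Subgroup G)) ≤ U) (U : AddSubgroup Q.Mod)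
    (hU : ∀ (g : XH Q), ∀ m ∈ U, g • m ∈ U) (hU0 : U ≠ ⊥) : U = ⊤ := by
  have h1 := irr (un Q U) (AsmUn.un_le Q U) ((AsmUn.inv_iff Q U).1 hU) fun h => hU0 ((AsmUn.un_eq_bot Q).1 h)
  rw [eq_top_iff, ← AsmUn.un_le_iff (Q := Q), AsmUn.un_top]
  exact h1

/-- **One class.** -/
theorem one_fam (B : RB S) (mv : MvAct (S : Subgroup G))
    (irr : ∀ U : Subgroup G, U ≤ zl (S : Subgroup G) (MZ (S : Subgroup G)) → MZ (S : Subgroup G) ≤ normalizer (U : Set G) →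
      U ≠ ⊥ → zl (S : Subgroup G) (MZ (S : Subgroup G)) ≤ U) (hF : Fld S)
    (Q : Nrm (MZ (S : Subgroup G)) (zl (S : Subgroup G) (MZ (S : Subgroup G)))) :
    Inp S (MZ (S : Subgroup G)) Q ∧
    Fam (im Q (S : Subgroup G)) (EB S Q) (NN (EB S Q) Q.Mod) (CC (EB S Q) Q.Mod) ∧
    (∀ D ∈ EB S Q, GB (EB S Q) D (NN (EB S Q) Q.Mod D) (CC (EB S Q) Q.Mod D)) ∧
    (EB S Q).Nonempty ∧ (∃ q, 4 ≤ q ∧ ∀ D ∈ EB S Q, Nat.card D = q) ∧
    (⨆ D ∈ EB S Q, NN (EB S Q) Q.Mod D = ⊤) ∧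
    ∀ D ∈ EB S Q, TD (im Q (S : Subgroup G)) D (NN (EB S Q) Q.Mod D) (CC (EB S Q) Q.Mod D) := by
  have no : NoOverM (zl (S : Subgroup G) (MZ (S : Subgroup G))) (MZ (S : Subgroup G)) := by
    obtain ⟨P, A, g, -⟩ := hF
    exact g.no
  have hI := inp_box B mv no Q
  have hSL : (S : Subgroup G) ≤ MZ (S : Subgroup G) := (isLoc_MZ B.ctx B.full B.data.noff).le
  obtain ⟨D₀, hD₀⟩ := exists_big B mv hF Q
  obtain ⟨h1, h4, hGB, hFam⟩ := hI.main (RR := RRs S (MZ (S : Subgroup G)) Q) le_rfl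
  have hirr := irr_top (Q := Q) irr
  have hsup := Asm.Fam.sup_eq (W := ⊤) hI.two hFam ⟨D₀, le_FFs hD₀⟩ (fun _ _ _ => AddSubgroup.mem_top _)
    (fun U _ hU hU0 => (hirr U hU hU0).ge) fun _ _ => le_top
  have e := eq_EE hI.hf h1 hGB hsup fun A hA => ne_bot hSL hA
  have hD₀E : D₀ ∈ EB S Q := h1 (le_FFs hD₀)
  rw [e] at h4 hGB hFam hsup
  refine ⟨hI, hFam, hGB, ⟨D₀, hD₀E⟩, ⟨Nat.card D₀, h4 _ hD₀E, fun D hD => Fam.card_eq hI.two hFam hirr hD₀E hD⟩, hsup,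
    fun D hD => td_of B mv no Q hGB h4 hFam.sinv le_rfl hD⟩

/-- **`N_G(S)` permutes the minimal exact groups of `S`** -/
theorem perm_EE {U : Subgroup G} {g : G} (hg : g ∈ normalizer (S : Set G)) (hU : g ∈ normalizer (U : Set G))
    {A : Subgroup G} (hA : A ∈ AsmCore.EE (S : Subgroup G) U) : MulAut.conj g • A ∈ AsmCore.EE (S : Subgroup G) U := by
  rw [conj_eq_cj]
  refine ⟨fun x hx => ?_, CI.mx_conj hA.2 hU⟩
  rw [ChoiceBase.mem_cj] at hx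
  have h1 := (mem_normalizer_iff.1 hg _).1 (hA.1 hx)
  have e : g * (g⁻¹ * x * g) * g⁻¹ = x := by group
  rwa [e] at h1

/-- `N_G(S) ≤ N(V*)` -/
theorem normS_le_Wd {g : G} (hg : g ∈ normalizer ((S : Subgroup G) : Set G)) :
    g ∈ normalizer (zl (S : Subgroup G) (MZ (S : Subgroup G)) : Set G) :=
  CI.norm_zl hg (CI.norm_MZ hg)

/-- **The input of `nbs_of_fam`** : `N_G(S)` -/
theorem hn_of {Q : Nrm (MZ (S : Subgroup G)) (zl (S : Subgroup G) (MZ (S : Subgroup G)))} {g : G}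
    (hg : g ∈ normalizer ((S : Subgroup G) : Set G)) {D : Subgroup (XH Q)} (hD : D ∈ EB S Q) :
    ∃ A ≤ (S : Subgroup G), im Q A = D ∧ im Q (MulAut.conj g • A) ∈ EB S Q := by
  obtain ⟨A, hA, rfl⟩ := hD
  exact ⟨A, hA.1, rfl, _, perm_EE hg (normS_le_Wd hg) hA, rfl⟩

/-- **`Src`** -/
theorem src (B : RB S) (mv : MvAct (S : Subgroup G)) {Q : Nrm (MZ (S : Subgroup G)) (zl (S : Subgroup G) (MZ (S : Subgroup G)))}
    (hI : Inp S (MZ (S : Subgroup G)) Q)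
    (hF : Fam (im Q (S : Subgroup G)) (EB S Q) (NN (EB S Q) Q.Mod) (CC (EB S Q) Q.Mod))
    (hGB : ∀ D ∈ EB S Q, GB (EB S Q) D (NN (EB S Q) Q.Mod D) (CC (EB S Q) Q.Mod D))
    (h4 : ∀ D ∈ EB S Q, 4 ≤ Nat.card D) :
    WideTree.Src (S : Subgroup G) (fun b : EB S Q => un Q (NN (EB S Q) Q.Mod b)) (fun b => un Q (brk Q.Mod (b : Subgroup (XH Q))))
      (fun b => Nat.card (b : Subgroup (XH Q))) where
  act P a := by
    obtain ⟨F, i1, i2, i3, k, hk, M, h, h1, h3⟩ := AsmMv.src_of B mv Q (FF := EB S Q) (fun D hD => (hGB D hD).nb) h4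
      hF.sinv (fun A hA => ⟨A, hA, rfl⟩) a
    refine ⟨F, i1, i2, i3, k, hk, M, h, h1, fun j => ?_⟩
    obtain ⟨D, hD, h5⟩ := h3 j
    exact ⟨⟨D, hD⟩, h5⟩
  mov b := by
    obtain ⟨P, a, F, i1, i2, i3, k, hk, M, h, h1, h3, h5⟩ := AsmMv.mov_of B mv Q (FF := EB S Q) hI.es
      (fun P hP => hI.ac P hP.1 (le_MZ hP.1) ((act_iff B.ctx.char2 hP.1).1 hP)) hGB h4 hF.sinv le_rfl b.2
    refine ⟨P, a, F, i1, i2, i3, k, hk, M, h, h1, h5, fun j => ?_⟩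
    obtain ⟨D, hD, h6⟩ := h3 j
    exact ⟨⟨D, hD⟩, h6⟩

end box

end Cfsg.Agent.Omega.NOThreeL.RRed.Blk.AsmOneBlk
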