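import Cfsg.Agent.Omega.NOThreeL.RRed.Blk.TypesClo
import Cfsg.Agent.Lib.SL2Mat

/-!
# NO-3L, box R: `clo up lo = SL₂(F)` for a natural block `Bk e f C up lo` (for `RRed/Blk/AsmNBs.lean`)

* `SLA e f C x B` : `x` acts on `e(F) ⊕ f(F)` as the matrix `B ∈ SL₂(F)` and trivially on `C`;
* **`Bk.mem_clo_iff`** : `x ∈ clo up lo ↔ ∃ B, SLA e f C x B`;  `Bk.exists_sla` : every `B` occurs;
* `Bk.mem_rt_of` : a 2-element of `clo up lo` which normalises `e(F)` is in the root group;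
* `Bk.clo_of_conj` : `s` normalises `C` and maps SL-elements to SL-elements: `s` normalises `clo up lo`;
* `Bk.tr` : transport by an automorphism of `(X, V)`.
-/

set_option autoImplicit false
set_option linter.unusedSectionVars false

namespace Cfsg.Agent.Omega.NOThreeL.RRed.Blk.AsmSL

open Matrix
open Cfsg.Agent.Omega.NOThreeL.RRed.NS (fxd mem_fxd)
open Cfsg.Agent.Omega.NOThreeL.RRed.Blk.TypesGam
open Cfsg.Agent.Omega.NOThreeL.RRed.Blk.TypesEq
open Cfsg.Agent.Omega.NOThreeL.RRed.Blk.TypesClo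
open scoped Pointwise

universe u v w w'

variable {X : Type u} {V : Type v} [Group X] [AddCommGroup V] [DistribMulAction X V]
variable {F : Type w} [Field F] {e f : F →+ V} {C : AddSubgroup V} {up lo : F → X}

/-- `x` acts on `e(F) ⊕ f(F)` as the matrix `B` and trivially on `C` -/
structure SLA (e f : F →+ V) (C : AddSubgroup V) (x : X) (B : Matrix.SpecialLinearGroup (Fin 2) F) : Prop where
  act : ∀ w : Fin 2 → F, x • (e (w 0) + f (w 1)) = e (B.1.mulVec w 0) + f (B.1.mulVec w 1)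
  triv : ∀ c ∈ C, x • c = c

theorem SLA.one : SLA e f C (1 : X) 1 where
  act w := by rw [one_smul, Matrix.SpecialLinearGroup.coe_one, Matrix.one_mulVec]
  triv c _ := one_smul _ _

theorem SLA.mul {x y : X} {A B : Matrix.SpecialLinearGroup (Fin 2) F} (hx : SLA e f C x A) (hy : SLA e f C y B) :
    SLA e f C (x * y) (A * B) where
  act w := by
    rw [mul_smul, hy.act, hx.act, Matrix.SpecialLinearGroup.coe_mul, ← Matrix.mulVec_mulVec]
  triv c hc := by rw [mul_smul, hy.triv c hc, hx.triv c hc]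

theorem SLA.inv {x : X} {B : Matrix.SpecialLinearGroup (Fin 2) F} (hx : SLA e f C x B) : SLA e f C x⁻¹ B⁻¹ where
  act w := by
    rw [inv_smul_eq_iff, hx.act, Matrix.mulVec_mulVec, ← Matrix.SpecialLinearGroup.coe_mul, mul_inv_cancel,
      Matrix.SpecialLinearGroup.coe_one, Matrix.one_mulVec]
  triv c hc := by rw [inv_smul_eq_iff, hx.triv c hc]

theorem up_vec (t : F) (w : Fin 2 → F) : (Cfsg.Agent.Lib.SL2Mat.up t).1.mulVec w = ![w 0 + t * w 1, w 1] := by
  funext i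
  fin_cases i <;> simp [Cfsg.Agent.Lib.SL2Mat.up, Cfsg.Agent.Lib.SL2Mat.mk, Matrix.mulVec, dotProduct, Fin.sum_univ_two]

theorem lo_vec (t : F) (w : Fin 2 → F) : (Cfsg.Agent.Lib.SL2Mat.lo t).1.mulVec w = ![w 0, t * w 0 + w 1] := by
  funext i
  fin_cases i <;> simp [Cfsg.Agent.Lib.SL2Mat.lo, Cfsg.Agent.Lib.SL2Mat.mk, Matrix.mulVec, dotProduct, Fin.sum_univ_two]

section bk

variable (h : Bk e f C up lo)
include h

theorem sla_up (t : F) : SLA e f C (up t) (Cfsg.Agent.Lib.SL2Mat.up t) where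
  act w := by
    rw [up_vec, smul_add, h.up_e, h.up_f]
    simp only [Matrix.cons_val_zero, Matrix.cons_val_one, map_add]
    abel
  triv := h.up_c t

theorem sla_lo (t : F) : SLA e f C (lo t) (Cfsg.Agent.Lib.SL2Mat.lo t) where
  act w := by
    rw [lo_vec, smul_add, h.lo_e, h.lo_f]
    simp only [Matrix.cons_val_zero, Matrix.cons_val_one, map_add]
    abel
  triv := h.lo_c t

theorem exists_sla (B : Matrix.SpecialLinearGroup (Fin 2) F) : ∃ x ∈ clo up lo, SLA e f C x B := by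
  obtain ⟨a, b, c, d, rfl⟩ := Cfsg.Agent.Lib.SL2Mat.exists_up_lo B
  exact ⟨up a * lo b * up c * lo d, mul_mem (mul_mem (mul_mem (up_mem_clo _ _ a) (lo_mem_clo _ _ b)) (up_mem_clo _ _ c))
    (lo_mem_clo _ _ d), (((sla_up h a).mul (sla_lo h b)).mul (sla_up h c)).mul (sla_lo h d)⟩

theorem sla_of_clo {x : X} (hx : x ∈ clo up lo) : ∃ B, SLA e f C x B := by
  refine Subgroup.closure_induction (p := fun x _ => ∃ B, SLA e f C x B) ?_ ⟨1, SLA.one⟩ ?_ ?_ hx
  · rintro x (⟨t, rfl⟩ | ⟨t, rfl⟩)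
    · exact ⟨_, sla_up h t⟩
    · exact ⟨_, sla_lo h t⟩
  · rintro x y _ _ ⟨A, hA⟩ ⟨B, hB⟩
    exact ⟨A * B, hA.mul hB⟩
  · rintro x _ ⟨A, hA⟩
    exact ⟨A⁻¹, hA.inv⟩

variable (hf : ∀ x : X, (∀ v : V, x • v = v) → x = 1)
include hf

theorem sla_uniq {x y : X} {B : Matrix.SpecialLinearGroup (Fin 2) F} (hx : SLA e f C x B) (hy : SLA e f C y B) :
    x = y := by
  refine h.ext hf (fun z => ?_) (fun z => ?_) fun c hc => by rw [hx.triv c hc, hy.triv c hc]
  · have h1 := hx.act ![z, 0]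
    have h2 := hy.act ![z, 0]
    rw [← h2] at h1
    simpa using h1
  · have h1 := hx.act ![0, z]
    have h2 := hy.act ![0, z]
    rw [← h2] at h1
    simpa using h1

theorem mem_clo {x : X} {B : Matrix.SpecialLinearGroup (Fin 2) F} (hx : SLA e f C x B) : x ∈ clo up lo := by
  obtain ⟨y, hy, h1⟩ := exists_sla h B
  rw [sla_uniq h hf hx h1]
  exact hy

theorem mem_clo_iff {x : X} : x ∈ clo up lo ↔ ∃ B, SLA e f C x B :=
  ⟨fun hx => sla_of_clo h hx, fun ⟨_, hB⟩ => mem_clo h hf hB⟩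

theorem eq_up {x : X} {t : F} (hx : SLA e f C x (Cfsg.Agent.Lib.SL2Mat.up t)) : x = up t :=
  sla_uniq h hf hx (sla_up h t)

omit hf in
/-- coordinates are unique -/
theorem vec_uniq {a b a' b' : F} (h1 : e a + f b = e a' + f b') : a = a' ∧ b = b' := by
  have h2 : e a + f b + 0 = e a' + f b' + 0 := by rw [h1]
  have h3 := h.uniq C.zero_mem C.zero_mem h2
  exact ⟨h3.1, h3.2.1⟩

/-- a 2-element of `clo up lo` which normalises `e(F)` is a root element -/
theorem mem_rt_of (h2 : ∀ v : V, v + v = 0) {x : X} (hx : x ∈ clo up lo) (hx2 : ∃ n, x ^ 2 ^ n = 1)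
    (he : ∃ z, x • e 1 = e z) : x ∈ rt up := by
  obtain ⟨B, hB⟩ := sla_of_clo h hx
  obtain ⟨z, hz⟩ := he
  obtain ⟨n, hn⟩ := hx2
  have two := h.two h2
  -- the lower left entry
  have h10 : B.1 1 0 = 0 := by
    have h1 := hB.act ![1, 0]
    simp only [Matrix.cons_val_zero, Matrix.cons_val_one, map_zero, add_zero] at h1
    rw [hz] at h1
    have h3 : e z + f 0 = e (B.1.mulVec ![1, 0] 0) + f (B.1.mulVec ![1, 0] 1) := by rw [map_zero, add_zero]; exact h1
    have h4 := (vec_uniq h h3).2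
    simp [Matrix.mulVec, dotProduct, Fin.sum_univ_two] at h4
    exact h4.symm
  -- powers
  have hpow : ∀ k : ℕ, x ^ k • e 1 = e (B.1 0 0 ^ k) := by
    intro k
    induction k with
    | zero => rw [pow_zero, one_smul, pow_zero]
    | succ k ih =>
      rw [pow_succ', mul_smul, ih]
      have h1 := hB.act ![B.1 0 0 ^ k, 0]
      simp [Matrix.mulVec, dotProduct, Fin.sum_univ_two, h10] at h1
      rw [h1, pow_succ']
  have h00 : B.1 0 0 = 1 := by
    have h1 := hpow (2 ^ n)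
    rw [hn, one_smul] at h1
    have h3 := (vec_uniq h (a := 1) (b := 0) (a' := B.1 0 0 ^ 2 ^ n) (b' := 0) (by rw [h1])).1
    have hc : CharP F 2 := by
      refine CharTwo.of_one_ne_zero_of_two_eq_zero one_ne_zero ?_
      have := two 1
      rwa [one_add_one_eq_two] at this
    have := hc
    have : ExpChar F 2 := ExpChar.prime Nat.prime_two
    have h4 : (B.1 0 0 - 1) ^ 2 ^ n = 0 := by
      rw [sub_pow_expChar_pow, one_pow, ← h3, sub_self]
    exact sub_eq_zero.1 ((pow_eq_zero_iff (by positivity)).1 h4)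
  have h11 : B.1 1 1 = 1 := by
    have h1 := B.2
    rw [Matrix.det_fin_two, h10, h00, mul_zero, sub_zero, one_mul] at h1
    exact h1
  have hBe : B = Cfsg.Agent.Lib.SL2Mat.up (B.1 0 1) := by
    refine Cfsg.Agent.Lib.SL2Mat.ext_ent ?_ ?_ ?_ ?_
    · exact h00
    · rfl
    · exact h10
    · exact h11
  rw [hBe] at hB
  rw [eq_up h hf hB]
  exact up_mem _

/-- `s` normalises `C` and maps SL-elements to SL-elements: `s` normalises `clo up lo` -/
theorem clo_of_conj [Finite X] {s : X} (hC : ∀ c ∈ C, s⁻¹ • c ∈ C)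
    (hs : ∀ x ∈ clo up lo, ∃ B : Matrix.SpecialLinearGroup (Fin 2) F, ∀ w : Fin 2 → F,
      (s * x * s⁻¹) • (e (w 0) + f (w 1)) = e (B.1.mulVec w 0) + f (B.1.mulVec w 1)) :
    MulAut.conj s • clo up lo = clo up lo := by
  have h1 : MulAut.conj s • clo up lo ≤ clo up lo := by
    rintro _ ⟨x, hx, rfl⟩
    change s * x * s⁻¹ ∈ clo up lo
    obtain ⟨B, hB⟩ := hs x hx
    refine mem_clo h hf (B := B) ⟨hB, fun c hc => ?_⟩
    obtain ⟨A, hA⟩ := sla_of_clo h hx
    rw [mul_smul, mul_smul, hA.triv _ (hC c hc), smul_inv_smul]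
  exact Subgroup.eq_of_le_of_card_ge h1 (Nat.card_congr (Subgroup.equivSMul (MulAut.conj s) (clo up lo)).toEquiv).le

/-- the semilinear case -/
theorem clo_semi [Finite X] {s : X} (hC : ∀ c ∈ C, s⁻¹ • c ∈ C) (σ : F ≃+* F) (M : GL (Fin 2) F)
    (hM : ∀ w : Fin 2 → F, s • (e (w 0) + f (w 1)) =
      e (M.1.mulVec (fun i => σ (w i)) 0) + f (M.1.mulVec (fun i => σ (w i)) 1)) :
    MulAut.conj s • clo up lo = clo up lo := by
  refine clo_of_conj h hf hC fun x hx => ?_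
  obtain ⟨A, hA⟩ := sla_of_clo h hx
  refine ⟨Cfsg.Agent.Lib.SL2Mat.conjGL M (Cfsg.Agent.Lib.SL2Mat.fieldAut σ A), fun w => ?_⟩
  -- the preimage of `w`
  let w1 : Fin 2 → F := fun i => σ.symm ((M⁻¹).1.mulVec w i)
  have e1 : (fun i => σ (w1 i)) = (M⁻¹).1.mulVec w := by
    funext i
    exact σ.apply_symm_apply _
  have e2 : M.1.mulVec ((M⁻¹).1.mulVec w) = w := by
    rw [Matrix.mulVec_mulVec, ← Matrix.GeneralLinearGroup.coe_mul, mul_inv_cancel]
    exact Matrix.one_mulVec w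
  have e3 : s • (e (w1 0) + f (w1 1)) = e (w 0) + f (w 1) := by
    rw [hM, e1, e2]
  have e4 : s⁻¹ • (e (w 0) + f (w 1)) = e (w1 0) + f (w1 1) := by
    rw [inv_smul_eq_iff, e3]
  have e5 : (fun i => σ (A.1.mulVec w1 i)) = (Cfsg.Agent.Lib.SL2Mat.fieldAut σ A).1.mulVec ((M⁻¹).1.mulVec w) := by
    rw [← e1]
    funext i
    simp only [Matrix.mulVec, dotProduct, Fin.sum_univ_two, map_add, map_mul]
    rfl
  rw [mul_smul, mul_smul, e4, hA.act, hM, e5, Cfsg.Agent.Lib.SL2Mat.conjGL_val, ← Matrix.mulVec_mulVec,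
    ← Matrix.mulVec_mulVec]

end bk

/-! ### transport by an automorphism of `(X, V)` -/

section tr

variable (ψ : X ≃* X) (γ : V ≃+ V) (hψ : ∀ (x : X) (v : V), ψ x • γ v = γ (x • v))

include hψ in
theorem bk_tr (h : Bk e f C up lo) :
    Bk (γ.toAddMonoidHom.comp e) (γ.toAddMonoidHom.comp f) (C.map γ.toAddMonoidHom) (fun t => ψ (up t))
      (fun t => ψ (lo t)) where
  dec v := by
    obtain ⟨x, y, c, hc, e1⟩ := h.dec (γ.symm v)
    refine ⟨x, y, γ c, ⟨c, hc, rfl⟩, ?_⟩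
    change v = γ (e x) + γ (f y) + γ c
    rw [← map_add, ← map_add, ← e1, γ.apply_symm_apply]
  ind := by
    rintro x y ⟨c, hc, e1⟩
    have e2 : γ c = γ (e x + f y) := by
      rw [map_add]; exact e1
    exact h.ind x y (γ.injective e2 ▸ hc)
  up_e t x := by
    change ψ (up t) • γ (e x) = γ (e x)
    rw [hψ, h.up_e]
  up_f t x := by
    change ψ (up t) • γ (f x) = γ (f x) + γ (e (t * x))
    rw [hψ, h.up_f, map_add]
  up_c := by
    rintro t _ ⟨c, hc, rfl⟩
    change ψ (up t) • γ c = γ c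
    rw [hψ, h.up_c t c hc]
  lo_e t x := by
    change ψ (lo t) • γ (e x) = γ (e x) + γ (f (t * x))
    rw [hψ, h.lo_e, map_add]
  lo_f t x := by
    change ψ (lo t) • γ (f x) = γ (f x)
    rw [hψ, h.lo_f]
  lo_c := by
    rintro t _ ⟨c, hc, rfl⟩
    change ψ (lo t) • γ c = γ c
    rw [hψ, h.lo_c t c hc]

end tr

end Cfsg.Agent.Omega.NOThreeL.RRed.Blk.AsmSL
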