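import Cfsg.Agent.Omega.NOThreeL.RRed.Blk.AsmOf
import Cfsg.Agent.Omega.NOThreeL.RRed.Blk.Asm
import Cfsg.Agent.Omega.NOThreeL.RRed.ClassInst
import Cfsg.Agent.Omega.NOThreeL.RRed.NS.Wide

/-!
# NO-3L, box R: the blocks of the active parabolics (field `src`)

`L` local, generated by `P*(S)`, `U = zl S L`, `Q : Nrm L U`.

* `card_im_le` : `One M U A j` ⟹ `|im Q A| ≤ |F|`; `card_im_leS` : `OneS` ⟹ `|im Q A| ≤ 2`;
* `ActBig S Q P` : some minimal exact `A ≤ S` with `|im Q A| ≥ 4` is not in `O₂(P)`; `actBig_of` (`AllBig`);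
* **`src_of`** : then `P` is natural over a field with at least four elements; if its blocks split, every
  block `blk M j` is the block of a minimal exact `A ≤ S`, `[U, A] = YY h j`, `|im Q A| = |F|`;
* **`src_act`** : box R, `L = M₀`, from `MvAct`;
* `src_fam` : the same for a system of blocks `N D` (`D = im Q A`).
-/

set_option autoImplicit false
set_option linter.unusedSectionVars false

namespace Cfsg.Agent.Omega.NOThreeL.RRed.Blk.AsmSrc

open Subgroup Cfsg Cfsg.Agent.ZN Cfsg.Agent.Omega.MinPar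
open Cfsg.Agent.Omega.FFThm Cfsg.Agent.Lib.SL2Mat
open Cfsg.Agent.Omega.FrameFF (cv)
open Cfsg.Agent.Omega.NO3S.ThmB Cfsg.Agent.Omega.NO3S.KeyRad
open Cfsg.Agent.Omega.NOThreeL.RSplit (Nrm)
open Cfsg.Agent.Omega.NOThreeL.RRed.NS hiding rt
open Cfsg.Agent.Omega.NOThreeL.RRed.Blk.TypesGam (Bk rt NO)
open Cfsg.Agent.Omega.NOThreeL.RRed.Blk.TypesNat
open Cfsg.Agent.Omega.NOThreeL.RRed.WideTree (Act MvAct)
open Cfsg.Agent.Omega.NOThreeL.RTree (RB)
open Cfsg.Agent.Omega.NOThreeL.Merge (MZ le_MZ isLoc_MZ)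
open scoped Pointwise

universe u

section card

variable {G : Type u} [Group G] [Finite G] {H U : Subgroup G}

/-- `|im Q A| ≤ |F|` -/
theorem card_im_le {F : Type} [Field F] [Finite F] [CharP F 2] {S P V D : Subgroup G} {k : ℕ} {M : NatKM F S P V D k}
    (h : Nb M) (Q : Nrm H U) {A : Subgroup G} {j : Fin k} (O : NO3S.ThmB.One M U A j) (hAP : A ≤ P) (hAH : A ≤ H) :
    Nat.card (im Q A) ≤ Nat.card F := by
  choose a ha haA using O.all
  have hs : Function.Surjective (fun β : F => (⟨ph Q ⟨a β, hAH (ha β)⟩, mem_im.2 ⟨_, ha β, rfl⟩⟩ : im Q A)) := by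
    rintro ⟨x, hx⟩
    obtain ⟨b, hb, rfl⟩ := mem_im.1 hx
    obtain ⟨β, hβ⟩ := O.act _ hb
    refine ⟨β, Subtype.ext ?_⟩
    refine (ph_eq Q).2 fun m => Nrm.ext ?_
    rw [Nrm.val_smul, Nrm.val_smul]
    obtain ⟨v, hv, -, c, -, hc, hvc⟩ := O.full _ (Q.val_mem m)
    have h1 := h.same (hAP (ha β)) (hAP hb) (haA β) hβ hv
    have h2 : ∀ x ∈ A, x * c * x⁻¹ = c := fun x hx => by rw [hc x hx]; group
    have h3 : ∀ x ∈ A, x * Q.val m * x⁻¹ = (x * v * x⁻¹) * c := fun x hx => by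
      rw [hvc]
      calc x * (v * c) * x⁻¹ = (x * v * x⁻¹) * (x * c * x⁻¹) := by group
        _ = _ := by rw [h2 x hx]
    change a β * Q.val m * (a β)⁻¹ = (b : G) * Q.val m * (b : G)⁻¹
    rw [h3 _ (ha β), h3 _ hb, h1]
  exact Nat.card_le_card_of_surjective _ hs

/-- `|im Q A| ≤ 2` -/
theorem card_im_leS {S P V D : Subgroup G} {k m : ℕ} {M : SymKM S P V D k m} (Q : Nrm H U) {A : Subgroup G}
    {i : Fin k} {x y : Fin (2 ^ m + 1)} {t n0 : G} (O : OneS M U A i x y t n0) (hAH : A ≤ H) :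
    Nat.card (im Q A) ≤ 2 := by
  have hs : ∀ z : im Q A, z = 1 ∨ (z : XH Q) = ph Q ⟨t, hAH O.tA⟩ := by
    rintro ⟨z, hz⟩
    obtain ⟨b, hb, rfl⟩ := mem_im.1 hz
    rcases O.act _ hb with h1 | h1
    · left
      exact Subtype.ext (MonoidHom.mem_ker.1 ((mem_ker Q).2 h1))
    · right
      have h2 : (⟨t, hAH O.tA⟩ : H)⁻¹ * b ∈ (ph Q).ker := (mem_ker Q).2 h1
      have h3 := MonoidHom.mem_ker.1 h2
      rw [map_mul, map_inv, inv_mul_eq_one] at h3
      exact h3.symm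
  have h1 : (Set.univ : Set (im Q A)) ⊆ {1, ⟨ph Q ⟨t, hAH O.tA⟩, mem_im.2 ⟨_, O.tA, rfl⟩⟩} := by
    intro z _
    rcases hs z with h2 | h2
    · exact Or.inl h2
    · exact Or.inr (Subtype.ext h2)
  have h2 := Set.ncard_le_ncard h1 (Set.toFinite _)
  rw [Set.ncard_univ] at h2
  refine h2.trans ((Set.ncard_insert_le _ _).trans ?_)
  rw [Set.ncard_singleton]

end card

variable {G : Type u} [Group G] [Finite G] {S : Sylow 2 G} {L P : Subgroup G}

/-- every minimal exact group induces a group of order at least 4 -/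
def AllBig (S : Sylow 2 G) {L : Subgroup G} (Q : Nrm L (zl (S : Subgroup G) L)) : Prop :=
  ∀ A ≤ (S : Subgroup G), Mx (zl (S : Subgroup G) L) A → 4 ≤ Nat.card (im Q A)

/-- `P` is moved by a minimal exact group which induces a group of order at least 4 -/
def ActBig (S : Sylow 2 G) {L : Subgroup G} (Q : Nrm L (zl (S : Subgroup G) L)) (P : Subgroup G) : Prop :=
  ∃ A ≤ (S : Subgroup G), Mx (zl (S : Subgroup G) L) A ∧ ¬ A ≤ o2 P ∧ 4 ≤ Nat.card (im Q A)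

theorem actBig_of {Q : Nrm (MZ (S : Subgroup G)) (Wd (S : Subgroup G))} (h : AllBig S Q) (a : Act (S : Subgroup G) P) :
    ActBig S Q P := by
  obtain ⟨-, A, h1, h2, h3⟩ := a
  exact ⟨A, h1, h2, h3, h A h1 h2⟩

/-- **The blocks of an active `P`.** -/
theorem src_of (hc : IsCharacteristicTwoType G) (hL : IsLoc (S : Subgroup G) L)
    (hgen : L ≤ sSup {P | IsParS (S : Subgroup G) P ∧ P ≤ L}) (Q : Nrm L (zl (S : Subgroup G) L))
    (hP : IsParS (S : Subgroup G) P) (hPL : P ≤ L) (act : ActBig S Q P)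
    (spl : ∀ (F : Type) [Field F] [Finite F] [CharP F 2] (k : ℕ)
      (M : NatKM F (S : Subgroup G) P (zl (S : Subgroup G) P) (cv (S : Subgroup G) P) k), 2 < Nat.card F →
      (⨆ j, blk M j) ⊓ cv (S : Subgroup G) P = ⊥) :
    ∃ (F : Type) (_ : Field F) (_ : Finite F) (_ : CharP F 2) (k : ℕ) (_ : 0 < k)
      (M : NatKM F (S : Subgroup G) P (zl (S : Subgroup G) P) (cv (S : Subgroup G) P) k) (h : Nb M),
      (∀ j, DD M j = ⊥) ∧ 2 < Nat.card F ∧
        ∀ j, ∃ A ≤ (S : Subgroup G), Mx (zl (S : Subgroup G) L) A ∧ NO3S.ThmB.One M (zl (S : Subgroup G) L) A j ∧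
          closure (covs (zl (S : Subgroup G) L) A) = YY h j ∧ Nat.card (im Q A) = Nat.card F ∧
          ∃ C : AddSubgroup Q.Mod, Asm.NB (im Q A) (Q.ad (blk M j)) C := by
  obtain ⟨A, hAS, hM, hn, hbig⟩ := act
  have hAL : A ≤ L := hAS.trans hL.le
  obtain ⟨P₁, A₁, g⟩ := exists_gOne hc hL hgen ⟨A, hAL, hM.off⟩
  have t := tt_of_mx hM g.no hAL
  have hU2 := elem_loc hc hL
  have hPU : P ≤ normalizer (zl (S : Subgroup G) L : Set G) := hPL.trans (ZN.le_normalizer_zl _ _)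
  have hVU : zl (S : Subgroup G) P ≤ zl (S : Subgroup G) L := Star.zl_mono _ hPL
  have hne : ¬ A ≤ centralizer (zl (S : Subgroup G) P : Set G) := fun h1 => hn (by
    rw [← hP.inf_centralizer S hc]
    exact le_inf hAS h1)
  have hAP := hAS.trans hP.le
  obtain ⟨-, hcon⟩ := FFBr.ffthmM G (S : Subgroup G) P (syl_of_sylow S hP.le) hP.toIsMinPar (hP.isLoc.char2 S hc)
    ⟨A, hAP, t.offM hU2 hVU hne⟩
  rcases hcon with ⟨F, i1, i2, i3, k, hk, ⟨M⟩⟩ | ⟨k, m, -, hm, ⟨N⟩⟩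
  · have h := NO3S.ThmB.Inst.nb hc hP M
    obtain ⟨i, O⟩ := t.one h hU2 hVU hAS hne
    have hF : 2 < Nat.card F := by
      have h1 := card_im_le h Q O hAP hAL
      omega
    have hD : ∀ j, DD M j = ⊥ := fun j => by
      rw [eq_bot_iff, ← spl F k M hF]
      exact inf_le_inf_right _ (le_iSup (fun j => blk M j) j)
    refine ⟨F, i1, i2, i3, k, hk, M, h, hD, hF, fun j => ?_⟩
    obtain ⟨s, hs, h1, h2, O'⟩ := exists_cj h hU2 hVU hPU hAS t O j
    have hMs : Mx (zl (S : Subgroup G) L) (ChoiceBase.cj s A) := CI.mx_conj hM (hPU (hP.le hs))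
    obtain ⟨l, g, C⟩ := exists_cd h hF j
    obtain ⟨p, -, -, h3, -⟩ := nb_of h hF Q hU2 hPL hVU O' (h1.trans hP.le) (hD j)
    exact ⟨_, h1, hMs, O', YY_eq h C O' (h1.trans hP.le) hVU hF,
      card_im h hF Q hU2 hPL hVU O' (h1.trans hP.le) (hD j), _, h3⟩
  · exfalso
    obtain ⟨i, x, y, s, n0, O⟩ := Tt.oneS (NO3S.ThmB.Inst.sb hc hP hm N) t hU2 hVU hAS hne
    have h1 := card_im_leS Q O hAL
    omega

/-- **Box R.** -/
theorem src_act (B : RB S) (mv : MvAct (S : Subgroup G)) (Q : Nrm (MZ (S : Subgroup G)) (Wd (S : Subgroup G)))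
    (hP : IsParS (S : Subgroup G) P) (a : ActBig S Q P) :
    ∃ (F : Type) (_ : Field F) (_ : Finite F) (_ : CharP F 2) (k : ℕ) (_ : 0 < k)
      (M : NatKM F (S : Subgroup G) P (zl (S : Subgroup G) P) (cv (S : Subgroup G) P) k) (h : Nb M),
      (∀ j, DD M j = ⊥) ∧ 2 < Nat.card F ∧
        ∀ j, ∃ A ≤ (S : Subgroup G), Mx (Wd (S : Subgroup G)) A ∧ NO3S.ThmB.One M (Wd (S : Subgroup G)) A j ∧
          closure (covs (Wd (S : Subgroup G)) A) = YY h j ∧ Nat.card (im Q A) = Nat.card F ∧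
          ∃ C : AddSubgroup Q.Mod, Asm.NB (im Q A) (Q.ad (blk M j)) C :=
  src_of B.ctx.char2 (isLoc_MZ B.ctx B.full B.data.noff) (gen_MZ' S) Q hP (le_MZ hP) a
    fun _ _ _ _ _ M hF => act_inf_eq_bot B mv (P := P) ⟨hP, by
      obtain ⟨A, h1, h2, h3, -⟩ := a
      exact ⟨A, h1, h2, h3⟩⟩ M hF

/-- back and forth -/
theorem un_ad {H U B : Subgroup G} (Q : Nrm H U) (hB : B ≤ U) : un Q (Q.ad B) = B := by
  ext x
  constructor
  · rintro ⟨m, hm, rfl⟩
    exact hm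
  · exact fun hx => ⟨Q.of x (hB hx), hx, rfl⟩

theorem ad_un {H U : Subgroup G} (Q : Nrm H U) (B : AddSubgroup Q.Mod) : Q.ad (un Q B) = B := by
  ext m
  exact val_mem_un Q

/-- **Box R**, for a system of blocks `N (im Q A)`. -/
theorem src_fam (B : RB S) (mv : MvAct (S : Subgroup G)) (Q : Nrm (MZ (S : Subgroup G)) (Wd (S : Subgroup G)))
    {N C : Subgroup (XH Q) → AddSubgroup Q.Mod}
    (hN : ∀ A ≤ (S : Subgroup G), Mx (Wd (S : Subgroup G)) A → 4 ≤ Nat.card (im Q A) →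
      Asm.NB (im Q A) (N (im Q A)) (C (im Q A)))
    (hP : IsParS (S : Subgroup G) P) (a : ActBig S Q P) :
    ∃ (F : Type) (_ : Field F) (_ : Finite F) (_ : CharP F 2) (k : ℕ) (_ : 0 < k)
      (M : NatKM F (S : Subgroup G) P (zl (S : Subgroup G) P) (cv (S : Subgroup G) P) k) (h : Nb M),
      (∀ j, DD M j = ⊥) ∧ ∀ j, ∃ A ≤ (S : Subgroup G), Mx (Wd (S : Subgroup G)) A ∧ 4 ≤ Nat.card (im Q A) ∧
        un Q (N (im Q A)) = blk M j ∧ un Q (brk Q.Mod (im Q A)) = YY h j ∧ Nat.card (im Q A) = Nat.card F := by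
  have hc := B.ctx.char2
  have hL := isLoc_MZ B.ctx B.full B.data.noff
  obtain ⟨F, i1, i2, i3, k, hk, M, h, hD, hF, hj⟩ := src_act B mv Q hP a
  have hVU : zl (S : Subgroup G) P ≤ Wd (S : Subgroup G) := Star.zl_mono _ (le_MZ hP)
  refine ⟨F, i1, i2, i3, k, hk, M, h, hD, fun j => ?_⟩
  obtain ⟨A, hAS, hM, O, h1, h2, C', h3⟩ := hj j
  have hAL : A ≤ MZ (S : Subgroup G) := hAS.trans hL.le
  obtain ⟨P₁, A₁, g⟩ := exists_gOne hc hL (gen_MZ' S) ⟨A, hAL, hM.off⟩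
  have h5 : 4 ≤ Nat.card (im Q A) := by
    obtain ⟨p, -, -, -, h6⟩ := nb_of h hF Q (elem_Wd B) (le_MZ hP) hVU O (hAS.trans hP.le) (hD j)
    exact h6
  obtain ⟨h4, -⟩ := (hN A hAS hM h5).uniq (two_of Q (elem_Wd B)) (fun x hx => XH_faith Q x hx) (no_XH Q g.no) h3 h5
  refine ⟨A, hAS, hM, h5, ?_, ?_, h2⟩
  · rw [h4, un_ad Q ((blk_le h j).trans hVU)]
  · rw [brk_im Q hAL, h1, un_ad Q ((YY_le_V h j).trans hVU)]

end Cfsg.Agent.Omega.NOThreeL.RRed.Blk.AsmSrc
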