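import Cfsg.Agent.Omega.NOThreeL.RRed.Blk.AsmDef
import Cfsg.Agent.Omega.NOThreeL.RRed.Blk.AsmSL

/-!
# NO-3L, box R: the groups `T = clo up lo` of a family of natural blocks, definitions (for `NBs.sD`)

* `NBT D T N C` : `D` is the root group of the natural block `N`, `V = N ⊕ C`, `T = clo up lo ≅ SL₂(F)`;
* `TD S A N C` : there is such a `T` which is normalised by `N_S(A)`;
* `Tor S FF N C` : every `D ∈ FF` of order 4 is conjugate to some `A ∈ FF` with `TD`.
-/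

set_option autoImplicit false
set_option linter.unusedSectionVars false

namespace Cfsg.Agent.Omega.NOThreeL.RRed.Blk.AsmT

open Cfsg.Agent.Omega.NOThreeL.RRed.Blk.TypesGam
open Cfsg.Agent.Omega.NOThreeL.RRed.Blk.TypesClo
open Cfsg.Agent.Omega.NOThreeL.RRed.Blk.Asm
open scoped Pointwise

universe u v

variable {X : Type u} {V : Type v} [Group X] [AddCommGroup V] [DistribMulAction X V]

/-- `D` is the root group of the natural block `N`, `V = N ⊕ C`, `T = clo up lo`. -/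
structure NBT (D T : Subgroup X) (N C : AddSubgroup V) : Prop where
  ex : ∃ (F : Type) (_ : Field F) (_ : Finite F) (e f : F →+ V) (up lo : F → X),
    Bk e f C up lo ∧ rt up = D ∧ clo up lo = T ∧ e.range ⊔ f.range = N

/-- some `T` is normalised by `N_S(A)` -/
def TD (S A : Subgroup X) (N C : AddSubgroup V) : Prop :=
  ∃ T : Subgroup X, NBT A T N C ∧ ∀ s ∈ S, MulAut.conj s • A = A → MulAut.conj s • T = T

/-- input for `NBs.sD` (needed for `|F| = 4` only) -/
def Tor (S : Subgroup X) (FF : Set (Subgroup X)) (N C : Subgroup X → AddSubgroup V) : Prop :=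
  ∀ D ∈ FF, Nat.card D = 4 → ∃ A ∈ FF, ∃ m : X, MulAut.conj m • A = D ∧ TD S A (N A) (C A)

theorem NBT.nb {D T : Subgroup X} {N C : AddSubgroup V} (h : NBT D T N C) : NB D N C := by
  obtain ⟨F, i1, i2, e, f, up, lo, h1, h2, -, h4⟩ := h.ex
  exact ⟨F, i1, i2, e, f, up, lo, h1, h2, h4⟩

theorem NB.exists_nbt {D : Subgroup X} {N C : AddSubgroup V} (h : NB D N C) : ∃ T, NBT D T N C := by
  obtain ⟨F, i1, i2, e, f, up, lo, h1, h2, h4⟩ := h.ex
  exact ⟨_, F, i1, i2, e, f, up, lo, h1, h2, rfl, h4⟩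

theorem NBT.le {D T : Subgroup X} {N C : AddSubgroup V} (h : NBT D T N C) : D ≤ T := by
  obtain ⟨F, i1, i2, e, f, up, lo, h1, h2, h3, h4⟩ := h.ex
  rw [← h2, ← h3]
  exact (Subgroup.closure_le _).2 fun x ⟨t, ht⟩ => ht ▸ up_mem_clo up lo t

/-- `T` centralises `C` -/
theorem NBT.cent {D T : Subgroup X} {N C : AddSubgroup V} (h : NBT D T N C) {x : X} (hx : x ∈ T) {c : V} (hc : c ∈ C) :
    x • c = c := by
  obtain ⟨F, i1, i2, e, f, up, lo, h1, h2, h3, h4⟩ := h.ex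
  obtain ⟨B, hB⟩ := AsmSL.sla_of_clo h1 (h3.symm ▸ hx)
  exact hB.triv c hc

theorem clo_cj {F : Type} (up lo : F → X) (g : X) :
    clo (fun t => g * up t * g⁻¹) (fun t => g * lo t * g⁻¹) = MulAut.conj g • clo up lo := by
  rw [clo, clo, Subgroup.smul_closure, Set.smul_set_union]
  congr 2
  · ext x
    constructor
    · rintro ⟨t, rfl⟩
      exact ⟨up t, ⟨t, rfl⟩, rfl⟩
    · rintro ⟨_, ⟨t, rfl⟩, rfl⟩
      exact ⟨t, rfl⟩
  · ext x
    constructor
    · rintro ⟨t, rfl⟩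
      exact ⟨lo t, ⟨t, rfl⟩, rfl⟩
    · rintro ⟨_, ⟨t, rfl⟩, rfl⟩
      exact ⟨t, rfl⟩

theorem NBT.conj {D T : Subgroup X} {N C : AddSubgroup V} (h : NBT D T N C) (g : X) :
    NBT (MulAut.conj g • D) (MulAut.conj g • T) (N.map (DistribSMul.toAddMonoidHom V g))
      (C.map (DistribSMul.toAddMonoidHom V g)) := by
  obtain ⟨F, i1, i2, e, f, up, lo, h1, h2, h3, h4⟩ := h.ex
  refine ⟨F, i1, i2, _, _, _, _, h1.conj g, ?_, ?_, ?_⟩
  · rw [TypesEq.rt_conj, h2]
  · rw [clo_cj, h3]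
  · rw [← h4, AddSubgroup.map_sup, AddMonoidHom.range_comp, AddMonoidHom.range_comp]

end Cfsg.Agent.Omega.NOThreeL.RRed.Blk.AsmT
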