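import Cfsg.Agent.Omega.NOThreeL.RRed.Blk.AsmFour
import Cfsg.Agent.Omega.NOThreeL.RRed.Blk.AsmLn

/-!
# NO-3L, box R: `S` permutes the groups `T = clo up lo` of a family of natural blocks (`NBs.sD`)

* **`NBT.uniq`** : if a subgroup `R` of odd index of `C_X(C)` normalises `T` and `T'`, then `T = T'`;
* `Fam.C_iff`, `Fam.cj_N`, `Fam.cj_C` : the complements;
* **`Fam.exists_T`** : `Fam`, `⨆ N D = ⊤`, `Tor`: there are `T D` with `NBT D (T D) (N D) (C D)` and `(T D)^s = T (D^s)`, `s ∈ S`.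
-/

set_option autoImplicit false
set_option linter.unusedSectionVars false

namespace Cfsg.Agent.Omega.NOThreeL.RRed.Blk.AsmT

open Matrix
open Cfsg.Agent.Omega.NOThreeL.RRed.NS (fxd mem_fxd)
open Cfsg.Agent.Omega.NOThreeL.RRed.Blk.TypesGam
open Cfsg.Agent.Omega.NOThreeL.RRed.Blk.TypesEq
open Cfsg.Agent.Omega.NOThreeL.RRed.Blk.TypesClo
open Cfsg.Agent.Omega.NOThreeL.RRed.Blk.Asm
open Cfsg.Agent.Omega.NOThreeL.RRed.Blk.AsmSL
open scoped Pointwise

universe u v w w'

/-! ### index lemmas -/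

section index

variable {X : Type u} [Group X] [Finite X]

theorem relIndex_normal (S K : Subgroup X) [K.Normal] : S.relIndex K ∣ S.index := by
  refine dvd_trans (dvd_of_eq ?_) (Subgroup.relIndex_dvd_index_of_le (le_sup_left : S ≤ S ⊔ K))
  have c : ∀ A B : Subgroup X, A ≤ B → Nat.card A * A.relIndex B = Nat.card B := fun A B h => by
    have h1 := Subgroup.relIndex_mul_relIndex (⊥ : Subgroup X) A B bot_le h
    rwa [Subgroup.relIndex_bot_left, Subgroup.relIndex_bot_left] at h1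
  have h1 := c (S ⊓ K) S inf_le_left
  have h2 := c (S ⊓ K) K inf_le_right
  have h3 := c K (S ⊔ K) le_sup_right
  have h4 := c S (S ⊔ K) le_sup_left
  rw [Subgroup.relIndex_sup_right] at h3
  rw [Subgroup.inf_relIndex_right] at h2
  rw [inf_comm, Subgroup.inf_relIndex_right] at h1
  rw [inf_comm] at h2
  have p : 0 < Nat.card ↥(K ⊓ S) := Nat.card_pos
  have p2 : 0 < K.relIndex S := Nat.pos_of_ne_zero (Subgroup.index_ne_zero_of_finite (H := K.subgroupOf S))
  have h5 : Nat.card ↥(K ⊓ S) * K.relIndex S * S.relIndex K = Nat.card ↥(K ⊓ S) * K.relIndex S * S.relIndex (S ⊔ K) := by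
    calc _ = Nat.card ↥(K ⊓ S) * S.relIndex K * K.relIndex S := by ring
      _ = Nat.card K * K.relIndex S := by rw [h2]
      _ = Nat.card S * S.relIndex (S ⊔ K) := by rw [h3, h4]
      _ = _ := by rw [h1]
  exact Nat.eq_of_mul_eq_mul_left (Nat.mul_pos p p2) h5

theorem relIndex_sub (S : Subgroup X) {K E : Subgroup X} (hEK : E ≤ K) (hn : ∀ k ∈ K, ∀ x ∈ E, k * x * k⁻¹ ∈ E) :
    S.relIndex E ∣ S.relIndex K := by
  have : (E.subgroupOf K).Normal := ⟨fun x hx k => hn k k.2 x hx⟩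
  have h1 := relIndex_normal (S.subgroupOf K) (E.subgroupOf K)
  rwa [Subgroup.relIndex_subgroupOf hEK] at h1

/-- two Sylow subgroups of `W` are conjugate in `W` -/
theorem exists_cj {W P Q : Subgroup X} (hP : P ≤ W) (hQ : Q ≤ W) (hP2 : IsPGroup 2 P) (hQ2 : IsPGroup 2 Q)
    (iP : ¬ 2 ∣ P.relIndex W) (iQ : ¬ 2 ∣ Q.relIndex W) : ∃ y ∈ W, MulAut.conj y • P = Q := by
  have : Fact (Nat.Prime 2) := ⟨Nat.prime_two⟩
  have a1 : IsPGroup 2 ↥(P.subgroupOf W) := hP2.of_equiv (Subgroup.subgroupOfEquivOfLe hP).symm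
  have a2 : IsPGroup 2 ↥(Q.subgroupOf W) := hQ2.of_equiv (Subgroup.subgroupOfEquivOfLe hQ).symm
  obtain ⟨y, hy⟩ := MulAction.exists_smul_eq W (a1.toSylow iP) (a2.toSylow iQ)
  refine ⟨y, y.2, ?_⟩
  have h1 : ((y • a1.toSylow iP : Sylow 2 W) : Subgroup W) = Q.subgroupOf W := by rw [hy]; rfl
  have h2 : MulAut.conj y • (P.subgroupOf W) = Q.subgroupOf W := h1
  ext x
  rw [Subgroup.mem_pointwise_smul_iff_inv_smul_mem, ← map_inv, MulAut.smul_def, MulAut.conj_apply, inv_inv]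
  constructor
  · intro hx
    have hxW : x ∈ W := by
      have e : x = y * ((y : X)⁻¹ * x * y) * (y : X)⁻¹ := by group
      rw [e]
      exact mul_mem (mul_mem y.2 (hP hx)) (inv_mem y.2)
    have h3 : (⟨x, hxW⟩ : W) ∈ MulAut.conj y • (P.subgroupOf W) := by
      rw [Subgroup.mem_pointwise_smul_iff_inv_smul_mem, ← map_inv, MulAut.smul_def, MulAut.conj_apply, inv_inv]
      exact hx
    rw [h2] at h3
    exact h3
  · intro hx
    have h3 : (⟨x, hQ hx⟩ : W) ∈ MulAut.conj y • (P.subgroupOf W) := by rw [h2]; exact hx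
    rw [Subgroup.mem_pointwise_smul_iff_inv_smul_mem, ← map_inv, MulAut.smul_def, MulAut.conj_apply, inv_inv] at h3
    exact h3

theorem relIndex_cj (g : X) (A B : Subgroup X) : (MulAut.conj g • A).relIndex (MulAut.conj g • B) = A.relIndex B :=
  Subgroup.relIndex_pointwise_smul _ _ _

end index

variable {X : Type u} {V : Type v} [Group X] [AddCommGroup V] [DistribMulAction X V]

/-- the pointwise stabiliser of `C` -/
def fx (X : Type u) {V : Type v} [Group X] [AddCommGroup V] [DistribMulAction X V] (C : AddSubgroup V) : Subgroup X where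
  carrier := {x | ∀ c ∈ C, x • c = c}
  one_mem' := fun c _ => one_smul _ _
  mul_mem' := fun {a b} ha hb c hc => by rw [mul_smul, hb c hc, ha c hc]
  inv_mem' := fun {a} ha c hc => by rw [inv_smul_eq_iff, ha c hc]

theorem mem_fx {C : AddSubgroup V} {x : X} : x ∈ fx X C ↔ ∀ c ∈ C, x • c = c := Iff.rfl

theorem NBT.le_fx {D T : Subgroup X} {N C : AddSubgroup V} (h : NBT D T N C) : T ≤ fx X C := fun _ hx _ hc => h.cent hx hc

/-- `T` normalises `N` -/
theorem NBT.norm {D T : Subgroup X} {N C : AddSubgroup V} (h : NBT D T N C) {x : X} (hx : x ∈ T) {n : V} (hn : n ∈ N) :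
    x • n ∈ N := by
  obtain ⟨F, i1, i2, e, f, up, lo, h1, h2, h3, h4⟩ := h.ex
  obtain ⟨B, hB⟩ := sla_of_clo h1 (h3.symm ▸ hx)
  rw [← h4] at hn ⊢
  obtain ⟨_, ⟨a, rfl⟩, _, ⟨b, rfl⟩, rfl⟩ := AddSubgroup.mem_sup.1 hn
  have h5 := hB.act ![a, b]
  simp only [Matrix.cons_val_zero, Matrix.cons_val_one] at h5
  rw [h5]
  exact add_mem (AddSubgroup.mem_sup_left ⟨_, rfl⟩) (AddSubgroup.mem_sup_right ⟨_, rfl⟩)

theorem two_dvd_card {F : Type w} [Field F] [Finite F] (two : ∀ x : F, x + x = 0) : 2 ∣ Nat.card F := by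
  have : Fact (Nat.Prime 2) := ⟨Nat.prime_two⟩
  have h1 : addOrderOf (1 : F) = 2 := addOrderOf_eq_prime (by rw [two_nsmul, two]) one_ne_zero
  rw [← h1]
  exact addOrderOf_dvd_natCard _

/-- **uniqueness of `T`** -/
theorem NBT.uniq [Finite X] [Finite V] (h2 : ∀ v : V, v + v = 0) (hf : ∀ x : X, (∀ v : V, x • v = v) → x = 1)
    (hno : NO X V) {D T T' : Subgroup X} {N C : AddSubgroup V} (h : NBT D T N C) (h' : NBT D T' N C) {R : Subgroup X}
    (hR : R ≤ fx X C) (hodd : ¬ 2 ∣ R.relIndex (fx X C)) (n : Nat.card D = 4 → ∀ x ∈ R, MulAut.conj x • T = T)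
    (n' : Nat.card D = 4 → ∀ x ∈ R, MulAut.conj x • T' = T') : T = T' := by
  obtain ⟨F, i1, i2, e, f, up, lo, a1, a2, a3, a4⟩ := h.ex
  obtain ⟨F', i1', i2', e', f', up', lo', b1, b2, b3, b4⟩ := h'.ex
  have hcF : Nat.card D = Nat.card F := by rw [← a2]; exact a1.card_rt h2 hf
  have hcF' : Nat.card D = Nat.card F' := by rw [← b2]; exact b1.card_rt h2 hf
  have hrt : rt up = rt up' := a2.trans b2.symm
  have hdv := two_dvd_card (a1.two h2)
  have h1F : 1 < Nat.card F := Finite.one_lt_card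
  rcases (by omega : Nat.card F = 2 ∨ Nat.card F = 4 ∨ 4 < Nat.card F) with hF | hF | hF
  · -- `|F| = 2`
    apply le_antisymm
    · intro x hx
      rw [← b3]
      exact clo_two b1 hf h2 (by rw [← hcF', hcF, hF]) (fun c hc => h.cent hx hc) fun m hm => by
        rw [b4] at hm ⊢
        exact h.norm hx hm
    · intro x hx
      rw [← a3]
      exact clo_two a1 hf h2 hF (fun c hc => h'.cent hx hc) fun m hm => by
        rw [a4] at hm ⊢
        exact h'.norm hx hm
  · -- `|F| = 4`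
    have hD4 : Nat.card D = 4 := hcF.trans hF
    rcases exists_swap a1 b1 h2 hf hno hF hrt with h5 | ⟨y, hy, y1, y2⟩
    · rw [← a3, ← b3, h5]
    · by_contra hne
      rw [a3, b3] at hy y1 y2
      -- the stabiliser of `{T, T'}`
      let K : Subgroup X :=
        { carrier := {x | x ∈ fx X C ∧ MulAut.conj x • T = T ∧ MulAut.conj x • T' = T'}
          one_mem' := ⟨one_mem _, by rw [map_one, one_smul], by rw [map_one, one_smul]⟩
          mul_mem' := by
            rintro a b ⟨p1, p2, p3⟩ ⟨q1, q2, q3⟩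
            exact ⟨mul_mem p1 q1, by rw [map_mul, mul_smul, q2, p2], by rw [map_mul, mul_smul, q3, p3]⟩
          inv_mem' := by
            rintro a ⟨p1, p2, p3⟩
            exact ⟨inv_mem p1, by rw [map_inv, inv_smul_eq_iff, p2], by rw [map_inv, inv_smul_eq_iff, p3]⟩ }
      let W : Subgroup X :=
        { carrier := {x | x ∈ fx X C ∧ ((MulAut.conj x • T = T ∧ MulAut.conj x • T' = T') ∨
            (MulAut.conj x • T = T' ∧ MulAut.conj x • T' = T))}
          one_mem' := ⟨one_mem _, Or.inl ⟨by rw [map_one, one_smul], by rw [map_one, one_smul]⟩⟩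
          mul_mem' := by
            rintro a b ⟨p1, p2⟩ ⟨q1, q2⟩
            refine ⟨mul_mem p1 q1, ?_⟩
            rw [map_mul, mul_smul, mul_smul]
            rcases p2 with ⟨p2, p3⟩ | ⟨p2, p3⟩ <;> rcases q2 with ⟨q2, q3⟩ | ⟨q2, q3⟩ <;> rw [q2, q3]
            · exact Or.inl ⟨p2, p3⟩
            · exact Or.inr ⟨p3, p2⟩
            · exact Or.inr ⟨p2, p3⟩
            · exact Or.inl ⟨p3, p2⟩
          inv_mem' := by
            rintro a ⟨p1, p2⟩
            refine ⟨inv_mem p1, ?_⟩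
            rw [map_inv, inv_smul_eq_iff, inv_smul_eq_iff, inv_smul_eq_iff, inv_smul_eq_iff]
            rcases p2 with ⟨p2, p3⟩ | ⟨p2, p3⟩
            · exact Or.inl ⟨p2.symm, p3.symm⟩
            · exact Or.inr ⟨p3.symm, p2.symm⟩ }
      have hKW : K ≤ W := fun x hx => ⟨hx.1, Or.inl hx.2⟩
      have hWE : W ≤ fx X C := fun x hx => hx.1
      have hRK : R ≤ K := fun x hx => ⟨hR hx, n hD4 x hx, n' hD4 x hx⟩
      have hyW : y ∈ W := ⟨sup_le h.le_fx h'.le_fx hy, Or.inr ⟨y1, y2⟩⟩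
      have hind : K.relIndex W = 2 := by
        rw [Subgroup.relIndex, Subgroup.index_eq_two_iff]
        refine ⟨⟨y, hyW⟩, fun b => ?_⟩
        obtain ⟨b, hb1, hb2⟩ := b
        have e1 : ∀ hb, ((⟨b, hb⟩ * ⟨y, hyW⟩ : W) ∈ K.subgroupOf W) ↔ b * y ∈ K := fun hb => Iff.rfl
        have e2 : ∀ hb, ((⟨b, hb⟩ : W) ∈ K.subgroupOf W) ↔ b ∈ K := fun hb => Iff.rfl
        rw [e1, e2]
        rcases hb2 with ⟨p2, p3⟩ | ⟨p2, p3⟩
        · refine Or.inr ⟨⟨hb1, p2, p3⟩, fun h5 => ?_⟩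
          have h6 := h5.2.1
          rw [map_mul, mul_smul, y1, p3] at h6
          exact hne h6.symm
        · refine Or.inl ⟨⟨mul_mem hb1 hyW.1, ?_, ?_⟩, fun h5 => ?_⟩
          · rw [map_mul, mul_smul, y1, p3]
          · rw [map_mul, mul_smul, y2, p2]
          · have h6 := h5.2.1
            rw [p2] at h6
            exact hne h6.symm
      apply hodd
      rw [← Subgroup.relIndex_mul_relIndex R K (fx X C) hRK (hKW.trans hWE),
        ← Subgroup.relIndex_mul_relIndex K W (fx X C) hKW hWE, hind]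
      exact Dvd.dvd.mul_left (Dvd.intro _ rfl) _
  · rw [← a3, ← b3]
    exact a1.clo_eq b1 h2 hf hno hF hrt

/-! ### families -/

section fam

variable {S : Subgroup X} {FF : Set (Subgroup X)} {N C : Subgroup X → AddSubgroup V}

/-- the product of the other blocks -/
def Co (FF : Set (Subgroup X)) (N : Subgroup X → AddSubgroup V) (D : Subgroup X) : AddSubgroup V :=
  ⨆ D' : {D' // D' ∈ FF ∧ D' ≠ D}, N D'

theorem le_Co {D D' : Subgroup X} (hD' : D' ∈ FF) (hne : D' ≠ D) : N D' ≤ Co FF N D :=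
  le_iSup (fun D' : {D' // D' ∈ FF ∧ D' ≠ D} => N D') ⟨D', hD', hne⟩

variable (H : Fam S FF N C) (hsup : ⨆ D ∈ FF, N D = ⊤)
include H

theorem Co_le {D : Subgroup X} (hD : D ∈ FF) : Co FF N D ≤ C D :=
  iSup_le fun D' => H.ind D hD D' D'.2.1 D'.2.2

include hsup

theorem C_eq {D : Subgroup X} (hD : D ∈ FF) : C D = Co FF N D := by
  refine le_antisymm (fun c hc => ?_) (Co_le H hD)
  have h1 : (⊤ : AddSubgroup V) ≤ N D ⊔ Co FF N D := by
    rw [← hsup]
    refine iSup₂_le fun D' hD' => ?_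
    by_cases h : D' = D
    · rw [h]; exact le_sup_left
    · exact (le_Co hD' h).trans le_sup_right
  obtain ⟨n, hn, c', hc', h3⟩ := AddSubgroup.mem_sup.1 (h1 (AddSubgroup.mem_top c))
  have h4 : n ∈ C D := by
    have e : n = c - c' := by rw [← h3]; abel
    rw [e]; exact sub_mem hc (Co_le H hD hc')
  have h5 := (H.nb D hD).inf_bot hn h4
  rw [h5, zero_add] at h3
  rw [← h3]; exact hc'

theorem perm_C {D D' : Subgroup X} (hD : D ∈ FF) (hD' : D' ∈ FF) {g : X} (h : ∀ m, m ∈ N D ↔ g • m ∈ N D') :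
    ∀ m, m ∈ C D ↔ g • m ∈ C D' := by
  have key : ∀ {D D' : Subgroup X}, D ∈ FF → D' ∈ FF → ∀ {g : X}, (∀ m, m ∈ N D ↔ g • m ∈ N D') →
      ∀ m ∈ C D, g • m ∈ C D' := by
    intro D D' hD hD' g h m hm
    rw [C_eq H hsup hD] at hm
    have h1 : Co FF N D ≤ (C D').comap (DistribSMul.toAddMonoidHom V g) := by
      refine iSup_le fun D2 x hx => ?_
      obtain ⟨D3, hD3, -, h3⟩ := H.perm g D2 D2.2.1
      refine H.ind D' hD' D3 hD3 (fun e => D2.2.2 ?_) ((h3 x).1 hx)
      refine H.inj D2.2.1 hD ?_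
      ext n
      rw [h3 n, h n, e]
    exact h1 hm
  intro m
  refine ⟨key hD hD' h m, fun hm => ?_⟩
  have h1 := key hD' hD (g := g⁻¹) (fun n => by rw [h (g⁻¹ • n), smul_inv_smul]) _ hm
  rwa [inv_smul_smul] at h1

theorem EX_eq {D : Subgroup X} (hD : D ∈ FF) : EX FF N D = fx X (C D) := by
  ext x
  constructor
  · intro hx c hc
    rw [C_eq H hsup hD] at hc
    have h1 : Co FF N D ≤ (fxd (Subgroup.zpowers x) : AddSubgroup V) := by
      refine iSup_le fun D2 n hn => mem_fxd.2 fun y hy => ?_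
      have h2 : Subgroup.zpowers x ≤ MulAction.stabilizer X n :=
        (Subgroup.zpowers_le).2 (MulAction.mem_stabilizer_iff.2 (hx D2 D2.2.1 D2.2.2 n hn))
      exact MulAction.mem_stabilizer_iff.1 (h2 hy)
    exact mem_fxd.1 (h1 hc) x (Subgroup.mem_zpowers x)
  · intro hx D' hD' hne m hm
    exact hx m (H.ind D hD D' hD' hne hm)

omit hsup in
/-- the block of `D^g` -/
theorem cj_N {D : Subgroup X} (hD : D ∈ FF) {g : X} (hg : MulAut.conj g • D ∈ FF) (m : V) :
    m ∈ N D ↔ g • m ∈ N (MulAut.conj g • D) := by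
  obtain ⟨D', hD', -, h1⟩ := H.perm g D hD
  have e : D' = MulAut.conj g • D := by
    by_contra hne
    obtain ⟨d, hd, n, hn, hdn⟩ := (H.nb D hD).moves
    have h3 := H.ind _ hg D' hD' hne ((h1 n).1 hn)
    have h4 : g * d * g⁻¹ ∈ MulAut.conj g • D := ⟨d, hd, rfl⟩
    have h5 := mem_fxd.1 ((H.nb _ hg).C_le h3) _ h4
    rw [mul_smul, mul_smul, inv_smul_smul] at h5
    exact hdn (smul_left_cancel _ h5)
  rw [← e]
  exact h1 m

theorem cj_C {D : Subgroup X} (hD : D ∈ FF) {g : X} (hg : MulAut.conj g • D ∈ FF) (m : V) :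
    m ∈ C D ↔ g • m ∈ C (MulAut.conj g • D) :=
  perm_C H hsup hD hg (cj_N H hD hg) m

theorem nbt_cj {D T : Subgroup X} (hD : D ∈ FF) (h : NBT D T (N D) (C D)) {g : X} (hg : MulAut.conj g • D ∈ FF) :
    NBT (MulAut.conj g • D) (MulAut.conj g • T) (N (MulAut.conj g • D)) (C (MulAut.conj g • D)) := by
  have h1 := h.conj g
  have e1 : (N D).map (DistribSMul.toAddMonoidHom V g) = N (MulAut.conj g • D) := by
    ext m
    rw [Asm.mem_map, cj_N H hD hg, smul_inv_smul]
  have e2 : (C D).map (DistribSMul.toAddMonoidHom V g) = C (MulAut.conj g • D) := by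
    ext m
    rw [Asm.mem_map, cj_C H hsup hD hg, smul_inv_smul]
  rwa [e1, e2] at h1

theorem fx_cj {D : Subgroup X} (hD : D ∈ FF) {g : X} (hg : MulAut.conj g • D ∈ FF) :
    MulAut.conj g • fx X (C D) = fx X (C (MulAut.conj g • D)) := by
  ext x
  rw [Types.mem_cj]
  constructor
  · intro hx c hc
    have h1 : g⁻¹ • c ∈ C D := by rw [cj_C H hsup hD hg, smul_inv_smul]; exact hc
    have h3 := hx _ h1
    rw [mul_smul, mul_smul, smul_inv_smul] at h3
    exact smul_left_cancel _ h3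
  · intro hx c hc
    have h1 := hx _ ((cj_C H hsup hD hg c).1 hc)
    rw [mul_smul, mul_smul, h1, inv_smul_smul]

/-- `S ∩ E_D` normalises `D` -/
theorem cj_self {D : Subgroup X} (hD : D ∈ FF) {x : X} (hx : x ∈ S) (hx1 : x ∈ fx X (C D)) : MulAut.conj x • D = D := by
  have h1 := H.sinv x hx D hD
  refine H.inj h1 hD ?_
  have h3 : x ∈ EO FF N := H.EX_le hD (by rw [EX_eq H hsup hD]; exact hx1)
  ext m
  have h4 := cj_N H hD h1 (x⁻¹ • m)
  rw [smul_inv_smul] at h4
  rw [← h4, h3 D hD, smul_inv_smul]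

variable [Finite X] [Finite V]

theorem odd_E (hS : ¬ 2 ∣ S.index) {D : Subgroup X} (hD : D ∈ FF) : ¬ 2 ∣ S.relIndex (fx X (C D)) := by
  intro h
  apply hS
  rw [← EX_eq H hsup hD] at h
  have : (EO FF N).Normal := ⟨fun x hx g => H.EO_norm g hx⟩
  exact h.trans ((relIndex_sub S (H.EX_le hD) fun k hk x hx => H.EX_norm hk hx).trans (relIndex_normal S (EO FF N)))

/-- the condition on `T` -/
def Good (S : Subgroup X) (N C : Subgroup X → AddSubgroup V) (D T : Subgroup X) : Prop :=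
  NBT D T (N D) (C D) ∧ (Nat.card D = 4 → ∀ x ∈ S ⊓ fx X (C D), MulAut.conj x • T = T)

theorem good_uniq (h2 : ∀ v : V, v + v = 0) (hf : ∀ x : X, (∀ v : V, x • v = v) → x = 1) (hno : NO X V)
    (hS : ¬ 2 ∣ S.index) {D T T' : Subgroup X} (hD : D ∈ FF) (h : Good S N C D T) (h' : Good S N C D T') : T = T' := by
  refine h.1.uniq h2 hf hno h'.1 (R := S ⊓ fx X (C D)) inf_le_right ?_ h.2 h'.2
  rw [Subgroup.inf_relIndex_right]
  exact odd_E H hsup hS hD

theorem good_exists (hS2 : IsPGroup 2 S) (hS : ¬ 2 ∣ S.index) (hT : Tor S FF N C) {D : Subgroup X} (hD : D ∈ FF) :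
    ∃ T, Good S N C D T := by
  by_cases h4 : Nat.card D = 4
  swap
  · obtain ⟨T, hT⟩ := NB.exists_nbt (H.nb D hD)
    exact ⟨T, hT, fun h => absurd h h4⟩
  obtain ⟨A, hA, m, hm, T, hT1, hT2⟩ := hT D hD h4
  have hmF : MulAut.conj m • A ∈ FF := by rw [hm]; exact hD
  -- two Sylow subgroups of `E_D ∩ N(D)`
  let W : Subgroup X :=
    { carrier := {x | x ∈ fx X (C D) ∧ MulAut.conj x • D = D}
      one_mem' := ⟨one_mem _, by rw [map_one, one_smul]⟩
      mul_mem' := by
        rintro a b ⟨p1, p2⟩ ⟨q1, q2⟩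
        exact ⟨mul_mem p1 q1, by rw [map_mul, mul_smul, q2, p2]⟩
      inv_mem' := by
        rintro a ⟨p1, p2⟩
        exact ⟨inv_mem p1, by rw [map_inv, inv_smul_eq_iff, p2]⟩ }
  have hWE : W ≤ fx X (C D) := fun x hx => hx.1
  have hE : MulAut.conj m • fx X (C A) = fx X (C D) := by rw [fx_cj H hsup hA hmF, hm]
  set P := MulAut.conj m • (S ⊓ fx X (C A)) with hP
  set Q := S ⊓ fx X (C D) with hQ
  have hPW : P ≤ W := by
    rintro _ ⟨x, hx, rfl⟩
    change MulAut.conj m x ∈ W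
    refine ⟨by rw [← hE]; exact ⟨x, hx.2, rfl⟩, ?_⟩
    have h5 := cj_self H hsup hA hx.1 hx.2
    have e : MulAut.conj (MulAut.conj m x) • D = MulAut.conj m • MulAut.conj x • MulAut.conj m⁻¹ • D := by
      rw [← mul_smul, ← mul_smul, ← map_mul, ← map_mul]
      have e0 : MulAut.conj m x = m * x * m⁻¹ := rfl
      rw [e0]
    have e2 : MulAut.conj m⁻¹ • D = A := by rw [← hm, map_inv, inv_smul_smul]
    rw [e, e2, h5, hm]
  have hQW : Q ≤ W := fun x hx => ⟨hx.2, cj_self H hsup hD hx.1 hx.2⟩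
  have hP2 : IsPGroup 2 P := (hS2.to_le inf_le_left).of_equiv (Subgroup.equivSMul (MulAut.conj m) (S ⊓ fx X (C A)))
  have hQ2 : IsPGroup 2 Q := hS2.to_le inf_le_left
  have iP : ¬ 2 ∣ P.relIndex W := by
    intro h
    have h5 : P.relIndex W ∣ P.relIndex (fx X (C D)) := by
      rw [← Subgroup.relIndex_mul_relIndex P W _ hPW hWE]
      exact Dvd.intro _ rfl
    have h6 : P.relIndex (fx X (C D)) = S.relIndex (fx X (C A)) := by
      rw [← hE, hP, relIndex_cj, Subgroup.inf_relIndex_right]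
    exact odd_E H hsup hS hA (h6 ▸ h.trans h5)
  have iQ : ¬ 2 ∣ Q.relIndex W := by
    intro h
    have h5 : Q.relIndex W ∣ Q.relIndex (fx X (C D)) := by
      rw [← Subgroup.relIndex_mul_relIndex Q W _ hQW hWE]
      exact Dvd.intro _ rfl
    have h6 : Q.relIndex (fx X (C D)) = S.relIndex (fx X (C D)) := by
      rw [hQ, Subgroup.inf_relIndex_right]
    exact odd_E H hsup hS hD (h6 ▸ h.trans h5)
  obtain ⟨y, hy, hyP⟩ := exists_cj hPW hQW hP2 hQ2 iP iQ
  have e3 : MulAut.conj (y * m) • A = D := by rw [map_mul, mul_smul, hm, hy.2]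
  refine ⟨MulAut.conj (y * m) • T, ?_, fun _ x hx => ?_⟩
  · have h5 := nbt_cj H hsup hA hT1 (g := y * m) (by rw [e3]; exact hD)
    rwa [e3] at h5
  · have hx' : x ∈ MulAut.conj y • P := by rw [hyP]; exact hx
    obtain ⟨_, ⟨z, hz, rfl⟩, rfl⟩ := hx'
    change MulAut.conj (MulAut.conj y (MulAut.conj m z)) • MulAut.conj (y * m) • T = MulAut.conj (y * m) • T
    have hz1 : MulAut.conj z • T = T := hT2 z hz.1 (cj_self H hsup hA hz.1 hz.2)
    have e4 : MulAut.conj (MulAut.conj y (MulAut.conj m z)) • MulAut.conj (y * m) • T =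
        MulAut.conj (y * m) • MulAut.conj z • T := by
      rw [← mul_smul, ← mul_smul, ← map_mul, ← map_mul]
      congr 2
      rw [MulAut.conj_apply, MulAut.conj_apply]; group
    rw [e4, hz1]

/-- **`S` permutes the groups `T D`** -/
theorem exists_T (h2 : ∀ v : V, v + v = 0) (hf : ∀ x : X, (∀ v : V, x • v = v) → x = 1) (hno : NO X V)
    (hS2 : IsPGroup 2 S) (hS : ¬ 2 ∣ S.index) (hT : Tor S FF N C) :
    ∃ T : Subgroup X → Subgroup X, (∀ D ∈ FF, NBT D (T D) (N D) (C D)) ∧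
      ∀ s ∈ S, ∀ D ∈ FF, MulAut.conj s • T D = T (MulAut.conj s • D) := by
  classical
  have hex := fun D (hD : D ∈ FF) => good_exists H hsup hS2 hS hT hD
  refine ⟨fun D => if h : D ∈ FF then Classical.choose (hex D h) else D, fun D hD => ?_, fun s hs D hD => ?_⟩
  · beta_reduce
    rw [dif_pos hD]
    exact (Classical.choose_spec (hex D hD)).1
  · have hD' := H.sinv s hs D hD
    beta_reduce
    rw [dif_pos hD, dif_pos hD']
    refine good_uniq H hsup h2 hf hno hS hD' ?_ (Classical.choose_spec (hex _ hD'))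
    obtain ⟨g1, g2⟩ := Classical.choose_spec (hex D hD)
    refine ⟨nbt_cj H hsup hD g1 hD', fun h4 x hx => ?_⟩
    obtain ⟨hxS, hxf⟩ := Subgroup.mem_inf.1 hx
    have hx1 : s⁻¹ * x * s ∈ S ⊓ fx X (C D) := by
      refine Subgroup.mem_inf.2 ⟨mul_mem (mul_mem (inv_mem hs) hxS) hs, ?_⟩
      rw [← fx_cj H hsup hD hD', Types.mem_cj] at hxf
      exact hxf
    have h6 := g2 (by rwa [Types.card_cj] at h4) _ hx1
    have e : MulAut.conj x • MulAut.conj s • Classical.choose (hex D hD) =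
        MulAut.conj s • MulAut.conj (s⁻¹ * x * s) • Classical.choose (hex D hD) := by
      rw [← mul_smul, ← mul_smul, ← map_mul, ← map_mul]
      congr 2
      group
    rw [e, h6]

end fam

end Cfsg.Agent.Omega.NOThreeL.RRed.Blk.AsmT
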