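import Cfsg.Agent.Omega.NOThreeL.RRed.Blk.AsmTor
import Cfsg.Agent.Omega.NOThreeL.RRed.Blk.AsmMv

/-!
# NO-3L, box R: `TD` for EVERY member of the family `FF` of `Asm.main`

* **`td_all`** : hypotheses of `AsmMv.mov_of`; every `D ∈ FF`: `TD (im Q S) D (N D) (C D)`;
* `tor_all` : so `Tor (im Q S) FF N C` with `m = 1`.
-/

set_option autoImplicit false
set_option linter.unusedSectionVars false

namespace Cfsg.Agent.Omega.NOThreeL.RRed.Blk.AsmTor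

open Subgroup Cfsg Cfsg.Agent.ZN Cfsg.Agent.Omega.MinPar
open Cfsg.Agent.Omega.NOThreeL.RSplit (Nrm)
open Cfsg.Agent.Omega.NOThreeL.RRed.NS hiding rt
open Cfsg.Agent.Omega.NOThreeL.RRed.WideTree (Act MvAct)
open Cfsg.Agent.Omega.NOThreeL.RTree (RB)
open Cfsg.Agent.Omega.NOThreeL.Merge (MZ le_MZ isLoc_MZ)
open Cfsg.Agent.Omega.NOThreeL.RRed.Blk.TypesNat (XH)
open Cfsg.Agent.Omega.NOThreeL.RRed.Blk.Asm (Es)
open Cfsg.Agent.Omega.NOThreeL.RRed.Blk.AsmCore (EP KP im)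
open Cfsg.Agent.Omega.NOThreeL.RRed.Blk.AsmT (TD Tor)
open scoped Pointwise

universe u

variable {G : Type u} [Group G] [Finite G] {S : Sylow 2 G}
variable (B : RB S) (mv : MvAct (S : Subgroup G)) (Q : Nrm (MZ (S : Subgroup G)) (Wd (S : Subgroup G)))
  {FF : Set (Subgroup (XH Q))} {N C : Subgroup (XH Q) → AddSubgroup Q.Mod}
include B mv

/-- **`TD` for every member of `FF`.** -/
theorem td_all (E : Es (im Q (S : Subgroup G)) (im Q '' AsmCore.EE (S : Subgroup G) (Wd (S : Subgroup G))) Q.Mod)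
    (hAc : ∀ P, Act (S : Subgroup G) P → Asm.Ac (im Q (S : Subgroup G)) (im Q '' AsmCore.EE (S : Subgroup G) (Wd (S : Subgroup G)))
      (im Q P) (im Q (KP (S : Subgroup G) P (Wd (S : Subgroup G)))) (im Q '' EP (S : Subgroup G) P (Wd (S : Subgroup G)))
      Q.Mod)
    (hn : ∀ D ∈ FF, Asm.GB (im Q '' AsmCore.EE (S : Subgroup G) (Wd (S : Subgroup G))) D (N D) (C D))
    (h4 : ∀ D ∈ FF, 4 ≤ Nat.card D) (hS : ∀ s ∈ im Q (S : Subgroup G), ∀ D ∈ FF, MulAut.conj s • D ∈ FF)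
    (hsub : FF ⊆ im Q '' AsmCore.EE (S : Subgroup G) (Wd (S : Subgroup G))) {D : Subgroup (XH Q)} (hD : D ∈ FF) :
    TD (im Q (S : Subgroup G)) D (N D) (C D) := by
  obtain ⟨P, a, A, hA, rfl⟩ := AsmMv.exists_EP B mv Q E hAc hn h4 hS hsub hD
  obtain ⟨F, i1, i2, i3, k, hk, M, h, hF, hD', h1, -⟩ := AsmMv.nat4_of B mv a.1 Q hA (h4 _ hD)
  obtain ⟨j, O⟩ := h1 A hA
  exact td_of h (by omega) Q (elem_Wd B) (AsmMv.no_of B a) (le_MZ a.1) (Star.zl_mono _ (le_MZ a.1)) O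
    (hA.1.1.trans a.1.le) (hD' j) a.1.le (hn _ hD).nb

/-- **`Tor` for the family of `Asm.main`**, with `m = 1`. -/
theorem tor_all (E : Es (im Q (S : Subgroup G)) (im Q '' AsmCore.EE (S : Subgroup G) (Wd (S : Subgroup G))) Q.Mod)
    (hAc : ∀ P, Act (S : Subgroup G) P → Asm.Ac (im Q (S : Subgroup G)) (im Q '' AsmCore.EE (S : Subgroup G) (Wd (S : Subgroup G)))
      (im Q P) (im Q (KP (S : Subgroup G) P (Wd (S : Subgroup G)))) (im Q '' EP (S : Subgroup G) P (Wd (S : Subgroup G)))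
      Q.Mod)
    (hn : ∀ D ∈ FF, Asm.GB (im Q '' AsmCore.EE (S : Subgroup G) (Wd (S : Subgroup G))) D (N D) (C D))
    (h4 : ∀ D ∈ FF, 4 ≤ Nat.card D) (hS : ∀ s ∈ im Q (S : Subgroup G), ∀ D ∈ FF, MulAut.conj s • D ∈ FF)
    (hsub : FF ⊆ im Q '' AsmCore.EE (S : Subgroup G) (Wd (S : Subgroup G))) : Tor (im Q (S : Subgroup G)) FF N C :=
  fun D hD _ => ⟨D, hD, 1, by rw [map_one, one_smul], td_all B mv Q E hAc hn h4 hS hsub hD⟩

end Cfsg.Agent.Omega.NOThreeL.RRed.Blk.AsmTor
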