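import Cfsg.Agent.Omega.NOThreeL.RRed.TvFin
import Cfsg.Agent.Omega.NOThreeL.RRed.ClassD
import Cfsg.Agent.Omega.KL.TwoS.Sn

/-!
# NO-3L, box R: letters and `O₂(C_G(e))`, `e` of full support (helper283, piece (5) of `LeftBlk`)

`F : Full S M V N E R₀ Om phi`; `e` has the `b`-component `φ_b(Ω_b - p)`; `Q` is a 2-group, `Q ≤ M ⊓ C(e)`,
`M ⊓ C(e) ≤ N(Q)`.

* `E_fix` : an element of `E b` which fixes the component of `e` centralises `e`;
* `norm_N` : `Q` normalises `N b`, if `|Ω_b| ≥ 4`;
* `cent_b` : an offender `A ≤ Q` on `N b` centralises `N b`;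
* **`cent_of_exact`** : `A ≤ Q` with `|V/C_V(A)| ≤ |A/C_A(V)|`, no over-offender on `V`: `A` centralises `N b`.
-/

set_option autoImplicit false
set_option linter.unusedSectionVars false

namespace Cfsg.Agent.Omega.NOThreeL.RRed.Blk.AsmTwoC

open Subgroup Cfsg
open Cfsg.Agent.Omega.FFThm (ElemM OffM NoOverM)
open Cfsg.Agent.Omega.NOThreeL.RRed.TvFin (Full)
open Cfsg.Agent.Omega.NOThreeL.RRed.Blk
open Cfsg.Agent.Omega.KL.TwoS (Rel Lett)
open scoped Pointwise

universe u

variable {G : Type u} [Group G]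

theorem smul_of_norm {g : G} {H : Subgroup G} (h : g ∈ normalizer (H : Set G)) : MulAut.conj g • H = H := by
  ext y
  rw [mem_pointwise_smul_iff_inv_smul_mem, ← map_inv, MulAut.smul_def, MulAut.conj_apply]
  exact ((mem_normalizer_iff.1 (inv_mem h)) y).symm

theorem card_relIndex [Finite G] {H K : Subgroup G} (h : H ≤ K) : Nat.card H * H.relIndex K = Nat.card K := by
  have h1 := relIndex_mul_relIndex (⊥ : Subgroup G) H K bot_le h
  rwa [relIndex_bot_left, relIndex_bot_left] at h1

section lett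

variable {Ω : Type*} [Fintype Ω] [DecidableEq Ω] {N R : Subgroup G} {φ : Finset Ω → G}

theorem rel_one (L : Lett N R φ) {g : G} (hg : g ∈ centralizer (N : Set G)) : Rel φ g 1 := by
  intro s hs
  have e : (1 : Equiv.Perm Ω).toEmbedding = Function.Embedding.refl Ω := by
    ext x
    simp
  rw [e, Finset.map_refl]
  exact cent hg ((L.mem _).2 ⟨s, hs, rfl⟩)

end lett

variable {S M V : Subgroup G} {I : Type u} {N E : I → Subgroup G} {R₀ : Subgroup G} {Om : I → Type u}
    [∀ i, Fintype (Om i)] [∀ i, DecidableEq (Om i)] {phi : ∀ i, Finset (Om i) → G}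

theorem E_Co (D : Dec S M V N E R₀) (b : I) : E b ≤ centralizer (Co N R₀ b : Set G) := by
  rw [Subgroup.le_centralizer_iff]
  refine sup_le (iSup_le fun c => ?_) ?_
  · rw [Subgroup.le_centralizer_iff]
    exact D.EC b c (Ne.symm c.2)
  · rw [Subgroup.le_centralizer_iff]
    exact D.ER b

variable (F : Full S M V N E R₀ Om phi) {e : G} {b : I} {p : Om b}
  (he : IsC N R₀ b e (phi b (Finset.univ.erase p)))

include F he in
/-- an element of `E b` which fixes the component of `e` centralises `e` -/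
theorem E_fix {x : G} (hx : x ∈ E b)
    (h : x * phi b (Finset.univ.erase p) * x⁻¹ = phi b (Finset.univ.erase p)) : x ∈ M ⊓ centralizer ({e} : Set G) := by
  refine mem_inf.2 ⟨F.EL b hx, ?_⟩
  rw [mem_centralizer_singleton_iff]
  set n := phi b (Finset.univ.erase p) with hn
  have h1 : x * (n⁻¹ * e) * x⁻¹ = n⁻¹ * e := cent (E_Co F.toDec b hx) he.2
  have h2 : x * e * x⁻¹ = e := by
    calc x * e * x⁻¹ = (x * n * x⁻¹) * (x * (n⁻¹ * e) * x⁻¹) := by group
      _ = e := by rw [h, h1]; group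
  rwa [mul_inv_eq_iff_eq_mul] at h2

variable {Q : Subgroup G} (hQ2 : IsPGroup 2 Q) (hQM : Q ≤ M) (hQe : Q ≤ centralizer ({e} : Set G))
  (hn : M ⊓ centralizer ({e} : Set G) ≤ normalizer (Q : Set G))

include F he hQ2 hQM hn in
/-- `Q` normalises `N b` -/
theorem norm_N (h4 : 4 ≤ Fintype.card (Om b)) {q : G} (hq : q ∈ Q) : MulAut.conj q • N b = N b := by
  obtain ⟨c, h1, h2, -⟩ := F.toDec.perm' (hQM hq) b
  by_cases hbc : b = c
  · rw [h1, hbc]
  exfalso
  have L := F.lett b
  -- three letters `≠ p`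
  have hcard : 3 ≤ (Finset.univ.erase p).card := by
    rw [Finset.card_erase_of_mem (Finset.mem_univ p), Finset.card_univ]
    omega
  obtain ⟨t, ht, ht3⟩ := Finset.exists_subset_card_eq hcard
  obtain ⟨x1, x2, x3, h12, h13, h23, rfl⟩ := Finset.card_eq_three.1 ht3
  have hp : ∀ x ∈ ({x1, x2, x3} : Finset (Om b)), p ≠ x := fun x hx h => (Finset.mem_erase.1 (ht hx)).1 h.symm
  set σ : Equiv.Perm (Om b) := Equiv.swap x1 x2 * Equiv.swap x1 x3 with hσ
  obtain ⟨x, hxE, hx⟩ := L.all σ
  have hσp : σ p = p := by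
    rw [hσ, Equiv.Perm.mul_apply, Equiv.swap_apply_of_ne_of_ne (hp x1 (by simp)) (hp x3 (by simp)),
      Equiv.swap_apply_of_ne_of_ne (hp x1 (by simp)) (hp x2 (by simp))]
  have hxe := E_fix F he hxE ((L.fix_iff hx p).2 hσp)
  have hxn := hn hxe
  have hm : q * (x * q⁻¹ * x⁻¹) ∈ Q := mul_mem hq ((mem_normalizer_iff.1 hxn q⁻¹).1 (inv_mem hq))
  have hqx : q * x * q⁻¹ ∈ centralizer (N b : Set G) := F.EC c b (Ne.symm hbc) ((conj_smul h2).1 hxE)
  have hrel : Rel (phi b) (q * (x * q⁻¹ * x⁻¹)) (1 * σ⁻¹) := by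
    have e1 : q * (x * q⁻¹ * x⁻¹) = (q * x * q⁻¹) * x⁻¹ := by group
    rw [e1]
    exact (rel_one L hqx).mul hx.inv
  rw [one_mul] at hrel
  obtain ⟨n, hn2⟩ := hQ2 ⟨_, hm⟩
  have h4' : (q * (x * q⁻¹ * x⁻¹)) ^ 2 ^ n = 1 := by
    have := congrArg Subtype.val hn2
    simpa using this
  have h5 := hrel.pow (2 ^ n)
  rw [h4'] at h5
  have h6 := L.unique (by omega) h5 Rel.one
  have h7 : σ.IsThreeCycle := Equiv.Perm.isThreeCycle_swap_mul_swap_same h12 h13 h23
  have h8 := orderOf_dvd_of_pow_eq_one h6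
  rw [orderOf_inv, h7.orderOf] at h8
  have h9 := Nat.Prime.dvd_of_dvd_pow Nat.prime_three h8
  omega

include F he hQ2 hQM hQe hn in
/-- an offender `A ≤ Q` on `N b` centralises `N b` -/
theorem cent_b [Finite G] (h4 : 4 ≤ Fintype.card (Om b)) {A : Subgroup G} (hA : A ≤ Q)
    (hle : (centralizer (A : Set G)).relIndex (N b) ≤ (centralizer (N b : Set G)).relIndex A) :
    A ≤ centralizer (N b : Set G) := by
  have L := F.lett b
  have hQN : ∀ q ∈ Q, MulAut.conj q • N b = N b := fun q hq => norm_N F he hQ2 hQM hn h4 hq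
  have hQE : ∀ q ∈ Q, MulAut.conj q • E b = E b := fun q hq => by
    obtain ⟨c, h1, h2⟩ := F.perm q (hQM hq) b
    have hc : b = c := F.toDec.Ninj (by rw [← h1, hQN q hq])
    rw [h2, ← hc]
  have hQc : ∀ q ∈ Q, q * phi b (Finset.univ.erase p) * q⁻¹ = phi b (Finset.univ.erase p) := fun q hq => by
    have h1 := F.toDec.comp_conj (hQM hq) (hQN q hq) he
    have h2 : q * e * q⁻¹ = e := by
      rw [mem_centralizer_singleton_iff.1 (hQe hq), mul_inv_cancel_right]
    rw [h2] at h1
    exact F.toDec.uniq h1 he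
  have hnE : Q ≤ normalizer (E b : Set G) := fun q hq => by
    rw [mem_normalizer_iff]
    exact fun x => conj_smul (hQE q hq)
  have hL : Lett (N b) (E b ⊔ Q) (phi b) :=
    { odd := L.odd
      mul := L.mul
      inj := L.inj
      mem := L.mem
      act := fun g hg => by
        have hg' : g ∈ Q ⊔ E b := by rwa [sup_comm]
        obtain ⟨q, hq, x, hx, rfl⟩ := mem_sup_of hnE hg'
        refine F.rel_of_fix (mul_mem (hQM hq) (F.EL b hx)) ?_
        rw [map_mul, mul_smul]
        have h1 : MulAut.conj x • N b = N b := smul_of_norm (F.EN b hx)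
        rw [h1, hQN q hq]
      all := fun σ => by
        obtain ⟨x, hx, h1⟩ := L.all σ
        exact ⟨x, mem_sup_left hx, h1⟩ }
  refine hL.cent (p := p) h4 hQ2 le_sup_right (fun q hq => ?_) (fun g hg hgv => ?_) hA hle
  · rw [mem_centralizer_singleton_iff]
    have := hQc q hq
    rwa [mul_inv_eq_iff_eq_mul] at this
  · have hg' : g ∈ Q ⊔ E b := by rwa [sup_comm]
    obtain ⟨q, hq, x, hx, rfl⟩ := mem_sup_of hnE hg'
    have h1 : x ∈ M ⊓ centralizer ({e} : Set G) := by
      refine E_fix F he hx ?_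
      have h2 : q * x * phi b (Finset.univ.erase p) * (q * x)⁻¹ = phi b (Finset.univ.erase p) := by
        rw [mem_centralizer_singleton_iff.1 hgv, mul_inv_cancel_right]
      have h3 := hQc q hq
      have h4 : q * (x * phi b (Finset.univ.erase p) * x⁻¹) * q⁻¹ = q * phi b (Finset.univ.erase p) * q⁻¹ := by
        rw [h3]
        calc q * (x * phi b (Finset.univ.erase p) * x⁻¹) * q⁻¹ =
            q * x * phi b (Finset.univ.erase p) * (q * x)⁻¹ := by group
          _ = _ := h2
      exact mul_left_cancel (mul_right_cancel h4)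
    exact mul_mem (le_normalizer hq) (hn h1)

include F he hQ2 hQM hQe hn in
/-- **an exact `A ≤ Q` centralises `N b`** -/
theorem cent_of_exact [Finite G] (h4 : 4 ≤ Fintype.card (Om b)) (hno : NoOverM V M) {A : Subgroup G} (hA : A ≤ Q)
    (hE : ElemM V A) (hex : Nat.card V * Nat.card ↥(A ⊓ centralizer (V : Set G)) ≤
      Nat.card A * Nat.card ↥(V ⊓ centralizer (A : Set G))) : A ≤ centralizer (N b : Set G) := by
  refine cent_b F he hQ2 hQM hQe hn h4 hA ?_
  by_contra hlt
  push Not at hlt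
  set B : Subgroup G := A ⊓ centralizer (N b : Set G) with hB
  have hNV : N b ≤ V := F.toDec.NU b
  have hVN : centralizer (V : Set G) ≤ centralizer (N b : Set G) := centralizer_le hNV
  have hBE : ElemM V B := ⟨fun a ha => hE.sq a ha.1, fun a ha c hc => hE.comm a ha.1 c hc.1⟩
  have h1 := hno B (inf_le_left.trans (hA.trans hQM)) hBE
  have e1 : B ⊓ centralizer (V : Set G) = A ⊓ centralizer (V : Set G) := by
    rw [hB, inf_assoc, inf_eq_right.2 hVN]
  rw [e1] at h1
  have h2 : Nat.card B * (centralizer (N b : Set G)).relIndex A = Nat.card A := by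
    have h3 : B.relIndex A = (centralizer (N b : Set G)).relIndex A := by rw [hB, inf_relIndex_left]
    rw [← h3]
    exact card_relIndex inf_le_left
  have h3 : N b ≤ V ⊓ centralizer (B : Set G) := by
    refine le_inf hNV ?_
    rw [Subgroup.le_centralizer_iff]
    exact inf_le_right
  have h4 : V ⊓ centralizer (A : Set G) ≤ V ⊓ centralizer (B : Set G) :=
    inf_le_inf le_rfl (centralizer_le inf_le_left)
  have h5 : Nat.card ↥(V ⊓ centralizer (A : Set G)) * (V ⊓ centralizer (A : Set G)).relIndex (V ⊓ centralizer (B : Set G)) =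
      Nat.card ↥(V ⊓ centralizer (B : Set G)) := card_relIndex h4
  have h6 : (centralizer (A : Set G)).relIndex (N b) ≤
      (V ⊓ centralizer (A : Set G)).relIndex (V ⊓ centralizer (B : Set G)) := by
    have h7 : (V ⊓ centralizer (A : Set G)).relIndex (N b) = (centralizer (A : Set G)).relIndex (N b) := by
      rw [← inf_relIndex_right (V ⊓ centralizer (A : Set G)), ← inf_relIndex_right (centralizer (A : Set G))]
      congr 1
      rw [inf_assoc, inf_eq_right]
      exact inf_le_right.trans hNV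
    rw [← h7]
    refine relIndex_le_of_le_right h3 ?_
    exact fun h0 => by
      rw [h0, mul_zero] at h5
      exact Nat.card_pos.ne' h5.symm
  have h8 : 0 < Nat.card B := Nat.card_pos
  have h9 : 0 < Nat.card ↥(V ⊓ centralizer (A : Set G)) := Nat.card_pos
  rw [← h2] at hex
  rw [← h5] at h1
  set vA := Nat.card ↥(V ⊓ centralizer (A : Set G))
  set cB := Nat.card B
  set a := (centralizer (N b : Set G)).relIndex A
  set c := (centralizer (A : Set G)).relIndex (N b)
  set d := (V ⊓ centralizer (A : Set G)).relIndex (V ⊓ centralizer (B : Set G))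
  have h10 : cB * (vA * d) ≤ cB * a * vA := h1.trans hex
  have h11 : cB * vA * d ≤ cB * vA * a := by nlinarith
  have h12 : d ≤ a := Nat.le_of_mul_le_mul_left h11 (Nat.mul_pos h8 h9)
  omega

end Cfsg.Agent.Omega.NOThreeL.RRed.Blk.AsmTwoC
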