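import Cfsg.Agent.Omega.NOThreeL.RRed.Blk.AsmTwo
import Cfsg.Agent.Omega.NOThreeL.RRed.Blk.AsmCls
import Cfsg.Agent.Omega.NOThreeL.RRed.Blk.AsmOneBlk

/-!
# NO-3L, box R: the `𝔽₂`-blocks with three letters, normality (fields `permN`, `lnY` of `NBs`)

`F : Full S M V N E R₀ Om phi`, `|Ω_b| = 3`.

* `im_zpow` : `im Q ⟨s⟩ = im Q (S ⊓ E b)`, if `s ∈ S ⊓ E b` is a transposition;
* `of_tv` : a transvection `t ∈ S` generates one of the root groups;
* `hn_gen`, **`hn_two`** : `N_G(S)` permutes the root groups;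
* `im_inf` : `im Q S ⊓ im Q (E c) = im Q (S ⊓ E c)`;
* **`conj_two`** : `D ∈ FF`, `D^g ≤ im Q S` ⟹ `D^g ∈ FF`.
-/

set_option autoImplicit false
set_option linter.unusedSectionVars false

namespace Cfsg.Agent.Omega.NOThreeL.RRed.Blk.AsmTwo

open Subgroup Cfsg
open Cfsg.Agent.Omega.NOThreeL.RRed (Wd)
open Cfsg.Agent.Omega.NOThreeL.Merge (MZ)
open Cfsg.Agent.Omega.NOThreeL.RRed.TvFin (Full TvV)
open Cfsg.Agent.Omega.NOThreeL.RRed.Blk
open Cfsg.Agent.Omega.NOThreeL.RRed.Blk.AsmTwoC (smul_of_norm rel_one E_Co)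
open Cfsg.Agent.Omega.KL.TwoS (Rel Lett)
open Cfsg.Agent.Omega.NOThreeL.RSplit (Nrm)
open Cfsg.Agent.Omega.NOThreeL.RRed.Blk.TypesNat (XH ph im mem_im im_conj im_mono ph_smul ph_eq ph_surj)
open Cfsg.Agent.Omega.NOThreeL.RRed.NS (smul_eq_iff)
open scoped Pointwise

universe u

variable {G : Type u} [Group G] [Finite G] {S : Sylow 2 G} {M V : Subgroup G} {I : Type u} {N E : I → Subgroup G}
    {R₀ : Subgroup G} {Om : I → Type u} [∀ i, Fintype (Om i)] [∀ i, DecidableEq (Om i)] {phi : ∀ i, Finset (Om i) → G}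
    (F : Full (S : Subgroup G) M V N E R₀ Om phi) (Q : Nrm M V)
include F

/-- `im Q ⟨s⟩ = im Q (S ⊓ E b)` -/
theorem im_zpow {b : I} (hc : Fintype.card (Om b) = 3) {s : G} (hs : s ∈ (S : Subgroup G) ⊓ E b) {x y : Om b}
    (hxy : x ≠ y) (hr : Rel (phi b) s (Equiv.swap x y)) :
    im Q (zpowers s) = im Q ((S : Subgroup G) ⊓ E b) := by
  refine le_antisymm (im_mono ?_) ?_
  · rw [zpowers_le]; exact hs
  · intro w hw
    obtain ⟨t, ht, rfl⟩ := mem_im.1 hw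
    have hsM : s ∈ M := F.EL b hs.2
    rcases two_or F hc hs hxy hr ht with h | h
    · have h1 : ph Q t = 1 := by
        rw [← map_one (ph Q)]
        exact ph_eq_of_rel F Q ht.2 (one_mem _) h Rel.one
      rw [h1]
      exact one_mem _
    · have h1 : ph Q t = ph Q ⟨s, hsM⟩ := ph_eq_of_rel F Q ht.2 hs.2 h hr
      rw [h1]
      exact mem_im.2 ⟨⟨s, hsM⟩, mem_zpowers s, rfl⟩

/-- a transvection of `S` generates a root group -/
theorem of_tv (hc : ∀ b, Fintype.card (Om b) = 3) {t c : G} (ht : t ∈ (S : Subgroup G)) (hcV : c ∈ V)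
    (hT : TvV V c t) (hne : t ∉ centralizer (V : Set G)) :
    ∃ b, t ∈ E b ∧ im Q (zpowers t) = im Q ((S : Subgroup G) ⊓ E b) := by
  obtain ⟨b, hb, x, y, hxy, -, hr⟩ := F.tvs t (F.SL ht) c hcV hT hne
  exact ⟨b, hb, im_zpow F Q (hc b) ⟨ht, hb⟩ hxy hr⟩

/-- `g ∈ N(S) ∩ N(V)` permutes the root groups -/
theorem hn_gen (hc : ∀ b, Fintype.card (Om b) = 3) {g : G} (hg : g ∈ normalizer ((S : Subgroup G) : Set G))
    (hV : g ∈ normalizer (V : Set G)) {D : Subgroup (XH Q)} (hD : D ∈ FF S E Q) :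
    ∃ A ≤ (S : Subgroup G), im Q A = D ∧ im Q (MulAut.conj g • A) ∈ FF S E Q := by
  obtain ⟨b, rfl⟩ := hD
  obtain ⟨s, hs, x, y, hxy, hr⟩ := exists_tr F b
  have L := F.lett b
  have hT : TvV V (phi b {x, y}) s := AsmCls.transv F hs.2 hxy hr
  have hcV : phi b {x, y} ∈ V := F.toDec.NU b ((L.mem _).2 ⟨_, by rw [Finset.card_pair hxy]; exact even_two, rfl⟩)
  have hsne : s ∉ centralizer (V : Set G) := by
    intro h
    have h1 : Rel (phi b) s 1 := rel_one L (centralizer_le (F.toDec.NU b) h)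
    exact hxy (Equiv.swap_eq_one_iff.1 (L.unique (F.three b) hr h1))
  refine ⟨zpowers s, ?_, im_zpow F Q (hc b) hs hxy hr, ?_⟩
  · rw [zpowers_le]; exact hs.1
  have hgs : g * s * g⁻¹ ∈ (S : Subgroup G) := (mem_normalizer_iff.1 hg s).1 hs.1
  have hgc : g * phi b {x, y} * g⁻¹ ∈ V := (mem_normalizer_iff.1 hV _).1 hcV
  have hgT : TvV V (g * phi b {x, y} * g⁻¹) (g * s * g⁻¹) := by
    intro w hw
    have h1 : g⁻¹ * w * g ∈ V := by
      rw [mem_normalizer_iff.1 hV]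
      have e : g * (g⁻¹ * w * g) * g⁻¹ = w := by group
      rwa [e]
    have e : g * s * g⁻¹ * w * (g * s * g⁻¹)⁻¹ = g * (s * (g⁻¹ * w * g) * s⁻¹) * g⁻¹ := by group
    rcases hT _ h1 with h2 | h2
    · left
      rw [e, h2]; group
    · right
      rw [e, h2]; group
  have hgne : g * s * g⁻¹ ∉ centralizer (V : Set G) := by
    intro h
    apply hsne
    rw [mem_centralizer_iff] at h ⊢
    intro w hw
    have h1 := h _ ((mem_normalizer_iff.1 hV w).1 hw)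
    have e1 : g * (w * s) * g⁻¹ = g * (s * w) * g⁻¹ := by
      calc g * (w * s) * g⁻¹ = (g * w * g⁻¹) * (g * s * g⁻¹) := by group
        _ = (g * s * g⁻¹) * (g * w * g⁻¹) := h1
        _ = g * (s * w) * g⁻¹ := by group
    exact mul_left_cancel (mul_right_cancel e1)
  obtain ⟨c, hc1, hc2⟩ := of_tv F Q hc hgs hgc hgT hgne
  refine ⟨c, ?_⟩
  have e : MulAut.conj g • zpowers s = zpowers (g * s * g⁻¹) := by
    rw [show MulAut.conj g • zpowers s = (zpowers s).map (MulAut.conj g).toMonoidHom from rfl, MonoidHom.map_zpowers]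
    rfl
  rw [e]
  exact hc2.symm

omit F in
/-- `im Q S ⊓ im Q (E c) = im Q (S ⊓ E c)` -/
theorem im_inf (F : Full (S : Subgroup G) M V N E R₀ Om phi) (Q : Nrm M V) (c : I) :
    im Q (S : Subgroup G) ⊓ im Q (E c) ≤ im Q ((S : Subgroup G) ⊓ E c) := by
  rintro w ⟨h1, h2⟩
  obtain ⟨s, hs, rfl⟩ := mem_im.1 h1
  obtain ⟨e, he, h3⟩ := mem_im.1 h2
  refine mem_im.2 ⟨s, ⟨hs, ?_⟩, rfl⟩
  have h4 : ((e⁻¹ * s : M) : G) ∈ M ⊓ centralizer (V : Set G) := by
    refine ⟨(e⁻¹ * s : M).2, ?_⟩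
    have h5 : (e⁻¹ * s : M) ∈ (ph Q).ker := by rw [MonoidHom.mem_ker, map_mul, map_inv, h3, inv_mul_cancel]
    rwa [TypesNat.mem_ker Q] at h5
  have h5 := mul_mem he (F.CE c h4)
  rwa [coe_mul, coe_inv, mul_inv_cancel_left] at h5

/-- **`EEc`** -/
theorem conj_two (hc : ∀ b, Fintype.card (Om b) = 3) (hV2 : ∀ v : Q.Mod, v + v = 0) (g : XH Q)
    {D : Subgroup (XH Q)} (hD : D ∈ FF S E Q) (hle : MulAut.conj g • D ≤ im Q (S : Subgroup G)) :
    MulAut.conj g • D ∈ FF S E Q := by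
  obtain ⟨b, rfl⟩ := hD
  obtain ⟨x, rfl⟩ := ph_surj Q g
  obtain ⟨c, h1, h2⟩ := F.perm x x.2 b
  refine ⟨c, ?_⟩
  dsimp only at hle ⊢
  have h3 : MulAut.conj (ph Q x) • im Q ((S : Subgroup G) ⊓ E b) ≤ im Q ((S : Subgroup G) ⊓ E c) := by
    refine le_trans (le_inf hle ?_) (im_inf F Q c)
    rw [← im_conj]
    refine im_mono ?_
    rw [← h2]
    exact Subgroup.pointwise_smul_le_pointwise_smul_iff.2 inf_le_right
  refine (Subgroup.eq_of_le_of_card_ge h3 ?_).symm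
  rw [card_im F Q (hc c) hV2, Types.card_cj, card_im F Q (hc b) hV2]

end Cfsg.Agent.Omega.NOThreeL.RRed.Blk.AsmTwo

namespace Cfsg.Agent.Omega.NOThreeL.RRed.Blk.AsmTwo

open Subgroup Cfsg
open Cfsg.Agent.Omega.NOThreeL.RRed (Wd)
open Cfsg.Agent.Omega.NOThreeL.Merge (MZ)
open Cfsg.Agent.Omega.NOThreeL.RRed.TvFin (Full)
open Cfsg.Agent.Omega.NOThreeL.RSplit (Nrm)
open Cfsg.Agent.Omega.NOThreeL.RRed.Blk.TypesNat (XH im)
open scoped Pointwise

universe u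

variable {G : Type u} [Group G] [Finite G] {S : Sylow 2 G} {I : Type u} {N E : I → Subgroup G}
    {R₀ : Subgroup G} {Om : I → Type u} [∀ i, Fintype (Om i)] [∀ i, DecidableEq (Om i)] {phi : ∀ i, Finset (Om i) → G}
    (F : Full (S : Subgroup G) (MZ (S : Subgroup G)) (Wd (S : Subgroup G)) N E R₀ Om phi)
    (Q : Nrm (MZ (S : Subgroup G)) (Wd (S : Subgroup G)))
include F

/-- **The input of `nbs_of_fam`** : `N_G(S)` -/
theorem hn_two (hc : ∀ b, Fintype.card (Om b) = 3) :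
    ∀ g ∈ normalizer ((S : Subgroup G) : Set G), ∀ D ∈ FF S E Q, ∃ A ≤ (S : Subgroup G), im Q A = D ∧
      im Q (MulAut.conj g • A) ∈ FF S E Q :=
  fun _ hg _ hD => hn_gen F Q hc hg (AsmOneBlk.normS_le_Wd hg) hD

end Cfsg.Agent.Omega.NOThreeL.RRed.Blk.AsmTwo
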