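import Cfsg.Agent.Omega.NOThreeL.RRed.Blk.AsmTwo
import Cfsg.Agent.Omega.NOThreeL.RRed.Blk.AsmT

/-!
# NO-3L, box R: the `𝔽₂`-blocks with three letters, the group `T` (field `sD` of `NBs`)

`F : Full S M V N E R₀ Om phi`, `|Ω_b| = 3`.

* `nbt` : `Asm.NBT` with `T = im Q (E b)`;
* **`td_two`** : `AsmT.TD (im Q S) (im Q (S ⊓ E b)) (Q.ad (N b)) (Q.ad (Co N R₀ b))`.
-/

set_option autoImplicit false
set_option linter.unusedSectionVars false

namespace Cfsg.Agent.Omega.NOThreeL.RRed.Blk.AsmTwo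

open Subgroup Cfsg
open Cfsg.Agent.Omega.NOThreeL.RRed.TvFin (Full)
open Cfsg.Agent.Omega.NOThreeL.RRed.Blk
open Cfsg.Agent.Omega.NOThreeL.RRed.Blk.AsmTwoC (smul_of_norm)
open Cfsg.Agent.Omega.NOThreeL.RSplit (Nrm)
open Cfsg.Agent.Omega.NOThreeL.RRed.Blk.TypesNat (XH ph im mem_im im_conj im_mono)
open Cfsg.Agent.Omega.NOThreeL.RRed.Blk.AsmT (NBT TD)
open scoped Pointwise

universe u

variable {G : Type u} [Group G] [Finite G] {S : Sylow 2 G} {M V : Subgroup G} {I : Type u} {N E : I → Subgroup G}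
    {R₀ : Subgroup G} {Om : I → Type u} [∀ i, Fintype (Om i)] [∀ i, DecidableEq (Om i)] {phi : ∀ i, Finset (Om i) → G}
    (F : Full (S : Subgroup G) M V N E R₀ Om phi) (Q : Nrm M V)
include F

theorem nbt {b : I} (hc : Fintype.card (Om b) = 3) :
    NBT (im Q ((S : Subgroup G) ⊓ E b)) (im Q (E b)) (Q.ad (N b)) (Q.ad (Co N R₀ b)) := by
  obtain ⟨e, f, up, lo, h1, h2, h3, h4⟩ := bk F Q hc
  exact ⟨ZMod 2, inferInstance, inferInstance, e, f, up, lo, h1, h2, h4, h3⟩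

/-- `S` permutes the root groups and the groups `E b` in the same way -/
theorem smul_im {s : XH Q} (hs : s ∈ im Q (S : Subgroup G)) (b : I) :
    ∃ c, MulAut.conj s • im Q ((S : Subgroup G) ⊓ E b) = im Q ((S : Subgroup G) ⊓ E c) ∧
      MulAut.conj s • im Q (E b) = im Q (E c) := by
  obtain ⟨g, hg, rfl⟩ := mem_im.1 hs
  obtain ⟨c, -, h2⟩ := F.perm g g.2 b
  refine ⟨c, ?_, ?_⟩
  · rw [← im_conj, Subgroup.smul_inf, h2, smul_of_norm (le_normalizer hg)]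
  · rw [← im_conj, h2]

theorem td_two {b : I} (hc : Fintype.card (Om b) = 3) :
    TD (im Q (S : Subgroup G)) (im Q ((S : Subgroup G) ⊓ E b)) (Q.ad (N b)) (Q.ad (Co N R₀ b)) := by
  refine ⟨_, nbt F Q hc, fun s hs h => ?_⟩
  obtain ⟨c, h1, h2⟩ := smul_im F Q hs b
  rw [h1] at h
  rw [h2, im_inj F Q h]

end Cfsg.Agent.Omega.NOThreeL.RRed.Blk.AsmTwo
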