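import Cfsg.Agent.Omega.NOThreeL.RRed.Blk.AsmNDef

/-!
# NO-3L, box R, nonsplit blocks: the field `bad` on one block (helper502, #26560, #27278)

`α : V ≃+ V` of odd order, `φ : X → X` compatible with it; `α` normalises the root group, the line, the radical, the
complement and the block, fixes a vector with nonzero line component, and `[a, α]` centralises `[m, α]`.

* **`BkD.bad`**, **`NBd.bad`** : then `α` is trivial on the block.
-/

set_option autoImplicit false
set_option linter.unusedSectionVars false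

namespace Cfsg.Agent.Omega.NOThreeL.RRed.Blk.GamD

open Cfsg.Agent.Omega.NOThreeL.RRed.Blk.TypesGam (rt up_mem)

universe u v w

section

variable {X : Type u} {V : Type v} [Group X] [AddCommGroup V] [DistribMulAction X V]
variable {F : Type w} [Field F] {e f d : F →+ V} {C : AddSubgroup V} {up lo : F → X}

/-- components of an element of the block -/
theorem mem_blkD {v : V} (hv : v ∈ e.range ⊔ f.range ⊔ d.range) : ∃ x y z, v = e x + f y + d z := by
  obtain ⟨w, hw, c, ⟨z, rfl⟩, rfl⟩ := AddSubgroup.mem_sup.1 hv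
  obtain ⟨a, ⟨x, rfl⟩, b, ⟨y, rfl⟩, rfl⟩ := AddSubgroup.mem_sup.1 hw
  exact ⟨x, y, z, rfl⟩

/-- **`bad` on one block** -/
theorem BkD.bad (h : BkD e f d C up lo) (h2 : ∀ v : V, v + v = 0) (hf : ∀ x : X, (∀ v : V, x • v = v) → x = 1)
    (α : V ≃+ V) (φ : X → X) (ha : ∀ x v, φ x • α v = α (x • v)) {n : ℕ} (hn : Odd n) (hαn : ∀ v, (α^[n]) v = v)
    (hA : ∀ a ∈ rt up, φ a ∈ rt up) (hL : ∀ x, α (e x) ∈ e.range)
    (hN : ∀ x, α (f x) ∈ e.range ⊔ f.range ⊔ d.range) (hC : ∀ c ∈ C, α c ∈ C) (hZ : ∀ x, α (d x) ∈ d.range)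
    {v₀ : V} {x₀ : F} (h0 : x₀ ≠ 0) (hv : v₀ - e x₀ ∈ C) (hfix : α v₀ = v₀)
    (hcom : ∀ a ∈ rt up, ∀ m ∈ e.range ⊔ f.range ⊔ d.range, (a * (φ a)⁻¹) • (α m - m) = α m - m) :
    ∀ m ∈ e.range ⊔ f.range ⊔ d.range, α m = m := by
  have hF : ∀ x : F, x + x = 0 := h.two h2
  have hneg : ∀ v : V, -v = v := fun v => (eq_neg_of_add_eq_zero_left (h2 v)).symm
  have hnegF : ∀ x : F, -x = x := fun x => (eq_neg_of_add_eq_zero_left (hF x)).symm
  choose χ hχ using hL
  choose ζ hζ using hZ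
  have hN' : ∀ x, ∃ a b c, α (f x) = e a + f b + d c := fun x => mem_blkD (hN x)
  choose a ψ b hψ using hN'
  have hτ : ∀ t, ∃ s, up s = φ (up t) := fun t => (h.mem_rt h2 hf).1 (hA _ (up_mem t))
  choose τ hτ using hτ
  -- the relation
  have rel : ∀ t y, χ (t * y) = τ t * ψ y ∧ α (d (t * y ^ 2)) = d (τ t * ψ y ^ 2) := by
    intro t y
    have e1 := ha (up t) (f y)
    rw [← hτ, hψ, smul_add, smul_add, h.up_e, h.up_f, h.up_c _ _ (h.dC _), h.up_f, map_add, map_add, hψ, ← hχ] at e1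
    have e2 : e (τ t * ψ y) + d (τ t * ψ y ^ 2) = e (χ (t * y)) + α (d (t * y ^ 2)) := by
      have e3 : e (a y) + f (ψ y) + d (b y) + (e (τ t * ψ y) + d (τ t * ψ y ^ 2)) =
          e (a y) + f (ψ y) + d (b y) + (e (χ (t * y)) + α (d (t * y ^ 2))) := by
        calc _ = e (a y) + (f (ψ y) + e (τ t * ψ y) + d (τ t * ψ y ^ 2)) + d (b y) := by abel
          _ = _ := by rw [e1]; abel
      exact add_left_cancel e3
    have e4 : e (τ t * ψ y) + f 0 + d (τ t * ψ y ^ 2) = e (χ (t * y)) + f 0 + α (d (t * y ^ 2)) := by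
      rw [map_zero, add_zero, add_zero]; exact e2
    obtain ⟨h5, -, h6⟩ := h.uniq (h.dC _) (hC _ (h.dC _)) e4
    exact ⟨h5.symm, h6.symm⟩
  -- the commutator condition
  have com : ∀ t y, (t + τ t) * (y + ψ y) = 0 := by
    intro t y
    have e1 := hcom (up t) (up_mem t) (f y)
      (AddSubgroup.mem_sup_left (AddSubgroup.mem_sup_right ⟨y, rfl⟩))
    have e2 : α (f y) - f y = e (a y) + f (y + ψ y) + d (b y) := by
      rw [hψ, sub_eq_add_neg, hneg, map_add]; abel
    rw [← hτ, h.up_inv h2 hf, h.up_add hf, e2, smul_add, smul_add, h.up_e, h.up_f, h.up_c _ _ (h.dC _)] at e1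
    have e3 : e (a y) + f (y + ψ y) + d (b y) + (e ((t + τ t) * (y + ψ y)) + d ((t + τ t) * (y + ψ y) ^ 2)) =
        e (a y) + f (y + ψ y) + d (b y) + 0 := by
      rw [add_zero]
      refine Eq.trans ?_ e1
      abel
    have e4 := add_left_cancel e3
    have e5 : e ((t + τ t) * (y + ψ y)) + f 0 + d ((t + τ t) * (y + ψ y) ^ 2) = e 0 + f 0 + 0 := by
      rw [map_zero, map_zero, add_zero, add_zero, add_zero]; exact e4
    exact (h.uniq (h.dC _) (C.zero_mem) e5).1
  -- `χ x₀ = x₀`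
  have hx0 : χ x₀ = x₀ := by
    have e1 : e (χ x₀) + f 0 + α (v₀ - e x₀) = e x₀ + f 0 + (v₀ - e x₀) := by
      rw [map_sub, hfix, ← hχ]; abel
    exact (h.uniq (hC _ hv) hv e1).1
  have key : (∀ y, ψ y = y) ∧ (∀ t, τ t = t) ∧ ∀ x, χ x = x := by
    have hor : (∀ t, τ t = t) ∨ ∀ y, ψ y = y := by
      by_contra hc
      push Not at hc
      obtain ⟨⟨t, ht⟩, y, hy⟩ := hc
      rcases mul_eq_zero.1 (com t y) with h5 | h5
      · exact ht (by rw [add_comm] at h5; rw [eq_neg_of_add_eq_zero_left h5, hnegF])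
      · exact hy (by rw [add_comm] at h5; rw [eq_neg_of_add_eq_zero_left h5, hnegF])
    rcases hor with h5 | h5
    · have h6 : ∀ y, χ y = ψ y := fun y => by
        have := (rel 1 y).1
        rwa [h5, one_mul, one_mul] at this
      have h7 : ∀ t, ψ t = t * ψ 1 := fun t => by
        have := (rel t 1).1
        rwa [h5, mul_one, h6] at this
      have h8 : ψ 1 = 1 := by
        have h9 := hx0
        rw [h6, h7] at h9
        exact mul_left_cancel₀ h0 (h9.trans (mul_one _).symm)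
      have h9 : ∀ t, ψ t = t := fun t => by rw [h7, h8, mul_one]
      exact ⟨h9, h5, fun x => by rw [h6, h9]⟩
    · have h6 : ∀ t, χ t = τ t := fun t => by
        have := (rel t 1).1
        rwa [h5, mul_one, mul_one] at this
      have h7 : ∀ y, τ y = τ 1 * y := fun y => by
        have := (rel 1 y).1
        rwa [h5, one_mul, h6] at this
      have h8 : τ 1 = 1 := by
        have h9 := hx0
        rw [h6, h7] at h9
        exact mul_right_cancel₀ h0 (h9.trans (one_mul _).symm)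
      have h9 : ∀ t, τ t = t := fun t => by rw [h7, h8, one_mul]
      exact ⟨h5, h9, fun x => by rw [h6, h9]⟩
  obtain ⟨k1, k2, k3⟩ := key
  have ke : ∀ x, α (e x) = e x := fun x => by rw [← hχ, k3]
  have kd : ∀ x, α (d x) = d x := fun x => by
    have := (rel x 1).2
    rwa [k1, k2, one_pow, mul_one] at this
  have kf : ∀ x, α (f x) = f x + (e (a x) + d (b x)) := fun x => by rw [hψ, k1]; abel
  have k22 : ∀ m ∈ e.range ⊔ f.range ⊔ d.range, α (α m) = m := by
    intro m hm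
    obtain ⟨x, y, z, rfl⟩ := mem_blkD hm
    have e1 : α (e x + f y + d z) = e x + f y + d z + (e (a y) + d (b y)) := by
      rw [map_add, map_add, ke, kd, kf]; abel
    rw [e1, map_add, e1, map_add, ke, kd, add_assoc, h2, add_zero]
  -- odd order
  obtain ⟨k, rfl⟩ := hn
  intro m hm
  have k4 : ∀ j : ℕ, (α^[2 * j]) m = m := by
    intro j
    induction j with
    | zero => rfl
    | succ j ih =>
      rw [mul_add, mul_one, Function.iterate_add_apply]
      show (α^[2 * j]) (α (α m)) = m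
      rw [k22 m hm, ih]
  have k5 : α ((α^[2 * k]) m) = m := (Function.iterate_succ_apply' α (2 * k) m).symm.trans (hαn m)
  rwa [k4] at k5

end

end Cfsg.Agent.Omega.NOThreeL.RRed.Blk.GamD

namespace Cfsg.Agent.Omega.NOThreeL.RRed.Blk.AsmN

open Cfsg.Agent.Omega.NOThreeL.RRed.Blk.TypesGam (rt)
open Cfsg.Agent.Omega.NOThreeL.RRed.Blk.GamD (BkD)

universe u v

variable {X : Type u} {V : Type v} [Group X] [AddCommGroup V] [DistribMulAction X V]

/-- **`bad` on one block** -/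
theorem NBd.bad {D : Subgroup X} {N C L Z : AddSubgroup V} (h : NBd D N C L Z) (h2 : ∀ v : V, v + v = 0)
    (hf : ∀ x : X, (∀ v : V, x • v = v) → x = 1) (α : V ≃+ V) (φ : X → X) (ha : ∀ x v, φ x • α v = α (x • v))
    {n : ℕ} (hn : Odd n) (hαn : ∀ v, (α^[n]) v = v) (hA : ∀ a ∈ D, φ a ∈ D) (hL : ∀ x ∈ L, α x ∈ L)
    (hN : ∀ x ∈ N, α x ∈ N) (hC : ∀ c ∈ C, α c ∈ C) (hZ : ∀ x ∈ Z, α x ∈ Z) {v₀ : V}
    (hv : ∃ x ∈ L, x ≠ 0 ∧ v₀ - x ∈ C) (hfix : α v₀ = v₀)
    (hcom : ∀ a ∈ D, ∀ m ∈ N, (a * (φ a)⁻¹) • (α m - m) = α m - m) : ∀ m ∈ N, α m = m := by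
  obtain ⟨F, _, _, e, f, d, up, lo, hB, rfl, rfl, rfl, rfl⟩ := h.ex
  obtain ⟨_, ⟨x₀, rfl⟩, h0, hv⟩ := hv
  refine hB.bad h2 hf α φ ha hn hαn hA (fun x => hL _ ⟨x, rfl⟩) (fun x => hN _ ?_) hC (fun x => hZ _ ⟨x, rfl⟩)
    (fun hc => h0 (by rw [hc, map_zero])) hv hfix hcom
  exact AddSubgroup.mem_sup_left (AddSubgroup.mem_sup_right ⟨x, rfl⟩)

end Cfsg.Agent.Omega.NOThreeL.RRed.Blk.AsmN
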