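import Cfsg.Agent.Omega.NOThreeL.RRed.Blk.AsmN
import Cfsg.Agent.Omega.NOThreeL.RRed.Blk.TypesNormN

/-!
# NO-3L, box R, nonsplit blocks: the field `bad`, module level (helper878, bb #27357)

`FamN S EE FF N C L Z` (helper19), `α : V ≃+ V` and `φ : X ≃* X` with `α (x v) = φ(x) α(v)`, `φ` permutes `EE`,
`α (⨆ N D) ≤ ⨆ N D`, `(a φ(a)⁻¹)` fixes `α m - m` for `a ∈ A ∈ EE`, `m ∈ ⨆ N D` : `AutN EE (⨆ N D) α φ`.

* `blk` : one block, `φ(A) = A`;
* **`bad`** : if `α` has odd order and fixes a vector all of whose `L`-components are `≠ 0` then `α` is trivial on `⨆ N D`.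
-/

set_option autoImplicit false
set_option linter.unusedSectionVars false

namespace Cfsg.Agent.Omega.NOThreeL.RRed.Blk.BadFam

open Cfsg.Agent.Omega.NOThreeL.RRed.Blk.TypesGam (rt up_mem)
open Cfsg.Agent.Omega.NOThreeL.RRed.Blk.GamD (BkD)
open Cfsg.Agent.Omega.NOThreeL.RRed.Blk.AsmN (FamN GBd NBd)
open scoped Pointwise

universe u v w

variable {X : Type u} {V : Type v} [Group X] [AddCommGroup V] [DistribMulAction X V]

/-- an automorphism of `(X, V)` with the commutator condition -/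
structure AutN (EE : Set (Subgroup X)) (B : AddSubgroup V) (α : V ≃+ V) (φ : X ≃* X) : Prop where
  smul : ∀ (x : X) (v : V), α (x • v) = φ x • α v
  E : ∀ A ∈ EE, A.map φ.toMonoidHom ∈ EE
  E' : ∀ A' ∈ EE, ∃ A ∈ EE, A' = A.map φ.toMonoidHom
  nB : ∀ m ∈ B, α m ∈ B
  com : ∀ A ∈ EE, ∀ a ∈ A, ∀ m ∈ B, (a * (φ a)⁻¹) • (α m - m) = α m - m

theorem iter_two {α : V ≃+ V} {m : V} (h : α (α m) = m) {n : ℕ} (hn : Odd n) : (⇑α)^[n] m = α m := by
  obtain ⟨k, rfl⟩ := hn
  change (⇑α)^[(2 * k).succ] m = α m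
  rw [Function.iterate_succ_apply']
  congr 1
  induction k with
  | zero => rfl
  | succ k ih =>
    have e : 2 * (k + 1) = 2 * k + 2 := by ring
    rw [e, Function.iterate_add_apply]
    change (⇑α)^[2 * k] (α (α m)) = m
    rw [h, ih]

/-- **one block** -/
theorem blk (h2 : ∀ v : V, v + v = 0) (hf : ∀ x : X, (∀ v : V, x • v = v) → x = 1)
    {F : Type w} [Field F] {e f d : F →+ V} {C : AddSubgroup V} {up lo : F → X} (h : BkD e f d C up lo)
    {α : V ≃+ V} {φ : X ≃* X} (hs : ∀ (x : X) (v : V), α (x • v) = φ x • α v)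
    (hD : ∀ a ∈ rt up, φ a ∈ rt up)
    (hL : ∀ v ∈ e.range, α v ∈ e.range) (hC : ∀ v ∈ C, α v ∈ C)
    (hN : ∀ v ∈ (e.range ⊔ f.range) ⊔ d.range, α v ∈ (e.range ⊔ f.range) ⊔ d.range)
    (hcom : ∀ a ∈ rt up, ∀ m ∈ (e.range ⊔ f.range) ⊔ d.range, (a * (φ a)⁻¹) • (α m - m) = α m - m)
    {n : ℕ} (hn : Odd n) (hα : ∀ v, (⇑α)^[n] v = v)
    {e₀ : V} (he : α e₀ = e₀) (hc : ∃ x ∈ e.range, x ≠ 0 ∧ e₀ - x ∈ C) :
    ∀ m ∈ (e.range ⊔ f.range) ⊔ d.range, α m = m := by
  obtain ⟨_, ⟨x₀, rfl⟩, hx0, hxc⟩ := hc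
  have hx0' : x₀ ≠ 0 := fun h1 => hx0 (by rw [h1, map_zero])
  have hfN : ∀ y, f y ∈ (e.range ⊔ f.range) ⊔ d.range := fun y =>
    AddSubgroup.mem_sup_left (AddSubgroup.mem_sup_right ⟨y, rfl⟩)
  choose χ hχ using fun x : F => (show ∃ x', e x' = α (e x) from hL _ ⟨x, rfl⟩)
  choose τ hτ using fun t : F => (h.mem_rt h2 hf).1 (hD (up t) (up_mem t))
  choose γ ψ c hcC hψ using fun y : F => h.dec (α (f y))
  -- `α` fixes `e x₀`
  have hχ0 : χ x₀ = x₀ := by
    have h1 : α (e₀ - e x₀) ∈ C := hC _ hxc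
    rw [map_sub, he] at h1
    have h3 : e (χ x₀ - x₀) + f 0 ∈ C := by
      rw [map_sub, map_zero, add_zero, hχ]
      have e1 : α (e x₀) - e x₀ = (e₀ - e x₀) - (e₀ - α (e x₀)) := by abel
      rw [e1]
      exact C.sub_mem hxc h1
    exact sub_eq_zero.1 (h.ind _ _ h3).1
  -- (1)
  have key1 : ∀ t y, χ (t * y) = τ t * ψ y ∧ α (d (t * y ^ 2)) = d (τ t * ψ y ^ 2) := by
    intro t y
    have h1 := hs (up t) (f y)
    rw [h.up_f, map_add, map_add, ← hτ t, hψ y, smul_add, smul_add, h.up_e, h.up_f, h.up_c _ _ (hcC y), ← hχ] at h1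
    have h3 : e (χ (t * y)) + f 0 + α (d (t * y ^ 2)) = e (τ t * ψ y) + f 0 + d (τ t * ψ y ^ 2) := by
      rw [map_zero, add_zero, add_zero]
      have e1 : e (γ y) + f (ψ y) + c y + e (χ (t * y)) + α (d (t * y ^ 2)) =
          (e (γ y) + f (ψ y) + c y) + (e (χ (t * y)) + α (d (t * y ^ 2))) := by abel
      have e2 : e (γ y) + (f (ψ y) + e (τ t * ψ y) + d (τ t * ψ y ^ 2)) + c y =
          (e (γ y) + f (ψ y) + c y) + (e (τ t * ψ y) + d (τ t * ψ y ^ 2)) := by abel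
      rw [e1, e2] at h1
      exact add_left_cancel h1
    obtain ⟨h4, -, h5⟩ := h.uniq (hC _ (h.dC _)) (h.dC _) h3
    exact ⟨h4, h5⟩
  -- (2)
  have key2 : ∀ t y, (t + τ t) * (ψ y - y) = 0 := by
    intro t y
    have h1 := hcom (up t) (up_mem t) (f y) (hfN y)
    rw [← hτ t, h.up_inv h2 hf, h.up_add hf, hψ y] at h1
    have e1 : e (γ y) + f (ψ y) + c y - f y = e (γ y) + f (ψ y - y) + c y := by rw [map_sub]; abel
    rw [e1, smul_add, smul_add, h.up_e, h.up_f, h.up_c _ _ (hcC y)] at h1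
    have h3 : e ((t + τ t) * (ψ y - y)) + f 0 + d ((t + τ t) * (ψ y - y) ^ 2) = e 0 + f 0 + 0 := by
      rw [map_zero, map_zero, add_zero, add_zero, add_zero]
      have e2 : e (γ y) + (f (ψ y - y) + e ((t + τ t) * (ψ y - y)) + d ((t + τ t) * (ψ y - y) ^ 2)) + c y =
          (e (γ y) + f (ψ y - y) + c y) + (e ((t + τ t) * (ψ y - y)) + d ((t + τ t) * (ψ y - y) ^ 2)) := by abel
      rw [e2] at h1
      exact add_eq_left.1 h1
    exact (h.uniq (h.dC _) C.zero_mem h3).1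
  have hF2 : ∀ x : F, x + x = 0 := h.two h2
  -- the identities
  have hid : (∀ x, χ x = x) ∧ (∀ y, ψ y = y) ∧ ∀ t, τ t = t := by
    by_cases hψi : ∀ y, ψ y = y
    · have h1 : ∀ t y, χ (t * y) = τ t * y := fun t y => by rw [(key1 t y).1, hψi]
      have h3 : τ 1 = 1 := by
        have h4 := h1 1 x₀
        rw [one_mul, hχ0] at h4
        exact mul_right_cancel₀ hx0' (by rw [← h4, one_mul])
      have h4 : ∀ x, χ x = x := fun x => by
        have h5 := h1 1 x
        rwa [one_mul, h3, one_mul] at h5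
      refine ⟨h4, hψi, fun t => ?_⟩
      have h5 := h1 t 1
      rw [mul_one, mul_one, h4] at h5
      exact h5.symm
    · push Not at hψi
      obtain ⟨y₀, hy₀⟩ := hψi
      have hτi : ∀ t, τ t = t := fun t => by
        rcases mul_eq_zero.1 (key2 t y₀) with h1 | h1
        · have h3 := hF2 t
          have h4 : t + τ t = t + t := by rw [h1, h3]
          exact add_left_cancel h4
        · exact (hy₀ (sub_eq_zero.1 h1)).elim
      have h1 : ∀ t y, χ (t * y) = t * ψ y := fun t y => by rw [(key1 t y).1, hτi]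
      have h3 : ψ 1 = 1 := by
        have h4 := h1 x₀ 1
        rw [mul_one, hχ0] at h4
        exact mul_left_cancel₀ hx0' (by rw [← h4, mul_one])
      have h4 : ∀ x, χ x = x := fun x => by
        have h5 := h1 x 1
        rwa [mul_one, h3, mul_one] at h5
      refine ⟨h4, fun y => ?_, hτi⟩
      have h5 := h1 1 y
      rw [one_mul, one_mul, h4] at h5
      exact h5.symm
  obtain ⟨hχi, hψi, hτi⟩ := hid
  have ae : ∀ x, α (e x) = e x := fun x => by rw [← hχ, hχi]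
  have ad : ∀ x, α (d x) = d x := fun x => by
    have h1 := (key1 x 1).2
    rwa [hτi, hψi, one_pow, mul_one] at h1
  -- `α` is trivial on `f F`
  have af : ∀ y, α (f y) = f y := by
    intro y
    have h1 : α (f y) ∈ (e.range ⊔ f.range) ⊔ d.range := hN _ (hfN y)
    obtain ⟨m, hm, _, ⟨z, rfl⟩, h3⟩ := AddSubgroup.mem_sup.1 h1
    obtain ⟨_, ⟨x', rfl⟩, _, ⟨y', rfl⟩, rfl⟩ := AddSubgroup.mem_sup.1 hm
    have h4 := hψ y
    rw [hψi, ← h3] at h4
    obtain ⟨h5, h6, h7⟩ := h.uniq (h.dC z) (hcC y) h4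
    have h8 : α (f y) = f y + (e (γ y) + d z) := by rw [hψ y, hψi, h7]; abel
    have h9 : α (α (f y)) = f y := by
      rw [h8, map_add, map_add, ae, ad, h8, add_assoc, h2, add_zero]
    have h10 := iter_two h9 hn
    rw [hα] at h10
    exact h10.symm
  intro m hm
  obtain ⟨m', hm', _, ⟨z, rfl⟩, rfl⟩ := AddSubgroup.mem_sup.1 hm
  obtain ⟨_, ⟨x', rfl⟩, _, ⟨y', rfl⟩, rfl⟩ := AddSubgroup.mem_sup.1 hm'
  rw [map_add, map_add, ae, af, ad]

section fam

variable {S : Subgroup X} {EE FF : Set (Subgroup X)} {N C L Z : Subgroup X → AddSubgroup V}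

/-- `φ(D) ∈ FF` -/
theorem mem_FF (h2 : ∀ v : V, v + v = 0) (hf : ∀ x : X, (∀ v : V, x • v = v) → x = 1) (h : FamN S EE FF N C L Z)
    {α : V ≃+ V} {φ : X ≃* X} (a : AutN EE (⨆ D ∈ FF, N D) α φ) {D : Subgroup X} (hD : D ∈ FF) :
    D.map φ.toMonoidHom ∈ FF := by
  by_contra hcon
  have hDE := a.E D (h.sub hD)
  -- `φ(D)` centralises `⨆ N D`
  have h1 : ∀ x ∈ D.map φ.toMonoidHom, ∀ m ∈ (⨆ D ∈ FF, N D : AddSubgroup V), x • m = m := by
    intro x hx
    have h3 : (⨆ D ∈ FF, N D : AddSubgroup V) ≤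
        { carrier := {m : V | x • m = m}
          zero_mem' := smul_zero x
          add_mem' := fun {a b} (ha : x • a = a) (hb : x • b = b) => by
            change x • (a + b) = a + b
            rw [smul_add, ha, hb]
          neg_mem' := fun {a} (ha : x • a = a) => by
            change x • (-a) = -a
            rw [smul_neg, ha] } := by
      refine iSup₂_le fun D' hD' m hm => ?_
      exact (h.gb D' hD').oth _ hDE (fun e => hcon (e ▸ hD')) x hx m hm
    exact fun m hm => h3 hm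
  obtain ⟨F, i1, i2, e, f, d, up, lo, hb, hrt, hN, hL, hZ⟩ := (h.gb D hD).nb.ex
  have hfN : f 1 ∈ N D := by
    rw [← hN]
    exact AddSubgroup.mem_sup_left (AddSubgroup.mem_sup_right ⟨1, rfl⟩)
  have h3 : φ (up 1) • α (f 1) = α (f 1) := by
    refine h1 _ ⟨up 1, ?_, rfl⟩ _ (a.nB _ ?_)
    · rw [SetLike.mem_coe, ← hrt]
      exact up_mem 1
    · exact (le_iSup₂_of_le (f := fun (D : Subgroup X) (_ : D ∈ FF) => N D) D hD le_rfl) hfN
  rw [← a.smul] at h3
  have h4 := α.injective h3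
  rw [hb.up_f, mul_one, one_pow, mul_one, add_assoc] at h4
  have h5 : e 1 + f 0 + d 1 = e 0 + f 0 + 0 := by
    rw [map_zero, map_zero, add_zero, add_zero, add_zero]
    exact add_eq_left.1 h4
  exact one_ne_zero (hb.uniq (hb.dC _) (C D).zero_mem h5).1

/-- **the field `bad`, module level** -/
theorem bad (h2 : ∀ v : V, v + v = 0) (hf : ∀ x : X, (∀ v : V, x • v = v) → x = 1) (h : FamN S EE FF N C L Z)
    {α : V ≃+ V} {φ : X ≃* X} (a : AutN EE (⨆ D ∈ FF, N D) α φ) {n : ℕ} (hn : Odd n) (hα : ∀ v, (⇑α)^[n] v = v)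
    {e₀ : V} (he : α e₀ = e₀) (hc : ∀ D ∈ FF, ∃ x ∈ L D, x ≠ 0 ∧ e₀ - x ∈ C D) :
    ∀ m ∈ (⨆ D ∈ FF, N D : AddSubgroup V), α m = m := by
  have hNB : ∀ D ∈ FF, ∀ m ∈ N D, m ∈ (⨆ D ∈ FF, N D : AddSubgroup V) := fun D hD m hm =>
    (le_iSup₂_of_le (f := fun (D : Subgroup X) (_ : D ∈ FF) => N D) D hD le_rfl) hm
  have key : ∀ D ∈ FF, ∀ m ∈ N D, α m = m := by
    intro D hD
    have hD' := mem_FF h2 hf h a hD
    obtain ⟨u1, u2, u3, -⟩ := h.uniq _ hD' _ _ _ _
      (TypesNat.GBd_tr (h.gb D hD) α φ a.smul (EE' := EE) a.E')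
    have nN : ∀ m ∈ N D, α m ∈ N (D.map φ.toMonoidHom) := fun m hm => by rw [← u1]; exact ⟨m, hm, rfl⟩
    obtain ⟨F, i1, i2, e, f, d, up, lo, hb, hrt, hN, hL, hZ⟩ := (h.gb D hD).nb.ex
    have hDD : D.map φ.toMonoidHom = D := by
      by_contra hne
      have hup : up 1 ∈ D := by rw [← hrt]; exact up_mem 1
      have hf1 : f 1 ∈ N D := by
        rw [← hN]
        exact AddSubgroup.mem_sup_left (AddSubgroup.mem_sup_right ⟨1, rfl⟩)
      have hx : f 1 + e 1 + d 1 ∈ N D := by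
        rw [← hN]
        exact AddSubgroup.add_mem _ (AddSubgroup.mem_sup_left (AddSubgroup.add_mem _
          (AddSubgroup.mem_sup_right ⟨1, rfl⟩) (AddSubgroup.mem_sup_left ⟨1, rfl⟩)))
          (AddSubgroup.mem_sup_right ⟨1, rfl⟩)
      have h1 := a.com D (h.sub hD) (up 1) hup (f 1) (hNB D hD _ hf1)
      -- `φ(D)` centralises `N D`
      have h3 : (φ (up 1))⁻¹ • f 1 = f 1 := by
        rw [inv_smul_eq_iff]
        exact ((h.gb D hD).oth _ (h.sub hD') hne (φ (up 1)) ⟨up 1, hup, rfl⟩ _ hf1).symm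
      have h4 : (φ (up 1))⁻¹ • α (f 1) = α (f 1 + e 1 + d 1) := by
        rw [← map_inv, ← a.smul, hb.up_inv h2 hf, hb.up_f, mul_one, one_pow, mul_one]
      have h5 : up 1 • α (f 1 + e 1 + d 1) = α (f 1 + e 1 + d 1) :=
        (h.gb _ hD').oth D (h.sub hD) (Ne.symm hne) (up 1) hup _ (nN _ hx)
      rw [mul_smul, smul_sub (φ (up 1))⁻¹, h3, h4, smul_sub, h5, hb.up_f, mul_one, one_pow, mul_one] at h1
      have h6 : α (e 1 + d 1) = e 1 + d 1 := by
        have e1 : α (f 1 + e 1 + d 1) = α (f 1) + α (e 1 + d 1) := by rw [← map_add, add_assoc]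
        rw [e1] at h1
        have e2 : α (e 1 + d 1) = (α (f 1) + α (e 1 + d 1) - (f 1 + e 1 + d 1)) - (α (f 1) - f 1) + (e 1 + d 1) := by
          abel
        rw [e2, h1]
        abel
      have hed : e 1 + d 1 ∈ N D := by
        rw [← hN]
        exact AddSubgroup.add_mem _ (AddSubgroup.mem_sup_left (AddSubgroup.mem_sup_left ⟨1, rfl⟩))
          (AddSubgroup.mem_sup_right ⟨1, rfl⟩)
      have h7 : e 1 + d 1 ∈ C D := by
        rw [← h6]
        exact h.ind D hD _ hD' hne (nN _ hed)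
      have h8 : e 1 + f 0 ∈ C D := by
        rw [map_zero, add_zero]
        have e1 : e 1 = e 1 + d 1 - d 1 := by abel
        rw [e1]
        exact (C D).sub_mem h7 (hb.dC _)
      exact one_ne_zero (hb.ind _ _ h8).1
    rw [hDD] at u1 u2 u3
    intro m hm
    rw [← hN] at hm
    refine blk h2 hf hb a.smul ?_ ?_ ?_ ?_ ?_ hn hα he ?_ m hm
    · intro x hx
      rw [hrt] at hx ⊢
      rw [← hDD]
      exact ⟨x, hx, rfl⟩
    · intro v hv
      rw [hL] at hv ⊢
      rw [← u3]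
      exact ⟨v, hv, rfl⟩
    · intro v hv
      rw [← u2]
      exact ⟨v, hv, rfl⟩
    · intro v hv
      rw [hN] at hv ⊢
      rw [← u1]
      exact ⟨v, hv, rfl⟩
    · intro x hx m hm
      rw [hrt] at hx
      rw [hN] at hm
      exact a.com D (h.sub hD) x hx m (hNB D hD m hm)
    · rw [hL]
      exact hc D hD
  intro m hm
  have h1 : (⨆ D ∈ FF, N D : AddSubgroup V) ≤
      { carrier := {m : V | α m = m}
        zero_mem' := map_zero α
        add_mem' := fun {a b} (ha : α a = a) (hb : α b = b) => by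
          change α (a + b) = a + b
          rw [map_add, ha, hb]
        neg_mem' := fun {a} (ha : α a = a) => by
          change α (-a) = -a
          rw [map_neg, ha] } := iSup₂_le fun D hD m hm => key D hD m hm
  exact h1 hm

end fam

end Cfsg.Agent.Omega.NOThreeL.RRed.Blk.BadFam
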