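import Cfsg.Agent.Omega.NOThreeL.RRed.Blk.AsmN2
import Cfsg.Agent.Omega.NOThreeL.RRed.Blk.BadBkD

/-!
# NO-3L, box R, nonsplit blocks: the field `bad` on a family of blocks (helper502, #26560, #27278, #27357)

`F : FamN S EE FF N C L Z`, `x ∈ X` of odd order permutes `EE`, fixes a vector all of whose line components are nonzero, and
`[a, x]` centralises `[m, x]` for `a ∈ D ∈ FF`, `m ∈ ⨆ N`.

* `FamN.badX_D` : `x` normalises every `D ∈ FF`;
* **`FamN.badX`** : `x` is trivial on `⨆ N`.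
-/

set_option autoImplicit false
set_option linter.unusedSectionVars false

namespace Cfsg.Agent.Omega.NOThreeL.RRed.Blk.AsmN

open Cfsg.Agent.Omega.NOThreeL.RRed.NS (fxd brk mem_fxd)
open Cfsg.Agent.Omega.NOThreeL.RRed.Blk.TypesGam (rt up_mem)
open Cfsg.Agent.Omega.NOThreeL.RRed.Blk.Types
open Cfsg.Agent.Omega.NOThreeL.RRed.Blk.GamD
open Cfsg.Agent.Omega.NOThreeL.RRed.Blk.Asm (St)
open scoped Pointwise

universe u v

variable {X : Type u} {V : Type v} [Group X] [AddCommGroup V] [DistribMulAction X V]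

/-- `D` moves `N` modulo `C`, and `[V, D] ≤ N` -/
theorem NBd.mvX {D : Subgroup X} {N C L Z : AddSubgroup V} (h : NBd D N C L Z) (h2 : ∀ v : V, v + v = 0)
    (hf : ∀ x : X, (∀ v : V, x • v = v) → x = 1) :
    (∃ a ∈ D, ∃ n ∈ N, a • n - n ∉ C) ∧ ∀ a ∈ D, ∀ v : V, a • v - v ∈ N := by
  obtain ⟨F, _, _, e, f, d, up, lo, hb, rfl, rfl, rfl, rfl⟩ := h.ex
  refine ⟨⟨up 1, up_mem _, f 1, AddSubgroup.mem_sup_left (AddSubgroup.mem_sup_right ⟨1, rfl⟩), fun h1 => ?_⟩,
    fun a ha v => ?_⟩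
  · rw [hb.up_f, mul_one, one_pow, mul_one] at h1
    have h3 : e 1 + f 0 ∈ C := by
      have h5 := sub_mem h1 (hb.dC 1)
      have e1 : f 1 + e 1 + d 1 - f 1 - d 1 = e 1 + f 0 := by rw [map_zero]; abel
      rwa [e1] at h5
    exact one_ne_zero (hb.ind 1 0 h3).1
  · exact (brk_rt_le hb h2 hf).trans (sup_le (le_sup_left.trans le_sup_left) le_sup_right) (sub_mem_brk ha v)

namespace FamN

variable {S : Subgroup X} {EE FF : Set (Subgroup X)} {N C L Z : Subgroup X → AddSubgroup V}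
  (F : FamN S EE FF N C L Z) (h2 : ∀ v : V, v + v = 0) (hf : ∀ x : X, (∀ v : V, x • v = v) → x = 1)
include F h2 hf

/-- `x` normalises every root group -/
theorem badX_D {x : X} (hx : x ∈ St EE)
    (hcom : ∀ D ∈ FF, ∀ a ∈ D, ∀ m ∈ N D, (a * (x * a * x⁻¹)⁻¹) • (x • m - m) = x • m - m) :
    ∀ D ∈ FF, MulAut.conj x • D = D := by
  intro D hD
  by_contra hne
  obtain ⟨hD', hN, -, -, -⟩ := F.st x hx D hD
  obtain ⟨⟨a, ha, m, hm, hmv⟩, hbr⟩ := (F.gb D hD).nb.mvX h2 hf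
  refine hmv ?_
  have e1 := hcom D hD a ha m hm
  have c1 : (x * a * x⁻¹)⁻¹ • m = m := by
    refine F.cent_N hD hD' hne _ (inv_mem ?_) m hm
    exact Subgroup.mem_smul_pointwise_iff_exists _ _ _ |>.2 ⟨a, ha, rfl⟩
  have h3 : a⁻¹ • m ∈ N D := by
    have e2 : a⁻¹ • m = (a⁻¹ • m - m) + m := by abel
    rw [e2]
    exact add_mem (hbr _ (inv_mem ha) _) hm
  have c2 : a • x • a⁻¹ • m = x • a⁻¹ • m :=
    F.cent_N hD' hD (fun e => hne e.symm) _ ha _ ((hN _).1 h3)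
  have e3 : (x * a * x⁻¹)⁻¹ • x • m = x • a⁻¹ • m := by
    rw [← mul_smul, ← mul_smul]
    congr 1
    group
  rw [mul_smul, smul_sub, c1, e3, smul_sub, c2] at e1
  have e4 : a • m - m = x • (a⁻¹ • m - m) := by
    rw [smul_sub, sub_eq_sub_iff_add_eq_add]
    have e5 := sub_eq_sub_iff_add_eq_add.1 e1
    rw [add_comm, ← e5, add_comm]
  rw [e4]
  exact F.ind D hD _ hD' hne ((hN _).1 (sub_mem h3 hm))

/-- **`bad` on a family of blocks** -/
theorem badX {x : X} (hx : x ∈ St EE) {n : ℕ} (hn : Odd n) (hxn : x ^ n = 1) {v₀ : V}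
    (hv : ∀ D ∈ FF, ∃ l ∈ L D, l ≠ 0 ∧ v₀ - l ∈ C D) (hfix : x • v₀ = v₀)
    (hcom : ∀ D ∈ FF, ∀ a ∈ D, ∀ m ∈ N D, (a * (x * a * x⁻¹)⁻¹) • (x • m - m) = x • m - m) :
    ∀ m ∈ sN FF N, x • m = m := by
  have key : ∀ D ∈ FF, N D ≤ (fxd (Subgroup.zpowers x) : AddSubgroup V) := by
    intro D hD
    have hcD := F.badX_D h2 hf hx hcom D hD
    obtain ⟨-, hN, hC, hL, hZ⟩ := F.st x hx D hD
    rw [hcD] at hN hC hL hZ
    have hit : ∀ (k : ℕ) (v : V), ((DistribMulAction.toAddEquiv V x)^[k]) v = x ^ k • v := by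
      intro k
      induction k with
      | zero => intro v; rw [pow_zero, one_smul]; rfl
      | succ k ih =>
        intro v
        rw [Function.iterate_succ_apply', ih, pow_succ', mul_smul]
        rfl
    have h3 : ∀ m ∈ N D, DistribMulAction.toAddEquiv V x m = m := by
      refine (F.gb D hD).nb.bad h2 hf (DistribMulAction.toAddEquiv V x) (fun a => x * a * x⁻¹) (fun a v => ?_) hn
        (fun v => ?_) (fun a ha => ?_) (fun m => (hL m).1) (fun m => (hN m).1) (fun m => (hC m).1) (fun m => (hZ m).1)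
        (hv D hD) hfix (hcom D hD)
      · show (x * a * x⁻¹) • x • v = x • a • v
        rw [← mul_smul, ← mul_smul]
        congr 1
        group
      · rw [hit, hxn, one_smul]
      · have h5 : x * a * x⁻¹ ∈ MulAut.conj x • D := Subgroup.mem_smul_pointwise_iff_exists _ _ _ |>.2 ⟨a, ha, rfl⟩
        rwa [hcD] at h5
    intro m hm
    rw [mem_fxd]
    intro y hy
    have h5 : Subgroup.zpowers x ≤ MulAction.stabilizer X m :=
      (Subgroup.zpowers_le).2 (MulAction.mem_stabilizer_iff.2 (h3 m hm))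
    exact MulAction.mem_stabilizer_iff.1 (h5 hy)
  intro m hm
  have h5 : sN FF N ≤ (fxd (Subgroup.zpowers x) : AddSubgroup V) := iSup₂_le key
  exact (mem_fxd.1 (h5 hm)) x (Subgroup.mem_zpowers x)

end FamN

end Cfsg.Agent.Omega.NOThreeL.RRed.Blk.AsmN
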