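import Cfsg.Agent.Omega.NOThreeL.RRed.NS.Three

/-!
# NO-3L, box R: THEOREM TYPES (helper797, #24779), abstract part: (T0), (T1), (T3)

`X` acts faithfully on the elementary abelian 2-group `M`, `|F| ≤ |M : C_M(F)|` for all elementary abelian `F ≤ X`
(`Sit X`).

* `Sit.eq_of_le` (T0) : an exact `D ≤ F`, `C_M(D) ≤ C_M(F)` implies `F = D`;
* `Sit.cent` (T1) : `D` exact and quadratic, `[M, K] ≤ C_M(D)`, `K` generated by `K`-conjugates of groups which commute
  with `D`: `K` centralises `D` and `[M, D]`;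
* `Sit.keep`, `Sit.kill` (T3) : `M = N × C`, `τ` is trivial on `C`, without fixed points on `N`, normalises the exact
  group `D`, `C_M(D) = R × C`; `B` exact, commutes with `D`, `[M, B] ≤ C_M(D)`, `R ≤ C_M(B)`, `R ∩ [M, B] = 0`. Then `B`
  normalises `C`; if moreover `[M, B] ≤ C`, then `B` centralises `N`.
-/

set_option autoImplicit false
set_option linter.unusedSectionVars false

namespace Cfsg.Agent.Omega.NOThreeL.RRed.Blk.Types

open Subgroup
open scoped Pointwise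
open Cfsg.Agent.Omega.NOThreeL.RRed.NS (fxd brk mem_fxd)

universe u v

variable {H : Type u} {M : Type v} [Group H] [AddCommGroup M] [DistribMulAction H M]

/-- `X` is faithful on the elementary abelian 2-group `M`, without over-offenders. -/
structure Sit (M : Type v) [AddCommGroup M] [DistribMulAction H M] (X : Subgroup H) : Prop where
  faith : ∀ h ∈ X, (∀ m : M, h • m = m) → h = 1
  ch : ∀ m : M, m + m = 0
  no : ∀ F ≤ X, (∀ x ∈ F, x * x = 1) → (∀ x ∈ F, ∀ y ∈ F, x * y = y * x) →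
    Nat.card F * Nat.card (fxd F : AddSubgroup M) ≤ Nat.card M

/-- elementary abelian -/
structure El (F : Subgroup H) : Prop where
  sq : ∀ x ∈ F, x * x = 1
  cm : ∀ x ∈ F, ∀ y ∈ F, x * y = y * x

theorem sub_mem_brk {A : Subgroup H} {a : H} (ha : a ∈ A) (m : M) : a • m - m ∈ brk M A :=
  AddSubgroup.subset_closure ⟨a, ha, m, rfl⟩

theorem brk_le {A : Subgroup H} {W : AddSubgroup M} (h : ∀ a ∈ A, ∀ m : M, a • m - m ∈ W) : brk M A ≤ W := by
  unfold brk
  rw [AddSubgroup.closure_le]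
  rintro m ⟨a, ha, v, rfl⟩
  exact h a ha v

theorem mem_cj {x y : H} {A : Subgroup H} : y ∈ MulAut.conj x • A ↔ x⁻¹ * y * x ∈ A := by
  rw [Subgroup.mem_pointwise_smul_iff_inv_smul_mem, ← map_inv, MulAut.smul_def, MulAut.conj_apply, inv_inv]

theorem card_cj (x : H) (A : Subgroup H) : Nat.card ↥(MulAut.conj x • A) = Nat.card A :=
  (Nat.card_congr (Subgroup.equivSMul (MulAut.conj x) A).toEquiv).symm

theorem fxd_cj (x : H) (A : Subgroup H) {m : M} : m ∈ (fxd (MulAut.conj x • A) : AddSubgroup M) ↔ x⁻¹ • m ∈ fxd A := by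
  rw [mem_fxd, mem_fxd]
  constructor
  · intro h a ha
    have h1 := h (x * a * x⁻¹) (by rw [mem_cj]; convert ha using 1; group)
    rw [mul_smul, mul_smul] at h1
    rw [eq_inv_smul_iff]; exact h1
  · intro h a ha
    have h1 := h _ (mem_cj.1 ha)
    rw [mul_smul, mul_smul, smul_inv_smul, inv_smul_eq_iff, smul_inv_smul] at h1
    exact h1

theorem brk_cj {x : H} {A : Subgroup H} {m : M} (h : m ∈ brk M (MulAut.conj x • A)) : x⁻¹ • m ∈ brk M A := by
  have h1 : brk M (MulAut.conj x • A) ≤ (brk M A).comap (DistribSMul.toAddMonoidHom M x⁻¹) := by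
    apply brk_le
    intro a ha v
    rw [AddSubgroup.mem_comap, DistribSMul.toAddMonoidHom_apply, smul_sub]
    have h2 := sub_mem_brk (M := M) (mem_cj.1 ha) (x⁻¹ • v)
    rw [mul_smul, mul_smul, smul_inv_smul] at h2
    exact h2
  exact h1 h

theorem El.cj {A : Subgroup H} (h : El A) (x : H) : El (MulAut.conj x • A) where
  sq := fun a ha => by
    have h1 := h.sq _ (mem_cj.1 ha)
    have e : x⁻¹ * a * x * (x⁻¹ * a * x) = x⁻¹ * (a * a) * x := by group
    rw [e] at h1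
    have h2 : a * a = x * 1 * x⁻¹ := by rw [← h1]; group
    rw [h2]; group
  cm := fun a ha b hb => by
    have h1 := h.cm _ (mem_cj.1 ha) _ (mem_cj.1 hb)
    have e1 : x⁻¹ * a * x * (x⁻¹ * b * x) = x⁻¹ * (a * b) * x := by group
    have e2 : x⁻¹ * b * x * (x⁻¹ * a * x) = x⁻¹ * (b * a) * x := by group
    rw [e1, e2] at h1
    exact mul_left_cancel (mul_right_cancel h1)

/-- The product of two commuting elementary abelian groups. -/
theorem mem_sup_comm {A B : Subgroup H} (hAB : ∀ a ∈ A, ∀ b ∈ B, a * b = b * a) {x : H} :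
    x ∈ A ⊔ B ↔ ∃ a ∈ A, ∃ b ∈ B, a * b = x := by
  constructor
  · intro hx
    have h1 : A ≤ normalizer (B : Set H) := fun a ha => by
      rw [mem_normalizer_iff]
      intro b
      constructor
      · intro hb
        rw [hAB a ha b hb, mul_inv_cancel_right]; exact hb
      · intro hb
        have h2 := hAB a ha _ hb
        have h3 : b = a * b * a⁻¹ := by
          have e : a * (a * b * a⁻¹) = a * b := by rw [h2]; group
          exact (mul_left_cancel e).symm
        rw [h3]; exact hb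
    have h2 : x ∈ ((A ⊔ B : Subgroup H) : Set H) := hx
    rw [coe_mul_of_left_le_normalizer_right _ _ h1] at h2
    obtain ⟨a, ha, b, hb, e⟩ := h2
    exact ⟨a, ha, b, hb, e⟩
  · rintro ⟨a, ha, b, hb, rfl⟩
    exact mul_mem (mem_sup_left ha) (mem_sup_right hb)

theorem El.sup {A B : Subgroup H} (hA : El A) (hB : El B) (hAB : ∀ a ∈ A, ∀ b ∈ B, a * b = b * a) : El (A ⊔ B) where
  sq := fun x hx => by
    obtain ⟨a, ha, b, hb, rfl⟩ := (mem_sup_comm hAB).1 hx
    calc a * b * (a * b) = a * (b * a) * b := by group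
      _ = a * (a * b) * b := by rw [hAB a ha b hb]
      _ = (a * a) * (b * b) := by group
      _ = 1 := by rw [hA.sq a ha, hB.sq b hb, one_mul]
  cm := fun x hx y hy => by
    obtain ⟨a, ha, b, hb, rfl⟩ := (mem_sup_comm hAB).1 hx
    obtain ⟨c, hc, d, hd, rfl⟩ := (mem_sup_comm hAB).1 hy
    calc a * b * (c * d) = a * (b * c) * d := by group
      _ = a * (c * b) * d := by rw [hAB c hc b hb]
      _ = (a * c) * (b * d) := by group
      _ = (c * a) * (d * b) := by rw [hA.cm a ha c hc, hB.cm b hb d hd]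
      _ = c * (a * d) * b := by group
      _ = c * (d * a) * b := by rw [hAB a ha d hd]
      _ = c * d * (a * b) := by group

theorem mem_fxd_sup {A B : Subgroup H} {m : M} (hA : m ∈ (fxd A : AddSubgroup M)) (hB : m ∈ (fxd B : AddSubgroup M)) :
    m ∈ (fxd (A ⊔ B) : AddSubgroup M) := by
  rw [mem_fxd] at hA hB ⊢
  intro x hx
  have h1 : A ⊔ B ≤ MulAction.stabilizer H m :=
    sup_le (fun a ha => MulAction.mem_stabilizer_iff.2 (hA a ha)) fun b hb => MulAction.mem_stabilizer_iff.2 (hB b hb)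
  exact MulAction.mem_stabilizer_iff.1 (h1 hx)

theorem El.smul_smul {A : Subgroup H} (h : El A) {a : H} (ha : a ∈ A) (m : M) : a • a • m = m := by
  rw [← mul_smul, h.sq a ha, one_smul]

namespace Sit

variable {X : Subgroup H} (S : Sit M X)
include S

theorem neg_eq (m : M) : -m = m := by
  rw [neg_eq_iff_add_eq_zero]; exact S.ch m

theorem sub_eq (m n : M) : m - n = m + n := by rw [sub_eq_add_neg, S.neg_eq]

theorem comm_of {x y : H} (hx : x ∈ X) (hy : y ∈ X) (h1 : ∀ m : M, y • (x • m - m) = x • m - m)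
    (h2 : ∀ m : M, x • (y • m - m) = y • m - m) : x * y = y * x := by
  have h : (x * y)⁻¹ * (y * x) = 1 := by
    refine S.faith _ (mul_mem (inv_mem (mul_mem hx hy)) (mul_mem hy hx)) fun m => ?_
    rw [mul_smul, inv_smul_eq_iff, mul_smul, mul_smul]
    have e1 := h1 m
    have e2 := h2 m
    rw [smul_sub, sub_eq_iff_eq_add] at e1 e2
    rw [e1, e2]
    abel
  exact (inv_mul_eq_one.1 h)

/-- **(T0)** -/
theorem eq_of_le [Finite H] [Finite M] {D F : Subgroup H} (hF : F ≤ X) (hFe : El F) (hDF : D ≤ F)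
    (hD : Nat.card M ≤ Nat.card D * Nat.card (fxd D : AddSubgroup M))
    (hle : (fxd D : AddSubgroup M) ≤ fxd F) : F = D := by
  have h1 := S.no F hF hFe.sq hFe.cm
  have h2 : Nat.card (fxd D : AddSubgroup M) ≤ Nat.card (fxd F : AddSubgroup M) := AddSubgroup.card_le_of_le hle
  have h3 : 0 < Nat.card (fxd D : AddSubgroup M) := Nat.card_pos
  have h4 : Nat.card F ≤ Nat.card D := by
    have h5 : Nat.card F * Nat.card (fxd D : AddSubgroup M) ≤ Nat.card D * Nat.card (fxd D : AddSubgroup M) :=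
      (Nat.mul_le_mul_left _ h2).trans (h1.trans hD)
    exact Nat.le_of_mul_le_mul_right h5 h3
  exact (Subgroup.eq_of_le_of_card_ge hDF h4).symm

/-- Two exact quadratic groups with the same centraliser coincide. -/
theorem eq_of_fxd [Finite H] [Finite M] {D D' : Subgroup H} (hDX : D ≤ X) (hDX' : D' ≤ X) (hDe : El D) (hDe' : El D')
    (hD : Nat.card M ≤ Nat.card D * Nat.card (fxd D : AddSubgroup M)) (hq : brk M D ≤ fxd D)
    (hq' : brk M D' ≤ fxd D) (hf : (fxd D : AddSubgroup M) ≤ fxd D') (hc : Nat.card D' = Nat.card D) : D' = D := by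
  have hcm : ∀ a ∈ D, ∀ b ∈ D', a * b = b * a := by
    intro a ha b hb'
    refine S.comm_of (hDX ha) (hDX' hb') (fun m => ?_) fun m => ?_
    · exact (mem_fxd.1 (hf (hq (sub_mem_brk ha m)))) b hb'
    · exact (mem_fxd.1 (hq' (sub_mem_brk hb' m))) a ha
  have he := hDe.sup hDe' hcm
  have h1 : D ⊔ D' = D :=
    S.eq_of_le (sup_le hDX hDX') he le_sup_left hD fun m hm => mem_fxd_sup hm (hf hm)
  have h2 : D' ≤ D := h1 ▸ le_sup_right
  exact Subgroup.eq_of_le_of_card_ge h2 hc.ge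

theorem cj_le {g : H} (hg : g ∈ X) {D : Subgroup H} (hDX : D ≤ X) : MulAut.conj g • D ≤ X := fun x hx => by
  have h1 := hDX (mem_cj.1 hx)
  have e : x = g * (g⁻¹ * x * g) * g⁻¹ := by group
  rw [e]; exact mul_mem (mul_mem hg h1) (inv_mem hg)

theorem cj_eq [Finite H] [Finite M] {D : Subgroup H} (hDX : D ≤ X) (hDe : El D)
    (hD : Nat.card M ≤ Nat.card D * Nat.card (fxd D : AddSubgroup M)) (hq : brk M D ≤ fxd D) {g : H} (hg : g ∈ X)
    (hfx : ∀ m : M, m ∈ (fxd D : AddSubgroup M) ↔ g⁻¹ • m ∈ (fxd D : AddSubgroup M)) :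
    MulAut.conj g • D = D := by
  refine S.eq_of_fxd hDX (S.cj_le hg hDX) hDe (hDe.cj g) hD hq ?_ ?_ (card_cj g D)
  · exact fun m hm => (hfx m).2 (hq (brk_cj hm))
  · exact fun m hm => (fxd_cj g D).2 ((hfx m).1 hm)

/-- **(T1)** -/
theorem cent [Finite H] [Finite M] {D K : Subgroup H} (hDX : D ≤ X) (hDe : El D)
    (hD : Nat.card M ≤ Nat.card D * Nat.card (fxd D : AddSubgroup M)) (hq : brk M D ≤ fxd D) (hK : K ≤ X)
    (hKD : brk M K ≤ fxd D)
    (gen : K ≤ closure {x | ∃ g ∈ K, ∃ b, (∀ d ∈ D, b * d = d * b) ∧ x = g * b * g⁻¹}) :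
    (∀ k ∈ K, ∀ d ∈ D, k * d = d * k) ∧ brk M D ≤ fxd K := by
  have hn : ∀ g ∈ K, MulAut.conj g • D = D := by
    intro g hg
    refine S.cj_eq hDX hDe hD hq (hK hg) fun m => ?_
    have key : ∀ x ∈ K, ∀ n : M, n ∈ (fxd D : AddSubgroup M) → x • n ∈ (fxd D : AddSubgroup M) := by
      intro x hx n hn
      have e : x • n = (x • n - n) + n := by abel
      rw [e]
      exact add_mem (hKD (sub_mem_brk hx n)) hn
    constructor
    · exact fun h => key _ (inv_mem hg) m h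
    · intro h
      have := key _ hg _ h
      rwa [smul_inv_smul] at this
  have h0 : K ≤ centralizer (D : Set H) := by
    refine gen.trans ((closure_le _).2 ?_)
    rintro x ⟨g, hg, b, hb, rfl⟩
    rw [SetLike.mem_coe, mem_centralizer_iff]
    intro d hd
    have h2 : g⁻¹ * d * g ∈ D := by
      have h3 : d ∈ MulAut.conj g • D := by rw [hn g hg]; exact hd
      exact mem_cj.1 h3
    have h3 := hb _ h2
    symm
    calc g * b * g⁻¹ * d = g * (b * (g⁻¹ * d * g)) * g⁻¹ := by group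
      _ = g * (g⁻¹ * d * g * b) * g⁻¹ := by rw [h3]
      _ = d * (g * b * g⁻¹) := by group
  have h1 : ∀ k ∈ K, ∀ d ∈ D, k * d = d * k := fun k hk d hd => (mem_centralizer_iff.1 (h0 hk) d hd).symm
  refine ⟨h1, brk_le fun d hd m => ?_⟩
  rw [mem_fxd]
  intro k hk
  have e1 : k • d • m = d • k • m := by rw [← mul_smul, h1 k hk d hd, mul_smul]
  have e2 : k • m = (k • m - m) + m := by abel
  have e3 := mem_fxd.1 (hKD (sub_mem_brk hk m)) d hd
  rw [smul_sub, e1]
  conv_lhs => rw [e2]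
  rw [smul_add, e3]
  abel

omit S in
theorem index_le [Finite M] {D : Subgroup H}
    (hD : Nat.card M ≤ Nat.card D * Nat.card (fxd D : AddSubgroup M)) :
    (fxd D : AddSubgroup M).index ≤ Nat.card D := by
  have h1 := (fxd D : AddSubgroup M).card_mul_index
  have h3 : 0 < Nat.card (fxd D : AddSubgroup M) := Nat.card_pos
  refine Nat.le_of_mul_le_mul_right ?_ h3
  rw [mul_comm, h1]; exact hD

omit S in
theorem card_sup [Finite H] {D B : Subgroup H} (hDB : ∀ d ∈ D, ∀ b ∈ B, d * b = b * d) (h : D ⊓ B = ⊥) :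
    Nat.card ↥(D ⊔ B) = Nat.card D * Nat.card B := by
  have h1 : Function.Bijective (fun p : D × B => (⟨p.1 * p.2, mul_mem (mem_sup_left p.1.2) (mem_sup_right p.2.2)⟩ :
      ↥(D ⊔ B))) := by
    constructor
    · rintro ⟨a, b⟩ ⟨c, d⟩ e
      have e1 : (a : H) * b = c * d := congrArg Subtype.val e
      have e2 : (c : H)⁻¹ * a = d * (b : H)⁻¹ := by
        calc (c : H)⁻¹ * a = (c : H)⁻¹ * (a * b) * (b : H)⁻¹ := by group
          _ = (c : H)⁻¹ * (c * d) * (b : H)⁻¹ := by rw [e1]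
          _ = d * (b : H)⁻¹ := by group
      have e3 : (c : H)⁻¹ * a ∈ D ⊓ B :=
        mem_inf.2 ⟨mul_mem (inv_mem c.2) a.2, e2 ▸ mul_mem d.2 (inv_mem b.2)⟩
      rw [h, mem_bot] at e3
      have e4 : (c : H) = a := inv_mul_eq_one.1 e3
      have e5 : (d : H) = b := by
        rw [e3] at e2
        exact (mul_inv_eq_one.1 e2.symm)
      exact Prod.ext (Subtype.ext e4.symm) (Subtype.ext e5.symm)
    · rintro ⟨x, hx⟩
      obtain ⟨a, ha, b, hb, e⟩ := (mem_sup_comm hDB).1 hx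
      exact ⟨(⟨a, ha⟩, ⟨b, hb⟩), Subtype.ext e⟩
  rw [← Nat.card_prod]
  exact (Nat.card_congr (Equiv.ofBijective _ h1)).symm

omit S in
theorem exact_sup [Finite H] [Finite M] {D B : Subgroup H} (hDB : ∀ d ∈ D, ∀ b ∈ B, d * b = b * d) (h : D ⊓ B = ⊥)
    (hD : Nat.card M ≤ Nat.card D * Nat.card (fxd D : AddSubgroup M))
    (hB : Nat.card M ≤ Nat.card B * Nat.card (fxd B : AddSubgroup M)) :
    Nat.card M ≤ Nat.card ↥(D ⊔ B) * Nat.card (fxd (D ⊔ B) : AddSubgroup M) := by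
  have h1 : ((fxd D : AddSubgroup M) ⊓ fxd B).index ≤ Nat.card ↥(D ⊔ B) := by
    rw [card_sup hDB h]
    exact (AddSubgroup.index_inf_le).trans (Nat.mul_le_mul (index_le hD) (index_le hB))
  have h2 : Nat.card ↥((fxd D : AddSubgroup M) ⊓ fxd B) ≤ Nat.card (fxd (D ⊔ B) : AddSubgroup M) :=
    AddSubgroup.card_le_of_le fun m hm => mem_fxd_sup (AddSubgroup.mem_inf.1 hm).1 (AddSubgroup.mem_inf.1 hm).2
  rw [← ((fxd D : AddSubgroup M) ⊓ fxd B).card_mul_index, mul_comm]
  exact Nat.mul_le_mul h1 h2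

end Sit

/-- The data of (T3): the exact group `D` of `P`, `M = N × C`, the torus element `τ`. -/
structure Dt (X D : Subgroup H) (N C : AddSubgroup M) (τ : H) : Prop where
  DX : D ≤ X
  el : El D
  ex : Nat.card M ≤ Nat.card D * Nat.card (fxd D : AddSubgroup M)
  qd : brk M D ≤ fxd D
  fD : (fxd D : AddSubgroup M) ≤ brk M D ⊔ C
  CD : C ≤ fxd D
  RN : brk M D ≤ N
  τX : τ ∈ X
  τD : MulAut.conj τ • D = D
  τC : ∀ c ∈ C, τ • c = c
  τN : ∀ n ∈ N, τ • n ∈ N
  fp : ∀ n ∈ N, τ • n = n → n = 0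

/-- The data of (T3): the exact group `B` of a conjugate of `P'`. -/
structure Bd (X D B : Subgroup H) (M : Type v) [AddCommGroup M] [DistribMulAction H M] : Prop where
  BX : B ≤ X
  el : El B
  ex : Nat.card M ≤ Nat.card B * Nat.card (fxd B : AddSubgroup M)
  qd : brk M B ≤ fxd B
  cm : ∀ d ∈ D, ∀ b ∈ B, d * b = b * d
  BD : brk M B ≤ fxd D
  DB : brk M D ≤ fxd B
  tr : ∀ y ∈ brk M B, y ∈ brk M D → y = 0

namespace Dt

variable {X D : Subgroup H} {N C : AddSubgroup M} {τ : H} (S : Sit M X) (T : Dt X D N C τ)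
include T

theorem τR {r : M} (hr : r ∈ brk M D) : τ • r ∈ brk M D := by
  have h : τ • r ∈ brk M (MulAut.conj τ • D) := by
    have h1 : brk M D ≤ (brk M (MulAut.conj τ • D)).comap (DistribSMul.toAddMonoidHom M τ) := by
      apply brk_le
      intro a ha v
      rw [AddSubgroup.mem_comap, DistribSMul.toAddMonoidHom_apply, smul_sub]
      have h2 : τ * a * τ⁻¹ ∈ MulAut.conj τ • D := by rw [mem_cj]; convert ha using 1; group
      have h3 := sub_mem_brk (M := M) h2 (τ • v)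
      have e : (τ * a * τ⁻¹) • τ • v = τ • a • v := by rw [← mul_smul, ← mul_smul]; congr 1; group
      rw [e] at h3
      exact h3
    exact h1 hr
  rwa [T.τD] at h

theorem τR' {r : M} (hr : r ∈ brk M D) : τ⁻¹ • r ∈ brk M D := by
  rw [← T.τD] at hr
  exact brk_cj hr

theorem τF {m : M} (hm : m ∈ (fxd D : AddSubgroup M)) : τ • m ∈ (fxd D : AddSubgroup M) := by
  rw [← T.τD, fxd_cj, inv_smul_smul]; exact hm

theorem τC' {c : M} (hc : c ∈ C) : τ⁻¹ • c = c := by rw [inv_smul_eq_iff, T.τC c hc]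

theorem key {B : Subgroup H} (hB : Bd X D B M) {x : M} (hx : x ∈ (fxd D : AddSubgroup M)) (hxB : x ∈ (fxd B : AddSubgroup M)) :
    τ • x ∈ (fxd B : AddSubgroup M) ∧ τ⁻¹ • x ∈ (fxd B : AddSubgroup M) := by
  obtain ⟨r, hr, c, hc, rfl⟩ := AddSubgroup.mem_sup.1 (T.fD hx)
  have h1 : τ • (r + c) = (r + c) + (τ • r - r) := by rw [smul_add, T.τC c hc]; abel
  have h2 : τ⁻¹ • (r + c) = (r + c) + (τ⁻¹ • r - r) := by rw [smul_add, T.τC' hc]; abel
  rw [h1, h2]
  exact ⟨add_mem hxB (sub_mem (hB.DB (T.τR hr)) (hB.DB hr)),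
    add_mem hxB (sub_mem (hB.DB (T.τR' hr)) (hB.DB hr))⟩

theorem brk_cjB {B : Subgroup H} (hB : Bd X D B M) {y : M} (hy : y ∈ brk M (MulAut.conj τ • B)) :
    y ∈ (fxd B : AddSubgroup M) ∧ y ∈ (fxd D : AddSubgroup M) := by
  have h1 := brk_cj hy
  have e : y = τ • τ⁻¹ • y := (smul_inv_smul _ _).symm
  rw [e]
  exact ⟨(T.key hB (hB.BD h1) (hB.qd h1)).1, T.τF (hB.BD h1)⟩

include S

/-- `B` and `B^τ` commute. -/
theorem commB {B : Subgroup H} (hB : Bd X D B M) : ∀ b ∈ B, ∀ b' ∈ MulAut.conj τ • B, b * b' = b' * b := by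
  intro b hb b' hb'
  refine S.comm_of (hB.BX hb) (S.cj_le T.τX hB.BX hb') (fun m => ?_) fun m => ?_
  · have h1 := sub_mem_brk (M := M) hb m
    have h2 := (T.key hB (hB.BD h1) (hB.qd h1)).2
    exact mem_fxd.1 ((fxd_cj τ B).2 h2) b' hb'
  · exact mem_fxd.1 (T.brk_cjB hB (sub_mem_brk hb' m)).1 b hb

theorem commD {B : Subgroup H} (hB : Bd X D B M) : ∀ d ∈ D, ∀ b' ∈ MulAut.conj τ • B, d * b' = b' * d := by
  intro d hd b' hb'
  have h1 : τ⁻¹ * d * τ ∈ D := by
    have h2 : d ∈ MulAut.conj τ • D := by rw [T.τD]; exact hd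
    exact mem_cj.1 h2
  have h3 := hB.cm _ h1 _ (mem_cj.1 hb')
  calc d * b' = τ * (τ⁻¹ * d * τ * (τ⁻¹ * b' * τ)) * τ⁻¹ := by group
    _ = τ * (τ⁻¹ * b' * τ * (τ⁻¹ * d * τ)) * τ⁻¹ := by rw [h3]
    _ = b' * d := by group

theorem inf_eq {B : Subgroup H} (hB : Bd X D B M) : D ⊓ B = ⊥ := by
  rw [eq_bot_iff]
  intro x hx
  rw [mem_bot]
  refine S.faith x (T.DX (mem_inf.1 hx).1) fun m => ?_
  exact sub_eq_zero.1 (hB.tr _ (sub_mem_brk (mem_inf.1 hx).2 m) (sub_mem_brk (mem_inf.1 hx).1 m))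

/-- `B^τ ≤ D B` -/
theorem cj_le [Finite H] [Finite M] {B : Subgroup H} (hB : Bd X D B M) : MulAut.conj τ • B ≤ D ⊔ B := by
  have h1 : El (D ⊔ B) := T.el.sup hB.el hB.cm
  have h2 : ∀ x ∈ D ⊔ B, ∀ b' ∈ MulAut.conj τ • B, x * b' = b' * x := by
    intro x hx b' hb'
    obtain ⟨d, hd, b, hb, rfl⟩ := (mem_sup_comm hB.cm).1 hx
    calc d * b * b' = d * (b * b') := by group
      _ = d * (b' * b) := by rw [commB S T hB b hb b' hb']
      _ = (d * b') * b := by group
      _ = (b' * d) * b := by rw [commD S T hB d hd b' hb']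
      _ = b' * (d * b) := by group
  have h3 : (D ⊔ B) ⊔ MulAut.conj τ • B = D ⊔ B := by
    refine S.eq_of_le (sup_le (sup_le T.DX hB.BX) (S.cj_le T.τX hB.BX)) (h1.sup (hB.el.cj τ) h2) le_sup_left
      (Sit.exact_sup hB.cm (inf_eq S T hB) T.ex hB.ex) ?_
    intro m hm
    refine mem_fxd_sup hm ?_
    have hmD : m ∈ (fxd D : AddSubgroup M) := mem_fxd.2 fun d hd => mem_fxd.1 hm d (mem_sup_left hd)
    have hmB : m ∈ (fxd B : AddSubgroup M) := mem_fxd.2 fun b hb => mem_fxd.1 hm b (mem_sup_right hb)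
    exact (fxd_cj τ B).2 (T.key hB hmD hmB).2
  rw [← h3]; exact le_sup_right

/-- **(T3), first half.** `B` normalises `C`. -/
theorem keep [Finite H] [Finite M] {B : Subgroup H} (hB : Bd X D B M) {b : H} (hb : b ∈ B) {c : M} (hc : c ∈ C) :
    b • c ∈ C := by
  have h1 : τ * b * τ⁻¹ ∈ D ⊔ B := by
    refine cj_le S T hB ?_
    rw [mem_cj]; convert hb using 1; group
  obtain ⟨d, hd, b₁, hb₁, e⟩ := (mem_sup_comm hB.cm).1 h1
  have hy := sub_mem_brk (M := M) hb c
  obtain ⟨r, hr, c₀, hc₀, ey⟩ := AddSubgroup.mem_sup.1 (T.fD (hB.BD hy))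
  have h2 : τ • (b • c - c) = b₁ • c - c := by
    have e1 : τ • (b • c) = (τ * b * τ⁻¹) • c := by
      rw [mul_smul, mul_smul, T.τC' hc]
    rw [smul_sub, T.τC c hc, e1, ← e, mul_smul]
    congr 1
    have h3 : b₁ • c ∈ (fxd D : AddSubgroup M) := by
      have e2 : b₁ • c = (b₁ • c - c) + c := by abel
      rw [e2]
      exact add_mem (hB.BD (sub_mem_brk hb₁ c)) (T.CD hc)
    exact mem_fxd.1 h3 d hd
  have h4 : τ • r - r = 0 := by
    apply hB.tr
    · have e3 : τ • r - r = (b₁ • c - c) - (b • c - c) := by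
        rw [← h2, ← ey, smul_add, T.τC c₀ hc₀]; abel
      rw [e3]
      exact sub_mem (sub_mem_brk hb₁ c) hy
    · exact sub_mem (T.τR hr) hr
  have h5 : r = 0 := T.fp r (T.RN hr) (sub_eq_zero.1 h4)
  rw [h5, zero_add] at ey
  have e4 : b • c = (b • c - c) + c := by abel
  rw [e4, ← ey]
  exact add_mem hc₀ hc

/-- **(T3), second half.** If `[M, B] ≤ C`, then `B` centralises `N`. -/
theorem kill [Finite H] [Finite M] {B : Subgroup H} (hB : Bd X D B M) (hBC : brk M B ≤ C) {b : H} (hb : b ∈ B) {n : M}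
    (hn : n ∈ N) : b • n = n := by
  have hb' : τ * b * τ⁻¹ ∈ MulAut.conj τ • B := by rw [mem_cj]; convert hb using 1; group
  have hcb := commB S T hB b hb _ hb'
  -- `u` commutes with `D`, fixes `fxd D`
  have hfix : ∀ m ∈ (fxd D : AddSubgroup M), b • (τ * b * τ⁻¹) • m = m := by
    intro m hm
    obtain ⟨r, hr, c, hc, rfl⟩ := AddSubgroup.mem_sup.1 (T.fD hm)
    have e1 : (τ * b * τ⁻¹) • r = r := by
      rw [mul_smul, mul_smul, mem_fxd.1 (hB.DB (T.τR' hr)) b hb, smul_inv_smul]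
    have e2 : (τ * b * τ⁻¹) • c = b • c := by
      rw [mul_smul, mul_smul, T.τC' hc]
      exact T.τC _ (keep S T hB hb hc)
    rw [smul_add, e1, e2, smul_add, mem_fxd.1 (hB.DB hr) b hb, hB.el.smul_smul hb]
  have hzu : b * (τ * b * τ⁻¹) ∈ D := by
    have hel : El (zpowers (b * (τ * b * τ⁻¹))) := by
      have hsq : b * (τ * b * τ⁻¹) * (b * (τ * b * τ⁻¹)) = 1 := by
        calc b * (τ * b * τ⁻¹) * (b * (τ * b * τ⁻¹)) = b * ((τ * b * τ⁻¹) * b) * (τ * b * τ⁻¹) := by group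
          _ = b * (b * (τ * b * τ⁻¹)) * (τ * b * τ⁻¹) := by rw [hcb]
          _ = (b * b) * (τ * (b * b) * τ⁻¹) := by group
          _ = 1 := by rw [hB.el.sq b hb]; group
      constructor
      · rintro x ⟨k, rfl⟩
        calc (b * (τ * b * τ⁻¹)) ^ k * (b * (τ * b * τ⁻¹)) ^ k = (b * (τ * b * τ⁻¹) * (b * (τ * b * τ⁻¹))) ^ k := by
              rw [← zpow_add, ← pow_two, ← zpow_natCast, ← zpow_mul]; congr 1; push_cast; ring
          _ = 1 := by rw [hsq, one_zpow]
      · rintro x ⟨k, rfl⟩ y ⟨l, rfl⟩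
        exact ((Commute.refl _).zpow_zpow k l).eq
    have hcd : ∀ d ∈ D, ∀ x ∈ zpowers (b * (τ * b * τ⁻¹)), d * x = x * d := by
      rintro d hd x ⟨k, rfl⟩
      have h1 : Commute d (b * (τ * b * τ⁻¹)) :=
        Commute.mul_right (hB.cm d hd b hb) (commD S T hB d hd _ hb')
      exact (h1.zpow_right k).eq
    have h1 : D ⊔ zpowers (b * (τ * b * τ⁻¹)) = D := by
      refine S.eq_of_le (sup_le T.DX ?_) (T.el.sup hel hcd) le_sup_left T.ex ?_
      · rw [zpowers_le]
        exact mul_mem (hB.BX hb) (S.cj_le T.τX hB.BX hb')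
      · intro m hm
        refine mem_fxd_sup hm (mem_fxd.2 ?_)
        rintro x ⟨k, rfl⟩
        have h2 : b * (τ * b * τ⁻¹) ∈ MulAction.stabilizer H m := by
          rw [MulAction.mem_stabilizer_iff, mul_smul]; exact hfix m hm
        exact MulAction.mem_stabilizer_iff.1 (zpow_mem h2 k)
    rw [← h1]
    exact mem_sup_right (mem_zpowers _)
  have hu1 : b * (τ * b * τ⁻¹) = 1 := by
    refine S.faith _ (T.DX hzu) fun m => ?_
    rw [← sub_eq_zero]
    refine hB.tr _ ?_ (sub_mem_brk hzu m)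
    have h1 := sub_mem_brk (M := M) hb (((τ * b * τ⁻¹)) • m)
    have h2 := brk_cj (sub_mem_brk (M := M) hb' m)
    have h3 : (τ * b * τ⁻¹) • m - m ∈ brk M B := by
      have e : (τ * b * τ⁻¹) • m - m = τ • τ⁻¹ • ((τ * b * τ⁻¹) • m - m) := (smul_inv_smul _ _).symm
      rw [e, T.τC _ (hBC h2)]; exact h2
    have e : (b * (τ * b * τ⁻¹)) • m - m = (b • (τ * b * τ⁻¹) • m - (τ * b * τ⁻¹) • m) + ((τ * b * τ⁻¹) • m - m) := by
      rw [mul_smul b]; abel
    rw [e]
    exact add_mem h1 h3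
  have hcomm : τ * b = b * τ := by
    have h1 : τ * b * τ⁻¹ = b := by
      have h2 : b * (τ * b * τ⁻¹) = b * b := by rw [hu1, hB.el.sq b hb]
      exact mul_left_cancel h2
    calc τ * b = (τ * b * τ⁻¹) * τ := by group
      _ = b * τ := by rw [h1]
  have hz : ∀ m ∈ N, b • (τ • m - m) = τ • m - m := by
    intro m _
    have e1 : b • τ • m - τ • m = τ • (b • m - m) := by
      rw [smul_sub, ← mul_smul, ← mul_smul, hcomm]
    rw [T.τC _ (hBC (sub_mem_brk hb m))] at e1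
    rw [smul_sub]
    have e2 : b • τ • m = τ • m + (b • m - m) := by rw [← e1]; abel
    rw [e2]; abel
  -- `τ - 1` is onto on `N`
  have hsur : Function.Surjective (fun m : N => (⟨τ • (m : M) - m, sub_mem (T.τN _ m.2) m.2⟩ : N)) := by
    refine Finite.surjective_of_injective ?_
    rintro ⟨x, hx⟩ ⟨y, hy⟩ e
    have e1 : τ • x - x = τ • y - y := congrArg Subtype.val e
    have e2 : τ • (x - y) = x - y := by
      rw [smul_sub, sub_eq_sub_iff_add_eq_add]
      rw [sub_eq_sub_iff_add_eq_add] at e1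
      rw [e1]; abel
    have e3 := T.fp _ (sub_mem hx hy) e2
    exact Subtype.ext (sub_eq_zero.1 e3)
  obtain ⟨m, hm⟩ := hsur ⟨n, hn⟩
  have hm' : τ • (m : M) - m = n := congrArg Subtype.val hm
  rw [← hm']
  exact hz _ m.2

end Dt

end Cfsg.Agent.Omega.NOThreeL.RRed.Blk.Types
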