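import Cfsg.Agent.Omega.NOThreeL.RRed.Blk.AsmNDef
import Cfsg.Agent.Omega.NOThreeL.RRed.Blk.TypesAbs

/-!
# NO-3L, box R: a family of natural blocks with radicals (#26560), consequences (module level, helper842)

`X` is finite and acts faithfully on the elementary abelian 2-group `V` (additive), `T ∈ Syl₂(X)`.

* `nb_*` : one block;
* `FX T FF N C L Z` : a family of blocks, permuted by `X`, indexed by its root groups `D ≤ T`; `FF` is closed under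
  conjugation in `T` (`wc`), lines go to lines (`lin`);
* `EO FF` : the normal closure of the root groups: fixes all blocks, centralises the radicals;
* `FX.conjN`, `FX.same`;
* **`FX.sec`** : `x v - w ∈ C₂`, `v ∈ L₁`, `w ∈ L₂`, `x N₁ = N₂` : `x v = w`;
* **`FX.alt`** : `s ∈ T` trivial on all lines is trivial on all radicals;
* **`FX.sep`**, **`FX.tr`**, **`FX.gen`**.
-/

set_option autoImplicit false
set_option linter.unusedSectionVars false

namespace Cfsg.Agent.Omega.NOThreeL.RRed.Blk.FamX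

open Subgroup
open Cfsg.Agent.Omega.NOThreeL.RRed.Blk.TypesGam (rt up_mem hh wt)
open Cfsg.Agent.Omega.NOThreeL.RRed.Blk.Types (mem_cj card_cj)
open Cfsg.Agent.Omega.NOThreeL.RRed.Blk.GamD
open Cfsg.Agent.Omega.NOThreeL.RRed.Blk.AsmN (NBd)
open scoped Pointwise

universe u v w

variable {X : Type u} {V : Type v} [Group X] [AddCommGroup V] [DistribMulAction X V]

/-! ### One block -/

section one

variable {D : Subgroup X} {N C L Z : AddSubgroup V} (h : NBd D N C L Z)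
include h

theorem nb_ZC : Z ≤ C := by
  obtain ⟨F, _, _, e, f, d, up, lo, hb, rfl, rfl, rfl, rfl⟩ := h.ex
  rintro _ ⟨x, rfl⟩
  exact hb.dC x

theorem nb_ZN : Z ≤ N := by
  obtain ⟨F, _, _, e, f, d, up, lo, hb, rfl, rfl, rfl, rfl⟩ := h.ex
  exact le_sup_right

theorem nb_LN : L ≤ N := by
  obtain ⟨F, _, _, e, f, d, up, lo, hb, rfl, rfl, rfl, rfl⟩ := h.ex
  exact le_sup_left.trans le_sup_left

theorem nb_LC {v : V} (hL : v ∈ L) (hC : v ∈ C) : v = 0 := by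
  obtain ⟨F, _, _, e, f, d, up, lo, hb, rfl, rfl, rfl, rfl⟩ := h.ex
  obtain ⟨x, rfl⟩ := hL
  have h1 := (hb.ind x 0 (by rwa [map_zero, add_zero])).1
  rw [h1, map_zero]

theorem nb_NC {v : V} (hN : v ∈ N) (hC : v ∈ C) : v ∈ Z := by
  obtain ⟨F, _, _, e, f, d, up, lo, hb, rfl, rfl, rfl, rfl⟩ := h.ex
  obtain ⟨_, h1, _, ⟨z, rfl⟩, rfl⟩ := AddSubgroup.mem_sup.1 hN
  obtain ⟨_, ⟨x, rfl⟩, _, ⟨y, rfl⟩, rfl⟩ := AddSubgroup.mem_sup.1 h1
  have h3 : e x + f y ∈ C := by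
    have h5 := sub_mem hC (hb.dC z)
    rwa [add_sub_cancel_right] at h5
  obtain ⟨rfl, rfl⟩ := hb.ind x y h3
  rw [map_zero, map_zero, zero_add, zero_add]
  exact ⟨z, rfl⟩

/-- `V = N + C` -/
theorem nb_top (v : V) : ∃ n ∈ N, ∃ c ∈ C, v = n + c := by
  obtain ⟨F, _, _, e, f, d, up, lo, hb, rfl, rfl, rfl, rfl⟩ := h.ex
  obtain ⟨x, y, c, hc, rfl⟩ := hb.dec v
  exact ⟨e x + f y, AddSubgroup.mem_sup_left (add_mem (AddSubgroup.mem_sup_left ⟨x, rfl⟩) (AddSubgroup.mem_sup_right ⟨y, rfl⟩)),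
    c, hc, rfl⟩

variable (h2 : ∀ v : V, v + v = 0) (hf : ∀ x : X, (∀ v : V, x • v = v) → x = 1)
include h2 hf

theorem nb_C {a : X} (ha : a ∈ D) {c : V} (hc : c ∈ C) : a • c = c := by
  obtain ⟨F, _, _, e, f, d, up, lo, hb, rfl, rfl, rfl, rfl⟩ := h.ex
  obtain ⟨t, rfl⟩ := (hb.mem_rt h2 hf).1 ha
  exact hb.up_c t c hc

theorem nb_L {a : X} (ha : a ∈ D) {v : V} (hv : v ∈ L) : a • v = v := by
  obtain ⟨F, _, _, e, f, d, up, lo, hb, rfl, rfl, rfl, rfl⟩ := h.ex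
  obtain ⟨t, rfl⟩ := (hb.mem_rt h2 hf).1 ha
  obtain ⟨x, rfl⟩ := hv
  exact hb.up_e t x

theorem nb_Z {a : X} (ha : a ∈ D) {v : V} (hv : v ∈ Z) : a • v = v := nb_C h h2 hf ha (nb_ZC h hv)

theorem nb_brk {a : X} (ha : a ∈ D) (v : V) : a • v - v ∈ N := by
  obtain ⟨F, _, _, e, f, d, up, lo, hb, rfl, rfl, rfl, rfl⟩ := h.ex
  obtain ⟨t, rfl⟩ := (hb.mem_rt h2 hf).1 ha
  obtain ⟨x, y, c, hc, rfl⟩ := hb.dec v
  rw [smul_add, smul_add, hb.up_e, hb.up_f, hb.up_c t c hc]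
  have e1 : e x + (f y + e (t * y) + d (t * y ^ 2)) + c - (e x + f y + c) = e (t * y) + d (t * y ^ 2) := by abel
  rw [e1]
  exact add_mem (AddSubgroup.mem_sup_left (AddSubgroup.mem_sup_left ⟨_, rfl⟩)) (AddSubgroup.mem_sup_right ⟨_, rfl⟩)

/-- `D` moves `N` modulo `C` -/
theorem nb_mv : ∃ a ∈ D, ∃ n ∈ N, a • n - n ∉ C := by
  obtain ⟨F, _, _, e, f, d, up, lo, hb, rfl, rfl, rfl, rfl⟩ := h.ex
  refine ⟨up 1, up_mem _, f 1, AddSubgroup.mem_sup_left (AddSubgroup.mem_sup_right ⟨1, rfl⟩), fun h1 => ?_⟩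
  rw [hb.up_f, mul_one, one_pow, mul_one] at h1
  have h3 : e 1 + f 0 ∈ C := by
    have h5 := sub_mem h1 (hb.dC 1)
    have e1 : f 1 + e 1 + d 1 - f 1 - d 1 = e 1 + f 0 := by rw [map_zero]; abel
    rwa [e1] at h5
  exact one_ne_zero (hb.ind 1 0 h3).1

/-- the elements of the normal closure of `D` which we need -/
theorem nb_lo {F : Type} [Field F] {e f d : F →+ V} {up lo : F → X} (hb : BkD e f d C up lo) (t : F) :
    lo t = wt up lo 1 * up t * (wt up lo 1)⁻¹ := by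
  have hw : ∀ {v w : V}, wt up lo 1 • v = w → (wt up lo 1)⁻¹ • w = v := fun e1 => by rw [← e1, inv_smul_smul]
  refine hb.ext hf (fun z => ?_) (fun z => ?_) fun c hc => ?_
  · have e1 : wt up lo 1 • f z = e z := by rw [hb.wt_f h2 one_ne_zero, one_mul]
    rw [mul_smul, mul_smul, hw e1, hb.up_f, smul_add, smul_add, e1, hb.wt_e h2 one_ne_zero, inv_one, one_mul,
      hb.wt_c _ (hb.dC _), hb.lo_e]
  · have e1 : wt up lo 1 • e z = f z := by rw [hb.wt_e h2 one_ne_zero, inv_one, one_mul]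
    rw [mul_smul, mul_smul, hw e1, hb.up_e, e1, hb.lo_f]
  · have e1 : wt up lo 1 • c = c := hb.wt_c _ hc
    rw [mul_smul, mul_smul, hw e1, hb.up_c _ c hc, e1, hb.lo_c _ c hc]

/-- a torus element of the normal closure which moves `v ∈ L` to `w ∈ L` -/
theorem nb_tor {E : Subgroup X} (hE : ∀ x : X, ∀ a ∈ D, x * a * x⁻¹ ∈ E) {v w : V} (hv : v ∈ L) (hw : w ∈ L) (v0 : v ≠ 0)
    (w0 : w ≠ 0) : ∃ g ∈ E, g • v = w ∧ ∀ c ∈ C, g • c = c := by
  obtain ⟨F, _, _, e, f, d, up, lo, hb, rfl, rfl, rfl, rfl⟩ := h.ex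
  obtain ⟨x, rfl⟩ := hv
  obtain ⟨y, rfl⟩ := hw
  have hx : x ≠ 0 := fun e1 => v0 (by rw [e1, map_zero])
  have hy : y ≠ 0 := fun e1 => w0 (by rw [e1, map_zero])
  have hup : ∀ t, up t ∈ E := fun t => by
    have := hE 1 _ (up_mem (up := up) t)
    simpa using this
  have hlo : ∀ t, lo t ∈ E := fun t => by
    rw [nb_lo h h2 hf hb t]
    exact hE _ _ (up_mem t)
  have hwt : ∀ t, wt up lo t ∈ E := fun t => by
    rw [wt]
    exact mul_mem (mul_mem (hup _) (hlo _)) (hup _)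
  refine ⟨hh up lo (y * x⁻¹), ?_, ?_, fun c hc => hb.hh_c _ hc⟩
  · rw [hh]
    exact mul_mem (hwt _) (hwt _)
  · rw [hb.hh_e h2 (mul_ne_zero hy (inv_ne_zero hx)), mul_assoc, inv_mul_cancel₀ hx, mul_one]

/-- `N` is generated by the `[v, g]` -/
theorem nb_gen (h4 : 4 ≤ Nat.card D) {E : Subgroup X} (hE : ∀ x : X, ∀ a ∈ D, x * a * x⁻¹ ∈ E) {W : AddSubgroup V}
    (hW : ∀ g ∈ E, ∀ m ∈ W, g • m ∈ W) {v : V} (hv : v ∈ L) (v0 : v ≠ 0) (hvW : ∀ g ∈ E, g • v - v ∈ W) : N ≤ W := by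
  obtain ⟨F, _, _, e, f, d, up, lo, hb, hD, rfl, rfl, rfl⟩ := h.ex
  obtain ⟨x, rfl⟩ := hv
  have hx : x ≠ 0 := fun e1 => v0 (by rw [e1, map_zero])
  have hcard : 4 ≤ Nat.card F := by rw [← hb.card_rt h2 hf, hD]; exact h4
  obtain ⟨c₀, hc0, hc1⟩ : ∃ c₀ : F, c₀ ≠ 0 ∧ c₀ ≠ 1 := by
    classical
    by_contra hcon
    push Not at hcon
    have h5 : Nat.card F ≤ 2 := by
      have : Fintype F := Fintype.ofFinite F
      rw [Nat.card_eq_fintype_card, ← Finset.card_univ]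
      refine (Finset.card_le_card (t := {0, 1}) fun y _ => ?_).trans Finset.card_le_two
      rw [Finset.mem_insert, Finset.mem_singleton]
      by_cases hy : y = 0
      · exact Or.inl hy
      · exact Or.inr (hcon y hy)
    omega
  subst hD
  have hup : ∀ t, up t ∈ E := fun t => by
    have := hE 1 _ (up_mem (up := up) t)
    simpa using this
  have hlo : ∀ t, lo t ∈ E := fun t => by
    rw [nb_lo h h2 hf hb t]
    exact hE _ _ (up_mem t)
  -- `f s + d (s x) ∈ W`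
  have k1 : ∀ s : F, f s + d (s * x) ∈ W := fun s => by
    have h5 := hvW _ (hlo (s * x⁻¹))
    rw [hb.lo_e] at h5
    have e1 : e x + f (s * x⁻¹ * x) + d (s * x⁻¹ * x ^ 2) - e x = f (s * x⁻¹ * x) + d (s * x⁻¹ * x ^ 2) := by abel
    have e3 : s * x⁻¹ * x = s := by rw [mul_assoc, inv_mul_cancel₀ hx, mul_one]
    have e5 : s * x⁻¹ * x ^ 2 = s * x := by rw [pow_two, ← mul_assoc, e3]
    rwa [e1, e3, e5] at h5
  -- `e r + d (r s) ∈ W` for `s ≠ 0`
  have k3 : ∀ r s : F, s ≠ 0 → e r + d (r * s) ∈ W := fun r s hs => by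
    have h5 := sub_mem (hW _ (hup (r * s⁻¹)) _ (k1 s)) (k1 s)
    rw [smul_add, hb.up_f, hb.up_c _ _ (hb.dC _)] at h5
    have e1 : f s + e (r * s⁻¹ * s) + d (r * s⁻¹ * s ^ 2) + d (s * x) - (f s + d (s * x)) =
        e (r * s⁻¹ * s) + d (r * s⁻¹ * s ^ 2) := by abel
    have e3 : r * s⁻¹ * s = r := by rw [mul_assoc, inv_mul_cancel₀ hs, mul_one]
    have e5 : r * s⁻¹ * s ^ 2 = r * s := by rw [pow_two, ← mul_assoc, e3]
    rwa [e1, e3, e5] at h5
  have k5 : ∀ r : F, d r ∈ W := fun r => by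
    have hne : c₀ - 1 ≠ 0 := sub_ne_zero.2 hc1
    have h5 := sub_mem (k3 (r * (c₀ - 1)⁻¹) c₀ hc0) (k3 (r * (c₀ - 1)⁻¹) 1 one_ne_zero)
    have e1 : e (r * (c₀ - 1)⁻¹) + d (r * (c₀ - 1)⁻¹ * c₀) - (e (r * (c₀ - 1)⁻¹) + d (r * (c₀ - 1)⁻¹ * 1))
        = d (r * (c₀ - 1)⁻¹ * c₀) - d (r * (c₀ - 1)⁻¹ * 1) := by abel
    rw [e1, ← map_sub, ← mul_sub, mul_assoc, inv_mul_cancel₀ hne, mul_one] at h5
    exact h5
  refine sup_le (sup_le ?_ ?_) ?_
  · rintro _ ⟨r, rfl⟩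
    have h5 := sub_mem (k3 r 1 one_ne_zero) (k5 (r * 1))
    rwa [add_sub_cancel_right] at h5
  · rintro _ ⟨s, rfl⟩
    have h5 := sub_mem (k1 s) (k5 (s * x))
    rwa [add_sub_cancel_right] at h5
  · rintro _ ⟨r, rfl⟩
    exact k5 r

/-- **(N0)** : `s` normalises `D`, `C`, is trivial on `L` and has 2-power order: it is trivial on `Z`. -/
theorem nb_alt {s : X} (hs : MulAut.conj s • D = D) (hC : ∀ c ∈ C, s • c ∈ C) (hN : ∀ n ∈ N, s • n ∈ N)
    (hL : ∀ v ∈ L, s • v = v) (h2s : ∃ n, s ^ 2 ^ n = 1) : ∀ z ∈ Z, s • z = z := by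
  obtain ⟨F, _, _, e, f, d, up, lo, hb, rfl, rfl, rfl, rfl⟩ := h.ex
  obtain ⟨n, hn⟩ := h2s
  have hse : ∀ x, s • e x = e x := fun x => hL _ ⟨x, rfl⟩
  -- `s f x = f (ψ x) + e (γ x) + c`
  have hsf : ∀ x, ∃ y a, ∃ c ∈ C, s • f x = e a + f y + c := fun x => by
    obtain ⟨a, y, c, hc, e1⟩ := hb.dec (s • f x)
    exact ⟨y, a, c, hc, e1⟩
  -- `s up t s⁻¹ = up t'`
  have hsu : ∀ t, ∃ t', s * up t = up t' * s := fun t => by
    have h1 : s * up t * s⁻¹ ∈ rt up := by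
      rw [← hs, mem_cj]
      have e1 : s⁻¹ * (s * up t * s⁻¹) * s = up t := by group
      rw [e1]
      exact up_mem t
    obtain ⟨t', ht'⟩ := (hb.mem_rt h2 hf).1 h1
    exact ⟨t', by rw [ht']; group⟩
  have key : ∀ t x t' y a, ∀ c ∈ C, s * up t = up t' * s → s • f x = e a + f y + c →
      t' * y = t * x ∧ s • d (t * x ^ 2) = d (t' * y ^ 2) := by
    intro t x t' y a c hc hu hx
    have h1 : (s * up t) • f x = e (a + t * x) + f y + (s • d (t * x ^ 2) + c) := by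
      rw [mul_smul, hb.up_f, smul_add, smul_add, hx, hse, map_add]; abel
    have h3 : (up t' * s) • f x = e (a + t' * y) + f y + (d (t' * y ^ 2) + c) := by
      rw [mul_smul, hx, smul_add, smul_add, hb.up_e, hb.up_f, hb.up_c _ c hc, map_add]; abel
    rw [hu, h3] at h1
    have h5 := hb.uniq (C.add_mem (hb.dC _) hc) (C.add_mem (hC _ (hb.dC _)) hc) h1
    exact ⟨add_left_cancel h5.1, (add_right_cancel h5.2.2).symm⟩
  choose ψ γ κ hκ hψ using hsf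
  choose φ hφ using hsu
  have k1 : ∀ t x, φ t * ψ x = t * x := fun t x => (key t x _ _ _ _ (hκ x) (hφ t) (hψ x)).1
  have k3 : ∀ t x, s • d (t * x ^ 2) = d (φ t * ψ x ^ 2) := fun t x => (key t x _ _ _ _ (hκ x) (hφ t) (hψ x)).2
  have hφ1 : φ 1 ≠ 0 := fun e1 => by
    have := k1 1 1
    rw [e1, zero_mul, one_mul] at this
    exact zero_ne_one this
  have hψx : ∀ x, ψ x = (φ 1)⁻¹ * x := fun x => by
    have h1 := k1 1 x
    rw [one_mul] at h1
    have h3 : (φ 1)⁻¹ * x = (φ 1)⁻¹ * (φ 1 * ψ x) := by rw [h1]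
    rw [h3, inv_mul_cancel_left₀ hφ1]
  -- `s d u = d (c u)`
  have hsd : ∀ u, s • d u = d ((φ 1)⁻¹ * u) := fun u => by
    have h1 := k3 u 1
    rw [one_pow, mul_one] at h1
    rw [h1]
    congr 1
    have h5 := k1 u 1
    rw [mul_one] at h5
    rw [pow_two, ← mul_assoc, h5, hψx, mul_one, mul_comm]
  -- powers
  have hpow : ∀ k : ℕ, ∃ a, ∃ c ∈ C, s ^ k • f 1 = e a + f ((φ 1)⁻¹ ^ k) + c := by
    intro k
    induction k with
    | zero => exact ⟨0, 0, C.zero_mem, by rw [pow_zero, one_smul, pow_zero, map_zero, zero_add, add_zero]⟩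
    | succ k ih =>
      obtain ⟨a, c, hc, h1⟩ := ih
      refine ⟨a + γ ((φ 1)⁻¹ ^ k), κ ((φ 1)⁻¹ ^ k) + s • c, C.add_mem (hκ _) (hC c hc), ?_⟩
      rw [pow_succ', mul_smul, h1, smul_add, smul_add, hse, hψ, hψx, ← pow_succ', map_add]
      abel
  have hc1 : (φ 1)⁻¹ ^ 2 ^ n = 1 := by
    obtain ⟨a, c, hc, h1⟩ := hpow (2 ^ n)
    rw [hn, one_smul] at h1
    have h3 : e 0 + f 1 + 0 = e a + f ((φ 1)⁻¹ ^ 2 ^ n) + c := by rw [map_zero, zero_add, add_zero]; exact h1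
    exact (hb.uniq C.zero_mem hc h3).2.1.symm
  have hc : (φ 1)⁻¹ = 1 := by
    have hch : CharP F 2 := by
      refine CharTwo.of_one_ne_zero_of_two_eq_zero one_ne_zero ?_
      have := hb.two h2 1
      rwa [one_add_one_eq_two] at this
    have : ExpChar F 2 := ExpChar.prime Nat.prime_two
    have h4 : ((φ 1)⁻¹ - 1) ^ 2 ^ n = 0 := by
      rw [sub_pow_expChar_pow, one_pow, hc1, sub_self]
    exact sub_eq_zero.1 ((pow_eq_zero_iff (by positivity)).1 h4)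
  rintro _ ⟨u, rfl⟩
  rw [hsd, hc, one_mul]

end one

/-! ### Sylow -/

/-- Sylow's theorem -/
theorem two_conj [Finite X] {K A B : Subgroup X} (hA : IsPGroup 2 A) (hB : IsPGroup 2 B) (hAK : A ≤ K) (hBK : B ≤ K) :
    ∃ k ∈ K, ∃ R ≤ K, IsPGroup 2 R ∧ A ≤ R ∧ ∀ b ∈ B, k * b * k⁻¹ ∈ R := by
  have hp : Fact (Nat.Prime 2) := ⟨Nat.prime_two⟩
  obtain ⟨R, hR⟩ := (hA.comap_subtype (K := K)).exists_le_sylow
  obtain ⟨R', hR'⟩ := (hB.comap_subtype (K := K)).exists_le_sylow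
  obtain ⟨g, hg⟩ := MulAction.exists_smul_eq K R' R
  refine ⟨g, g.2, (R : Subgroup K).map K.subtype, map_subtype_le _, R.isPGroup'.map _, ?_, fun b hb => ?_⟩
  · intro a ha
    exact ⟨⟨a, hAK ha⟩, hR (mem_subgroupOf.2 ha), rfl⟩
  · have h1 : (⟨b, hBK hb⟩ : K) ∈ R' := hR' (mem_subgroupOf.2 hb)
    have h2 : g * (⟨b, hBK hb⟩ : K) * g⁻¹ ∈ (R : Subgroup K) := by
      rw [← hg]
      exact smul_mem_pointwise_smul _ (MulAut.conj g) _ h1
    exact ⟨_, h2, rfl⟩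

theorem conj_le_syl [Finite X] (T : Sylow 2 X) {R : Subgroup X} (hR : IsPGroup 2 R) : ∃ g : X, ∀ r ∈ R, g * r * g⁻¹ ∈ T := by
  have hp : Fact (Nat.Prime 2) := ⟨Nat.prime_two⟩
  obtain ⟨R', hR'⟩ := hR.exists_le_sylow
  obtain ⟨g, hg⟩ := MulAction.exists_smul_eq X R' T
  refine ⟨g, fun r hr => ?_⟩
  rw [← hg]
  exact smul_mem_pointwise_smul _ (MulAut.conj g) _ (hR' hr)

/-! ### The family -/

/-- **The family of blocks.** -/
structure FX (T : Sylow 2 X) (FF : Set (Subgroup X)) (N C L Z : Subgroup X → AddSubgroup V) : Prop where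
  le : ∀ D ∈ FF, D ≤ T
  nb : ∀ D ∈ FF, NBd D (N D) (C D) (L D) (Z D)
  ind : ∀ D ∈ FF, ∀ D' ∈ FF, D' ≠ D → N D' ≤ C D
  perm : ∀ x : X, ∀ D ∈ FF, ∃ D' ∈ FF, (∀ m, m ∈ N D ↔ x • m ∈ N D') ∧ (∀ m, m ∈ C D ↔ x • m ∈ C D') ∧
    ∀ m, m ∈ Z D ↔ x • m ∈ Z D'
  wc : ∀ D ∈ FF, ∀ x : X, MulAut.conj x • D ≤ (T : Subgroup X) → MulAut.conj x • D ∈ FF
  lin : ∀ D ∈ FF, ∀ x : X, MulAut.conj x • D ∈ FF → ∀ m, m ∈ L D ↔ x • m ∈ L (MulAut.conj x • D)
  two : ∀ v : V, v + v = 0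
  faith : ∀ x : X, (∀ v : V, x • v = v) → x = 1
  four : ∀ D ∈ FF, 4 ≤ Nat.card D

/-- the normal closure of the root groups -/
def EO (FF : Set (Subgroup X)) : Subgroup X := normalClosure {a | ∃ D ∈ FF, a ∈ D}

instance (FF : Set (Subgroup X)) : (EO FF).Normal := normalClosure_normal

theorem mem_EO {FF : Set (Subgroup X)} {D : Subgroup X} (hD : D ∈ FF) (x : X) {a : X} (ha : a ∈ D) :
    x * a * x⁻¹ ∈ EO FF := (normalClosure_normal (s := {a | ∃ D ∈ FF, a ∈ D})).conj_mem _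
  (subset_normalClosure ⟨D, hD, ha⟩) x

theorem le_EO {FF : Set (Subgroup X)} {D : Subgroup X} (hD : D ∈ FF) : D ≤ EO FF := fun a ha =>
  subset_normalClosure ⟨D, hD, ha⟩

namespace FX

variable {T : Sylow 2 X} {FF : Set (Subgroup X)} {N C L Z : Subgroup X → AddSubgroup V} (h : FX T FF N C L Z)
include h

/-- blocks are different -/
theorem inj {D D' : Subgroup X} (hD : D ∈ FF) (hD' : D' ∈ FF) (hN : ∀ m, m ∈ N D → m ∈ N D') : D = D' := by
  by_contra hne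
  obtain ⟨a, ha, n, hn, h1⟩ := nb_mv (h.nb D hD) h.two h.faith
  have h3 : N D ≤ C D' := h.ind D' hD' D hD hne
  have h5 : a • n - n ∈ N D := nb_brk (h.nb D hD) h.two h.faith ha n
  have h6 : a • n - n ∈ Z D' := nb_NC (h.nb D' hD') (hN _ h5) (h3 h5)
  have h7 : N D' ≤ C D := h.ind D hD D' hD' (Ne.symm hne)
  exact h1 (h7 (nb_ZN (h.nb D' hD') h6))

/-- `x N D = N (x D x⁻¹)` -/
theorem conjN {D : Subgroup X} (hD : D ∈ FF) {x : X} (hx : MulAut.conj x • D ∈ FF) :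
    (∀ m, m ∈ N D ↔ x • m ∈ N (MulAut.conj x • D)) ∧ (∀ m, m ∈ C D ↔ x • m ∈ C (MulAut.conj x • D)) ∧
      ∀ m, m ∈ Z D ↔ x • m ∈ Z (MulAut.conj x • D) := by
  obtain ⟨D', hD', h1, h3, h5⟩ := h.perm x D hD
  have h6 : D' = MulAut.conj x • D := by
    by_contra hne
    obtain ⟨a, ha, n, hn, h7⟩ := nb_mv (h.nb D hD) h.two h.faith
    apply h7
    have h8 : x • n ∈ C (MulAut.conj x • D) := h.ind _ hx D' hD' hne ((h1 n).1 hn)
    have h9 : x * a * x⁻¹ ∈ MulAut.conj x • D := by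
      rw [mem_cj]
      have e1 : x⁻¹ * (x * a * x⁻¹) * x = a := by group
      rwa [e1]
    have h10 := nb_C (h.nb _ hx) h.two h.faith h9 h8
    rw [mul_smul, mul_smul, inv_smul_smul] at h10
    rw [smul_left_cancel x h10, sub_self]
    exact zero_mem _
  rw [← h6]
  exact ⟨h1, h3, h5⟩

/-- the group which fixes all blocks and centralises the radicals -/
def St (_ : FX T FF N C L Z) : Subgroup X where
  carrier := {g | ∀ D ∈ FF, (∀ m, m ∈ N D ↔ g • m ∈ N D) ∧ (∀ m, m ∈ C D ↔ g • m ∈ C D) ∧ ∀ m ∈ Z D, g • m = m}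
  mul_mem' := by
    intro a b ha hb D hD
    obtain ⟨a1, a2, a3⟩ := ha D hD
    obtain ⟨b1, b2, b3⟩ := hb D hD
    exact ⟨fun m => by rw [mul_smul, ← a1, ← b1], fun m => by rw [mul_smul, ← a2, ← b2],
      fun m hm => by rw [mul_smul, b3 m hm, a3 m hm]⟩
  one_mem' := fun D _ => ⟨fun m => by rw [one_smul], fun m => by rw [one_smul], fun m _ => one_smul _ _⟩
  inv_mem' := by
    intro a ha D hD
    obtain ⟨a1, a2, a3⟩ := ha D hD
    exact ⟨fun m => by rw [a1 (a⁻¹ • m), smul_inv_smul], fun m => by rw [a2 (a⁻¹ • m), smul_inv_smul],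
      fun m hm => by rw [inv_smul_eq_iff, a3 m hm]⟩

theorem EO_le : EO FF ≤ h.St := by
  have hn : h.St.Normal := ⟨fun g hg x D hD => by
    obtain ⟨D', hD', h1, h3, h5⟩ := h.perm x⁻¹ D hD
    obtain ⟨g1, g2, g3⟩ := hg D' hD'
    refine ⟨fun m => ?_, fun m => ?_, fun m hm => ?_⟩
    · rw [h1, g1, mul_smul, mul_smul, h1 (x • g • x⁻¹ • m), inv_smul_smul]
    · rw [h3, g2, mul_smul, mul_smul, h3 (x • g • x⁻¹ • m), inv_smul_smul]
    · rw [mul_smul, mul_smul, g3 _ ((h5 m).1 hm), smul_inv_smul]⟩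
  refine normalClosure_le_normal ?_
  rintro a ⟨D, hD, ha⟩ D' hD'
  by_cases hne : D' = D
  · subst hne
    have hb := h.nb D' hD
    refine ⟨fun m => ⟨fun hm => ?_, fun hm => ?_⟩, fun c => ⟨fun hc => ?_, fun hc => ?_⟩, fun m hm => nb_Z hb h.two h.faith ha hm⟩
    · have e1 : a • m = (a • m - m) + m := by abel
      rw [e1]; exact add_mem (nb_brk hb h.two h.faith ha m) hm
    · have e1 : m = a • m - (a • m - m) := by abel
      rw [e1]; exact sub_mem hm (nb_brk hb h.two h.faith ha m)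
    · rw [nb_C hb h.two h.faith ha hc]; exact hc
    · have e1 := nb_C hb h.two h.faith (D'.inv_mem ha) hc
      rw [inv_smul_smul] at e1
      rw [e1]; exact hc
  · have hb := h.nb D hD
    have k1 : N D' ≤ C D := h.ind D hD D' hD' hne
    have k3 : N D ≤ C D' := h.ind D' hD' D hD (Ne.symm hne)
    refine ⟨fun m => ⟨fun hm => ?_, fun hm => ?_⟩, fun c => ⟨fun hc => ?_, fun hc => ?_⟩, fun m hm => ?_⟩
    · rw [nb_C hb h.two h.faith ha (k1 hm)]; exact hm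
    · have e1 := nb_C hb h.two h.faith (D.inv_mem ha) (k1 hm)
      rw [inv_smul_smul] at e1
      rw [e1]; exact hm
    · have e1 : a • c = (a • c - c) + c := by abel
      rw [e1]; exact add_mem (k3 (nb_brk hb h.two h.faith ha c)) hc
    · have e1 : c = a • c - (a • c - c) := by abel
      rw [e1]; exact sub_mem hc (k3 (nb_brk hb h.two h.faith ha c))
    · exact nb_C hb h.two h.faith ha (k1 (nb_ZN (h.nb D' hD') hm))

/-- two members of `FF` on the same block in one Sylow group -/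
theorem same {D₁ D₂ : Subgroup X} (h1 : D₁ ∈ FF) (h2 : D₂ ∈ FF) {g x : X} (hg : MulAut.conj g • D₂ ≤ (T : Subgroup X))
    (hx : MulAut.conj x • D₁ ≤ (T : Subgroup X)) (hN : ∀ m, m ∈ N D₁ ↔ (g⁻¹ * x) • m ∈ N D₂) :
    MulAut.conj x • D₁ = MulAut.conj g • D₂ := by
  have k1 := h.wc D₁ h1 x hx
  have k2 := h.wc D₂ h2 g hg
  refine h.inj k1 k2 fun m hm => ?_
  have e1 : m = x • x⁻¹ • m := (smul_inv_smul _ _).symm
  rw [e1, ← (h.conjN h1 k1).1, hN, smul_smul] at hm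
  have e2 : g⁻¹ * x * x⁻¹ = g⁻¹ := by group
  rw [e2, (h.conjN h2 k2).1, smul_inv_smul] at hm
  exact hm

variable [Finite X]

/-- **Two lines over one vector.** -/
theorem sec {D₁ D₂ : Subgroup X} (h1 : D₁ ∈ FF) (h2 : D₂ ∈ FF) {x : X} (hN : ∀ m, m ∈ N D₁ ↔ x • m ∈ N D₂) {v w : V}
    (hv : v ∈ L D₁) (hw : w ∈ L D₂) (hz : x • v - w ∈ C D₂) : x • v = w := by
  have hb1 := h.nb D₁ h1
  have hb2 := h.nb D₂ h2
  have hzZ : x • v - w ∈ Z D₂ :=
    nb_NC hb2 (sub_mem ((hN v).1 (nb_LN hb1 hv)) (nb_LN hb2 hw)) hz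
  set K : Subgroup X := EO FF ⊓ MulAction.stabilizer X w with hK
  have hp1 : ∀ {D}, D ∈ FF → IsPGroup 2 D := fun hD => T.isPGroup'.to_le (h.le _ hD)
  have hKz : ∀ k ∈ K, k • (x • v - w) = x • v - w := fun k hk => ((h.EO_le hk.1) D₂ h2).2.2 _ hzZ
  have hD2 : D₂ ≤ K := fun a ha => ⟨le_EO h2 ha, MulAction.mem_stabilizer_iff.2 (nb_L hb2 h.two h.faith ha hw)⟩
  have hD1 : MulAut.conj x • D₁ ≤ K := by
    intro y hy
    have hy1 := mem_cj.1 hy
    have e1 : y = x * (x⁻¹ * y * x) * x⁻¹ := by group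
    have hyE : y ∈ EO FF := by rw [e1]; exact mem_EO h1 x hy1
    refine ⟨hyE, MulAction.mem_stabilizer_iff.2 ?_⟩
    have k1 : y • x • v = x • v := by
      have := nb_L hb1 h.two h.faith hy1 hv
      rw [mul_smul, mul_smul, inv_smul_eq_iff] at this
      exact this
    have k2 : y • (x • v - w) = x • v - w := ((h.EO_le hyE) D₂ h2).2.2 _ hzZ
    rw [smul_sub, k1] at k2
    exact sub_right_inj.1 k2
  obtain ⟨k, hk, R, hRK, hR2, hAR, hBR⟩ := two_conj (hp1 h2) ((hp1 h1).map (MulAut.conj x).toMonoidHom) hD2 hD1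
  obtain ⟨g, hg⟩ := conj_le_syl T hR2
  have e0 : MulAut.conj (g * k * x) • D₁ = MulAut.conj g • D₂ := by
    refine h.same h1 h2 (fun y hy => ?_) (fun y hy => ?_) fun m => ?_
    · have hy1 := mem_cj.1 hy
      have := hg _ (hAR hy1)
      have e1 : g * (g⁻¹ * y * g) * g⁻¹ = y := by group
      rwa [e1] at this
    · have hy1 := mem_cj.1 hy
      have hy2 : x * ((g * k * x)⁻¹ * y * (g * k * x)) * x⁻¹ ∈ MulAut.conj x • D₁ := by
        rw [mem_cj]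
        have e1 : x⁻¹ * (x * ((g * k * x)⁻¹ * y * (g * k * x)) * x⁻¹) * x = (g * k * x)⁻¹ * y * (g * k * x) := by group
        rwa [e1]
      have := hg _ (hBR _ hy2)
      have e1 : g * (k * (x * ((g * k * x)⁻¹ * y * (g * k * x)) * x⁻¹) * k⁻¹) * g⁻¹ = y := by group
      rwa [e1] at this
    · have e1 : g⁻¹ * (g * k * x) = k * x := by group
      rw [e1, mul_smul, hN, ((h.EO_le hk.1) D₂ h2).1]
  have e3 : MulAut.conj (k * x) • D₁ = D₂ := by
    have e1 : MulAut.conj (g * k * x) = MulAut.conj g * MulAut.conj (k * x) := by rw [← map_mul, mul_assoc]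
    rw [e1, mul_smul] at e0
    exact smul_left_cancel _ e0
  have k1 : (k * x) • v ∈ L D₂ := by
    have := (h.lin D₁ h1 (k * x) (e3 ▸ h2) v).1 hv
    rwa [e3] at this
  have k3 : (k * x) • v = x • v := by
    have e1 : x • v = (x • v - w) + w := by abel
    have e2 : k • w = w := MulAction.mem_stabilizer_iff.1 hk.2
    rw [mul_smul, e1, smul_add, hKz k hk, e2]
  rw [k3] at k1
  exact sub_eq_zero.1 (nb_LC hb2 (sub_mem k1 hw) hz)

/-- **(N0)** -/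
theorem alt {s : X} (hs : s ∈ T) (hL : ∀ D ∈ FF, ∀ v ∈ L D, s • v = v) : ∀ D ∈ FF, ∀ z ∈ Z D, s • z = z := by
  intro D hD
  have hb := h.nb D hD
  have hc : MulAut.conj s • D ∈ FF := h.wc D hD s fun y hy => by
    have hy1 := h.le D hD (mem_cj.1 hy)
    have e1 : y = s * (s⁻¹ * y * s) * s⁻¹ := by group
    rw [e1]
    exact mul_mem (mul_mem hs hy1) (inv_mem hs)
  have heq : MulAut.conj s • D = D := by
    by_contra hne
    obtain ⟨a, ha, n, hn, h7⟩ := nb_mv hb h.two h.faith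
    -- a non-zero vector of the line
    obtain ⟨F, _, _, e, f, d, up, lo, hB, e1, e2, e3, e4⟩ := hb.ex
    have hv : e 1 ∈ L D := e3 ▸ ⟨1, rfl⟩
    have h8 : e 1 ∈ L (MulAut.conj s • D) := by
      have := (h.lin D hD s hc _).1 hv
      rwa [hL D hD _ hv] at this
    have h9 : e 1 ∈ C D := h.ind D hD _ hc hne (nb_LN (h.nb _ hc) h8)
    have h10 := (hB.ind 1 0 (by rwa [map_zero, add_zero])).1
    exact one_ne_zero h10
  have h3 := h.conjN hD hc
  rw [heq] at h3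
  obtain ⟨n, hn⟩ := T.isPGroup' ⟨s, hs⟩
  refine nb_alt hb h.two h.faith heq (fun c hc => (h3.2.1 c).1 hc) (fun m hm => (h3.1 m).1 hm) (hL D hD) ⟨n, ?_⟩
  exact congrArg Subtype.val hn

end FX

end Cfsg.Agent.Omega.NOThreeL.RRed.Blk.FamX
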