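import Cfsg.Agent.Omega.NOThreeL.RRed.Blk.FamX
import Cfsg.Agent.Omega.NOThreeL.RRed.Blk.AsmN2

/-!
# NO-3L, box R: `FamN` gives `FX` (#26560, #27688)

* `mem_of` : a conjugate of `D ∈ FF` which is in `EE` is in `FF`;
* **`fx_of`** : a family of natural blocks with radicals (`FamN`), with `EE` closed under conjugation in `T ∈ Syl₂(X)`, is a
  family `FX`;
* `EO_eq` : `EO FF = EB FF`.
-/

set_option autoImplicit false
set_option linter.unusedSectionVars false

namespace Cfsg.Agent.Omega.NOThreeL.RRed.Blk.FamXOf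

open Cfsg.Agent.Omega.NOThreeL.RRed.Blk.Types (mem_cj)
open Cfsg.Agent.Omega.NOThreeL.RRed.Blk.Asm (mem_map)
open Cfsg.Agent.Omega.NOThreeL.RRed.Blk.AsmN
open Cfsg.Agent.Omega.NOThreeL.RRed.Blk.FamX
open scoped Pointwise

universe u v

variable {X : Type u} {V : Type v} [Group X] [AddCommGroup V] [DistribMulAction X V]

section

variable {S : Subgroup X} {EE FF : Set (Subgroup X)} {N C L Z : Subgroup X → AddSubgroup V}

/-- if `x N D = N D'` and `x D x⁻¹ ∈ EE`, then `x D x⁻¹ = D'` -/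
theorem eq_of (F : FamN S EE FF N C L Z) (h2 : ∀ v : V, v + v = 0) (hf : ∀ x : X, (∀ v : V, x • v = v) → x = 1)
    {D D' : Subgroup X} (hD : D ∈ FF) (hD' : D' ∈ FF) {x : X} (hx : MulAut.conj x • D ∈ EE)
    (h1 : ∀ m, m ∈ N D → x • m ∈ N D') : MulAut.conj x • D = D' := by
  by_contra hne
  obtain ⟨a, ha, n, hn, h7⟩ := nb_mv (F.gb D hD).nb h2 hf
  have h9 : x * a * x⁻¹ ∈ MulAut.conj x • D := by
    rw [mem_cj]
    have e1 : x⁻¹ * (x * a * x⁻¹) * x = a := by group
    rwa [e1]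
  have h10 := (F.gb D' hD').oth _ hx hne _ h9 (x • n) (h1 n hn)
  rw [mul_smul, mul_smul, inv_smul_smul] at h10
  exact h7 (by rw [smul_left_cancel x h10, sub_self]; exact zero_mem _)

theorem mem_of (F : FamN S EE FF N C L Z) (h2 : ∀ v : V, v + v = 0) (hf : ∀ x : X, (∀ v : V, x • v = v) → x = 1)
    {D : Subgroup X} (hD : D ∈ FF) {x : X} (hx : MulAut.conj x • D ∈ EE) : MulAut.conj x • D ∈ FF := by
  obtain ⟨D', hD', -, h1, -, -⟩ := F.perm x D hD
  rw [eq_of F h2 hf hD hD' hx fun m => (h1 m).1]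
  exact hD'

/-- **`FamN` gives `FX`.** -/
theorem fx_of {T : Sylow 2 X} (F : FamN (T : Subgroup X) EE FF N C L Z)
    (EEc : ∀ B ∈ EE, ∀ x : X, MulAut.conj x • B ≤ (T : Subgroup X) → MulAut.conj x • B ∈ EE)
    (h2 : ∀ v : V, v + v = 0) (hf : ∀ x : X, (∀ v : V, x • v = v) → x = 1) : FX T FF N C L Z where
  le := F.le
  nb := fun D hD => (F.gb D hD).nb
  ind := F.ind
  perm := fun x D hD => by
    obtain ⟨D', hD', -, h⟩ := F.perm x D hD
    exact ⟨D', hD', h⟩
  wc := fun D hD x hx => mem_of F h2 hf hD (EEc D (F.sub hD) x hx)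
  lin := fun D hD x hx m => by
    obtain ⟨D', hD', -, h1, h3, h5⟩ := F.perm x D hD
    have he : MulAut.conj x • D = D' := eq_of F h2 hf hD hD' (F.sub hx) fun m => (h1 m).1
    have hg : GBd EE (MulAut.conj x • D) ((N D).map (DistribSMul.toAddMonoidHom V x))
        ((C D).map (DistribSMul.toAddMonoidHom V x)) ((L D).map (DistribSMul.toAddMonoidHom V x))
        ((Z D).map (DistribSMul.toAddMonoidHom V x)) := by
      refine ⟨(F.gb D hD).nb.conj x, fun A hA hne a ha m hm => ?_⟩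
      refine (F.gb D' hD').oth A hA (fun e => hne (e.trans he.symm)) a ha m ?_
      rw [mem_map] at hm
      rwa [h1, smul_inv_smul] at hm
    rw [← (F.uniq _ hx _ _ _ _ hg).2.2.1, mem_map, inv_smul_smul]
  two := h2
  faith := hf
  four := F.four

end

/-- the two normal closures are the same -/
theorem EO_eq (FF : Set (Subgroup X)) : EO FF = FamN.EB FF := by
  apply le_antisymm
  · refine Subgroup.normalClosure_le_normal ?_
    rintro a ⟨D, hD, ha⟩
    exact FamN.le_EB hD ha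
  · refine Subgroup.normalClosure_le_normal ?_
    have h1 : (⨆ D ∈ FF, D : Subgroup X) ≤ EO FF := iSup₂_le fun D hD => le_EO hD
    exact h1

end Cfsg.Agent.Omega.NOThreeL.RRed.Blk.FamXOf
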