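import Cfsg.Agent.Omega.NOThreeL.RRed.Blk.AsmN2
import Cfsg.Agent.Omega.NOThreeL.RRed.Blk.NBdEq
import Cfsg.Agent.Omega.NOThreeL.RRed.Blk.FamX

/-!
# NO-3L, box R, natural blocks with radicals: from 19's `FamN` to 842's `FX` (#27284)

* `wc`, `lin` : `FF` is closed under conjugation in the Sylow group, lines go to lines; **`fx_of`**;
* `EO_eq` : the two normal closures agree.
-/

set_option autoImplicit false
set_option linter.unusedSectionVars false

namespace Cfsg.Agent.Omega.NOThreeL.RRed.Blk.FxOf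

open Cfsg.Agent.Omega.NOThreeL.RRed.NS (fxd brk mem_fxd)
open Cfsg.Agent.Omega.NOThreeL.RRed.Blk.Types
open Cfsg.Agent.Omega.NOThreeL.RRed.Blk.TypesN
open Cfsg.Agent.Omega.NOThreeL.RRed.Blk.Asm (St mem_St mem_map)
open Cfsg.Agent.Omega.NOThreeL.RRed.Blk.AsmN
open Cfsg.Agent.Omega.NOThreeL.RRed.Blk.AsmN.FamN
open Cfsg.Agent.Omega.NOThreeL.RRed.Blk.FamX (FX EO)
open scoped Pointwise

universe u v

variable {X : Type u} {V : Type v} [Group X] [AddCommGroup V] [DistribMulAction X V]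

/-! ### the family -/

section fam

variable {S : Subgroup X} {EE FF : Set (Subgroup X)} {N C L Z : Subgroup X → AddSubgroup V}
  (F : FamN S EE FF N C L Z) (h2 : ∀ v : V, v + v = 0) (hf : ∀ x : X, (∀ v : V, x • v = v) → x = 1)
include F h2 hf

variable [Finite V]

theorem card_L {D : Subgroup X} (hD : D ∈ FF) : L D ≠ ⊥ := by
  intro h0
  have h1 := (F.gb D hD).nb.card_L h2 hf
  rw [h0] at h1
  have h3 := F.four D hD
  rw [← h1] at h3
  simp at h3

/-- a root group is determined by its block -/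
theorem eq_of_N {D D' : Subgroup X} (hD : D ∈ FF) (hD' : D' ∈ FF) (h : N D = N D') : D = D' := by
  by_contra hne
  have h1 := F.ind D hD D' hD' (fun e => hne e.symm)
  rw [← h] at h1
  refine card_L F h2 hf hD ?_
  rw [← F.LC h2 hf hD]
  exact (inf_eq_left.2 ((F.LN hD).trans h1)).symm

/-- `D` does not centralise its block -/
theorem moves_N {D : Subgroup X} (hD : D ∈ FF) : ¬ ∀ a ∈ D, ∀ m ∈ N D, a • m = m := by
  intro h
  have h1 : N D ≤ (fxd D : AddSubgroup V) := fun m hm => mem_fxd.2 fun a ha => h a ha m hm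
  have h3 : (fxd D : AddSubgroup V) = ⊤ := by
    rw [eq_top_iff, ← F.NC_top hD]
    refine sup_le h1 ?_
    rw [F.fx h2 hf hD]
    exact le_sup_right
  have h5 : D = ⊥ := by
    rw [eq_bot_iff]
    intro a ha
    rw [Subgroup.mem_bot]
    refine hf a fun v => ?_
    have : v ∈ (fxd D : AddSubgroup V) := h3 ▸ AddSubgroup.mem_top v
    exact mem_fxd.1 this a ha
  have h6 := F.four D hD
  rw [h5] at h6
  simp at h6

variable {T : Subgroup X} (EEc : ∀ B ∈ EE, ∀ x : X, MulAut.conj x • B ≤ S → MulAut.conj x • B ∈ EE)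
include EEc

/-- `FF` is closed under conjugation in `S` -/
theorem wc {D : Subgroup X} (hD : D ∈ FF) {x : X} (hx : MulAut.conj x • D ≤ S) : MulAut.conj x • D ∈ FF ∧
    ∀ m : V, m ∈ N D ↔ x • m ∈ N (MulAut.conj x • D) := by
  obtain ⟨D', hD', -, h1, -⟩ := F.perm x D hD
  by_cases h : MulAut.conj x • D = D'
  · rw [h]; exact ⟨hD', h1⟩
  · exfalso
    refine moves_N F h2 hf hD fun a ha m hm => ?_
    have h3 : x * a * x⁻¹ ∈ MulAut.conj x • D := by
      rw [mem_cj]; convert ha using 1; group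
    have h5 := (F.gb D' hD').oth _ (EEc D (F.sub hD) x hx) h _ h3 _ ((h1 m).1 hm)
    rw [mul_smul, mul_smul, inv_smul_smul] at h5
    exact smul_left_cancel x h5

/-- the lines are permuted -/
theorem lin {D : Subgroup X} (hD : D ∈ FF) {x : X} (hx : MulAut.conj x • D ≤ S) :
    ∀ m : V, m ∈ L D ↔ x • m ∈ L (MulAut.conj x • D) := by
  obtain ⟨hF, hN⟩ := wc F h2 hf EEc hD hx
  have h1 : GBd EE (MulAut.conj x • D) ((N D).map (DistribSMul.toAddMonoidHom V x))
      ((C D).map (DistribSMul.toAddMonoidHom V x)) ((L D).map (DistribSMul.toAddMonoidHom V x))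
      ((Z D).map (DistribSMul.toAddMonoidHom V x)) := by
    refine ⟨(F.gb D hD).nb.conj x, fun A hA hne a ha m hm => ?_⟩
    refine (F.gb _ hF).oth A hA hne a ha m ?_
    rw [mem_map] at hm
    have h3 := (hN _).1 hm
    rwa [smul_inv_smul] at h3
  obtain ⟨-, -, h3, -⟩ := F.uniq _ hF _ _ _ _ h1
  intro m
  rw [← h3, mem_map, inv_smul_smul]

end fam

/-- the two normal closures agree -/
theorem EO_eq (FF : Set (Subgroup X)) : EO FF = EB FF := by
  apply le_antisymm
  · refine Subgroup.normalClosure_le_normal ?_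
    rintro a ⟨D, hD, ha⟩
    exact le_EB hD ha
  · refine Subgroup.normalClosure_le_normal ?_
    have h1 : (⨆ D ∈ FF, D : Subgroup X) ≤ EO FF := iSup₂_le fun D hD => FamX.le_EO hD
    exact h1

/-- **From `FamN` to `FX`.** -/
theorem fx_of [Finite V] {T : Sylow 2 X} {EE FF : Set (Subgroup X)} {N C L Z : Subgroup X → AddSubgroup V}
    (F : FamN (T : Subgroup X) EE FF N C L Z) (h2 : ∀ v : V, v + v = 0)
    (hf : ∀ x : X, (∀ v : V, x • v = v) → x = 1)
    (EEc : ∀ B ∈ EE, ∀ x : X, MulAut.conj x • B ≤ (T : Subgroup X) → MulAut.conj x • B ∈ EE) : FX T FF N C L Z where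
  le := F.le
  nb := fun D hD => (F.gb D hD).nb
  ind := F.ind
  perm := fun x D hD => by
    obtain ⟨D', hD', -, h1, h3, h5⟩ := F.perm x D hD
    exact ⟨D', hD', h1, h3, h5⟩
  wc := fun D hD x hx => (wc F h2 hf EEc hD hx).1
  lin := fun D hD x hx => lin F h2 hf EEc hD (F.le _ hx)
  two := h2
  faith := hf
  four := F.four

end Cfsg.Agent.Omega.NOThreeL.RRed.Blk.FxOf
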