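import Cfsg.Agent.Omega.NOThreeL.RRed.Blk.FamX
import Cfsg.Agent.Omega.NOThreeL.RRed.Blk.AsmN2

/-!
# NO-3L, box R, nonsplit blocks (#26560, #27284, #27575): the sums over the blocks

`F : FamN T EE FF N C L Z`, `h : FX T FF N C L Z` (842), `EB FF` the normal closure of the root groups (`EB_eq : EB = EO`).

* `mvP` : the permutation of `FF` by `x`;
* **`sep`** : `m, m' ∈ ⨆ L`, `x m - m' ∈ ⨆ Z` ⟹ `x m = m'`;
* **`Linv`** : `x D x⁻¹ ≤ T` for all `D ∈ FF` ⟹ `x` normalises `⨆ L`;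
* **`tr`** : `v = ∑ t D`, `t D ∈ L D`, `t D ≠ 0` ⟹ for all `x` there is `y ∈ EB` with `y v = x v`.
-/

set_option autoImplicit false
set_option linter.unusedSectionVars false

namespace Cfsg.Agent.Omega.NOThreeL.RRed.Blk.FxSep

open Subgroup
open Cfsg.Agent.Omega.NOThreeL.RRed
open Cfsg.Agent.Omega.NOThreeL.RRed.NS (fxd brk mem_fxd)
open Cfsg.Agent.Omega.NOThreeL.RRed.Blk.Types (mem_cj card_cj)
open Cfsg.Agent.Omega.NOThreeL.RRed.Blk.AsmN (NBd GBd FamN)
open Cfsg.Agent.Omega.NOThreeL.RRed.Blk.AsmN.FamN (sN iC EB comp le_EB)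
open Cfsg.Agent.Omega.NOThreeL.RRed.Blk.FamX
open scoped Pointwise

universe u v

variable {X : Type u} {V : Type v} [Group X] [AddCommGroup V] [DistribMulAction X V]
variable {T : Sylow 2 X} {EE FF : Set (Subgroup X)} {N C L Z : Subgroup X → AddSubgroup V}

theorem EB_eq : EB FF = EO FF := by
  apply le_antisymm
  · refine normalClosure_le_normal ?_
    have h1 : (⨆ D ∈ FF, D : Subgroup X) ≤ EO FF := iSup₂_le fun D hD => le_EO hD
    exact h1
  · refine normalClosure_le_normal ?_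
    rintro a ⟨D, hD, ha⟩
    exact le_EB hD ha

/-! ### the permutation of the blocks -/

section perm

variable (h : FX T FF N C L Z)
include h

theorem exists_mvP (x : X) : ∃ π : Subgroup X → Subgroup X, (∀ D ∈ FF, π D ∈ FF ∧ (∀ m, m ∈ N D ↔ x • m ∈ N (π D)) ∧
    (∀ m, m ∈ C D ↔ x • m ∈ C (π D))) ∧ Set.InjOn π FF := by
  classical
  choose! π hπ using fun D (hD : D ∈ FF) => h.perm x D hD
  refine ⟨π, fun D hD => ⟨(hπ D hD).1, (hπ D hD).2.1, (hπ D hD).2.2.1⟩, fun D hD D' hD' e => ?_⟩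
  refine h.inj hD hD' fun m hm => ?_
  rw [(hπ D' hD').2.1, ← e]
  exact ((hπ D hD).2.1 m).1 hm

variable [Finite X]

theorem sum_mvP {π : Subgroup X → Subgroup X} (h1 : ∀ D ∈ FF, π D ∈ FF) (h3 : Set.InjOn π FF) (t : Subgroup X → V) :
    ∑ D ∈ (Set.toFinite FF).toFinset, t (π D) = ∑ D ∈ (Set.toFinite FF).toFinset, t D := by
  classical
  have hm : ∀ D, D ∈ (Set.toFinite FF).toFinset ↔ D ∈ FF := fun D => (Set.toFinite FF).mem_toFinset
  have hinj : Set.InjOn π ((Set.toFinite FF).toFinset : Set (Subgroup X)) := fun D hD D' hD' e =>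
    h3 ((hm D).1 hD) ((hm D').1 hD') e
  have himg : (Set.toFinite FF).toFinset.image π = (Set.toFinite FF).toFinset := by
    refine Finset.eq_of_subset_of_card_le (fun D hD => ?_) ?_
    · obtain ⟨D', hD', rfl⟩ := Finset.mem_image.1 hD
      exact (hm _).2 (h1 _ ((hm _).1 hD'))
    · rw [Finset.card_image_of_injOn hinj]
  conv_rhs => rw [← himg]
  rw [Finset.sum_image hinj]

end perm

section fam

variable [Finite X] [Finite V] (F : FamN (T : Subgroup X) EE FF N C L Z) (h : FX T FF N C L Z)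
include F h

/-- **(sep)** -/
theorem sep {m m' : V} (hm : m ∈ sN FF L) (hm' : m' ∈ sN FF L) {x : X} (hz : x • m - m' ∈ sN FF Z) : x • m = m' := by
  classical
  obtain ⟨t, ht, rfl⟩ := comp hm
  obtain ⟨t', ht', rfl⟩ := comp hm'
  obtain ⟨π, hπ, hinj⟩ := exists_mvP h x
  have hmem : ∀ D, D ∈ (Set.toFinite FF).toFinset ↔ D ∈ FF := fun D => (Set.toFinite FF).mem_toFinset
  -- the sum without the component `D`
  have hrest : ∀ s : Subgroup X → V, (∀ D, s D ∈ L D) → ∀ D ∈ FF,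
      (∑ D' ∈ (Set.toFinite FF).toFinset, s D') - s D ∈ C D := by
    intro s hs D hD
    rw [← Finset.add_sum_erase _ _ ((hmem D).2 hD), add_sub_cancel_left]
    refine sum_mem fun D' hD' => ?_
    have h3 := Finset.mem_erase.1 hD'
    have h5 := (hmem D').1 h3.2
    exact F.ind D hD D' h5 h3.1 (F.LN h5 (hs D'))
  have key : ∀ D ∈ FF, x • t D = t' (π D) := by
    intro D hD
    obtain ⟨h1, h3, h5⟩ := hπ D hD
    refine h.sec hD h1 h3 (ht D) (ht' _) ?_
    have e1 : x • t D - t' (π D) = (x • (∑ D ∈ (Set.toFinite FF).toFinset, t D) -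
        ∑ D ∈ (Set.toFinite FF).toFinset, t' D) - x • ((∑ D ∈ (Set.toFinite FF).toFinset, t D) - t D) +
        ((∑ D ∈ (Set.toFinite FF).toFinset, t' D) - t' (π D)) := by
      rw [smul_sub]; abel
    rw [e1]
    refine add_mem (sub_mem ?_ ((h5 _).1 (hrest t ht D hD))) (hrest t' ht' _ h1)
    have h6 : sN FF Z ≤ C (π D) := iSup₂_le fun D' hD' =>
      (F.Z_iC h.two h.faith hD').trans (iInf₂_le (π D) h1)
    exact h6 hz
  rw [Finset.smul_sum, ← sum_mvP h (fun D hD => (hπ D hD).1) hinj t']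
  exact Finset.sum_congr rfl fun D hD => key D ((hmem D).1 hD)

omit F [Finite V] [Finite X] in
/-- **(Linv)** -/
theorem Linv {x : X} (hx : ∀ D ∈ FF, MulAut.conj x • D ≤ (T : Subgroup X)) {m : V} (hm : m ∈ sN FF L) :
    x • m ∈ sN FF L := by
  have h1 : sN FF L ≤ (sN FF L).comap (DistribSMul.toAddMonoidHom V x) := by
    refine iSup₂_le fun D hD m hm => ?_
    have h3 := h.wc D hD x (hx D hD)
    exact (le_iSup₂ (f := fun D (_ : D ∈ FF) => L D) _ h3) ((h.lin D hD x h3 m).1 hm)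
  exact h1 hm

omit F h [Finite V] in
/-- Frattini -/
theorem exists_fr (hFT : ∀ D ∈ FF, D ≤ (T : Subgroup X)) (x : X) :
    ∃ g ∈ EB FF, ∀ D ∈ FF, MulAut.conj (g * x) • D ≤ (T : Subgroup X) := by
  have h2 : IsPGroup 2 ↥(MulAut.conj x • (EB FF ⊓ (T : Subgroup X)) : Subgroup X) :=
    (T.isPGroup'.to_le inf_le_right).of_equiv (Subgroup.equivSMul (MulAut.conj x) (EB FF ⊓ (T : Subgroup X)))
  have h1 : MulAut.conj x • (EB FF ⊓ (T : Subgroup X)) ≤ (T : Subgroup X) ⊔ EB FF := by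
    intro y hy
    have h3 := (mem_cj.1 hy).1
    have h5 := (AsmN.FamN.EB_normal (FF := FF)).conj_mem _ h3 x
    have e1 : x * (x⁻¹ * y * x) * x⁻¹ = y := by group
    rw [e1] at h5
    exact mem_sup_right h5
  obtain ⟨m, hm, hAm⟩ := NS.exists_conj_le T (le_sup_left : (T : Subgroup X) ≤ (T : Subgroup X) ⊔ EB FF) h2 h1
  have hm' : m⁻¹ ∈ (T : Subgroup X) ⊔ EB FF := inv_mem hm
  obtain ⟨s, hs, e, he, h3⟩ := (mem_sup_of_normal_right).1 hm'
  refine ⟨e, he, fun D hD y hy => ?_⟩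
  have h5 : e⁻¹ * y * e ∈ MulAut.conj x • (EB FF ⊓ (T : Subgroup X)) := by
    rw [mem_cj]
    have h6 := mem_cj.1 hy
    have e1 : (e * x)⁻¹ * y * (e * x) = x⁻¹ * (e⁻¹ * y * e) * x := by group
    rw [e1] at h6
    exact ⟨le_EB hD h6, hFT D hD h6⟩
  have h6 : m⁻¹ * (e⁻¹ * y * e) * m ∈ (T : Subgroup X) := mem_cj.1 (hAm h5)
  have e2 : m = e⁻¹ * s⁻¹ := by rw [← inv_inv m, ← h3, mul_inv_rev]
  have e3 : m⁻¹ * (e⁻¹ * y * e) * m = s * y * s⁻¹ := by rw [e2]; group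
  rw [e3] at h6
  have h7 := mul_mem (mul_mem (inv_mem hs) h6) hs
  have e4 : s⁻¹ * (s * y * s⁻¹) * s = y := by group
  rwa [e4] at h7

/-- **(tr)** -/
theorem tr {t : Subgroup X → V} (ht : ∀ D, t D ∈ L D) (h0 : ∀ D ∈ FF, t D ≠ 0) (x : X) :
    ∃ y ∈ EB FF, y • (∑ D ∈ (Set.toFinite FF).toFinset, t D) = x • ∑ D ∈ (Set.toFinite FF).toFinset, t D := by
  classical
  have hmem : ∀ D, D ∈ (Set.toFinite FF).toFinset ↔ D ∈ FF := fun D => (Set.toFinite FF).mem_toFinset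
  obtain ⟨g, hg, h1⟩ := exists_fr (T := T) (FF := FF) h.le x
  -- `(g x) v = ∑ t' D`
  set π : Subgroup X → Subgroup X := fun D => MulAut.conj (g * x) • D with hπ
  have hπF : ∀ D ∈ FF, π D ∈ FF := fun D hD => h.wc D hD _ (h1 D hD)
  have hinj : Set.InjOn π FF := fun D _ D' _ e => smul_left_cancel _ e
  set t' : Subgroup X → V := fun D => (g * x) • t (MulAut.conj (g * x)⁻¹ • D) with ht'
  have e0 : ∀ D, t' (π D) = (g * x) • t D := by
    intro D
    simp only [ht', hπ, smul_smul, ← map_mul, inv_mul_cancel, map_one, one_smul]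
  have hD' : ∀ D ∈ FF, ∃ D₁ ∈ FF, π D₁ = D := by
    intro D hD
    have hsurj : (Set.toFinite FF).toFinset.image π = (Set.toFinite FF).toFinset := by
      refine Finset.eq_of_subset_of_card_le (fun D hD => ?_) ?_
      · obtain ⟨D', hD', rfl⟩ := Finset.mem_image.1 hD
        exact (hmem _).2 (hπF _ ((hmem _).1 hD'))
      · rw [Finset.card_image_of_injOn fun D hD D' hD' e => hinj ((hmem D).1 hD) ((hmem D').1 hD') e]
    have h3 := (hmem D).2 hD
    rw [← hsurj] at h3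
    obtain ⟨D₁, h5, h6⟩ := Finset.mem_image.1 h3
    exact ⟨D₁, (hmem _).1 h5, h6⟩
  -- cut off outside of `FF`
  set t'' : Subgroup X → V := fun D => if D ∈ FF then t' D else 0 with ht''
  have ha : ∀ D, t'' D ∈ L D := by
    intro D
    by_cases hD : D ∈ FF
    · obtain ⟨D₁, h3, rfl⟩ := hD' D hD
      simp only [ht'', if_pos hD, e0]
      exact (h.lin D₁ h3 _ (hπF D₁ h3) _).1 (ht D₁)
    · simp only [ht'', if_neg hD]
      exact zero_mem _
  have hb : ∀ D ∈ FF, t'' D ≠ 0 := by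
    intro D hD
    obtain ⟨D₁, h3, rfl⟩ := hD' D hD
    simp only [ht'', if_pos hD, e0]
    intro h5
    exact h0 D₁ h3 ((smul_eq_zero_iff_eq _).1 h5)
  obtain ⟨y, hy, -, h3⟩ := F.full h.two h.faith ht ha h0 hb
  refine ⟨g⁻¹ * y, mul_mem (inv_mem hg) hy, ?_⟩
  have e1 : ∑ D ∈ (Set.toFinite FF).toFinset, t'' D = (g * x) • ∑ D ∈ (Set.toFinite FF).toFinset, t D := by
    rw [Finset.smul_sum, ← sum_mvP h hπF hinj t'']
    refine Finset.sum_congr rfl fun D hD => ?_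
    have h5 := hπF D ((hmem D).1 hD)
    simp only [ht'', if_pos h5, e0]
  rw [mul_smul, h3, e1, mul_smul, inv_smul_smul]

end fam

end Cfsg.Agent.Omega.NOThreeL.RRed.Blk.FxSep
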