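import Cfsg.Agent.Omega.NOThreeL.RRed.Blk.FxOf
import Cfsg.Agent.Omega.NOThreeL.RRed.Blk.FXDef

/-!
# NO-3L, box R, natural blocks with radicals: a fixed vector of full support, generation (#27284 (c), #27575)

Over 19's `FamN`:

* **`exists_v`** : `v = ∑ t D`, `0 ≠ t D ∈ L D`, fixed by the Sylow group (there is an odd number of such vectors);
* **`gen`** : `⨆ N D` is generated by the `x v - v`, `x ∈ EO`;
* `Linv`, `fix`, `cap`, `brk_EO`.
-/

set_option autoImplicit false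
set_option linter.unusedSectionVars false

namespace Cfsg.Agent.Omega.NOThreeL.RRed.Blk.FxVec

open Cfsg.Agent.Omega.NOThreeL.RRed.NS (fxd brk mem_fxd)
open Cfsg.Agent.Omega.NOThreeL.RRed.Blk.TypesGam (rt up_mem)
open Cfsg.Agent.Omega.NOThreeL.RRed.Blk.Types
open Cfsg.Agent.Omega.NOThreeL.RRed.Blk.TypesN
open Cfsg.Agent.Omega.NOThreeL.RRed.Blk.GamD
open Cfsg.Agent.Omega.NOThreeL.RRed.Blk.Asm (St mem_St mem_map exists_ne)
open Cfsg.Agent.Omega.NOThreeL.RRed.Blk.AsmN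
open Cfsg.Agent.Omega.NOThreeL.RRed.Blk.AsmN.FamN
open Cfsg.Agent.Omega.NOThreeL.RRed.Blk.FamX (FX EO mem_EO le_EO)
open Cfsg.Agent.Omega.NOThreeL.RRed.Blk.FxOf
open scoped Pointwise

universe u v w

variable {X : Type u} {V : Type v} [Group X] [AddCommGroup V] [DistribMulAction X V]

/-! ### one block -/

/-- the vectors `x u - u` generate the block -/
theorem gen_one {F : Type w} [Field F] {e f d : F →+ V} {C : AddSubgroup V} {up lo : F → X}
    (h : BkD e f d C up lo) {c₀ : F} (hc0 : c₀ ≠ 0) (hc1 : c₀ ≠ 1) {a : F} (ha : a ≠ 0) :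
    (e.range ⊔ f.range) ⊔ d.range ≤ AddSubgroup.closure {m | ∃ x ∈ clo up lo, m = x • e a - e a} := by
  set M : AddSubgroup V := AddSubgroup.closure {m | ∃ x ∈ clo up lo, m = x • e a - e a} with hM
  have hinv : ∀ y ∈ clo up lo, ∀ m ∈ M, y • m ∈ M := by
    intro y hy
    have h1 : M ≤ M.comap (DistribSMul.toAddMonoidHom V y) := by
      rw [hM, AddSubgroup.closure_le]
      rintro m ⟨x, hx, rfl⟩
      change y • (x • e a - e a) ∈ M
      have e1 : y • (x • e a - e a) = ((y * x) • e a - e a) - (y • e a - e a) := by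
        rw [smul_sub, mul_smul]; abel
      rw [e1]
      exact sub_mem (AddSubgroup.subset_closure ⟨_, mul_mem hy hx, rfl⟩)
        (AddSubgroup.subset_closure ⟨_, hy, rfl⟩)
    exact fun m hm => h1 hm
  have hg : ∀ s, f (s * a) + d (s * a ^ 2) ∈ M := by
    intro s
    have h1 : lo s • e a - e a ∈ M := AddSubgroup.subset_closure ⟨_, lo_clo s, rfl⟩
    rw [h.lo_e] at h1
    have e1 : e a + f (s * a) + d (s * a ^ 2) - e a = f (s * a) + d (s * a ^ 2) := by abel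
    rwa [e1] at h1
  have hk : ∀ s, s ≠ 0 → ∀ b, e b + d (b * s * a) ∈ M := by
    intro s hs b
    have h1 := hinv _ (up_clo (up := up) (lo := lo) (b / (s * a))) _ (hg s)
    have h3 := sub_mem h1 (hg s)
    rw [smul_add, h.up_f, h.up_c _ _ (h.dC _)] at h3
    have e1 : f (s * a) + e (b / (s * a) * (s * a)) + d (b / (s * a) * (s * a) ^ 2) + d (s * a ^ 2)
        - (f (s * a) + d (s * a ^ 2)) = e (b / (s * a) * (s * a)) + d (b / (s * a) * (s * a) ^ 2) := by abel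
    rw [e1] at h3
    have hsa : s * a ≠ 0 := mul_ne_zero hs ha
    have e3 : b / (s * a) * (s * a) = b := div_mul_cancel₀ b hsa
    have e5 : b / (s * a) * (s * a) ^ 2 = b * s * a := by
      rw [pow_two, ← mul_assoc, e3, mul_assoc]
    rwa [e3, e5] at h3
  have hd : ∀ b, d b ∈ M := by
    intro b
    have hc : (1 - c₀) * a ≠ 0 := mul_ne_zero (sub_ne_zero.2 hc1.symm) ha
    have h1 := sub_mem (hk 1 one_ne_zero (b / ((1 - c₀) * a))) (hk c₀ hc0 (b / ((1 - c₀) * a)))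
    rw [add_sub_add_left_eq_sub, ← map_sub] at h1
    have e1 : b / ((1 - c₀) * a) * 1 * a - b / ((1 - c₀) * a) * c₀ * a = b / ((1 - c₀) * a) * ((1 - c₀) * a) := by ring
    rwa [e1, div_mul_cancel₀ b hc] at h1
  refine sup_le (sup_le ?_ ?_) ?_
  · rintro _ ⟨x, rfl⟩
    have h1 := sub_mem (hk 1 one_ne_zero x) (hd (x * 1 * a))
    rwa [add_sub_cancel_right] at h1
  · rintro _ ⟨x, rfl⟩
    have h1 := sub_mem (hg (x / a)) (hd (x / a * a ^ 2))
    rwa [add_sub_cancel_right, div_mul_cancel₀ x ha] at h1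
  · rintro _ ⟨x, rfl⟩
    exact hd x

theorem gen_blk (h2 : ∀ v : V, v + v = 0) (hf : ∀ x : X, (∀ v : V, x • v = v) → x = 1)
    {D : Subgroup X} {N C L Z : AddSubgroup V} (h : NBd D N C L Z) (h4 : 4 ≤ Nat.card D) {u : V} (hu : u ∈ L)
    (hu0 : u ≠ 0) : ∃ K : Subgroup X, K ≤ Subgroup.normalClosure (D : Set X) ∧ (∀ x ∈ K, ∀ c ∈ C, x • c = c) ∧
      N ≤ AddSubgroup.closure {m | ∃ x ∈ K, m = x • u - u} := by
  obtain ⟨F, _, _, e, f, d, up, lo, hB, rfl, rfl, rfl, rfl⟩ := h.ex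
  rw [hB.card_rt h2 hf] at h4
  obtain ⟨c₀, hc0, hc1⟩ := exists_ne h4
  obtain ⟨a, rfl⟩ := hu
  have ha : a ≠ 0 := fun h0 => hu0 (by rw [h0, map_zero])
  have hclo : clo up lo ≤ Subgroup.normalClosure ((rt up : Subgroup X) : Set X) := by
    refine (clo_gen hB h2 hf).trans ((Subgroup.closure_le _).2 ?_)
    rintro x ⟨g, -, y, hy, rfl⟩
    exact Subgroup.normalClosure_normal.conj_mem _ (Subgroup.subset_normalClosure hy) g
  refine ⟨clo up lo, hclo, fun x hx c hc => ?_, gen_one hB hc0 hc1 ha⟩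
  have h1 : c ∈ (fxd (clo up lo) : AddSubgroup V) := by rw [fxd_clo hB]; exact hc
  exact mem_fxd.1 h1 x hx

/-! ### the family -/

/-- `v` is a sum of nonzero vectors of the lines -/
def Full (FF : Set (Subgroup X)) (L : Subgroup X → AddSubgroup V) [Finite X] (v : V) : Prop :=
  ∃ t : Subgroup X → V, (∀ D, t D ∈ L D) ∧ (∀ D ∈ FF, t D ≠ 0) ∧ v = ∑ D ∈ (Set.toFinite FF).toFinset, t D

section fam

variable {T : Sylow 2 X} {EE FF : Set (Subgroup X)} {N C L Z : Subgroup X → AddSubgroup V}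
  (F : FamN (T : Subgroup X) EE FF N C L Z) (h2 : ∀ v : V, v + v = 0)
  (hf : ∀ x : X, (∀ v : V, x • v = v) → x = 1)
include F h2 hf

variable [Finite V]

theorem odd_L {D : Subgroup X} (hD : D ∈ FF) : Odd (Nat.card {u : V // u ∈ L D ∧ u ≠ 0}) := by
  have h1 : Nat.card {u : V // u ∈ L D ∧ u ≠ 0} = Nat.card (L D) - 1 := by
    have h3 : ((L D : Set V) \ {0}).ncard = (L D : Set V).ncard - 1 :=
      Set.ncard_sdiff_singleton_of_mem (zero_mem _)
    exact h3
  have h3 : Nat.card (L D) = Nat.card D := (F.gb D hD).nb.card_L h2 hf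
  have h5 : IsPGroup 2 D := T.isPGroup'.to_le (F.le D hD)
  have h6 := F.four D hD
  have hp : Fact (Nat.Prime 2) := ⟨Nat.prime_two⟩
  have hfin : Finite D := Nat.finite_of_card_ne_zero (by omega)
  obtain ⟨n, hn⟩ := (IsPGroup.iff_card).1 h5
  have h7 : n ≠ 0 := by
    rintro rfl
    rw [hn] at h6
    omega
  rw [h1, h3, hn]
  have h8 : Even (2 ^ n) := (Nat.even_pow' h7).2 even_two
  have h9 : 1 ≤ 2 ^ n := Nat.one_le_two_pow
  exact Nat.Even.sub_odd h9 h8 odd_one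

variable [Finite X]

omit h2 hf [Finite V] in
/-- the other components are in `C D` -/
theorem sub_C {t : Subgroup X → V} (ht : ∀ D, t D ∈ L D) {D : Subgroup X} (hD : D ∈ FF) :
    (∑ D' ∈ (Set.toFinite FF).toFinset, t D') - t D ∈ C D := by
  classical
  rw [← Finset.add_sum_erase _ _ ((Set.toFinite FF).mem_toFinset.2 hD), add_sub_cancel_left]
  refine sum_mem fun D₁ hD₁ => ?_
  have h3 := Finset.mem_erase.1 hD₁
  have h5 := (Set.toFinite FF).mem_toFinset.1 h3.2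
  exact F.ind D hD D₁ h5 h3.1 (F.LN h5 (ht D₁))

/-- membership in `C D` -/
theorem mem_C {t : Subgroup X → V} (ht : ∀ D, t D ∈ L D) {D : Subgroup X} (hD : D ∈ FF) :
    (∑ D' ∈ (Set.toFinite FF).toFinset, t D') ∈ C D ↔ t D = 0 := by
  have h3 := sub_C F ht hD
  constructor
  · intro h
    have h5 := sub_mem h h3
    rw [sub_sub_cancel] at h5
    have h7 : t D ∈ L D ⊓ C D := ⟨ht D, h5⟩
    rw [F.LC h2 hf hD] at h7
    exact AddSubgroup.mem_bot.1 h7
  · intro h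
    rwa [h, sub_zero] at h3

/-- the vectors of full support -/
theorem full_iff {v : V} : Full FF L v ↔ v ∈ sN FF L ∧ ∀ D ∈ FF, v ∉ C D := by
  constructor
  · rintro ⟨t, ht, h0, rfl⟩
    refine ⟨sum_mem fun D hD => ?_, fun D hD h => h0 D hD ((mem_C F h2 hf ht hD).1 h)⟩
    exact (le_iSup₂ (f := fun D (_ : D ∈ FF) => L D) D ((Set.toFinite FF).mem_toFinset.1 hD)) (ht D)
  · rintro ⟨hv, h0⟩
    obtain ⟨t, ht, rfl⟩ := comp hv
    exact ⟨t, ht, fun D hD h => h0 D hD ((mem_C F h2 hf ht hD).2 h), rfl⟩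

theorem odd_full : Odd (Nat.card {v : V // Full FF L v}) := by
  classical
  have hfin : Fintype FF := Fintype.ofFinite FF
  let ex : (∀ D : FF, {u : V // u ∈ L D ∧ u ≠ 0}) → Subgroup X → V := fun θ D =>
    if h : D ∈ FF then ((θ ⟨D, h⟩ : {u : V // u ∈ L D ∧ u ≠ 0}) : V) else 0
  have hex : ∀ θ, ∀ D (h : D ∈ FF), ex θ D = (θ ⟨D, h⟩ : V) := fun θ D h => dif_pos h
  have hexL : ∀ θ, ∀ D, ex θ D ∈ L D := by
    intro θ D
    by_cases h : D ∈ FF
    · rw [hex θ D h]; exact (θ ⟨D, h⟩).2.1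
    · have e1 : ex θ D = 0 := dif_neg h
      rw [e1]; exact zero_mem _
  let φ : (∀ D : FF, {u : V // u ∈ L D ∧ u ≠ 0}) → {v : V // Full FF L v} := fun θ =>
    ⟨∑ D ∈ (Set.toFinite FF).toFinset, ex θ D, ex θ, hexL θ, fun D hD => by
      rw [hex θ D hD]; exact (θ ⟨D, hD⟩).2.2, rfl⟩
  have hφ : Function.Bijective φ := by
    constructor
    · intro θ θ' h
      have h1 : (∑ D ∈ (Set.toFinite FF).toFinset, ex θ D) = ∑ D ∈ (Set.toFinite FF).toFinset, ex θ' D :=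
        congrArg Subtype.val h
      have h3 := F.L_uniq h2 hf (hexL θ) (hexL θ') (by rw [h1, sub_self]; exact zero_mem _)
      funext D
      have h5 := h3 D.1 D.2
      rw [hex θ D.1 D.2, hex θ' D.1 D.2] at h5
      exact Subtype.ext h5
    · rintro ⟨v, t, ht, h0, rfl⟩
      refine ⟨fun D => ⟨t D.1, ht D.1, h0 D.1 D.2⟩, ?_⟩
      refine Subtype.ext (Finset.sum_congr rfl fun D hD => ?_)
      exact (hex (fun D => ⟨t D.1, ht D.1, h0 D.1 D.2⟩) D ((Set.toFinite FF).mem_toFinset.1 hD))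
  rw [← Nat.card_congr (Equiv.ofBijective φ hφ), Nat.card_pi]
  refine Finset.prod_induction _ Odd (fun a b ha hb => ha.mul hb) odd_one fun D _ => odd_L F h2 hf D.2

variable (EEc : ∀ B ∈ EE, ∀ x : X, MulAut.conj x • B ≤ (T : Subgroup X) → MulAut.conj x • B ∈ EE)
include EEc

theorem Linv {x : X} (hx : ∀ D ∈ FF, MulAut.conj x • D ≤ (T : Subgroup X)) {m : V} (hm : m ∈ sN FF L) :
    x • m ∈ sN FF L := by
  have h1 : sN FF L ≤ (sN FF L).comap (DistribSMul.toAddMonoidHom V x) := by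
    refine iSup₂_le fun D hD y hy => ?_
    have h3 := (lin F h2 hf EEc hD (hx D hD) y).1 hy
    exact (le_iSup₂ (f := fun D (_ : D ∈ FF) => L D) _ (wc F h2 hf EEc hD (hx D hD)).1) h3
  exact h1 hm

/-- **A fixed vector of full support.** -/
theorem exists_v : ∃ v : V, Full FF L v ∧ ∀ s ∈ T, s • v = v := by
  have hp : Fact (Nat.Prime 2) := ⟨Nat.prime_two⟩
  have hact : ∀ s : (T : Subgroup X), ∀ v : V, Full FF L v → Full FF L ((s : X) • v) := by
    intro s v hv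
    rw [full_iff F h2 hf] at hv ⊢
    refine ⟨Linv F h2 hf EEc (fun D hD y hy => ?_) hv.1, fun D hD h => ?_⟩
    · have hy1 := F.le D hD (mem_cj.1 hy)
      have e1 : y = (s : X) * ((s : X)⁻¹ * y * s) * (s : X)⁻¹ := by group
      rw [e1]
      exact mul_mem (mul_mem s.2 hy1) (inv_mem s.2)
    · obtain ⟨D', hD', -, -, h3, -⟩ := F.perm (s : X)⁻¹ D hD
      have h5 := (h3 _).1 h
      rw [inv_smul_smul] at h5
      exact hv.2 D' hD' h5
  let _ : MulAction (T : Subgroup X) {v : V // Full FF L v} :=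
    { smul := fun s v => ⟨(s : X) • (v : V), hact s v v.2⟩
      one_smul := fun v => Subtype.ext (one_smul _ _)
      mul_smul := fun a b v => Subtype.ext (mul_smul (a : X) (b : X) (v : V)) }
  have hodd := odd_full F h2 hf
  obtain ⟨v, hv⟩ := T.isPGroup'.nonempty_fixed_point_of_prime_not_dvd_card {v : V // Full FF L v}
    (fun h => (Nat.not_even_iff_odd.2 hodd) (even_iff_two_dvd.2 h))
  exact ⟨v, v.2, fun s hs => congrArg Subtype.val (hv ⟨s, hs⟩)⟩

omit EEc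

/-- **Generation.** -/
theorem gen {v : V} (hv : Full FF L v) : sN FF N ≤ AddSubgroup.closure {m | ∃ x ∈ EO FF, m = x • v - v} := by
  obtain ⟨t, ht, h0, rfl⟩ := hv
  refine iSup₂_le fun D hD => ?_
  obtain ⟨K, k1, k3, k5⟩ := gen_blk h2 hf (F.gb D hD).nb (F.four D hD) (ht D) (h0 D hD)
  refine k5.trans (AddSubgroup.closure_mono ?_)
  rintro m ⟨x, hx, rfl⟩
  refine ⟨x, ?_, ?_⟩
  · rw [EO_eq]; exact ncl_le_EB hD (k1 hx)
  · have h1 := k3 x hx _ (sub_C F ht hD)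
    rw [smul_sub, sub_eq_sub_iff_add_eq_add] at h1
    rw [sub_eq_sub_iff_add_eq_add, add_comm, ← h1, add_comm]

theorem fix {x : X} (hx : x ∈ EO FF) {m : V} (hm : m ∈ sN FF Z) : x • m = m := by
  have h1 : sN FF Z ≤ iC FF C := iSup₂_le fun D hD => F.Z_iC h2 hf hD
  have h3 := h1 hm
  rw [← F.fxd_EB h2 hf, ← EO_eq] at h3
  exact mem_fxd.1 h3 x hx

theorem cap {m : V} (hm : m ∈ sN FF N) (h : ∀ x ∈ EO FF, x • m = m) : m ∈ sN FF Z := by
  have h1 : m ∈ (fxd (EO FF) : AddSubgroup V) := mem_fxd.2 h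
  rw [EO_eq, F.fxd_EB h2 hf] at h1
  have h3 : m ∈ sN FF N ⊓ iC FF C := ⟨hm, h1⟩
  rwa [F.N_inf h2 hf] at h3

theorem brk_EO : brk V (EO FF) = sN FF N := by rw [EO_eq, F.brk_EB h2 hf]

end fam

end Cfsg.Agent.Omega.NOThreeL.RRed.Blk.FxVec
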