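import Cfsg.Agent.Omega.NOThreeL.RRed.Blk.FxmOf
import Cfsg.Agent.Omega.NOThreeL.RRed.Blk.AsmEEc
import Cfsg.Agent.Omega.NOThreeL.RRed.Blk.AsmOf

/-!
# NO-3L, box R, natural blocks with radicals: `fxm_of` over `Q : Nrm H U`, `S ≤ H`

**`fxm_im`**.
-/

set_option autoImplicit false
set_option linter.unusedSectionVars false

namespace Cfsg.Agent.Omega.NOThreeL.RRed.Blk.FxmIm

open Subgroup Cfsg
open Cfsg.Agent.Omega.NOThreeL.RSplit (Nrm)
open Cfsg.Agent.Omega.NOThreeL.RRed.Blk.TypesNat (XH ph im XH_faith imS coe_imS)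
open Cfsg.Agent.Omega.NOThreeL.RRed.Blk.AsmCore (EE)
open Cfsg.Agent.Omega.NOThreeL.RRed.Blk.AsmN
open Cfsg.Agent.Omega.NOThreeL.RRed.Blk.AsmN.FamN
open Cfsg.Agent.Omega.NOThreeL.RRed.Blk.FamX (EO)
open Cfsg.Agent.Omega.NOThreeL.RRed.Blk.FXDef (FXM)

universe u

variable {G : Type u} [Group G] [Finite G]

/-- **The module facts over `Q : Nrm H U`.** -/
theorem fxm_im {S : Sylow 2 G} {H U : Subgroup G} (Q : Nrm H U) (hSH : (S : Subgroup G) ≤ H)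
    (hU2 : IsElementaryAbelian 2 U) {FF : Set (Subgroup (XH Q))} {N C L Z : Subgroup (XH Q) → AddSubgroup Q.Mod}
    (F : FamN (im Q (S : Subgroup G)) (im Q '' EE (S : Subgroup G) U) FF N C L Z) (hne : FF.Nonempty) :
    ∃ v : Q.Mod, FXM (im Q (S : Subgroup G)) (EO FF) FF (sN FF N) (sN FF L) (sN FF Z) v ∧
      ∀ D ∈ FF, ∃ x ∈ L D, x ≠ 0 ∧ v - x ∈ C D := by
  have h1 : (imS Q S hSH : Subgroup (XH Q)) = im Q (S : Subgroup G) := coe_imS Q S hSH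
  rw [← h1] at F ⊢
  exact FxmOf.fxm_of F (AsmG.EEc Q hSH) (TypesNat.two_of Q hU2) (XH_faith Q) hne

end Cfsg.Agent.Omega.NOThreeL.RRed.Blk.FxmIm
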