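import Cfsg.Agent.Omega.NOThreeL.RRed.Blk.FxVec
import Cfsg.Agent.Omega.NOThreeL.RRed.Blk.FxSep
import Cfsg.Agent.Omega.NOThreeL.RRed.Blk.FXDef

/-!
# NO-3L, box R, natural blocks with radicals: from 19's `FamN` to 892's record `FXM` (#27284, #27575)

**`fxm_of`**.
-/

set_option autoImplicit false
set_option linter.unusedSectionVars false

namespace Cfsg.Agent.Omega.NOThreeL.RRed.Blk.FxmOf

open Cfsg.Agent.Omega.NOThreeL.RRed.NS (fxd brk mem_fxd)
open Cfsg.Agent.Omega.NOThreeL.RRed.Blk.AsmN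
open Cfsg.Agent.Omega.NOThreeL.RRed.Blk.AsmN.FamN
open Cfsg.Agent.Omega.NOThreeL.RRed.Blk.FamX (FX EO mem_EO le_EO)
open Cfsg.Agent.Omega.NOThreeL.RRed.Blk.FXDef (FXM)
open scoped Pointwise

universe u v

variable {X : Type u} {V : Type v} [Group X] [AddCommGroup V] [DistribMulAction X V]

/-- **The module facts from the family.** -/
theorem fxm_of [Finite X] [Finite V] {T : Sylow 2 X} {EE FF : Set (Subgroup X)}
    {N C L Z : Subgroup X → AddSubgroup V} (F : FamN (T : Subgroup X) EE FF N C L Z)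
    (EEc : ∀ B ∈ EE, ∀ x : X, MulAut.conj x • B ≤ (T : Subgroup X) → MulAut.conj x • B ∈ EE)
    (h2 : ∀ v : V, v + v = 0) (hf : ∀ x : X, (∀ v : V, x • v = v) → x = 1) (hne : FF.Nonempty) :
    ∃ v : V, FXM (T : Subgroup X) (EO FF) FF (sN FF N) (sN FF L) (sN FF Z) v ∧
      ∀ D ∈ FF, ∃ x ∈ L D, x ≠ 0 ∧ v - x ∈ C D := by
  have h := FxOf.fx_of F h2 hf EEc
  obtain ⟨v, hv, hvT⟩ := FxVec.exists_v F h2 hf EEc
  have hv' := (FxVec.full_iff F h2 hf).1 hv
  refine ⟨v,
    { FT := F.le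
      FE := fun D hD => le_EO hD
      EOn := fun x g hg => (inferInstance : (EO FF).Normal).conj_mem g hg x
      EOgen := fun K hK hTK => ?_
      Zinv := fun x m hm => F.inv_Z x hm
      Linv := fun x hx m hm => FxVec.Linv F h2 hf EEc hx hm
      LN := iSup₂_le fun D hD => (F.LN hD).trans (le_iSup₂ (f := fun D (_ : D ∈ FF) => N D) D hD)
      ZN := iSup₂_le fun D hD => (F.ZN h2 hf hD).trans (le_iSup₂ (f := fun D (_ : D ∈ FF) => N D) D hD)
      brk := FxVec.brk_EO F h2 hf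
      fix := fun x hx m hm => FxVec.fix F h2 hf hx hm
      cap := fun m hm h0 => FxVec.cap F h2 hf hm h0
      alt := fun t ht hL m hm => ?_
      sep := fun m hm m' hm' x hz => FxSep.sep F h hm hm' hz
      vL := hv'.1
      v0 := ?_
      vT := hvT
      tr := fun x => ?_
      gen := FxVec.gen F h2 hf hv }, fun D hD => ?_⟩
  · have hn : K.Normal := ⟨fun g hg x => hK x g hg⟩
    refine Subgroup.normalClosure_le_normal ?_
    rintro a ⟨D, hD, ha⟩
    exact hTK (F.le D hD ha)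
  · have h3 := h.alt ht fun D hD w hw => hL w ((le_iSup₂ (f := fun D (_ : D ∈ FF) => L D) D hD) hw)
    have h5 : sN FF Z ≤ (fxd (Subgroup.zpowers t) : AddSubgroup V) := by
      refine iSup₂_le fun D hD z hz => mem_fxd.2 fun x hx => ?_
      obtain ⟨n, rfl⟩ := Subgroup.mem_zpowers_iff.1 hx
      have h7 : t ∈ MulAction.stabilizer X z := MulAction.mem_stabilizer_iff.2 (h3 D hD z hz)
      exact MulAction.mem_stabilizer_iff.1 (Subgroup.zpow_mem _ h7 n)
    exact mem_fxd.1 (h5 hm) t (Subgroup.mem_zpowers t)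
  · rintro rfl
    obtain ⟨D, hD⟩ := hne
    exact hv'.2 D hD (zero_mem _)
  · obtain ⟨t, ht, h0, rfl⟩ := hv
    obtain ⟨y, hy, h3⟩ := FxSep.tr F h ht h0 x
    exact ⟨y, by rw [FxOf.EO_eq]; exact hy, h3⟩
  · obtain ⟨t, ht, h0, rfl⟩ := hv
    exact ⟨t D, ht D, h0 D hD, FxVec.sub_C F ht hD⟩

end Cfsg.Agent.Omega.NOThreeL.RRed.Blk.FxmOf
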