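import Cfsg.Agent.Omega.NOThreeL.RRed.Blk.InNEnd
import Cfsg.Agent.Omega.NOThreeL.RRed.Blk.AcNK

/-!
# NO-3L, box R: the inputs `InN` of the family of the nonsplit natural blocks

* `normC` : `NormC S L P` (helper426's `AcNK.norm_C`);
* `inN` : `InN S Q`;  **`inB`** : the statement `NsEnd.InB`.
-/

set_option autoImplicit false
set_option linter.unusedSectionVars false

namespace Cfsg.Agent.Omega.NOThreeL.RRed.Blk.InBOf

open Subgroup Cfsg Cfsg.Agent.ZN Cfsg.Agent.Omega.MinPar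
open Cfsg.Agent.Omega.FFThm Cfsg.Agent.Lib.SL2Mat
open Cfsg.Agent.Omega.FrameFF (cv)
open Cfsg.Agent.Omega.NOThreeL.RTree (RB)
open Cfsg.Agent.Omega.NOThreeL.Merge (MZ le_MZ isLoc_MZ)
open Cfsg.Agent.Omega.NOThreeL.RSplit (Nrm)
open Cfsg.Agent.Omega.NOThreeL.RRed.Blk.TypesNat (XH ph ph_smul)
open Cfsg.Agent.Omega.NOThreeL.RRed.Blk.AsmCore
open Cfsg.Agent.Omega.NOThreeL.RRed.Blk.FamOf (InN no_norm)
open scoped Pointwise

universe u

/-- **`NormC`** -/
theorem normC {G : Type u} [Group G] [Finite G] {S : Sylow 2 G} {L P H : Subgroup G} (hc : IsCharacteristicTwoType G)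
    (hL : IsLoc (S : Subgroup G) L) (hP : IsParS (S : Subgroup G) P) (hPL : P ≤ L) (LH : L ≤ H)
    (noH : NoOverM (zl (S : Subgroup G) L) H) (Q : Nrm H (zl (S : Subgroup G) L)) : InNEnd.NormC S L P := by
  intro F _ _ _ k M hF A hA j O p hp hpA x hx w hw hwC
  have hxH : x ∈ H := ((KP_le hP.le).trans hPL |>.trans LH) hx
  have h1 := @AcNK.norm_C G _ F _ (S : Subgroup G) P (zl (S : Subgroup G) P) (cv (S : Subgroup G) P) k M _ S L P H hc
    hP hPL LH (FFThm.elem_zl hc S hL) noH Q F _ _ _ k M A j hF hA O p hp hpA _ (ph_mem_im Q (a := ⟨x, hxH⟩) hx)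
    (Q.of w hw) hwC
  rw [ph_smul] at h1
  have h2 : Q.val ((⟨x, hxH⟩ : H) • Q.of w hw) ∈ centralizer ((A ⊔ MulAut.conj p • A : Subgroup G) : Set G) := h1
  rwa [Nrm.val_smul, Nrm.val_of] at h2

/-- **`InN`** -/
theorem inN {G : Type u} [Group G] [Finite G] {S : Sylow 2 G} (hc : IsCharacteristicTwoType G)
    (hL : IsLoc (S : Subgroup G) (MZ (S : Subgroup G)))
    (no : NoOverM (zl (S : Subgroup G) (MZ (S : Subgroup G))) (MZ (S : Subgroup G)))
    (Q : Nrm (normalizer (MZ (S : Subgroup G) : Set G)) (zl (S : Subgroup G) (MZ (S : Subgroup G)))) : InN S Q :=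
  InNEnd.inN_of hc hL no (fun _ hP => normC hc hL hP (le_MZ hP) le_normalizer (no_norm hL.le no) Q) Q

/-- **The inputs `NsEnd.InB` (`NsO`, `noMv`).** -/
theorem inB : ∀ (G : Type u) [Group G] [Finite G] (S : Sylow 2 G), RB S →
    NoOverM (zl (S : Subgroup G) (MZ (S : Subgroup G))) (MZ (S : Subgroup G)) →
    ∀ Q : Nrm (normalizer (MZ (S : Subgroup G) : Set G)) (zl (S : Subgroup G) (MZ (S : Subgroup G))), InN S Q :=
  fun _ _ _ _ h no Q => inN h.ctx.char2 (isLoc_MZ h.ctx h.full h.data.noff) no Q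

end Cfsg.Agent.Omega.NOThreeL.RRed.Blk.InBOf
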