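import Cfsg.Agent.Omega.NOThreeL.RRed.Blk.Side
import Cfsg.Agent.Omega.KL.TwoS.Fr

/-!
# NO-3L, box R: the instance of `KL.TwoS.Fr` (#22505) from two orbits of rank one blocks

* `Core2 S V v` : what is needed about `V 0`, `V 1` over `P*(S)`; `Core2.fr` : with `RB S` : `KL.TwoS.Fr S V v`;
* `TwoO.core2` : one level: `TwoO S (MZ S) (Wd S) N E ⊥ z O v`, both `v i` moved by a member of `P*(S)` fixing the
  other one, `⟨C_G(v 0), C_G(v 1)⟩` nonlocal.
-/

set_option autoImplicit false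
set_option linter.unusedSectionVars false

namespace Cfsg.Agent.Omega.NOThreeL.RRed.Blk

open Subgroup Cfsg Cfsg.Agent.ZN Cfsg.Agent.Omega.MinPar Cfsg.Agent.Omega.Frame Cfsg.Agent.Omega.FrameNOFF
open Cfsg.Agent.Omega.Node.NO3L Cfsg.Agent.Omega.NOThreeL.Basic Cfsg.Agent.Omega.NOThreeL.RTree
open Cfsg.Agent.Omega.NOThreeL.Merge (MZ)
open Cfsg.Agent.Omega.NoFF.Basic (conj_conj mem_conj conj_le_iff conj_le_centralizer comm_symm comm_mono)
open Cfsg.Agent.Omega.NOThreeL.Pair (conj_eq_of_mem)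
open Cfsg.Agent.Omega.FFThm (syl_of_sylow)
open Cfsg.Agent.MinSimple.VModule (le_normalizer_o2 zc_le_zl le_centralizer_zc)
open Cfsg.Agent.MinSimple.MinParabolic (IsMinPar)
open scoped Pointwise

universe u v

variable {G : Type u} [Group G] [Finite G]

/-- The configuration `V 0`, `V 1` over `P*(S)`. -/
structure Core2 (S : Sylow 2 G) (V : Fin 2 → Subgroup G) (v : Fin 2 → G) : Prop where
  VW : ∀ i, V i ≤ Wd (S : Subgroup G)
  mem : ∀ i, v i ∈ V i
  ne : ∀ i, v i ≠ 1
  zS : ∀ x, x ∈ zc (S : Subgroup G) ↔ x = 1 ∨ x = v 0 ∨ x = v 1 ∨ x = v 0 * v 1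
  nV : ∀ i, (S : Subgroup G) ≤ normalizer (V i : Set G)
  ex : ∀ i j, i ≠ j → ∃ R, IsParS (S : Subgroup G) R ∧ R ≤ centralizer ({v j} : Set G) ∧
    ¬ R ≤ centralizer ({v i} : Set G)
  uni : ∀ i j, i ≠ j → ∀ R, IsParS (S : Subgroup G) R → R ≤ centralizer ({v j} : Set G) →
    ¬ R ≤ centralizer ({v i} : Set G) → ∀ k, R ≤ normalizer (V k : Set G)
  odd : ∀ i j, i ≠ j → ∀ R, IsParS (S : Subgroup G) R → R ≤ centralizer ({v j} : Set G) →
    ¬ R ≤ centralizer ({v i} : Set G) → ∀ g ∈ R, Odd (orderOf g) → g ∈ centralizer (V j : Set G)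
  irr : ∀ i j, i ≠ j → ∀ R, IsParS (S : Subgroup G) R → R ≤ centralizer ({v j} : Set G) →
    ¬ R ≤ centralizer ({v i} : Set G) → ∀ W : Subgroup G, W ≤ V i → R ≤ normalizer (W : Set G) → W ≠ ⊥ → V i ≤ W
  same : ∀ i j, i ≠ j → ∀ R, IsParS (S : Subgroup G) R → R ≤ centralizer ({v j} : Set G) →
    ¬ R ≤ centralizer ({v i} : Set G) → ∀ R', IsParS (S : Subgroup G) R' → R' ≤ centralizer ({v j} : Set G) →
    ¬ R' ≤ centralizer ({v i} : Set G) → ∀ r' ∈ R', ∃ r ∈ R, r' * v i * r'⁻¹ = r * v i * r⁻¹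
  nonloc : NonLoc (centralizer ({v 0} : Set G)) (centralizer ({v 1} : Set G))

namespace Core2

variable {S : Sylow 2 G} {V : Fin 2 → Subgroup G} {v : Fin 2 → G} (T : Core2 S V v)
include T

theorem v_zc (i : Fin 2) : v i ∈ zc (S : Subgroup G) := by
  rw [T.zS]
  rcases Fin.exists_fin_two.1 ⟨i, rfl⟩ with h | h
  · exact Or.inr (Or.inl (by rw [h]))
  · exact Or.inr (Or.inr (Or.inl (by rw [h])))

theorem v_sq (i : Fin 2) : v i * v i = 1 := by
  rw [← pow_two]; exact (mem_zc.1 (T.v_zc i)).2.2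

theorem le_C (i : Fin 2) : (S : Subgroup G) ≤ centralizer ({v i} : Set G) := fun _ hs =>
  mem_centralizer_singleton_iff.2 ((mem_zc.1 (T.v_zc i)).2.1 _ hs)

theorem CZ_le (i : Fin 2) : CZ (S : Subgroup G) ≤ centralizer ({v i} : Set G) :=
  centralizer_le (Set.singleton_subset_iff.2 (T.v_zc i))

/-- `C_G(v i)` is long. -/
theorem isLong (i : Fin 2) : IsLong (S : Subgroup G) (centralizer ({v i} : Set G)) where
  loc := by
    refine isLoc_of_le_normalizer S (T.le_C i) (U := zpowers (v i)) ?_ ?_ ?_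
    · refine S.isPGroup'.to_le ?_
      rw [zpowers_le]; exact zc_le _ (T.v_zc i)
    · rw [Ne, zpowers_eq_bot]; exact T.ne i
    · refine le_trans ?_ (centralizer_le_normalizer _)
      intro g hg
      refine mem_centralizer_iff.2 fun x hx => ?_
      obtain ⟨k, rfl⟩ := mem_zpowers_iff.1 hx
      have e : Commute (v i) g := (mem_centralizer_singleton_iff.1 hg).symm
      exact (e.zpow_left k).eq
  cz := T.CZ_le i

/-- a minimal parabolic which fixes `v j` and moves `v i` is in `P*(S)` -/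
theorem parS {i j : Fin 2} {R : Subgroup G} (hR : IsMinPar (S : Subgroup G) R)
    (hj : R ≤ centralizer ({v j} : Set G)) (hi : ¬ R ≤ centralizer ({v i} : Set G)) : IsParS (S : Subgroup G) R := by
  have hIP : IsPar (S : Subgroup G) R := ⟨hR, ((T.isLong j).loc.of_le S hR.le hj).o2_ne⟩
  exact ⟨hIP, fun h => hi ((NoFF.LinesPlug.le_CC S hIP h).trans (T.CZ_le i))⟩

theorem V_le_zl {i j : Fin 2} (hij : i ≠ j) : ∃ R, IsParS (S : Subgroup G) R ∧ V i ≤ zl (S : Subgroup G) R := by
  obtain ⟨R, hR, hj, hi⟩ := T.ex i j hij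
  refine ⟨R, hR, ?_⟩
  have h1 := T.irr i j hij R hR hj hi (V i ⊓ zl (S : Subgroup G) R) inf_le_left
    (le_norm_of fun r hr x hx => mem_inf.2 ⟨conj_of (T.uni i j hij R hR hj hi i hr) hx.1,
      conj_of (le_normalizer_zl _ _ hr) hx.2⟩) (fun h => by
        have h2 : v i ∈ V i ⊓ zl (S : Subgroup G) R := mem_inf.2 ⟨T.mem i, zc_le_zl _ _ (T.v_zc i)⟩
        rw [h, mem_bot] at h2
        exact T.ne i h2)
  exact h1.trans inf_le_right

theorem V_le_FH (i : Fin 2) (H : Subgroup G) : V i ≤ FH (S : Subgroup G) H := by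
  obtain ⟨j, hij⟩ : ∃ j : Fin 2, i ≠ j := by
    rcases Fin.exists_fin_two.1 ⟨i, rfl⟩ with h | h
    · exact ⟨1, by rw [h]; decide⟩
    · exact ⟨0, by rw [h]; decide⟩
  obtain ⟨R, hR, h1⟩ := T.V_le_zl hij
  exact (h1.trans (zl_le_WP hR)).trans (WP_le_FH _ _)

/-- **The frame of #22505.** -/
theorem fr (B : RB S) : KL.TwoS.Fr (S : Subgroup G) V v := by
  have hc := B.ctx.char2
  have hFN : ∀ i, centralizer ({v i} : Set G) ≤
      normalizer (FH (S : Subgroup G) (centralizer ({v i} : Set G)) : Set G) := fun i => le_normalizer_FH _ _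
  refine
    { char2 := fun i => (T.isLong i).loc.char2 S hc
      sqV := fun i x hx => by rw [pow_two]; exact wsq B x (T.VW i hx)
      mem := T.mem
      ne := T.ne
      zT := T.zS
      syl := fun i => syl_of_sylow S (T.le_C i)
      nT := ?_
      nV := T.nV
      VQ := fun i => (T.V_le_FH i _).trans (NotA.FH_le_o2 B.data B.notA (T.isLong i))
      VC := fun i c hcc => ?_
      uni := fun i j hij R hR hj hi => T.uni i j hij R (T.parS hR hj hi) hj hi
      odd := fun i j hij R hR hj hi => T.odd i j hij R (T.parS hR hj hi) hj hi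
      irr := fun i j hij R hR hj hi => T.irr i j hij R (T.parS hR hj hi) hj hi
      same := fun i j hij R hR hj hi R' hR' hj' hi' =>
        T.same i j hij R (T.parS hR hj hi) hj hi R' (T.parS hR' hj' hi') hj' hi'
      nonloc := T.nonloc }
  · -- `nT`
    rintro i n ⟨hn1, hn⟩
    obtain ⟨j, hij, hz⟩ : ∃ j : Fin 2, i ≠ j ∧ ∀ x, x ∈ zc (S : Subgroup G) ↔
        x = 1 ∨ x = v i ∨ x = v j ∨ x = v i * v j := by
      rcases Fin.exists_fin_two.1 ⟨i, rfl⟩ with h | h
      · exact ⟨1, by rw [h]; decide, by rw [h]; exact T.zS⟩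
      · refine ⟨0, by rw [h]; decide, fun x => ?_⟩
        rw [T.zS, h]
        have e : v 0 * v 1 = v 1 * v 0 := by
          exact (mem_zc.1 (T.v_zc 1)).2.1 _ (mem_zc.1 (T.v_zc 0)).1
        rw [e]
        tauto
    have hi : n * v i * n⁻¹ = v i := by
      have := mem_centralizer_singleton_iff.1 hn1
      rw [this]; group
    have hj : n * v j * n⁻¹ = v j := by
      rcases (hz _).1 (conj_zc hn (T.v_zc j)) with e | e | e | e
      · exact absurd (conj_eq_one_iff.1 e) (T.ne j)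
      · exfalso
        rw [← hi] at e
        have e2 : v j = v i := mul_left_cancel (mul_right_cancel e)
        obtain ⟨R, hR, h1, h2⟩ := T.ex i j hij
        rw [e2] at h1
        exact h2 h1
      · exact e
      · have h5 : n * (v i * v j) * n⁻¹ = v j := by
          calc n * (v i * v j) * n⁻¹ = (n * v i * n⁻¹) * (n * v j * n⁻¹) := by group
            _ = (v i * v i) * v j := by rw [hi, e]; group
            _ = v j := by rw [T.v_sq i, one_mul]
        have h6 := not_swap hn (T.v_zc j) e h5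
        rw [← h6] at e
        exact e
    refine mem_centralizer_iff.2 fun x hx => ?_
    have hci : v i * n = n * v i := by
      calc v i * n = (n * v i * n⁻¹) * n := by rw [hi]
        _ = n * v i := by group
    have hcj : v j * n = n * v j := by
      calc v j * n = (n * v j * n⁻¹) * n := by rw [hj]
        _ = n * v j := by group
    rcases (hz x).1 hx with rfl | rfl | rfl | rfl
    · simp
    · exact hci
    · exact hcj
    · calc v i * v j * n = v i * (v j * n) := by group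
        _ = (v i * n) * v j := by rw [hcj]; group
        _ = n * (v i * v j) := by rw [hci]; group
  · -- `VC`
    have h1 := NotA.FH_comm hc B.data B.notA (T.isLong i)
    have h2 : MulAut.conj c • V i ≤ FH (S : Subgroup G) (centralizer ({v i} : Set G)) := by
      have h3 := (conj_le_iff (g := c)).2 (T.V_le_FH i (centralizer ({v i} : Set G)))
      rwa [conj_eq_of_mem (hFN i hcc)] at h3
    exact comm_mono h1 h2 (T.V_le_FH i _)

end Core2

namespace TwoO

variable {ι : Type v} [Finite ι] {S : Sylow 2 G} {N E : ι → Subgroup G} {z : ι → G} {O : Fin 2 → Set ι}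
  {v : Fin 2 → G}

theorem le_cent_iff {R : Subgroup G} {x : G} :
    R ≤ centralizer ({x} : Set G) ↔ ∀ r ∈ R, r * x * r⁻¹ = x := by
  constructor
  · intro h r hr
    rw [mem_centralizer_singleton_iff.1 (h hr)]; group
  · intro h r hr
    rw [mem_centralizer_singleton_iff]
    calc r * x = (r * x * r⁻¹) * r := by group
      _ = x * r := by rw [h r hr]

/-- `Z = {1, v 0, v 1, v 0 v 1}` -/
theorem zS (B : RB S) (t : TwoO S (MZ (S : Subgroup G)) (Wd (S : Subgroup G)) N E ⊥ z O v) (x : G) :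
    x ∈ zc (S : Subgroup G) ↔ x = 1 ∨ x = v 0 ∨ x = v 1 ∨ x = v 0 * v 1 := by
  have hv : ∀ i, v i ∈ zc (S : Subgroup G) := fun i => zc_of_fix B (t.VU i (t.vV i)) (t.vS i)
  constructor
  · intro hx
    have hxW := zc_le_Wd _ hx
    have hxS : ∀ s ∈ (S : Subgroup G), s * x * s⁻¹ = x := fun s hs => by
      rw [(mem_zc.1 hx).2.1 s hs]; group
    -- the components are constant on the orbits
    have hcomp : ∀ b, ∃ n, IsC N ⊥ b x n ∧ (n = 1 ∨ n = z b) := by
      intro b
      obtain ⟨n, hn⟩ := t.dec.ex_comp b hxW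
      refine ⟨n, hn, t.one.fix b n hn.1 fun s hs => ?_⟩
      have h4 := t.dec.comp_conj (t.dec.SL hs.1) (smul_of_mem (t.dec.EN b hs.2)) hn
      rw [hxS s hs.1] at h4
      exact t.dec.uniq h4 hn
    have hO : ∀ i, (∀ b ∈ O i, IsC N ⊥ b x 1) ∨ ∀ b ∈ O i, IsC N ⊥ b x (z b) := by
      intro i
      by_cases h1 : ∀ b ∈ O i, IsC N ⊥ b x (z b)
      · exact Or.inr h1
      · left
        push Not at h1
        obtain ⟨b, hb, hbz⟩ := h1
        obtain ⟨n, hn, hn1⟩ := hcomp b
        have hn2 : n = 1 := hn1.resolve_right fun e => hbz (e ▸ hn)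
        rw [hn2] at hn
        intro c hc
        obtain ⟨s, hs, e⟩ := (t.orb i).tr b hb c hc
        have h4 := t.dec.comp_conj (t.dec.SL hs) e hn
        rw [hxS s hs, mul_one, mul_inv_cancel] at h4
        exact h4
    have hxN : x ∈ ⨆ b, N b := by
      have h1 := t.dec.sup
      rw [sup_bot_eq] at h1
      rw [h1]; exact hxW
    have hvN : ∀ i, v i ∈ ⨆ b, N b := fun i => t.VN i (t.vV i)
    have key : ∀ y, y ∈ (⨆ b, N b) → (∀ i, ∀ b ∈ O i, ∃ n, IsC N ⊥ b x n ∧ IsC N ⊥ b y n) → x = y :=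
      fun y hy h => t.dec.ext hxN hy fun b => (t.cov b).elim (h 0 b) (h 1 b)
    have h01 : (0 : Fin 2) ≠ 1 := by decide
    have f2 : ∀ k : Fin 2, k = 0 ∨ k = 1 := by decide
    rcases hO 0 with h0 | h0 <;> rcases hO 1 with h1 | h1
    · left
      refine key 1 (one_mem _) fun i b hb => ⟨1, ?_, t.dec.comp_one (one_mem _)⟩
      rcases f2 i with rfl | rfl
      · exact h0 b hb
      · exact h1 b hb
    · right; right; left
      refine key _ (hvN 1) fun i b hb => ?_
      rcases f2 i with rfl | rfl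
      · exact ⟨1, h0 b hb, t.comp' 1 (t.notMem h01 hb)⟩
      · exact ⟨_, h1 b hb, t.comp 1 hb⟩
    · right; left
      refine key _ (hvN 0) fun i b hb => ?_
      rcases f2 i with rfl | rfl
      · exact ⟨_, h0 b hb, t.comp 0 hb⟩
      · exact ⟨1, h1 b hb, t.comp' 0 (t.notMem h01.symm hb)⟩
    · right; right; right
      refine key _ (mul_mem (hvN 0) (hvN 1)) fun i b hb => ?_
      rcases f2 i with rfl | rfl
      · have h2 := t.dec.comp_mul (t.comp 0 hb) (t.comp' 1 (t.notMem h01 hb))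
        rw [mul_one] at h2
        exact ⟨_, h0 b hb, h2⟩
      · have h2 := t.dec.comp_mul (t.comp' 0 (t.notMem h01.symm hb)) (t.comp 1 hb)
        rw [one_mul] at h2
        exact ⟨_, h1 b hb, h2⟩
  · rintro (rfl | rfl | rfl | rfl)
    · exact one_mem _
    · exact hv 0
    · exact hv 1
    · exact mul_mem (hv 0) (hv 1)

/-- **One level.** -/
theorem core2 (B : RB S) (t : TwoO S (MZ (S : Subgroup G)) (Wd (S : Subgroup G)) N E ⊥ z O v)
    (ex : ∀ i j, i ≠ j → ∃ R, IsParS (S : Subgroup G) R ∧ R ≤ centralizer ({v j} : Set G) ∧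
      ¬ R ≤ centralizer ({v i} : Set G))
    (nl : NonLoc (centralizer ({v 0} : Set G)) (centralizer ({v 1} : Set G))) : Core2 S (VO N O) v where
  VW := t.VU
  mem := t.vV
  ne := t.v1
  zS := t.zS B
  nV := t.S_V
  ex := ex
  uni i j hij R hR hj hi k := by
    have h1 := le_cent_iff.1 hj
    have h2 : ∃ r ∈ R, r * v i * r⁻¹ ≠ v i := by
      by_contra hcon; push Not at hcon; exact hi (le_cent_iff.2 hcon)
    exact t.uni hij (le_MZ hR) hR.toIsMinPar h1 h2 k
  odd i j hij R hR hj hi g hg ho := by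
    have h1 := le_cent_iff.1 hj
    have h2 : ∃ r ∈ R, r * v i * r⁻¹ ≠ v i := by
      by_contra hcon; push Not at hcon; exact hi (le_cent_iff.2 hcon)
    exact t.odd hij (le_MZ hR) hR.toIsMinPar h1 h2 hg ho
  irr i j hij R hR hj hi W hW hRW hW1 := by
    have h1 := le_cent_iff.1 hj
    have h2 : ∃ r ∈ R, r * v i * r⁻¹ ≠ v i := by
      by_contra hcon; push Not at hcon; exact hi (le_cent_iff.2 hcon)
    exact t.irr hij (le_MZ hR) hR.toIsMinPar h1 h2 hW hRW hW1
  same i j hij R hR hj hi R' hR' hj' hi' r' hr' := by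
    have h1 := le_cent_iff.1 hj
    have h2 : ∃ r ∈ R, r * v i * r⁻¹ ≠ v i := by
      by_contra hcon; push Not at hcon; exact hi (le_cent_iff.2 hcon)
    have h1' := le_cent_iff.1 hj'
    have h2' : ∃ r ∈ R', r * v i * r⁻¹ ≠ v i := by
      by_contra hcon; push Not at hcon; exact hi' (le_cent_iff.2 hcon)
    exact t.same hij (le_MZ hR) hR.toIsMinPar h1 h2 (le_MZ hR') hR'.toIsMinPar h1' h2' hr'
  nonloc := nl

/-- **`KL.TwoS.Fr` from two orbits of rank one blocks.** -/
theorem fr (B : RB S) (t : TwoO S (MZ (S : Subgroup G)) (Wd (S : Subgroup G)) N E ⊥ z O v)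
    (ex : ∀ i j, i ≠ j → ∃ R, IsParS (S : Subgroup G) R ∧ R ≤ centralizer ({v j} : Set G) ∧
      ¬ R ≤ centralizer ({v i} : Set G))
    (nl : NonLoc (centralizer ({v 0} : Set G)) (centralizer ({v 1} : Set G))) :
    KL.TwoS.Fr (S : Subgroup G) (VO N O) v := (t.core2 B ex nl).fr B

end TwoO

end Cfsg.Agent.Omega.NOThreeL.RRed.Blk
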