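import Cfsg.Agent.Omega.NOThreeL.RRed.Ex.Lat

/-!
# NO-3L, box R: LEMMA (L1) of THEOREM EX (helper245, #26554; `Ex/A.lean`, `Gy.l1`) for one parabolic `P`

* **`l1`** : two exact groups `B, B' ≤ S` which move `W`; `b' = b` on `W`: `b' = b`.
-/

set_option autoImplicit false
set_option linter.unusedSectionVars false

namespace Cfsg.Agent.Omega.NOThreeL.RRed.Blk.L1N

open Subgroup
open scoped Pointwise
open Cfsg.Agent.Omega.NOThreeL.RRed.NS (fxd brk mem_fxd)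
open Cfsg.Agent.Omega.NOThreeL.RRed.Blk.Types (Sit El mem_cj card_cj fxd_cj brk_cj mem_sup_comm mem_fxd_sup sub_mem_brk brk_le)
open Cfsg.Agent.Omega.NOThreeL.RRed.Ex

universe u v

variable {H : Type u} {M : Type v} [Group H] [AddCommGroup M] [DistribMulAction H M]

theorem brk_W {S P : Subgroup H} {W : AddSubgroup M} (SP : S ≤ P) (WP : ∀ p ∈ P, ∀ w ∈ W, p • w ∈ W) {B : Subgroup H}
    (hB : B ≤ S) (fB : ∀ m : M, ∃ w ∈ W, ∃ c ∈ (fxd B : AddSubgroup M), m = w + c) {b : H} (hb : b ∈ B) (m : M) :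
    b • m - m ∈ W := by
  obtain ⟨w, hw, c, hc, rfl⟩ := fB m
  rw [smul_add, hc b hb, add_sub_add_right_eq_sub]
  exact sub_mem (WP _ (SP (hB hb)) _ hw) hw

/-- **(L1)** -/
theorem l1 [Finite H] [Finite M] (sit : Sit M (⊤ : Subgroup H)) {S P : Subgroup H} {W : AddSubgroup M} (SP : S ≤ P)
    (WP : ∀ p ∈ P, ∀ w ∈ W, p • w ∈ W) {B B' : Subgroup H} (hB : B ≤ S) (hB' : B' ≤ S) (eB : El B) (eB' : El B')
    (xB : Xa M B) (xB' : Xa M B') (hm : ¬ Fx W B)
    (split : ∀ A ≤ S, El A → Xa M A → ¬ Fx W A → Xa M (cw W A))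
    (fB : ∀ m : M, ∃ w ∈ W, ∃ c ∈ (fxd B : AddSubgroup M), m = w + c)
    (fB' : ∀ m : M, ∃ w ∈ W, ∃ c ∈ (fxd B' : AddSubgroup M), m = w + c)
    (q11 : brk M B ≤ fxd B) (q12 : brk M B ≤ fxd B') (q21 : brk M B' ≤ fxd B)
    (out : ∀ b ∈ B, ∀ m : M, b • m ≠ m → ∃ p ∈ P, ∃ c ∈ B, (p * c * p⁻¹) • (b • m - m) ∉ (fxd B : AddSubgroup M))
    {b b' : H} (hb : b ∈ B) (hb' : b' ∈ B') (h : ∀ w ∈ W, b' • w = b • w) : b' = b := by
  have hc : ∀ b ∈ B, ∀ b' ∈ B', b * b' = b' * b := fun b hb b' hb' =>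
    sit.comm_of (mem_top _) (mem_top _) (fun m => mem_fxd.1 (q12 (sub_mem_brk hb m)) b' hb')
      (fun m => mem_fxd.1 (q21 (sub_mem_brk hb' m)) b hb)
  have hE : El (B ⊔ B') := eB.sup eB' hc
  have hX : Xa M (B ⊔ B') := (latt sit eB eB' hc xB xB').1
  have hS : B ⊔ B' ≤ S := sup_le hB hB'
  have hmv : ¬ Fx W (B ⊔ B') := fun h1 => hm fun a ha => h1 a (mem_sup_left ha)
  set D : Subgroup H := cw W (B ⊔ B') with hD
  have hDX : Xa M D := split _ hS hE hX hmv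
  have hDE : El D := El.mono hE cw_le
  have hDS : D ≤ S := cw_le.trans hS
  have hWD : W ≤ (fxd D : AddSubgroup M) := fun w hw d hd => hd.2 w hw
  have hbr : ∀ x ∈ B ⊔ B', ∀ m : M, x • m - m ∈ W ∧ x • m - m ∈ (fxd B : AddSubgroup M) := by
    intro x hx m
    obtain ⟨y, hy, z, hz, rfl⟩ := (mem_sup_comm hc).1 hx
    have e : (y * z) • m - m = (y • (z • m) - z • m) + (z • m - m) := by rw [mul_smul]; abel
    rw [e]
    exact ⟨add_mem (brk_W SP WP hB fB hy _) (brk_W SP WP hB' fB' hz _),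
      add_mem (q11 (sub_mem_brk hy _)) (q21 (sub_mem_brk hz _))⟩
  have hbD : brk M D ≤ fxd D := brk_le fun a ha m => hWD (hbr a (cw_le ha) m).1
  have hbb : b' * b⁻¹ ∈ D := ⟨mul_mem (mem_sup_right hb') (inv_mem (mem_sup_left hb)), fun w hw => by
    have h1 : b⁻¹ • w ∈ W := WP _ (inv_mem (SP (hB hb))) _ hw
    rw [mul_smul, h _ h1, smul_inv_smul]⟩
  by_contra hne
  have hne1 : b' * b⁻¹ ≠ 1 := fun e => hne (mul_inv_eq_one.1 e)
  obtain ⟨v, hv⟩ : ∃ v : M, (b' * b⁻¹) • v ≠ v := by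
    by_contra hcon
    push Not at hcon
    exact hne1 (sit.faith _ (mem_top _) hcon)
  obtain ⟨w, hw, c, hcc, rfl⟩ := fB' v
  have e1 : (b' * b⁻¹) • (w + c) - (w + c) = b • c - c := by
    rw [smul_add, hbb.2 w hw, add_sub_add_left_eq_sub, ← hc _ (inv_mem hb) _ hb', mul_smul, hcc _ hb',
      El.inv_eq eB hb]
  have e2 : b • c ≠ c := by
    intro e
    rw [e, sub_self] at e1
    exact hv (sub_eq_zero.1 e1)
  obtain ⟨p, hp, c', hc', hout⟩ := out b hb c e2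
  set g : H := p * c' * p⁻¹ with hg
  have hgP : g ∈ P := mul_mem (mul_mem hp (SP (hB hc'))) (inv_mem hp)
  have hgW : ∀ m : M, g • m - m ∈ W := by
    intro m
    have h1 : g • m - m = p • (c' • (p⁻¹ • m) - p⁻¹ • m) := by
      rw [smul_sub, smul_inv_smul, hg, mul_smul, mul_smul]
    rw [h1]
    exact WP _ hp _ (brk_W SP WP hB fB hc' _)
  have hgW' : ∀ m : M, g⁻¹ • m - m ∈ W := by
    intro m
    have h1 : g⁻¹ • m - m = - (g⁻¹ • (g • m - m)) := by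
      rw [smul_sub, inv_smul_smul]; abel
    rw [h1]
    exact neg_mem (WP _ (inv_mem hgP) _ (hgW m))
  have hcj : MulAut.conj g • D = D := by
    refine sit.cj_eq le_top hDE hDX hbD (mem_top g) fun m => ?_
    constructor
    · intro h1
      have e : g⁻¹ • m = (g⁻¹ • m - m) + m := by abel
      rw [e]
      exact add_mem (hWD (hgW' m)) h1
    · intro h1
      have e : m = g⁻¹ • m - (g⁻¹ • m - m) := by abel
      rw [e]
      exact sub_mem h1 (hWD (hgW' m))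
  apply hout
  rw [← e1]
  have h1 : g * (b' * b⁻¹) * g⁻¹ ∈ D := by rw [← hcj]; exact mem_cj_of hbb
  have h2 := (hbr _ (cw_le h1) (g • (w + c))).2
  have e : (g * (b' * b⁻¹) * g⁻¹) • g • (w + c) - g • (w + c) = g • ((b' * b⁻¹) • (w + c) - (w + c)) := by
    rw [smul_sub, ← mul_smul, ← mul_smul]
    congr 2
    group
  rwa [e] at h2

end Cfsg.Agent.Omega.NOThreeL.RRed.Blk.L1N
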