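import Cfsg.Agent.Omega.NOThreeL.RZ.TwoC.DecE

/-!
# Blocks of two kinds (box R, [R-z]): the merge of two block decompositions

`Dec S L U N₁ E₁ R₁`, `Dec S L U N₂ E₂ R₂`; the groups `E₁ b` centralise the `N₂ c` and conversely.

* `Dec.le_R` : a subgroup of `U` centralised by all `E b`, `C_{N b}(E b) = 1`, lies in `R₀`;
* **`Dec.merge`** : `Dec S L U (Sum.elim N₁ N₂) (Sum.elim E₁ E₂) (R₁ ⊓ R₂)`;
* **`Orbs.merge`** : orbits of odd length for the merged blocks;
* `Dec.tv_cent` : `t ∈ L` with `|U : C_U(t)| ≤ 2` centralises every block `N b`, `2 < |N b|`, if no element of `L` which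
  normalises `N b` acts on it as a transvection.
-/

set_option autoImplicit false
set_option linter.unusedSectionVars false

namespace Cfsg.Agent.Omega.NOThreeL.RRed.Blk

open Subgroup Cfsg
open Cfsg.Agent.Omega.NOThreeL.RZ.TwoC.DecE (Orbs B_le R_le)
open scoped Pointwise

universe u v w

variable {G : Type u} [Group G] {ι : Type v} {κ : Type w}

variable {S L U : Subgroup G} {N E : ι → Subgroup G} {R₀ : Subgroup G} {N' E' : κ → Subgroup G} {R₀' : Subgroup G}

/-- `g ∈ E b` fixing `x` fixes its `b`-component -/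
theorem Dec.comp_fix (h : Dec S L U N E R₀) {b : ι} {x n : G} (hn : IsC N R₀ b x n) {g : G} (hg : g ∈ E b)
    (hx : g * x * g⁻¹ = x) : g * n * g⁻¹ = n := by
  -- `g` acts trivially on the complement
  have hco : ∀ y ∈ Co N R₀ b, g * y * g⁻¹ = y := by
    intro y hy
    have h1 : Co N R₀ b ≤ centralizer (({g} : Set G)) := by
      refine sup_le (iSup_le fun c => ?_) ?_
      · intro z hz
        rw [mem_centralizer_singleton_iff]
        exact (mem_centralizer_iff.1 (h.EC b c.1 (fun e => c.2 e.symm) hg) z hz)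
      · intro z hz
        rw [mem_centralizer_singleton_iff]
        exact (mem_centralizer_iff.1 (h.ER b hg) z hz)
    have h2 := mem_centralizer_singleton_iff.1 (h1 hy)
    rw [← h2, mul_inv_cancel_right]
  have e : g * n * g⁻¹ = (g * x * g⁻¹) * (g * (n⁻¹ * x) * g⁻¹)⁻¹ := by group
  rw [e, hx, hco _ hn.2]
  group

/-- a subgroup of `U` centralised by all `E b` lies in `R₀` if `C_{N b}(E b) = 1` -/
theorem Dec.le_R [Finite ι] (h : Dec S L U N E R₀) (hf : ∀ b, ∀ x ∈ N b, (∀ g ∈ E b, g * x * g⁻¹ = x) → x = 1)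
    {W : Subgroup G} (hWU : W ≤ U) (hW : ∀ b, E b ≤ centralizer (W : Set G)) : W ≤ R₀ := by
  intro x hx
  have hxU := hWU hx
  refine h.mem_R hxU fun b => ?_
  obtain ⟨n, hn⟩ := h.ex_comp b hxU
  have h2 : n = 1 := hf b n hn.1 fun g hg => h.comp_fix hn hg (cent (hW b hg) hx)
  rwa [h2] at hn

/-- `W = A (W ∩ B)` for `A ≤ W ≤ A B`, everything in the abelian group `U` -/
theorem modular {A B W U : Subgroup G} (hU : U ≤ centralizer (U : Set G)) (hA : A ≤ U) (hB : B ≤ U) (hAW : A ≤ W)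
    (hW : W ≤ A ⊔ B) : W = A ⊔ (W ⊓ B) := by
  refine le_antisymm (fun x hx => ?_) (sup_le hAW inf_le_left)
  have hn : A ≤ normalizer (B : Set G) :=
    (hA.trans hU).trans ((centralizer_le hB).trans (centralizer_le_normalizer _))
  obtain ⟨a, ha, b, hb, rfl⟩ := mem_sup_of hn (hW hx)
  refine mul_mem_sup ha ⟨?_, hb⟩
  have := mul_mem (inv_mem (hAW ha)) hx
  rwa [inv_mul_cancel_left] at this

section merge

variable (h₁ : Dec S L U N E R₀) (h₂ : Dec S L U N' E' R₀') (hN : ∀ c, N' c ≤ R₀) (hN' : ∀ b, N b ≤ R₀')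
  (hE : ∀ b c, E b ≤ centralizer (N' c : Set G)) (hE' : ∀ c b, E' c ≤ centralizer (N b : Set G))
include h₁ h₂ hN hN' hE hE'

/-- **The merge.** -/
theorem Dec.merge : Dec S L U (Sum.elim N N') (Sum.elim E E') (R₀ ⊓ R₀') where
  SL := h₁.SL
  LU := h₁.LU
  ab := h₁.ab
  sup := by
    have e1 : (⨆ x : ι ⊕ κ, (Sum.elim N N') x) = (⨆ b, N b) ⊔ ⨆ c, N' c := by
      rw [iSup_sum]
      rfl
    have e2 : R₀ = (⨆ c, N' c) ⊔ (R₀ ⊓ R₀') := by
      refine modular h₁.ab (B_le h₂) (R_le h₂) (iSup_le hN) ?_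
      rw [h₂.sup]
      exact h₁.RU
    rw [e1, sup_assoc, ← e2]
    exact h₁.sup
  ind := by
    rintro (b | c)
    · rw [eq_bot_iff, ← h₁.ind b]
      refine inf_le_inf_left _ (sup_le (iSup_le ?_) (inf_le_left.trans le_sup_right))
      rintro ⟨b' | c', hne⟩
      · exact (le_iSup (fun d : {d // d ≠ b} => N d) ⟨b', fun e => hne (by rw [e])⟩).trans le_sup_left
      · exact (hN c').trans le_sup_right
    · rw [eq_bot_iff, ← h₂.ind c]
      refine inf_le_inf_left _ (sup_le (iSup_le ?_) (inf_le_right.trans le_sup_right))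
      rintro ⟨b' | c', hne⟩
      · exact (hN' b').trans le_sup_right
      · exact (le_iSup (fun d : {d // d ≠ c} => N' d) ⟨c', fun e => hne (by rw [e])⟩).trans le_sup_left
  ne := by
    rintro (b | c)
    · exact h₁.ne b
    · exact h₂.ne c
  Rnor := (le_inf h₁.Rnor h₂.Rnor).trans inf_normalizer_le_normalizer_inf
  EL := by
    rintro (b | c)
    · exact h₁.EL b
    · exact h₂.EL c
  CE := by
    rintro (b | c)
    · exact h₁.CE b
    · exact h₂.CE c
  perm := by
    rintro g hg (b | c)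
    · obtain ⟨b', h3, h4⟩ := h₁.perm g hg b
      exact ⟨Sum.inl b', h3, h4⟩
    · obtain ⟨c', h3, h4⟩ := h₂.perm g hg c
      exact ⟨Sum.inr c', h3, h4⟩
  EN := by
    rintro (b | c)
    · exact h₁.EN b
    · exact h₂.EN c
  EC := by
    rintro (b | c) (b' | c') hne
    · exact h₁.EC b b' fun e => hne (by rw [e])
    · exact hE b c'
    · exact hE' c b'
    · exact h₂.EC c c' fun e => hne (by rw [e])
  ER := by
    rintro (b | c)
    · exact (h₁.ER b).trans (centralizer_le inf_le_left)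
    · exact (h₂.ER c).trans (centralizer_le inf_le_right)

/-- `N b` and `N' c` are not conjugate in `L` -/
theorem not_conj {g : G} (hg : g ∈ L) {b : ι} {c : κ} : MulAut.conj g • N b ≠ N' c := by
  intro e
  obtain ⟨b', h3, -⟩ := h₁.perm g hg b
  rw [h3] at e
  have h4 : N' c ⊓ ((⨆ d : {d // d ≠ c}, N' d) ⊔ R₀') = ⊥ := h₂.ind c
  apply h₂.ne c
  rw [eq_bot_iff, ← h4]
  refine le_inf le_rfl ?_
  rw [← e]
  exact (hN' b').trans le_sup_right

theorem not_conj' {g : G} (hg : g ∈ L) {b : ι} {c : κ} : MulAut.conj g • N' c ≠ N b := by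
  intro e
  obtain ⟨c', h3, -⟩ := h₂.perm g hg c
  rw [h3] at e
  have h4 : N b ⊓ ((⨆ d : {d // d ≠ b}, N d) ⊔ R₀) = ⊥ := h₁.ind b
  apply h₁.ne b
  rw [eq_bot_iff, ← h4]
  refine le_inf le_rfl ?_
  rw [← e]
  exact (hN c').trans le_sup_right

/-- **Orbits for the merged blocks.** -/
theorem Orbs.merge {O : ι → Set G} {O' : κ → Set G} (o₁ : Orbs L N E O) (o₂ : Orbs L N' E' O') :
    Orbs L (Sum.elim N N') (Sum.elim E E') (Sum.elim O O') where
  sub := by
    rintro (b | c)
    · exact o₁.sub b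
    · exact o₂.sub c
  one := by
    rintro (b | c)
    · exact o₁.one b
    · exact o₂.one c
  odd := by
    rintro (b | c)
    · exact o₁.odd b
    · exact o₂.odd c
  tr := by
    rintro (b | c)
    · exact o₁.tr b
    · exact o₂.tr c
  inv := by
    rintro g hg (b | c) (b' | c') he x hx
    · exact o₁.inv g hg b b' he x hx
    · exact absurd he (not_conj h₁ h₂ hN hN' hE hE' hg)
    · exact absurd he (not_conj' h₁ h₂ hN hN' hE hE' hg)
    · exact o₂.inv g hg c c' he x hx

end merge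

section tv

/-- `t` moves `N b` to another block: `|N b| ≤ |N b : C|`, i.e. the `[x, t]`, `x ∈ N b`, are different modulo .. -/
theorem Dec.norm_of_tv (h : Dec S L U N E R₀) {t : G} (ht : t ∈ L) {D : Subgroup G}
    (hDt : ∀ x ∈ D, t * x * t⁻¹ = x) (h2 : D.relIndex U ≤ 2) (h0 : D.relIndex U ≠ 0) {b : ι} (hb : 2 < Nat.card (N b)) :
    MulAut.conj t • N b = N b := by
  by_contra hne
  obtain ⟨c, hc, -⟩ := h.perm t ht b
  have hcb : c ≠ b := fun e => hne (by rw [hc, e])
  -- `D ⊓ N b = 1`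
  have h3 : D ⊓ N b = ⊥ := by
    rw [eq_bot_iff]
    rintro x ⟨hxD, hxb⟩
    have h4 : x ∈ N c := by
      have := (conj_smul hc (x := x)).1 hxb
      rwa [hDt x hxD] at this
    have h5 : x ∈ N b ⊓ ((⨆ d : {d // d ≠ b}, N d) ⊔ R₀) := ⟨hxb, (h.N_le_Co hcb) h4⟩
    rwa [h.ind b] at h5
  have h6 : D.relIndex (N b) ≤ D.relIndex U := relIndex_le_of_le_right (h.NU b) h0
  have h7 : D.relIndex (N b) = Nat.card (N b) := by
    rw [← inf_relIndex_right, h3, relIndex_bot_left]
  omega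

/-- **a transvection centralises the blocks without transvections** -/
theorem Dec.tv_cent (h : Dec S L U N E R₀) {t : G} (ht : t ∈ L) {D : Subgroup G}
    (hDt : ∀ x ∈ D, t * x * t⁻¹ = x) (h2 : D.relIndex U ≤ 2) (h0 : D.relIndex U ≠ 0) {b : ι} (hb : 2 < Nat.card (N b))
    (hno : ∀ g ∈ L, g ∈ normalizer (N b : Set G) → ∀ W : Subgroup G, W ≤ N b → W.relIndex (N b) ≤ 2 →
      (∀ x ∈ W, g * x * g⁻¹ = x) → g ∈ centralizer (N b : Set G)) :
    t ∈ centralizer (N b : Set G) := by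
  have h1 := h.norm_of_tv ht hDt h2 h0 hb
  refine hno t ht ?_ (D ⊓ N b) inf_le_right ?_ fun x hx => hDt x hx.1
  · rw [mem_normalizer_iff]
    intro x
    exact conj_smul h1
  · rw [inf_relIndex_right]
    exact (relIndex_le_of_le_right (h.NU b) h0).trans h2

end tv

end Cfsg.Agent.Omega.NOThreeL.RRed.Blk
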