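import Cfsg.Agent.Omega.NOThreeL.RRed.Blk.AsmTD
import Cfsg.Agent.Omega.NOThreeL.RRed.Blk.DecDef

/-!
# NO-3L, box R: the group `⟨T D^s : s ∈ S⟩ S` of a family of natural blocks

`TSys S FF N C T` : a family of natural blocks with groups `T D = clo up lo ≅ SL₂(F)`, permuted by `S`
(for `|F| = 4` the stabiliser of the block may induce `A₇`).  `O = Orb S D` the `S`-conjugates of `D`, `KO = ⟨T D' : D' ∈ O⟩`,
`HO = KO S`.

* `mem_HO` : `x ∈ HO` iff `x = k s`;
* `T_fix` : `x ∈ T D` maps one vector `≠ 0` fixed by `D` to a vector fixed by `D`: `x` normalises `D`;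
* `comm_KO` : `KO` centralises the root groups `B ∉ O`;
* **`exists_mv`** : some `x ∈ HO` moves `D` out of `FF`;
* **`stab`** : `x ∈ HO`, `z` and `x z` are fixed by `S`, `z ∉ C D`: `x` permutes `FF`;
* **`two_of_triv`** : `x ∈ HO` which is trivial on the blocks of `O` is a 2-element.
-/

set_option autoImplicit false
set_option linter.unusedSectionVars false

namespace Cfsg.Agent.Omega.NOThreeL.RRed.Blk.MvH

open Cfsg.Agent.Omega.NOThreeL.RRed.NS (fxd brk mem_fxd)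
open Cfsg.Agent.Omega.NOThreeL.RRed.Blk.TypesGam
open Cfsg.Agent.Omega.NOThreeL.RRed.Blk.TypesClo
open Cfsg.Agent.Omega.NOThreeL.RRed.Blk.Types (mem_cj)
open Cfsg.Agent.Omega.NOThreeL.RRed.Blk.Asm
open Cfsg.Agent.Omega.NOThreeL.RRed.Blk.AsmT
open Cfsg.Agent.Omega.NOThreeL.RRed.Blk.AsmSL
open scoped Pointwise

universe u v

variable {X : Type u} {V : Type v} [Group X] [AddCommGroup V] [DistribMulAction X V]

/-- A family of natural blocks with groups `T D ≅ SL₂(F)` permuted by `S`. -/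
structure TSys (S : Subgroup X) (FF : Set (Subgroup X)) (N C : Subgroup X → AddSubgroup V)
    (T : Subgroup X → Subgroup X) : Prop where
  fam : Fam S FF N C
  nbt : ∀ D ∈ FF, NBT D (T D) (N D) (C D)
  TS : ∀ s ∈ S, ∀ D ∈ FF, MulAut.conj s • T D = T (MulAut.conj s • D)
  CS : ∀ s ∈ S, ∀ D ∈ FF, ∀ m : V, m ∈ C D ↔ s • m ∈ C (MulAut.conj s • D)

/-- the `S`-conjugates of `D` -/
def Orb (S D : Subgroup X) : Set (Subgroup X) := {D' | ∃ s ∈ S, D' = MulAut.conj s • D}

/-- `⟨T D' : D' ∈ Orb S D⟩` -/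
def KO (S : Subgroup X) (T : Subgroup X → Subgroup X) (D : Subgroup X) : Subgroup X := ⨆ D' : Orb S D, T D'

/-- `KO S` -/
def HO (S : Subgroup X) (T : Subgroup X → Subgroup X) (D : Subgroup X) : Subgroup X := KO S T D ⊔ S

theorem mem_Orb_self (S D : Subgroup X) : D ∈ Orb S D := ⟨1, one_mem _, by rw [map_one, one_smul]⟩

theorem Orb_smul {S D D' : Subgroup X} {s : X} (hs : s ∈ S) (h : D' ∈ Orb S D) : MulAut.conj s • D' ∈ Orb S D := by
  obtain ⟨t, ht, rfl⟩ := h
  exact ⟨s * t, mul_mem hs ht, by rw [map_mul, mul_smul]⟩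

theorem Orb_smul_iff {S D D' : Subgroup X} {s : X} (hs : s ∈ S) : MulAut.conj s • D' ∈ Orb S D ↔ D' ∈ Orb S D := by
  refine ⟨fun h => ?_, Orb_smul hs⟩
  have := Orb_smul (inv_mem hs) h
  rwa [map_inv, inv_smul_smul] at this

theorem T_le_KO {S D D' : Subgroup X} {T : Subgroup X → Subgroup X} (h : D' ∈ Orb S D) : T D' ≤ KO S T D :=
  le_iSup (fun D' : Orb S D => T D') ⟨D', h⟩

theorem KO_le_HO {S D : Subgroup X} {T : Subgroup X → Subgroup X} : KO S T D ≤ HO S T D := le_sup_left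

theorem S_le_HO {S D : Subgroup X} {T : Subgroup X → Subgroup X} : S ≤ HO S T D := le_sup_right

/-! ### one block -/

/-- **`T_fix`** -/
theorem T_fix [Finite X] (hf : ∀ x : X, (∀ v : V, x • v = v) → x = 1) {D T : Subgroup X} {N C : AddSubgroup V}
    (h : NBT D T N C) {x : X} (hx : x ∈ T) {v : V} (hv : v ∈ N) (hv0 : v ≠ 0) (h1 : ∀ d ∈ D, d • v = v)
    (h2 : ∀ d ∈ D, d • x • v = x • v) : MulAut.conj x • D = D := by
  obtain ⟨F, i1, i2, e, f, up, lo, b1, rfl, rfl, rfl⟩ := h.ex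
  obtain ⟨B, hB⟩ := sla_of_clo b1 hx
  -- fixed vectors are in `e(F)`
  have hfix : ∀ a b : F, (∀ d ∈ rt up, d • (e a + f b) = e a + f b) → b = 0 := by
    intro a b hd
    have h3 := hd _ (up_mem 1)
    rw [smul_add, b1.up_e, b1.up_f, one_mul] at h3
    have h4 : e a + (f b + e b) = e (a + b) + f b := by rw [map_add]; abel
    rw [h4] at h3
    have h5 := (vec_uniq b1 h3).1
    exact add_eq_left.1 h5
  obtain ⟨_, ⟨a, rfl⟩, _, ⟨b, rfl⟩, rfl⟩ := AddSubgroup.mem_sup.1 hv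
  have hb := hfix a b h1
  subst hb
  have ha : a ≠ 0 := by
    rintro rfl
    exact hv0 (by rw [map_zero, map_zero, add_zero])
  have hact := hB.act ![a, 0]
  simp only [Matrix.cons_val_zero, Matrix.cons_val_one] at hact
  rw [hact] at h2
  have h3 := hfix _ _ h2
  have h10 : B.1 1 0 = 0 := by
    simp only [Matrix.mulVec, dotProduct, Fin.sum_univ_two, Matrix.cons_val_zero, Matrix.cons_val_one, mul_zero,
      add_zero] at h3
    exact (mul_eq_zero.1 h3).resolve_right ha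
  have hdet : B.1 0 0 * B.1 1 1 = 1 := by
    have := B.2
    rw [Matrix.det_fin_two, h10, mul_zero, sub_zero] at this
    exact this
  have xe : ∀ z, x • e z = e (B.1 0 0 * z) := by
    intro z
    have := hB.act ![z, 0]
    simp only [Matrix.mulVec, dotProduct, Fin.sum_univ_two, Matrix.cons_val_zero, Matrix.cons_val_one, mul_zero,
      add_zero, h10, zero_mul, map_zero] at this
    exact this
  have xf : ∀ z, x • f z = e (B.1 0 1 * z) + f (B.1 1 1 * z) := by
    intro z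
    have := hB.act ![0, z]
    simp only [Matrix.mulVec, dotProduct, Fin.sum_univ_two, Matrix.cons_val_zero, Matrix.cons_val_one, mul_zero,
      zero_add, map_zero] at this
    exact this
  have key : ∀ t, x * up t * x⁻¹ = up (B.1 0 0 * B.1 0 0 * t) := by
    intro t
    have ye : ∀ z, x⁻¹ • e z = e (B.1 1 1 * z) := by
      intro z
      rw [inv_smul_eq_iff, xe, ← mul_assoc, hdet, one_mul]
    have yf : ∀ z, x⁻¹ • f z = f (B.1 0 0 * z) - e (B.1 0 1 * z) := by
      intro z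
      rw [inv_smul_eq_iff, smul_sub, xf, xe]
      have e1 : B.1 1 1 * (B.1 0 0 * z) = z := by rw [← mul_assoc, mul_comm (B.1 1 1), hdet, one_mul]
      have e2 : B.1 0 1 * (B.1 0 0 * z) = B.1 0 0 * (B.1 0 1 * z) := by ring
      rw [e1, e2]; abel
    refine b1.ext hf (fun z => ?_) (fun z => ?_) fun c hc => ?_
    · rw [mul_smul, mul_smul, ye, b1.up_e, b1.up_e, xe, ← mul_assoc, hdet, one_mul]
    · rw [mul_smul, mul_smul, yf, smul_sub, b1.up_e, b1.up_f, smul_sub, smul_add, xf, xe, xe, b1.up_f]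
      have e1 : B.1 1 1 * (B.1 0 0 * z) = z := by rw [← mul_assoc, mul_comm (B.1 1 1), hdet, one_mul]
      have e2 : B.1 0 1 * (B.1 0 0 * z) = B.1 0 0 * (B.1 0 1 * z) := by ring
      have e3 : B.1 0 0 * (t * (B.1 0 0 * z)) = B.1 0 0 * B.1 0 0 * t * z := by ring
      rw [e1, e2, e3]; abel
    · have hc' : x⁻¹ • c = c := by rw [inv_smul_eq_iff, hB.triv c hc]
      rw [mul_smul, mul_smul, hc', b1.up_c t c hc, hB.triv c hc, b1.up_c _ c hc]
  have hle : MulAut.conj x • rt up ≤ rt up := by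
    rw [← TypesEq.rt_conj, rt, Subgroup.closure_le]
    rintro _ ⟨t, rfl⟩
    dsimp only
    rw [key t]
    exact up_mem _
  exact Subgroup.eq_of_le_of_card_ge hle (by rw [Types.card_cj])

/-- `T D` does not normalise `D` -/
theorem T_move {D T : Subgroup X} {N C : AddSubgroup V} (h : NBT D T N C) : ∃ x ∈ T, MulAut.conj x • D ≠ D := by
  obtain ⟨F, i1, i2, e, f, up, lo, b1, rfl, rfl, rfl⟩ := h.ex
  refine ⟨lo 1, lo_mem_clo up lo 1, fun h1 => ?_⟩
  have h3 : lo 1 * up 1 * (lo 1)⁻¹ ∈ rt up := by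
    rw [← h1]
    exact ⟨up 1, up_mem 1, rfl⟩
  have h4 : ∀ y ∈ rt up, y • e 1 = e 1 := by
    intro y hy
    have h5 : rt up ≤ MulAction.stabilizer X (e 1) := by
      refine (Subgroup.closure_le _).2 ?_
      rintro _ ⟨t, rfl⟩
      exact MulAction.mem_stabilizer_iff.2 (b1.up_e t 1)
    exact MulAction.mem_stabilizer_iff.1 (h5 hy)
  have h5 := h4 _ h3
  have h6 : (lo 1)⁻¹ • e 1 = e 1 - f 1 := by
    rw [inv_smul_eq_iff, smul_sub, b1.lo_e, b1.lo_f, mul_one]; abel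
  rw [mul_smul, mul_smul, h6, smul_sub, b1.up_e, b1.up_f, mul_one] at h5
  have h7 : e 1 - (f 1 + e 1) = -f 1 := by abel
  rw [h7, smul_neg, b1.lo_f] at h5
  have h8 : e 1 + f 1 = 0 := by rw [← h5]; abel
  exact one_ne_zero (b1.ind 1 1 (by rw [h8]; exact C.zero_mem)).1

/-- `T D` permutes the elements of a block which `D` centralises trivially -/
theorem NBT.oth {D T : Subgroup X} {N C C' : AddSubgroup V} (h : NBT D T N C) (hN : N ≤ C') {x : X} (hx : x ∈ T)
    {m : V} (hm : m ∈ C') : x • m ∈ C' := by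
  obtain ⟨n, hn, c, hc, rfl⟩ := h.nb.dec m
  have h1 : c ∈ C' := by
    have e : c = (n + c) - n := by abel
    rw [e]; exact sub_mem hm (hN hn)
  rw [smul_add, h.cent hx hc]
  exact add_mem (hN (h.norm hx hn)) h1

/-! ### the group -/

section sys

variable {S : Subgroup X} {FF : Set (Subgroup X)} {N C : Subgroup X → AddSubgroup V} {T : Subgroup X → Subgroup X}
  (H : TSys S FF N C T) {D : Subgroup X} (hD : D ∈ FF)
include H hD

theorem Orb_FF {D' : Subgroup X} (h : D' ∈ Orb S D) : D' ∈ FF := by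
  obtain ⟨s, hs, rfl⟩ := h
  exact H.fam.sinv s hs D hD

/-- `S` normalises `KO` -/
theorem KO_norm {s : X} (hs : s ∈ S) {k : X} (hk : k ∈ KO S T D) : s * k * s⁻¹ ∈ KO S T D := by
  have h1 : KO S T D ≤ (KO S T D).comap (MulAut.conj s).toMonoidHom := by
    refine iSup_le fun D' x hx => ?_
    have h3 : MulAut.conj s x ∈ MulAut.conj s • T D' := ⟨x, hx, rfl⟩
    rw [H.TS s hs D' (Orb_FF H hD D'.2)] at h3
    exact T_le_KO (Orb_smul hs D'.2) h3
  exact h1 hk

theorem mem_HO {x : X} : x ∈ HO S T D ↔ ∃ k ∈ KO S T D, ∃ s ∈ S, x = k * s := by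
  constructor
  · intro hx
    have h1 : HO S T D ≤ (show Subgroup X from
        { carrier := {x | ∃ k ∈ KO S T D, ∃ s ∈ S, x = k * s}
          one_mem' := ⟨1, one_mem _, 1, one_mem _, (one_mul 1).symm⟩
          mul_mem' := by
            rintro _ _ ⟨k, hk, s, hs, rfl⟩ ⟨k', hk', s', hs', rfl⟩
            exact ⟨k * (s * k' * s⁻¹), mul_mem hk (KO_norm H hD hs hk'), s * s', mul_mem hs hs', by group⟩
          inv_mem' := by
            rintro _ ⟨k, hk, s, hs, rfl⟩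
            refine ⟨s⁻¹ * k⁻¹ * s⁻¹⁻¹, KO_norm H hD (inv_mem hs) (inv_mem hk), s⁻¹, inv_mem hs, by group⟩ }) := by
      refine sup_le (fun k hk => ⟨k, hk, 1, one_mem _, (mul_one k).symm⟩) fun s hs => ⟨1, one_mem _, s, hs, (one_mul s).symm⟩
    exact h1 hx
  · rintro ⟨k, hk, s, hs, rfl⟩
    exact mul_mem (KO_le_HO hk) (S_le_HO hs)

/-- the action of `KO` -/
theorem act_KO {k : X} (hk : k ∈ KO S T D) :
    (∀ D' ∈ Orb S D, ∃ t ∈ T D', ∀ m ∈ N D', k • m = t • m) ∧
    (∀ B ∈ FF, B ∉ Orb S D → ∀ m ∈ N B, k • m = m) ∧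
    (∀ m, (∀ D' ∈ Orb S D, m ∈ C D') → k • m = m) ∧
    (∀ D' ∈ Orb S D, ∀ m, m ∈ C D' ↔ k • m ∈ C D') := by
  have h1 : KO S T D ≤ (show Subgroup X from
      { carrier := {k | (∀ D' ∈ Orb S D, ∃ t ∈ T D', ∀ m ∈ N D', k • m = t • m) ∧
          (∀ B ∈ FF, B ∉ Orb S D → ∀ m ∈ N B, k • m = m) ∧
          (∀ m, (∀ D' ∈ Orb S D, m ∈ C D') → k • m = m) ∧
          (∀ D' ∈ Orb S D, ∀ m, m ∈ C D' ↔ k • m ∈ C D')}
        one_mem' := ⟨fun D' _ => ⟨1, one_mem _, fun _ _ => rfl⟩, fun _ _ _ _ _ => one_smul _ _,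
          fun _ _ => one_smul _ _, fun _ _ _ => by rw [one_smul]⟩
        mul_mem' := by
          rintro a b ⟨a1, a2, a3, a4⟩ ⟨b1, b2, b3, b4⟩
          refine ⟨fun D' hD' => ?_, fun B hB hB' m hm => ?_, fun m hm => ?_, fun D' hD' m => ?_⟩
          · obtain ⟨t, ht, h1⟩ := a1 D' hD'
            obtain ⟨t', ht', h1'⟩ := b1 D' hD'
            refine ⟨t * t', mul_mem ht ht', fun m hm => ?_⟩
            rw [mul_smul, mul_smul, h1' m hm, h1 _ ((H.nbt D' (Orb_FF H hD hD')).norm ht' hm)]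
          · rw [mul_smul, b2 B hB hB' m hm, a2 B hB hB' m hm]
          · rw [mul_smul, b3 m hm, a3 m hm]
          · rw [mul_smul, ← a4 D' hD', ← b4 D' hD']
        inv_mem' := by
          rintro a ⟨a1, a2, a3, a4⟩
          refine ⟨fun D' hD' => ?_, fun B hB hB' m hm => ?_, fun m hm => ?_, fun D' hD' m => ?_⟩
          · obtain ⟨t, ht, h1⟩ := a1 D' hD'
            refine ⟨t⁻¹, inv_mem ht, fun m hm => ?_⟩
            rw [inv_smul_eq_iff, h1 _ ((H.nbt D' (Orb_FF H hD hD')).norm (inv_mem ht) hm), smul_inv_smul]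
          · rw [inv_smul_eq_iff, a2 B hB hB' m hm]
          · rw [inv_smul_eq_iff, a3 m hm]
          · rw [a4 D' hD' (a⁻¹ • m), smul_inv_smul] }) := by
    refine iSup_le fun D1 t ht => ?_
    have hD1 := Orb_FF H hD D1.2
    have hn := H.nbt D1 hD1
    refine ⟨fun D' hD' => ?_, fun B hB hB' m hm => ?_, fun m hm => ?_, fun D' hD' m => ?_⟩
    · by_cases h : D' = D1
      · exact ⟨t, by rw [h]; exact ht, fun _ _ => rfl⟩
      · refine ⟨1, one_mem _, fun m hm => ?_⟩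
        rw [one_smul, hn.cent ht (H.fam.ind D1 hD1 D' (Orb_FF H hD hD') h hm)]
    · have hne : B ≠ D1 := fun e => hB' (by rw [e]; exact D1.2)
      exact hn.cent ht (H.fam.ind D1 hD1 B hB hne hm)
    · exact hn.cent ht (hm D1 D1.2)
    · by_cases h : D' = D1
      · subst h
        refine ⟨fun hm => by rw [hn.cent ht hm]; exact hm, fun hm => ?_⟩
        have h1 := hn.cent (inv_mem ht) hm
        rw [inv_smul_smul] at h1
        rw [h1]; exact hm
      · have hN : N D1 ≤ C D' := H.fam.ind D' (Orb_FF H hD hD') D1 hD1 (Ne.symm h)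
        refine ⟨fun hm => NBT.oth hn hN ht hm, fun hm => ?_⟩
        have h1 := NBT.oth hn hN (inv_mem ht) hm
        rwa [inv_smul_smul] at h1
  exact h1 hk

/-- `V = N_O + C_O` -/
theorem exists_dec [Finite X] (v : V) : ∃ n : Subgroup X → V, ∃ s : Finset (Subgroup X), (∀ D', D' ∈ s ↔ D' ∈ Orb S D) ∧
    (∀ D' ∈ s, n D' ∈ N D') ∧ ∀ D' ∈ Orb S D, v - ∑ D' ∈ s, n D' ∈ C D' := by
  classical
  have hfin : (Orb S D).Finite := Set.toFinite _
  choose! n hn c hc hv using fun D' (hD' : D' ∈ Orb S D) => (H.fam.nb D' (Orb_FF H hD hD')).dec v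
  refine ⟨n, hfin.toFinset, fun D' => hfin.mem_toFinset, fun D' hD' => hn D' (hfin.mem_toFinset.1 hD'), fun D' hD' => ?_⟩
  have hDf : D' ∈ hfin.toFinset := hfin.mem_toFinset.2 hD'
  rw [← Finset.add_sum_erase _ _ hDf]
  have e1 : v - (n D' + ∑ x ∈ hfin.toFinset.erase D', n x) = c D' - ∑ x ∈ hfin.toFinset.erase D', n x := by
    have h1 : v - n D' = c D' := by rw [sub_eq_iff_eq_add, add_comm]; exact hv D' hD'
    rw [← h1]; abel
  rw [e1]
  refine sub_mem (hc D' hD') (sum_mem fun D'' hD'' => ?_)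
  have h3 := Finset.mem_erase.1 hD''
  have h5 := hfin.mem_toFinset.1 h3.2
  exact H.fam.ind D' (Orb_FF H hD hD') D'' (Orb_FF H hD h5) h3.1 (hn D'' h5)

/-- equality on the blocks of `O` and on `C_O` -/
theorem ext_O [Finite X] (hf : ∀ x : X, (∀ v : V, x • v = v) → x = 1) {x y : X}
    (h1 : ∀ D' ∈ Orb S D, ∀ m ∈ N D', x • m = y • m) (h2 : ∀ m, (∀ D' ∈ Orb S D, m ∈ C D') → x • m = y • m) : x = y := by
  have key : ∀ v : V, x • v = y • v := by
    intro v
    obtain ⟨n, s, hs, hn, hc⟩ := exists_dec H hD v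
    have e : v = ∑ D' ∈ s, n D' + (v - ∑ D' ∈ s, n D') := by abel
    rw [e, smul_add, smul_add, h2 _ hc, Finset.smul_sum, Finset.smul_sum]
    congr 1
    exact Finset.sum_congr rfl fun D' hD' => h1 D' ((hs D').1 hD') _ (hn D' hD')
  have h3 : y⁻¹ * x = 1 := hf _ fun v => by rw [mul_smul, key, inv_smul_smul]
  exact (inv_mul_eq_one.1 h3).symm

/-- `S` permutes `C_O` -/
theorem S_CO {s : X} (hs : s ∈ S) {m : V} (hm : ∀ D' ∈ Orb S D, m ∈ C D') : ∀ D' ∈ Orb S D, s • m ∈ C D' := by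
  intro D' hD'
  have h1 : MulAut.conj s⁻¹ • D' ∈ Orb S D := Orb_smul (inv_mem hs) hD'
  have h3 := (H.CS s hs _ (Orb_FF H hD h1) m).1 (hm _ h1)
  rwa [map_inv, smul_inv_smul] at h3

/-- `KO` centralises the root groups `B ∉ O` -/
theorem comm_KO [Finite X] (hf : ∀ x : X, (∀ v : V, x • v = v) → x = 1) {k : X} (hk : k ∈ KO S T D) {B : Subgroup X}
    (hB : B ∈ FF) (hB' : B ∉ Orb S D) : MulAut.conj k • B = B := by
  have key : ∀ k ∈ KO S T D, ∀ b ∈ B, k * b = b * k := by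
    intro k hk b hb
    obtain ⟨k1, -, k3, -⟩ := act_KO H hD hk
    have hbS := H.fam.le B hB hb
    refine ext_O H hD hf (fun D' hD' m hm => ?_) fun m hm => ?_
    · obtain ⟨t, ht, h1⟩ := k1 D' hD'
      have hne : D' ≠ B := fun e => hB' (by rw [← e]; exact hD')
      have h3 : ∀ m ∈ N D', b • m = m := fun m hm =>
        mem_fxd.1 ((H.fam.nb B hB).C_le (H.fam.ind B hB D' (Orb_FF H hD hD') hne hm)) b hb
      rw [mul_smul, mul_smul, h3 m hm, h1 m hm, h3 _ ((H.nbt D' (Orb_FF H hD hD')).norm ht hm)]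
    · rw [mul_smul, mul_smul, k3 m hm, k3 _ (S_CO H hD hbS hm)]
  ext y
  rw [mem_cj]
  constructor
  · intro hy
    have h1 := key k hk _ hy
    have e : y = k⁻¹ * y * k := by
      have h3 : y * k = k⁻¹ * y * k * k := by
        calc y * k = k * (k⁻¹ * y * k) := by group
          _ = _ := h1
      exact mul_right_cancel h3
    rw [e]; exact hy
  · intro hy
    have h1 := key k hk _ hy
    have e : k⁻¹ * y * k = y := by
      rw [mul_assoc, ← h1]; group
    rw [e]; exact hy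

/-- **some `x ∈ HO` moves `D` out of `FF`** -/
theorem exists_mv : ∃ x ∈ HO S T D, MulAut.conj x • D ∉ FF := by
  obtain ⟨x, hx, hne⟩ := T_move (H.nbt D hD)
  refine ⟨x, KO_le_HO (T_le_KO (mem_Orb_self S D) hx), fun h => hne ?_⟩
  refine H.fam.inj h hD ?_
  ext m
  have h1 := cj_N H.fam hD h (x⁻¹ • m)
  rw [smul_inv_smul] at h1
  rw [← h1]
  constructor
  · intro hm
    have h3 := (H.nbt D hD).norm hx hm
    rwa [smul_inv_smul] at h3
  · intro hm
    exact (H.nbt D hD).norm (inv_mem hx) hm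

/-- **`k ∈ KO` which maps one fixed vector of `S` to a fixed vector of `S`** -/
theorem stab_KO [Finite X] (hf : ∀ x : X, (∀ v : V, x • v = v) → x = 1) {k : X} (hk : k ∈ KO S T D) {z : V}
    (hz : ∀ s ∈ S, s • z = z) (hkz : ∀ s ∈ S, s • k • z = k • z) (hzC : z ∉ C D) {B : Subgroup X} (hB : B ∈ FF) :
    MulAut.conj k • B = B := by
  by_cases hBO : B ∈ Orb S D
  swap
  · exact comm_KO H hD hf hk hB hBO
  obtain ⟨k1, -, -, k4⟩ := act_KO H hD hk
  obtain ⟨t, ht, h1⟩ := k1 B hBO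
  have hn := H.nbt B hB
  obtain ⟨n, hn', c, hc, hzn⟩ := hn.nb.dec z
  have hzB : z ∉ C B := by
    obtain ⟨s, hs, rfl⟩ := hBO
    intro h3
    apply hzC
    rw [H.CS s hs D hD, hz s hs]
    exact h3
  have hn0 : n ≠ 0 := by
    rintro rfl
    rw [zero_add] at hzn
    exact hzB (by rw [hzn]; exact hc)
  have hbC : ∀ b ∈ B, ∀ m ∈ C B, b • m = m := fun b hb m hm => mem_fxd.1 (hn.nb.C_le hm) b hb
  have f1 : ∀ b ∈ B, b • n = n := by
    intro b hb
    have h3 := hz b (H.fam.le B hB hb)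
    rw [hzn, smul_add, hbC b hb c hc] at h3
    exact add_right_cancel h3
  have f2 : ∀ b ∈ B, b • t • n = t • n := by
    intro b hb
    have h3 := hkz b (H.fam.le B hB hb)
    rw [hzn, smul_add, h1 n hn', smul_add, hbC b hb _ ((k4 B hBO c).1 hc)] at h3
    exact add_right_cancel h3
  have h5 := T_fix hf hn ht hn' hn0 f1 f2
  refine Eq.trans ?_ h5
  -- `k` and `t` induce the same on `B`
  have key : ∀ b ∈ B, k * b * k⁻¹ = t * b * t⁻¹ := by
    intro b hb
    have h6 : ∀ m ∈ N B, k⁻¹ • m = t⁻¹ • m := by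
      intro m hm
      rw [inv_smul_eq_iff, h1 _ (hn.norm (inv_mem ht) hm), smul_inv_smul]
    have h7 : (t * b * t⁻¹)⁻¹ * (k * b * k⁻¹) = 1 := by
      refine hf _ fun v => ?_
      have h8 : (k * b * k⁻¹) • v = (t * b * t⁻¹) • v := by
        obtain ⟨n, hn', c, hc, rfl⟩ := hn.nb.dec v
        rw [smul_add, smul_add]
        congr 1
        · rw [mul_smul, mul_smul, mul_smul, mul_smul, h6 n hn']
          refine h1 _ ((hn.nb.act hb).1 _ (hn.norm (inv_mem ht) hn'))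
        · have h9 : k⁻¹ • c ∈ C B := by
            rw [k4 B hBO, smul_inv_smul]; exact hc
          rw [mul_smul, mul_smul, mul_smul, mul_smul, hbC b hb _ h9, smul_inv_smul, hn.cent (inv_mem ht) hc, hbC b hb c hc,
            hn.cent ht hc]
      rw [mul_smul, h8, inv_smul_smul]
    exact (inv_mul_eq_one.1 h7).symm
  ext y
  constructor
  · rintro ⟨b, hb, rfl⟩
    exact ⟨b, hb, (key b hb).symm⟩
  · rintro ⟨b, hb, rfl⟩
    exact ⟨b, hb, key b hb⟩

/-- **`x ∈ HO` which maps one fixed vector `z ∉ C D` of `S` to a fixed vector of `S` permutes `FF`** -/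
theorem stab [Finite X] (hf : ∀ x : X, (∀ v : V, x • v = v) → x = 1) {x : X} (hx : x ∈ HO S T D) {z : V}
    (hz : ∀ s ∈ S, s • z = z) (hxz : ∀ s ∈ S, s • x • z = x • z) (hzC : z ∉ C D) :
    ∃ s ∈ S, ∀ B ∈ FF, MulAut.conj x • B = MulAut.conj s • B := by
  obtain ⟨k, hk, s, hs, rfl⟩ := (mem_HO H hD).1 hx
  refine ⟨s, hs, fun B hB => ?_⟩
  rw [map_mul, mul_smul]
  refine stab_KO H hD hf hk hz (fun s' hs' => ?_) hzC (H.fam.sinv s hs B hB)
  have h1 := hxz s' hs'
  rwa [mul_smul, hz s hs] at h1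

theorem stab_FF [Finite X] (hf : ∀ x : X, (∀ v : V, x • v = v) → x = 1) {x : X} (hx : x ∈ HO S T D) {z : V}
    (hz : ∀ s ∈ S, s • z = z) (hxz : ∀ s ∈ S, s • x • z = x • z) (hzC : z ∉ C D) {B : Subgroup X} (hB : B ∈ FF) :
    MulAut.conj x • B ∈ FF := by
  obtain ⟨s, hs, h1⟩ := stab H hD hf hx hz hxz hzC
  rw [h1 B hB]
  exact H.fam.sinv s hs B hB

/-- **`x ∈ HO` which is trivial on the blocks of `O` is a 2-element** -/
theorem two_of_triv [Finite X] (hf : ∀ x : X, (∀ v : V, x • v = v) → x = 1) (hS : IsPGroup 2 S) {x : X}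
    (hx : x ∈ HO S T D) (h : ∀ D' ∈ Orb S D, ∀ m ∈ N D', x • m = m) : ∃ n : ℕ, x ^ 2 ^ n = 1 := by
  obtain ⟨k, hk, s, hs, rfl⟩ := (mem_HO H hD).1 hx
  obtain ⟨n, hn⟩ := hS ⟨s, hs⟩
  have hn' : s ^ 2 ^ n = 1 := by simpa using congrArg Subtype.val hn
  obtain ⟨-, -, k3, -⟩ := act_KO H hD hk
  refine ⟨n, ext_O H hD hf (fun D' hD' m hm => ?_) fun m hm => ?_⟩
  · rw [one_smul]
    have h1 : ∀ j : ℕ, (k * s) ^ j • m = m := by
      intro j
      induction j with
      | zero => rw [pow_zero, one_smul]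
      | succ j ih => rw [pow_succ, mul_smul, h D' hD' m hm, ih]
    exact h1 _
  · have h1 : ∀ j : ℕ, (k * s) ^ j • m = s ^ j • m := by
      intro j
      induction j with
      | zero => rw [pow_zero, pow_zero]
      | succ j ih =>
        have h3 : ∀ D' ∈ Orb S D, s ^ (j + 1) • m ∈ C D' := S_CO H hD (pow_mem hs _) hm
        rw [pow_succ', mul_smul, ih, mul_smul]
        have e : s • s ^ j • m = s ^ (j + 1) • m := by rw [← mul_smul, ← pow_succ']
        rw [e, k3 _ h3]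
    rw [h1, hn']

end sys

end Cfsg.Agent.Omega.NOThreeL.RRed.Blk.MvH
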