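import Cfsg.Agent.Omega.NOThreeL.RRed.Blk.MvNat
import Cfsg.Agent.Omega.NOThreeL.RRed.Blk.MvH
import Cfsg.Agent.Omega.NOThreeL.RRed.Blk.AsmTX
import Cfsg.Agent.Omega.NOThreeL.RRed.Blk.AsmLn
import Cfsg.Agent.Omega.NOThreeL.RRed.MvEnd

/-!
# NO-3L, box R: (M3n) without hypotheses

* **`hout_of`** : the group `H` of `MvNat.HOut` (877's `exists_T'`, 208's `HO`);
* **`mvBig`** : `MvEnd.MvBig S`.
-/

set_option autoImplicit false
set_option linter.unusedSectionVars false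

namespace Cfsg.Agent.Omega.NOThreeL.RRed.Blk.MvNatH

open Subgroup Cfsg Cfsg.Agent.ZN Cfsg.Agent.Omega.MinPar
open Cfsg.Agent.Omega.NOThreeL.RSplit (Nrm)
open Cfsg.Agent.Omega.NOThreeL.RTree (RB)
open Cfsg.Agent.Omega.NOThreeL.Merge (MZ isLoc_MZ)
open Cfsg.Agent.Omega.NOThreeL.RRed.Blk.TypesNat (XH XH_faith)
open Cfsg.Agent.Omega.NOThreeL.RRed.Blk.Asm
open Cfsg.Agent.Omega.NOThreeL.RRed.Blk.AsmG
open Cfsg.Agent.Omega.NOThreeL.RRed.Blk.AsmInp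
open Cfsg.Agent.Omega.NOThreeL.RRed.Blk.AsmCore (im EP)
open Cfsg.Agent.Omega.NOThreeL.RRed.Blk.MvNat
open scoped Pointwise

universe u

variable {G : Type u} [Group G] [Finite G] {S : Sylow 2 G} {L : Subgroup G}
  {Q : Nrm L (zl (S : Subgroup G) L)}

local notation "EEi" => im Q '' AsmCore.EE (S : Subgroup G) (zl (S : Subgroup G) L)

/-- **The group `H`.** -/
theorem hout_of (hL : IsLoc (S : Subgroup G) L) (h : Inp S L Q) (spl : Spl S L) {D : Subgroup (XH Q)}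
    (hD : D ∈ FFs EEi (RRs S L Q)) :
    ∃ H : Subgroup (XH Q), HOut (im Q (S : Subgroup G)) (FFs EEi (RRs S L Q)) (CC EEi Q.Mod) D H := by
  have hSL := hL.le
  obtain ⟨hFE, h4, hGB, hFam⟩ := h.main (RR := RRs S L Q) le_rfl
  have : Fact (Nat.Prime 2) := ⟨Nat.prime_two⟩
  have hS2 : IsPGroup 2 (im Q (S : Subgroup G)) := (TypesNat.imS Q S hSL).isPGroup'
  have hSi : ¬ 2 ∣ (im Q (S : Subgroup G)).index := by
    have h3 := (TypesNat.imS Q S hSL).not_dvd_index' Subgroup.index_ne_zero_of_finite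
    exact h3
  obtain ⟨T, hT1, hT2⟩ := AsmTX.exists_T' hFam h.two h.hf h.hno h4 hS2 hSi
    (tor_main h.hc hL h.no spl le_rfl hFam)
  have hT : MvH.TSys (im Q (S : Subgroup G)) (FFs EEi (RRs S L Q)) (NN EEi Q.Mod) (CC EEi Q.Mod) T :=
    ⟨hFam, hT1, hT2, fun s hs D hD m => AsmTX.cj_C hFam h.two h.hf h.hno h4 hD (hFam.sinv s hs D hD) m⟩
  exact ⟨MvH.HO (im Q (S : Subgroup G)) T D, MvH.S_le_HO, MvH.exists_mv hT hD, fun x hx z h1 h3 h5 B hB =>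
    MvH.stab_FF hT hD h.hf hx h1 h3 h5 hB⟩

/-- **(M3n)** -/
theorem mv_big' (hL : IsLoc (S : Subgroup G) L) (h : Inp S L Q) (spl : Spl S L) {D : Subgroup (XH Q)}
    (hD : D ∈ FFs EEi (RRs S L Q)) {z : G}
    (hz : z ∈ zc (S : Subgroup G)) (hzU : z ∈ zl (S : Subgroup G) L) (hzD : Q.of z hzU ∉ CC EEi Q.Mod D) :
    ∃ R, IsParS (S : Subgroup G) R ∧ R ≤ L ∧ (EP (S : Subgroup G) R (zl (S : Subgroup G) L)).Nonempty ∧
      ¬ R ≤ centralizer ({z} : Set G) := by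
  obtain ⟨H, HO⟩ := hout_of hL h spl hD
  exact mv_big hL h hD HO hz hzU hzD

/-- **`MvBig`** -/
theorem mvBig (B : RB S) : MvEnd.MvBig S := fun _ h spl _ hD _ hz hU hzD =>
  mv_big' (isLoc_MZ B.ctx B.full B.data.noff) h spl hD hz hU hzD

end Cfsg.Agent.Omega.NOThreeL.RRed.Blk.MvNatH
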