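import Cfsg.Agent.Omega.NOThreeL.RRed.NS.Fix
import Cfsg.Agent.Omega.NO3b.Bang

/-!
# NO-3L, box R, nonsplit blocks (#26560): transport of a natural module by conjugation

`M : NatKM F S P V D k`, `r : G`.

* `natKM_cj M r : NatKM F (cj r S) (cj r P) (cj r V) (cj r D) k`, `e := fun v => M.e (r⁻¹ v r)`; `acts_cj`;
* `nb_cj`, `blk_cj`, `DD_cj`, `YY_cj`, `cd_cj`, `LL_cj`;
* `one_cj` : `r ∈ N(U)`, `One M U A j` ⟹ `One (natKM_cj M r) U (cj r A) j`;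
* **`cmp_cj`** : `A₁ = cj r A` root group of `M₁`: `cj r (DD M j) = DD M₁ j₁`, or `|DD M j| = |F|`,
  `DD M₁ j₁ = cj r LL`, `LL₁ = cj r (DD M j)`.
-/

set_option autoImplicit false
set_option linter.unusedSectionVars false

namespace Cfsg.Agent.Omega.NOThreeL.RRed.Blk.NatCj

open Subgroup Cfsg Cfsg.Agent.ZN Cfsg.Agent.ZN.ChoiceBase
open Cfsg.Agent.Omega.FFThm Cfsg.Agent.Lib.SL2Mat
open Cfsg.Agent.Omega.NatPair (ap)
open Cfsg.Agent.Omega.NO3S.ThmB Cfsg.Agent.Omega.NO3S.KeyRad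
open Cfsg.Agent.Omega.NOThreeL.RRed.NS

universe u

variable {G : Type u} [Group G] {F : Type} [Field F] {S P V D U : Subgroup G} {k : ℕ}

theorem mem_cj' {g x : G} {H : Subgroup G} (h : x ∈ cj g H) : g⁻¹ * x * g ∈ H := mem_cj.1 h

theorem mem_cj_mk {g x : G} {H : Subgroup G} (h : x ∈ H) : g * x * g⁻¹ ∈ cj g H := by
  rw [mem_cj]
  have e : g⁻¹ * (g * x * g⁻¹) * g = x := by group
  rwa [e]

theorem inv_cj (g x : G) : g⁻¹ * (g * x * g⁻¹) * g = x := by group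

theorem cj_inv (g x : G) : g * (g⁻¹ * x * g) * g⁻¹ = x := by group

theorem exists_cj' {g x : G} {H : Subgroup G} (h : x ∈ cj g H) : ∃ y ∈ H, x = g * y * g⁻¹ :=
  ⟨_, mem_cj' h, (cj_inv g x).symm⟩

/-- the action of a conjugate -/
theorem acts_cj {e : G → Fin k → Fin 2 → F} {r g : G} {A : Fin k → Matrix.SpecialLinearGroup (Fin 2) F} :
    ActsSL (fun v => e (r⁻¹ * v * r)) (cj r V) (cj r D) g A ↔ ActsSL e V D (r⁻¹ * g * r) A := by
  constructor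
  · rintro ⟨h1, h2⟩
    refine ⟨fun v hv i => ?_, fun d hd => ?_⟩
    · have h3 := h1 _ (mem_cj_mk (g := r) hv) i
      simp only [inv_cj] at h3
      have e1 : r⁻¹ * (g * (r * v * r⁻¹) * g⁻¹) * r = r⁻¹ * g * r * v * (r⁻¹ * g * r)⁻¹ := by group
      rwa [e1] at h3
    · have h3 := h2 _ (mem_cj_mk (g := r) hd)
      calc r⁻¹ * g * r * d = r⁻¹ * (g * (r * d * r⁻¹)) * r := by group
        _ = r⁻¹ * (r * d * r⁻¹ * g) * r := by rw [h3]
        _ = _ := by group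
  · rintro ⟨h1, h2⟩
    refine ⟨fun v hv i => ?_, fun d hd => ?_⟩
    · have h3 := h1 _ (mem_cj' hv) i
      have e1 : r⁻¹ * (g * v * g⁻¹) * r = r⁻¹ * g * r * (r⁻¹ * v * r) * (r⁻¹ * g * r)⁻¹ := by group
      change e (r⁻¹ * (g * v * g⁻¹) * r) i = _
      rw [e1]
      exact h3
    · have h3 := h2 _ (mem_cj' hd)
      calc g * d = r * (r⁻¹ * g * r * (r⁻¹ * d * r)) * r⁻¹ := by group
        _ = r * (r⁻¹ * d * r * (r⁻¹ * g * r)) * r⁻¹ := by rw [h3]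
        _ = _ := by group

theorem acts_cj' {e : G → Fin k → Fin 2 → F} {r g : G} {A : Fin k → Matrix.SpecialLinearGroup (Fin 2) F}
    (h : ActsSL e V D g A) : ActsSL (fun v => e (r⁻¹ * v * r)) (cj r V) (cj r D) (r * g * r⁻¹) A := by
  rw [acts_cj, inv_cj]
  exact h

/-- **the transported module** -/
def natKM_cj (M : NatKM F S P V D k) (r : G) : NatKM F (cj r S) (cj r P) (cj r V) (cj r D) k where
  e := fun v => M.e (r⁻¹ * v * r)
  mul v hv w hw := by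
    have e1 : r⁻¹ * (v * w) * r = r⁻¹ * v * r * (r⁻¹ * w * r) := by group
    rw [e1]
    exact M.mul _ (mem_cj' hv) _ (mem_cj' hw)
  surj x := by
    obtain ⟨v, hv, hvx⟩ := M.surj x
    exact ⟨_, mem_cj_mk hv, by rw [inv_cj]; exact hvx⟩
  ker v hv := by rw [mem_cj (H := D)]; exact M.ker _ (mem_cj' hv)
  lift A := by
    obtain ⟨g, hg, hA⟩ := M.lift A
    exact ⟨_, mem_cj_mk hg, acts_cj' hA⟩
  norm g hg h hh A hA := by
    obtain ⟨B, hB⟩ := M.norm _ (mem_cj' hg) _ (mem_cj' hh) A (fun v hv i => by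
      have h1 := hA _ (mem_cj_mk (g := r) hv) i
      rw [inv_cj] at h1
      have e1 : r⁻¹ * (h * (r * v * r⁻¹) * h⁻¹) * r = r⁻¹ * h * r * v * (r⁻¹ * h * r)⁻¹ := by group
      rwa [e1] at h1)
    refine ⟨B, fun v hv i => ?_⟩
    have h1 := hB _ (mem_cj' hv) i
    have e1 : r⁻¹ * (g * h * g⁻¹ * v * (g * h * g⁻¹)⁻¹) * r = r⁻¹ * g * r * (r⁻¹ * h * r) * (r⁻¹ * g * r)⁻¹ *
        (r⁻¹ * v * r) * (r⁻¹ * g * r * (r⁻¹ * h * r) * (r⁻¹ * g * r)⁻¹)⁻¹ := by group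
    rw [e1]
    exact h1
  perm g hg := by
    obtain ⟨σ, hσ⟩ := M.perm _ (mem_cj' hg)
    refine ⟨σ, fun v hv i => ?_⟩
    have h1 := hσ _ (mem_cj' hv) i
    have e1 : r⁻¹ * (g * v * g⁻¹) * r = r⁻¹ * g * r * (r⁻¹ * v * r) * (r⁻¹ * g * r)⁻¹ := by group
    rw [e1]
    exact h1
  trans i j := by
    obtain ⟨t, ht, h1⟩ := M.trans i j
    refine ⟨_, mem_cj_mk ht, fun v hv => ?_⟩
    have h2 := h1 _ (mem_cj' hv)
    have e1 : r⁻¹ * (r * t * r⁻¹ * v * (r * t * r⁻¹)⁻¹) * r = t * (r⁻¹ * v * r) * t⁻¹ := by group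
    rw [e1]
    exact h2
  line t ht := by
    obtain ⟨σ, hσ⟩ := M.line _ (mem_cj' ht)
    refine ⟨σ, fun v hv i => ?_⟩
    have h1 := hσ _ (mem_cj' hv) i
    have e1 : r⁻¹ * (t * v * t⁻¹) * r = r⁻¹ * t * r * (r⁻¹ * v * r) * (r⁻¹ * t * r)⁻¹ := by group
    rw [e1]
    exact h1
  unip b := by
    obtain ⟨t, ht, hA⟩ := M.unip b
    exact ⟨_, mem_cj_mk ht, acts_cj' hA⟩
  gen K hK h1 := by
    rw [cj_le_iff]
    refine M.gen _ ?_ fun h hh A hA => ?_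
    · rw [← cj_le_iff]
      exact hK
    · rw [mem_cj, inv_inv]
      exact h1 _ (mem_cj_mk hh) A (acts_cj' hA)
  off A hA ho := by
    have h1 := off_cj ho r⁻¹
    rw [cj_inv_cj] at h1
    obtain ⟨I, h2, h3⟩ := M.off (cj r⁻¹ A) (by rw [cj_le_iff, inv_inv]; exact hA) h1
    refine ⟨I, fun a ha => ?_, fun b hb => ?_⟩
    · obtain ⟨b, hb, h4⟩ := h2 (r⁻¹ * a * r) (by rw [mem_cj, inv_inv, cj_inv]; exact ha)
      exact ⟨b, hb, acts_cj.2 h4⟩
    · obtain ⟨a, ha, h4⟩ := h3 b hb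
      rw [mem_cj, inv_inv] at ha
      exact ⟨_, ha, acts_cj' h4⟩
  offM A hA ho := by
    have h1 := NO3b.Bang.OffM_cj ho r⁻¹
    rw [cj_inv_cj] at h1
    obtain ⟨I, h2, h3⟩ := M.offM (cj r⁻¹ A) (by rw [cj_le_iff, inv_inv]; exact hA) h1
    refine ⟨I, fun a ha => ?_, fun b hb => ?_⟩
    · obtain ⟨b, hb, h4⟩ := h2 (r⁻¹ * a * r) (by rw [mem_cj, inv_inv, cj_inv]; exact ha)
      exact ⟨b, hb, acts_cj.2 h4⟩
    · obtain ⟨a, ha, h4⟩ := h3 b hb
      rw [mem_cj, inv_inv] at ha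
      exact ⟨_, ha, acts_cj' h4⟩

theorem e_cj (M : NatKM F S P V D k) (r v : G) : (natKM_cj M r).e v = M.e (r⁻¹ * v * r) := rfl

theorem e_cj' (M : NatKM F S P V D k) (r v : G) : (natKM_cj M r).e (r * v * r⁻¹) = M.e v := by
  rw [e_cj, inv_cj]

theorem actsM_cj {M : NatKM F S P V D k} {r g : G} {A : Fin k → Matrix.SpecialLinearGroup (Fin 2) F} :
    ActsSL (natKM_cj M r).e (cj r V) (cj r D) g A ↔ ActsSL M.e V D (r⁻¹ * g * r) A := acts_cj

theorem nb_cj {M : NatKM F S P V D k} (h : Nb M) (r : G) : Nb (natKM_cj M r) where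
  SP' := cj_mono r h.SP'
  V2 := isElementaryAbelian_cj r h.V2
  VP' := by
    rw [← cj_normalizer]
    exact cj_mono r h.VP'
  DV := cj_mono r h.DV
  DP' := by
    rw [← cj_normalizer]
    exact cj_mono r h.DP'
  triv g hg h1 h2 v hv := by
    have h3 := h.triv _ (mem_cj' hg) (fun w hw => by
      have h4 := h1 _ (mem_cj_mk (g := r) hw)
      rw [e_cj, e_cj, inv_cj] at h4
      have e1 : r⁻¹ * (g * (r * w * r⁻¹) * g⁻¹) * r = r⁻¹ * g * r * w * (r⁻¹ * g * r)⁻¹ := by group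
      rwa [e1] at h4) (fun d hd => by
      have h4 := h2 _ (mem_cj_mk (g := r) hd)
      calc r⁻¹ * g * r * d = r⁻¹ * (g * (r * d * r⁻¹)) * r := by group
        _ = r⁻¹ * (r * d * r⁻¹ * g) * r := by rw [h4]
        _ = _ := by group) _ (mem_cj' hv)
    calc g * v = r * (r⁻¹ * g * r * (r⁻¹ * v * r)) * r⁻¹ := by group
      _ = r * (r⁻¹ * v * r * (r⁻¹ * g * r)) * r⁻¹ := by rw [h3]
      _ = _ := by group

theorem blk_cj (M : NatKM F S P V D k) (r : G) (j : Fin k) : blk (natKM_cj M r) j = cj r (blk M j) := by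
  apply le_antisymm
  · rw [blk, closure_le]
    rintro _ ⟨c, hc, A, hA, v, hv, rfl⟩
    rw [SetLike.mem_coe, mem_cj]
    have h1 := mem_blk (M := M) (mem_cj' hc) (actsM_cj.1 hA) (mem_cj' hv)
    have e1 : r⁻¹ * (c * v * c⁻¹ * v⁻¹) * r =
        r⁻¹ * c * r * (r⁻¹ * v * r) * (r⁻¹ * c * r)⁻¹ * (r⁻¹ * v * r)⁻¹ := by group
    rw [e1]
    exact h1
  · rw [cj_le_iff, blk, closure_le]
    rintro _ ⟨c, hc, A, hA, v, hv, rfl⟩
    rw [SetLike.mem_coe, mem_cj, inv_inv]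
    have h1 := mem_blk (M := natKM_cj M r) (mem_cj_mk hc) (acts_cj' (r := r) hA) (mem_cj_mk hv)
    have e1 : r * (c * v * c⁻¹ * v⁻¹) * r⁻¹ =
        r * c * r⁻¹ * (r * v * r⁻¹) * (r * c * r⁻¹)⁻¹ * (r * v * r⁻¹)⁻¹ := by group
    rw [e1]
    exact h1

theorem DD_cj (M : NatKM F S P V D k) (r : G) (j : Fin k) : DD (natKM_cj M r) j = cj r (DD M j) := by
  rw [DD, DD, blk_cj, cj_inf]

theorem YY_cj {M : NatKM F S P V D k} (h : Nb M) (r : G) (j : Fin k) : YY (nb_cj h r) j = cj r (YY h j) := by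
  ext x
  rw [mem_YY, blk_cj, mem_cj, mem_cj, mem_YY, e_cj]

theorem cd_cj {M : NatKM F S P V D k} {j : Fin k} {l g : F → G} (C : Cd M j l g) (r : G) :
    Cd (natKM_cj M r) j (fun s => r * l s * r⁻¹) (fun s => r * g s * r⁻¹) where
  lm s := by rw [blk_cj]; exact mem_cj_mk (C.lm s)
  le s := by rw [e_cj']; exact C.le s
  la s t := by rw [C.la]; group
  gm x := by rw [blk_cj]; exact mem_cj_mk (C.gm x)
  gD x := mem_cj_mk (C.gD x)
  ga x y := by rw [C.ga]; group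
  gs d hd hdD := by
    rw [blk_cj] at hd
    obtain ⟨x, hx⟩ := C.gs _ (mem_cj' hd) (mem_cj' hdD)
    exact ⟨x, by rw [hx, cj_inv]⟩
  cm c hc β hβ v hv := by
    have h1 := C.cm _ (mem_cj' hc) β (actsM_cj.1 hβ) _ (mem_cj' hv)
    rw [e_cj]
    calc c * v * c⁻¹ * v⁻¹ = r * (r⁻¹ * c * r * (r⁻¹ * v * r) * (r⁻¹ * c * r)⁻¹ * (r⁻¹ * v * r)⁻¹) * r⁻¹ := by
          group
      _ = _ := by rw [h1]; group

theorem LL_cj {M : NatKM F S P V D k} (h : Nb M) [CharP F 2] {j : Fin k} {l g : F → G} (C : Cd M j l g) (r : G) :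
    (cd_cj C r).LL (nb_cj h r) = cj r (C.LL h) := by
  ext x
  rw [Cd.mem_LL, mem_cj, Cd.mem_LL]
  constructor
  · rintro ⟨s, hs⟩
    exact ⟨s, by rw [← hs, inv_cj]⟩
  · rintro ⟨s, hs⟩
    exact ⟨s, by rw [hs, cj_inv]⟩

theorem one_cj {M : NatKM F S P V D k} {r : G} (hr : r ∈ normalizer (U : Set G)) {A : Subgroup G} {j : Fin k}
    (O : One M U A j) : One (natKM_cj M r) U (cj r A) j where
  act a ha := by
    obtain ⟨β, hβ⟩ := O.act _ (mem_cj' ha)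
    exact ⟨β, actsM_cj.2 hβ⟩
  all β := by
    obtain ⟨a, ha, hβ⟩ := O.all β
    exact ⟨_, mem_cj_mk ha, acts_cj' hβ⟩
  full u hu := by
    have hu' : r⁻¹ * u * r ∈ U := by
      have := (mem_normalizer_iff.1 (inv_mem hr) u).1 hu
      rwa [inv_inv] at this
    obtain ⟨v, hv, h1, c, hc, h2, h3⟩ := O.full _ hu'
    refine ⟨_, mem_cj_mk hv, fun l hl => ?_, r * c * r⁻¹, (mem_normalizer_iff.1 hr c).1 hc, fun a ha => ?_, ?_⟩
    · rw [e_cj']
      exact h1 l hl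
    · have h4 := h2 _ (mem_cj' ha)
      calc a * (r * c * r⁻¹) = r * (r⁻¹ * a * r * c) * r⁻¹ := by group
        _ = r * (c * (r⁻¹ * a * r)) * r⁻¹ := by rw [h4]
        _ = _ := by group
    · calc u = r * (r⁻¹ * u * r) * r⁻¹ := (cj_inv r u).symm
        _ = r * (v * c) * r⁻¹ := by rw [h3]
        _ = _ := by group
  cen v hv := by
    rw [e_cj, ← O.cen _ (mem_cj' hv)]
    constructor
    · intro h1 a ha
      have h4 := h1 _ (mem_cj_mk (g := r) ha)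
      calc a * (r⁻¹ * v * r) = r⁻¹ * (r * a * r⁻¹ * v) * r := by group
        _ = r⁻¹ * (v * (r * a * r⁻¹)) * r := by rw [h4]
        _ = _ := by group
    · intro h1 a ha
      have h4 := h1 _ (mem_cj' ha)
      calc a * v = r * (r⁻¹ * a * r * (r⁻¹ * v * r)) * r⁻¹ := by group
        _ = r * (r⁻¹ * v * r * (r⁻¹ * a * r)) * r⁻¹ := by rw [h4]
        _ = _ := by group

/-- **comparison with a conjugate block** -/
theorem cmp_cj [Finite G] {F' : Type} [Field F'] [Finite F] [Finite F'] [CharP F 2] [CharP F' 2]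
    {S' P' V' D' : Subgroup G} {k' : ℕ} {M : NatKM F S P V D k} {M' : NatKM F' S' P' V' D' k'} (h : Nb M)
    (h' : Nb M') {A : Subgroup G} {j : Fin k} {j' : Fin k'} {l g : F → G} {l' g' : F' → G} (C : Cd M j l g)
    (C' : Cd M' j' l' g') {r : G} (hr : r ∈ normalizer (U : Set G)) (O : One M U A j) (O' : One M' U (cj r A) j')
    (hAP : A ≤ P) (hAP' : cj r A ≤ P') (hVU : V ≤ U) (hVU' : V' ≤ U) (hF : 2 < Nat.card F) :
    Nat.card F = Nat.card F' ∧ cj r (YY h j) = YY h' j' ∧ Nat.card (DD M j) = Nat.card (DD M' j') ∧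
      (cj r (DD M j) = DD M' j' ∨
        (Nat.card (DD M j) = Nat.card F ∧ DD M' j' = cj r (C.LL h) ∧ C'.LL h' = cj r (DD M j))) := by
  have hV : cj r V ≤ U := by
    have := cj_mono r hVU
    rwa [cj_eq_of_mem_normalizer hr] at this
  have h1 := compare (nb_cj h r) h' (cd_cj C r) C' (one_cj hr O) O' (cj_mono r hAP) hAP' hV hVU' hF
  rwa [YY_cj, DD_cj, card_cj, LL_cj] at h1

end Cfsg.Agent.Omega.NOThreeL.RRed.Blk.NatCj
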