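import Cfsg.Agent.Omega.NOThreeL.RRed.Blk.SplitNat
import Cfsg.Agent.Omega.NOThreeL.RRed.Blk.Def
import Cfsg.Agent.Omega.NOThreeL.VF.Base
import Cfsg.Agent.Omega.NOThreeL.RTreeA

/-!
# NO-3L, box R, BLOCK THEOREM (#18552 (b), #23943): `zl S L = N × C_U(O²(P))`

`P ∈ P*(S)`, `P ≤ L`, `U = zl S L`, no subgroup of `L` over-offends on `U`; `A ≤ S` is an offender on `U` with
`C_A(V_P) ≤ C(U)`, `A ≰ C(V_P)` (`VF.one`).

* `Sp S L P U N A` : the conclusion;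
* `nat` : natural `SL₂(F)`-modules, `V_P = N × cv S P` (`SplitBy`).
-/

set_option autoImplicit false
set_option linter.unusedSectionVars false

namespace Cfsg.Agent.Omega.NOThreeL.RRed.Blk.Split

open Subgroup Cfsg Cfsg.Agent.ZN Cfsg.Agent.Omega.MinPar Cfsg.Agent.Omega.FFThm
open Cfsg.Agent.Omega.FrameFF (cv)
open Cfsg.Agent.Omega.NOThreeL.VF.Q (Sit RootM k_def cj_eq k_eq_one k_one k_mul_left k_cj)
open Cfsg.Agent.Omega.NOThreeL.RRed.Blk.SplitAbs
open Cfsg.Agent.Omega.NOThreeL.RRed.Blk.SplitAbs.Ns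
open Cfsg.Agent.Omega.NOThreeL.RRed.Blk.SplitNat (SL upd upd_self upd_ne smul_eq)
open Cfsg.Agent.Omega.NOThreeL.RTreeA (SplitBy)
open Cfsg.Agent.Lib.SL2Mat
open Cfsg.Agent.Omega.NatPair (ap ap_one)
open Cfsg.Agent.MinSimple.VModule (oddGen oddGen_le le_normalizer_oddGen oddGen_le_of_sup zc_le_zl)

universe u

variable {G : Type u} [Group G]

/-- The normal closure of `A` in `P`. -/
def ncl (P A : Subgroup G) : Subgroup G := closure {x | ∃ p ∈ P, ∃ a ∈ A, x = p * a * p⁻¹}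

theorem mem_ncl {P A : Subgroup G} {p a : G} (hp : p ∈ P) (ha : a ∈ A) : p * a * p⁻¹ ∈ ncl P A :=
  subset_closure ⟨p, hp, a, ha, rfl⟩

theorem le_ncl {P A : Subgroup G} : A ≤ ncl P A := fun a ha => by
  have := mem_ncl (P.one_mem) ha
  simpa using this

theorem ncl_le {P A : Subgroup G} (h : A ≤ P) : ncl P A ≤ P := by
  rw [ncl, closure_le]
  rintro _ ⟨p, hp, a, ha, rfl⟩
  exact P.mul_mem (P.mul_mem hp (h ha)) (P.inv_mem hp)

theorem norm_ncl {P A : Subgroup G} : P ≤ normalizer (ncl P A : Set G) := by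
  have key : ∀ p ∈ P, ∀ x ∈ ncl P A, p * x * p⁻¹ ∈ ncl P A := by
    intro p hp x hx
    unfold ncl at hx
    induction hx using closure_induction with
    | mem x hx =>
      obtain ⟨q, hq, a, ha, rfl⟩ := hx
      have e : p * (q * a * q⁻¹) * p⁻¹ = (p * q) * a * (p * q)⁻¹ := by group
      rw [e]
      exact mem_ncl (P.mul_mem hp hq) ha
    | one => rw [mul_one, mul_inv_cancel]; exact one_mem _
    | mul x y _ _ hx hy =>
      have e : p * (x * y) * p⁻¹ = (p * x * p⁻¹) * (p * y * p⁻¹) := by group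
      rw [e]; exact mul_mem hx hy
    | inv x _ hx =>
      have e : p * x⁻¹ * p⁻¹ = (p * x * p⁻¹)⁻¹ := by group
      rw [e]; exact inv_mem hx
  intro p hp
  rw [mem_normalizer_iff]
  intro x
  refine ⟨key p hp x, fun hx => ?_⟩
  have h1 := key p⁻¹ (P.inv_mem hp) _ hx
  have e : p⁻¹ * (p * x * p⁻¹) * p⁻¹⁻¹ = x := by group
  rwa [e] at h1

/-- `O²(P) ≤ ⟨A^P⟩` for `A ≤ S`, `A ≰ O₂(P)`. -/
theorem oddGen_le_ncl [Finite G] {S : Sylow 2 G} {P A : Subgroup G}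
    (hP : MinSimple.MinParabolic.IsMinPar (S : Subgroup G) P) (hA : A ≤ (S : Subgroup G)) (hne : ¬ A ≤ o2 P) :
    oddGen P ≤ ncl P A := by
  rcases hP.sup_eq_or_inf_le S.isPGroup' (MinSimple.Basic.not_dvd_relIndex S hP.le) (ncl_le (hA.trans hP.le))
    (norm_ncl) with h | h
  · exact oddGen_le_of_sup norm_ncl h.ge hP.le (ncl_le (hA.trans hP.le)) S.isPGroup'
  · exact absurd ((le_inf hA le_ncl).trans h) hne

/-- **`U = N × C_U(O²(P))`**. -/
structure Sp (L P U N A : Subgroup G) : Prop where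
  NU : N ≤ U
  PN : P ≤ normalizer (N : Set G)
  sup : N ⊔ (U ⊓ centralizer (oddGen P : Set G)) = U
  inf : N ⊓ centralizer (oddGen P : Set G) = ⊥
  /-- `[U, ⟨A^P⟩] ≤ N` -/
  kN : ∀ x ∈ ncl P A, ∀ w ∈ U, x * w * x⁻¹ * w⁻¹ ∈ N
  cent : ncl P A ≤ centralizer ((U ⊓ centralizer (oddGen P : Set G) : Subgroup G) : Set G)
  odd : oddGen P ≤ ncl P A
  /-- LEMMA D -/
  lemD : ∀ d ∈ L, (∀ v ∈ N, d * v = v * d) → (∀ w ∈ U, d * w * d⁻¹ * w⁻¹ ∈ N) → d ∈ centralizer (U : Set G)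

theorem sp_of {Y : Type*} [AddCommGroup Y] {Q : Type*} [Group Q] [DistribMulAction Q Y] {n : ℕ}
    {Y₀ : AddSubgroup Y} {L P U N A : Subgroup G} {e : G → Fin n → Y} (h : Ns Q Y₀ P N n e) (s : Sit L U N)
    (PL : P ≤ L)
    (hmain : ∀ w ∈ U, ∃ v ∈ N, ∀ (d : G) (B : Fin n → Q), Cl L U N e d B → VF.Q.k d (v⁻¹ * w) = 1)
    (hD : ∀ d ∈ L, (∀ v ∈ N, VF.Q.k d v = 1) → (∀ w ∈ U, VF.Q.k d w ∈ N) → ∀ w ∈ U, VF.Q.k d w = 1)
    (hA : A ≤ P) (hkA : ∀ a ∈ A, ∀ w ∈ U, VF.Q.k a w ∈ N) (hact : ∀ a ∈ A, ∃ B : Fin n → Q, Act e N a B)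
    (hodd : oddGen P ≤ ncl P A) (hinf : N ⊓ centralizer (oddGen P : Set G) = ⊥) : Sp L P U N A := by
  have hcl : ∀ p ∈ P, ∀ a ∈ A, ∃ B : Fin n → Q, Cl L U N e (p * a * p⁻¹) B := by
    intro p hp a ha
    obtain ⟨B, hB⟩ := hact a ha
    obtain ⟨B', hB'⟩ := h.norm p hp a (hA ha) B hB
    exact ⟨B', PL (P.mul_mem (P.mul_mem hp (hA ha)) (P.inv_mem hp)), kN_cj h.nor s PL hp (hkA a ha), hB'⟩
  have hcent : ∀ w ∈ U, ∃ v ∈ N, v⁻¹ * w ∈ centralizer (ncl P A : Set G) := by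
    intro w hw
    obtain ⟨v, hv, h1⟩ := hmain w hw
    refine ⟨v, hv, ?_⟩
    rw [ncl, centralizer_closure, mem_centralizer_iff]
    rintro _ ⟨p, hp, a, ha, rfl⟩
    obtain ⟨B, hB⟩ := hcl p hp a ha
    exact k_eq_one.1 (h1 _ B hB)
  have hkN : ∀ x ∈ ncl P A, ∀ w ∈ U, VF.Q.k x w ∈ N := by
    intro x hx w hw
    obtain ⟨v, hv, h1⟩ := hcent w hw
    have hxP : x ∈ P := ncl_le hA hx
    have e1 : w = v * (v⁻¹ * w) := by group
    have h2 : VF.Q.k x (v⁻¹ * w) = 1 := k_eq_one.2 (mem_centralizer_iff.1 h1 x hx)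
    rw [e1, s.k_mul_right (PL hxP) (s.VW hv) (U.mul_mem (U.inv_mem (s.VW hv)) hw), h2, mul_one, k_def]
    exact N.mul_mem (h.cj hxP hv) (N.inv_mem hv)
  refine ⟨s.VW, h.nor, ?_, hinf, hkN, ?_, hodd, ?_⟩
  · refine le_antisymm (sup_le s.VW inf_le_left) fun w hw => ?_
    obtain ⟨v, hv, h1⟩ := hcent w hw
    have e1 : w = v * (v⁻¹ * w) := by group
    rw [e1]
    exact mul_mem (mem_sup_left hv) (mem_sup_right (mem_inf.2
      ⟨U.mul_mem (U.inv_mem (s.VW hv)) hw, centralizer_le hodd h1⟩))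
  · rw [le_centralizer_iff]
    intro c hc
    obtain ⟨hc1, hc2⟩ := mem_inf.1 hc
    obtain ⟨v, hv, h1⟩ := hcent c hc1
    have h3 : v ∈ centralizer (oddGen P : Set G) := by
      have e1 : v = c * (v⁻¹ * c)⁻¹ := by group
      rw [e1]
      exact mul_mem hc2 (inv_mem (centralizer_le hodd h1))
    have h4 : v = 1 := by
      have : v ∈ N ⊓ centralizer (oddGen P : Set G) := mem_inf.2 ⟨hv, h3⟩
      rwa [hinf, mem_bot] at this
    rw [h4, inv_one, one_mul] at h1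
    exact h1
  · intro d hd h1 h2
    rw [mem_centralizer_iff]
    intro w hw
    exact (k_eq_one.1 (hD d hd (fun v hv => k_eq_one.2 (h1 v hv)) h2 w hw)).symm

attribute [local instance] SplitNat.nat

/-- `NatK` on a complement. -/
theorem ns_of {F : Type} [Field F] {T P V D V₀ : Subgroup G} {k : ℕ} (M : NatK F T P V D k)
    (hVV : V₀ ≤ V) (hn : P ≤ normalizer (V₀ : Set G)) (hi : V₀ ⊓ D = ⊥) (hs : V ≤ V₀ ⊔ D) (DV : D ≤ V)
    (hc : ∀ x ∈ V, ∀ y ∈ V, x * y = y * x) (hPV : P ≤ normalizer (V : Set G)) (TP : T ≤ P) :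
    Ns (SL F) (⊤ : AddSubgroup (Fin 2 → F)) P V₀ k M.e := by
  have hdec : ∀ v ∈ V, ∃ x ∈ V₀, ∃ d ∈ D, v = x * d := by
    intro v hv
    refine mem_sup_of (fun x hx => ?_) (hs hv)
    refine centralizer_le_normalizer _ (mem_centralizer_iff.2 fun y hy => hc y (DV hy) x (hVV hx))
  have hcjV : ∀ g ∈ P, ∀ v ∈ V, g * v * g⁻¹ ∈ V := fun g hg v hv => (mem_normalizer_iff.1 (hPV hg) v).1 hv
  have hcj0 : ∀ g ∈ P, ∀ v ∈ V₀, g * v * g⁻¹ ∈ V₀ := fun g hg v hv => (mem_normalizer_iff.1 (hn hg) v).1 hv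
  have eD : ∀ d ∈ D, M.e d = 0 := fun d hd => (M.ker d (DV hd)).2 hd
  -- the coordinates of the conjugates of `D` vanish
  have eD' : ∀ g ∈ P, ∀ d ∈ D, M.e (g * d * g⁻¹) = 0 := by
    intro g hg d hd
    obtain ⟨σ, hσ⟩ := M.perm g hg
    funext i
    have h1 := (hσ d (DV hd) (σ.symm i)).2 (by rw [eD d hd]; rfl)
    rwa [Equiv.apply_symm_apply] at h1
  have hext : ∀ g ∈ P, ∀ A : Fin k → SL F, Act M.e V₀ g A →
      ∀ v ∈ V, ∀ i, M.e (g * v * g⁻¹) i = ap (A i) (M.e v i) := by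
    intro g hg A hA v hv i
    obtain ⟨x, hx, d, hd, rfl⟩ := hdec v hv
    have e1 : g * (x * d) * g⁻¹ = (g * x * g⁻¹) * (g * d * g⁻¹) := by group
    rw [e1, M.mul _ (hcjV g hg _ (hVV hx)) _ (hcjV g hg _ (DV hd)), eD' g hg d hd, add_zero,
      M.mul _ (hVV hx) _ (DV hd), eD d hd, add_zero]
    exact hA x hx i
  refine
  { ne := ⟨![1, 0], trivial, fun h0 => one_ne_zero (congrFun h0 0)⟩
    mem := fun _ _ _ => trivial
    mul := fun v hv w hw => M.mul v (hVV hv) w (hVV hw)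
    surj := fun x _ => ?_
    inj := fun v hv h0 => ?_
    nor := hn
    lift := fun A => ?_
    norm := fun g hg x hx A hA => ?_
    perm := fun g hg => ?_
    trans := fun i j => ?_ }
  · obtain ⟨v, hv, rfl⟩ := M.surj x
    obtain ⟨y, hy, d, hd, rfl⟩ := hdec v hv
    exact ⟨y, hy, by rw [M.mul _ (hVV hy) _ (DV hd), eD d hd, add_zero]⟩
  · have h1 : v ∈ V₀ ⊓ D := mem_inf.2 ⟨hv, (M.ker v (hVV hv)).1 h0⟩
    rwa [hi, mem_bot] at h1
  · obtain ⟨g, hg, h1, -⟩ := M.lift A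
    exact ⟨g, hg, fun v hv i => h1 v (hVV hv) i⟩
  · obtain ⟨B, hB⟩ := M.norm g hg x hx A (hext x hx A hA)
    exact ⟨B, fun v hv i => hB v (hVV hv) i⟩
  · obtain ⟨σ, hσ⟩ := M.perm g hg
    exact ⟨σ, fun v hv i => hσ v (hVV hv) i⟩
  · obtain ⟨t, ht, h1⟩ := M.trans i j
    exact ⟨t, TP ht, fun v hv => h1 v (hVV hv)⟩

/-- **BLOCK THEOREM, `U = N × C_U(O²(P))`, natural modules.** -/
theorem nat [Finite G] (hc : IsCharacteristicTwoType G) {S : Sylow 2 G} {L P A V₀ : Subgroup G}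
    (hL : IsLoc (S : Subgroup G) L) (hP : IsParS (S : Subgroup G) P) (hPL : P ≤ L)
    (no : NoOverM (zl (S : Subgroup G) L) L) (noP : NoOverM (zl (S : Subgroup G) P) P)
    (hA : A ≤ (S : Subgroup G)) (off : OffM (zl (S : Subgroup G) L) A)
    (hne : ¬ A ≤ centralizer (zl (S : Subgroup G) P : Set G))
    (hAC : A ⊓ centralizer (zl (S : Subgroup G) P : Set G) ≤ centralizer (zl (S : Subgroup G) L : Set G))
    {F : Type} [Field F] [Finite F] [CharP F 2] {k : ℕ}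
    (M : NatKM F (S : Subgroup G) P (zl (S : Subgroup G) P) (cv (S : Subgroup G) P) k)
    (hV : SplitBy (S : Subgroup G) P (cv (S : Subgroup G) P) V₀) :
    Sp L P (zl (S : Subgroup G) L) V₀ A := by
  classical
  have hSP : (S : Subgroup G) ≤ P := hP.le
  have hAP : A ≤ P := hA.trans hSP
  have hVW : zl (S : Subgroup G) P ≤ zl (S : Subgroup G) L := MinSimple.VModule.zl_le (zc_le_zl _ _) (hPL.trans (le_normalizer_zl _ _))
  have hE := FFThm.elem_zl hc S hL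
  have ab : ∀ x ∈ zl (S : Subgroup G) L, ∀ y ∈ zl (S : Subgroup G) L, x * y = y * x :=
    fun x hx y hy => congrArg Subtype.val (hE.1.is_comm.comm ⟨x, hx⟩ ⟨y, hy⟩)
  have sq : ∀ x ∈ zl (S : Subgroup G) L, x * x = 1 := fun x hx => by rw [← pow_two]; exact hE.2 x hx
  have s0 : Sit L (zl (S : Subgroup G) L) (zl (S : Subgroup G) P) := ⟨ab, sq, hVW, le_normalizer_zl _ _⟩
  obtain ⟨hV1, hV2, hV3, hV4⟩ := hV
  have s : Sit L (zl (S : Subgroup G) L) V₀ := ⟨ab, sq, hV1.trans hVW, le_normalizer_zl _ _⟩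
  have DV : cv (S : Subgroup G) P ≤ zl (S : Subgroup G) P := inf_le_left
  have h := ns_of M.toNatK hV1 hV2 hV3 hV4 DV (fun x hx y hy => ab x (hVW hx) y (hVW hy))
    (le_normalizer_zl _ _) hSP
  have offV := s0.offM_of off hne hAC
  have hsplit : ∀ w ∈ zl (S : Subgroup G) L, ∃ v ∈ V₀, ∀ a ∈ A, (∀ d ∈ cv (S : Subgroup G) P, a * d = d * a) →
      VF.Q.k a (v⁻¹ * w) = 1 := by
    intro w hw
    obtain ⟨v, hv, h1⟩ := s0.exists_split off hAC (noP A hAP offV.toElemM) hw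
    have h2 : V₀ ≤ normalizer (cv (S : Subgroup G) P : Set G) := fun x hx =>
      centralizer_le_normalizer _ (mem_centralizer_iff.2 fun y hy => ab y (hVW (DV hy)) x (hVW (hV1 hx)))
    obtain ⟨x, hx, d, hd, rfl⟩ := mem_sup_of h2 (hV4 hv)
    refine ⟨x, hx, fun a ha had => k_eq_one.2 ?_⟩
    have e1 : x⁻¹ * w = d * ((x * d)⁻¹ * w) := by group
    have h3 := mem_centralizer_iff.1 h1 a ha
    have h4 := had d hd
    rw [e1]
    calc a * (d * ((x * d)⁻¹ * w)) = (a * d) * ((x * d)⁻¹ * w) := by group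
      _ = d * (a * ((x * d)⁻¹ * w)) := by rw [h4]; group
      _ = d * ((x * d)⁻¹ * w) * a := by rw [h3]; group
  obtain ⟨I, hI1, hI2⟩ := M.offM A hA offV
  have hAD : ∀ a ∈ A, ∀ d ∈ cv (S : Subgroup G) P, a * d = d * a := fun a ha => by
    obtain ⟨b, -, hb⟩ := hI1 a ha
    exact hb.2
  have hkA : ∀ a ∈ A, ∀ w ∈ zl (S : Subgroup G) L, VF.Q.k a w ∈ V₀ := by
    intro a ha w hw
    obtain ⟨v, hv, h1⟩ := hsplit w hw
    have e1 : w = v * (v⁻¹ * w) := by group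
    rw [e1, s.k_mul_right (hPL (hAP ha)) (s.VW hv) (mul_mem (inv_mem (s.VW hv)) hw), h1 a ha (hAD a ha), mul_one,
      k_def]
    exact mul_mem (h.cj (hAP ha) hv) (inv_mem hv)
  obtain ⟨i₀, hi₀⟩ : I.Nonempty := by
    by_contra hcon
    rw [Set.not_nonempty_iff_eq_empty] at hcon
    subst hcon
    apply hne
    intro x hx
    obtain ⟨b, hb, hact⟩ := hI1 x hx
    -- `x` acts trivially on the coordinates and centralises `D`
    rw [mem_centralizer_iff]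
    intro v hv
    have h2 : V₀ ≤ normalizer (cv (S : Subgroup G) P : Set G) := fun x hx =>
      centralizer_le_normalizer _ (mem_centralizer_iff.2 fun y hy => ab y (hVW (DV hy)) x (hVW (hV1 hx)))
    obtain ⟨y, hy, d, hd, rfl⟩ := mem_sup_of h2 (hV4 hv)
    have h3 : VF.Q.k x y = 1 := by
      refine h.k_one_of hy (h.cj (hAP hx) hy) (funext fun i => ?_)
      rw [hact.1 y (hV1 hy) i]
      beta_reduce
      rw [hb i (Set.notMem_empty i), up_zero, ap_one]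
    have h4 := k_eq_one.1 h3
    have h5 := hAD x hx d hd
    calc y * d * x = y * (x * d) := by rw [h5]; group
      _ = x * (y * d) := by rw [← mul_assoc, ← h4]; group
  have hex : ∀ b : F, ∃ x ∈ A, ActsSL M.e (zl (S : Subgroup G) P) (cv (S : Subgroup G) P) x
      fun i => up ((Pi.single i₀ b : Fin k → F) i) := by
    intro b
    refine hI2 (Pi.single i₀ b) fun i hi => ?_
    have hne' : i ≠ i₀ := fun h => hi (by rw [h]; exact hi₀)
    rw [Pi.single_eq_of_ne hne']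
  choose a haA haact using hex
  have ha : ∀ b, Act M.e V₀ (a b) (upd i₀ (up b)) := by
    intro b v hv i
    rw [(haact b).1 v (hV1 hv) i]
    beta_reduce
    by_cases hi : i = i₀
    · subst hi
      rw [upd_self, Pi.single_eq_same]; rfl
    · rw [upd_ne hi, Pi.single_eq_of_ne hi, up_zero, one_smul, ap_one]
  have haP : ∀ b, a b ∈ P := fun b => hAP (haA b)
  have haW : ∀ b, ∀ w ∈ zl (S : Subgroup G) L, VF.Q.k (a b) w ∈ V₀ := fun b => hkA _ (haA b)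
  obtain ⟨ω, hω, hωA⟩ := h.lift (upd i₀ (wm (1 : F) one_ne_zero))
  have R := SplitNat.rootM h s hPL haP haW ha hω hωA
  refine sp_of h s hPL (fun w hw => ?_) (fun d hd h1 h2 w hw => ?_) hAP hkA (fun x hx => ?_) ?_ ?_
  · exact SplitNat.main h s hPL no haP haW ha (fun w hw => by
      obtain ⟨v, hv, h1⟩ := hsplit w hw
      exact ⟨v, hv, fun b => h1 _ (haA b) (hAD _ (haA b))⟩) hw
  · exact lemD h.nor s hPL no Finite.one_lt_card R (fun u hu h0 => SplitNat.ker_of h hu h0) hd h1 h2 hw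
  · obtain ⟨b, -, hb⟩ := hI1 x hx
    exact ⟨fun i => up (b i), fun v hv i => hb.1 v (hV1 hv) i⟩
  · refine oddGen_le_ncl hP.toIsMinPar hA fun h1 => hne ?_
    rw [← hP.inf_centralizer S hc] at h1
    exact h1.trans inf_le_right
  · have h1 : V₀ ⊓ centralizer (oddGen P : Set G) ≤ V₀ ⊓ cv (S : Subgroup G) P :=
      le_inf inf_le_left (le_inf (inf_le_left.trans hV1) inf_le_right)
    rw [hV3] at h1
    exact le_bot_iff.1 h1

end Cfsg.Agent.Omega.NOThreeL.RRed.Blk.Split
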