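import Cfsg.Agent.Omega.NOThreeL.VF.Split

/-!
# The splitting `W = N × C_W(O²(P))`, abstract form

`N ≤ W`, `P ≤ M₀ ≤ N_G(W)`, `P ≤ N_G(N)`, `N` has coordinates in `Y₀^k`, `Y₀ ≤ Y`, `Q` acts on `Y`; the elements of
`Q^k` are induced by `P` (`Ns`).

* `Ns.lemD` : LEMMA D for all conjugates;
* `Ns.main` : if no subgroup of `M₀` over-offends on `W`, there is a root group (`RootM`), and a generating set `X` of
  `Q` with: every `w ∈ W` has `v ∈ N` such that every `r ∈ X` (acting on the factor `i₀`) is induced by an `h ∈ P`,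
  `[W, h] ≤ N`, `[h, v⁻¹ w] = 1`; then every `w ∈ W` has `v ∈ N` such that `v⁻¹ w` is centralised by all `d ∈ M₀` with
  `[W, d] ≤ N` which act on `N` as an element of `Q^k`.
-/

set_option autoImplicit false
set_option linter.unusedSectionVars false

namespace Cfsg.Agent.Omega.NOThreeL.RRed.Blk.SplitAbs

open Subgroup Cfsg Cfsg.Agent.Omega.FFThm
open Cfsg.Agent.Omega.NOThreeL.VF.Q (Sit RootM k_def cj_eq k_eq_one k_one k_mul_left k_cj)

universe u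

variable {G : Type u} [Group G] {Y : Type*} [AddCommGroup Y] {Q : Type*} [Group Q] [DistribMulAction Q Y]
variable {n : ℕ}

/-- `g` acts on the coordinates of `N` as `B ∈ Q^n`. -/
def Act (e : G → Fin n → Y) (N : Subgroup G) (g : G) (B : Fin n → Q) : Prop :=
  ∀ v ∈ N, ∀ i, e (g * v * g⁻¹) i = B i • e v i

/-- `N ≅ Y₀^n`, `Q^n` is induced by `P`. -/
structure Ns (Q : Type*) [Group Q] [DistribMulAction Q Y] (Y₀ : AddSubgroup Y) (P N : Subgroup G) (n : ℕ)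
    (e : G → Fin n → Y) : Prop where
  ne : ∃ y ∈ Y₀, y ≠ 0
  mem : ∀ v ∈ N, ∀ i, e v i ∈ Y₀
  mul : ∀ v ∈ N, ∀ w ∈ N, e (v * w) = e v + e w
  surj : ∀ x : Fin n → Y, (∀ i, x i ∈ Y₀) → ∃ v ∈ N, e v = x
  inj : ∀ v ∈ N, e v = 0 → v = 1
  nor : P ≤ normalizer (N : Set G)
  lift : ∀ A : Fin n → Q, ∃ g ∈ P, Act e N g A
  norm : ∀ g ∈ P, ∀ h ∈ P, ∀ A : Fin n → Q, Act e N h A → ∃ B : Fin n → Q, Act e N (g * h * g⁻¹) B
  perm : ∀ g ∈ P, ∃ σ : Equiv.Perm (Fin n), ∀ v ∈ N, ∀ i, e (g * v * g⁻¹) (σ i) = 0 ↔ e v i = 0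
  trans : ∀ i j, ∃ t ∈ P, ∀ v ∈ N, e (t * v * t⁻¹) j = 0 ↔ e v i = 0

section act

variable {e : G → Fin n → Y} {N : Subgroup G}

theorem act_one : Act e N 1 (1 : Fin n → Q) := by
  intro v _ i
  rw [one_mul, inv_one, mul_one, Pi.one_apply, one_smul]

theorem act_mul {g h : G} (hN : ∀ v ∈ N, h * v * h⁻¹ ∈ N) {A B : Fin n → Q} (hA : Act e N g A)
    (hB : Act e N h B) : Act e N (g * h) (A * B) := by
  intro v hv i
  have e1 : g * h * v * (g * h)⁻¹ = g * (h * v * h⁻¹) * g⁻¹ := by group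
  rw [e1, hA _ (hN v hv), hB v hv, Pi.mul_apply, mul_smul]

theorem act_inv {g : G} (hN : ∀ v ∈ N, g⁻¹ * v * g ∈ N) {A : Fin n → Q} (hA : Act e N g A) :
    Act e N g⁻¹ A⁻¹ := by
  intro v hv i
  rw [inv_inv]
  have h1 := hA _ (hN v hv) i
  have e1 : g * (g⁻¹ * v * g) * g⁻¹ = v := by group
  rw [e1] at h1
  rw [h1, Pi.inv_apply, inv_smul_smul]

end act

namespace Ns

variable {Y₀ : AddSubgroup Y} {P N : Subgroup G} {e : G → Fin n → Y} (h : Ns Q Y₀ P N n e)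
include h

theorem e_one : e 1 = 0 := by
  have := h.mul 1 N.one_mem 1 N.one_mem
  rw [mul_one] at this
  exact left_eq_add.1 this

theorem e_inv {v : G} (hv : v ∈ N) : e v⁻¹ = - e v := by
  have := h.mul v⁻¹ (N.inv_mem hv) v hv
  rw [inv_mul_cancel, h.e_one] at this
  exact eq_neg_of_add_eq_zero_left this.symm

theorem e_inj {v w : G} (hv : v ∈ N) (hw : w ∈ N) (he : e v = e w) : v = w := by
  have h1 : e (v * w⁻¹) = 0 := by
    rw [h.mul v hv _ (N.inv_mem hw), h.e_inv hw, he, add_neg_cancel]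
  exact mul_inv_eq_one.1 (h.inj _ (N.mul_mem hv (N.inv_mem hw)) h1)

theorem cj {g v : G} (hg : g ∈ P) (hv : v ∈ N) : g * v * g⁻¹ ∈ N := (mem_normalizer_iff.1 (h.nor hg) v).1 hv

theorem cj' {g v : G} (hg : g ∈ P) (hv : v ∈ N) : g⁻¹ * v * g ∈ N := by
  have := h.cj (P.inv_mem hg) hv
  rwa [inv_inv] at this

omit h in
theorem cj_of_k {g v : G} (hk : VF.Q.k g v ∈ N) (hv : v ∈ N) : g * v * g⁻¹ ∈ N := by
  rw [cj_eq]; exact N.mul_mem hk hv

/-- the coordinates of `[g, v]` -/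
theorem e_k {g v : G} (hg : g * v * g⁻¹ ∈ N) (hv : v ∈ N) {A : Fin n → Q} (hA : Act e N g A) (i : Fin n) :
    e (VF.Q.k g v) i = A i • e v i - e v i := by
  rw [k_def, h.mul _ hg _ (N.inv_mem hv), Pi.add_apply, hA v hv i, h.e_inv hv, Pi.neg_apply, sub_eq_add_neg]

theorem k_eq_one_iff {g v : G} (hg : g * v * g⁻¹ ∈ N) (hv : v ∈ N) {A : Fin n → Q} (hA : Act e N g A) :
    VF.Q.k g v = 1 ↔ ∀ i, A i • e v i = e v i := by
  have hk : VF.Q.k g v ∈ N := N.mul_mem hg (N.inv_mem hv)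
  constructor
  · intro h0 i
    have h1 := h.e_k hg hv hA i
    rw [h0, h.e_one, Pi.zero_apply] at h1
    exact (sub_eq_zero.1 h1.symm)
  · intro h0
    refine h.inj _ hk ?_
    funext i
    rw [h.e_k hg hv hA, h0 i, sub_self]
    rfl

/-- same action: equal conjugates -/
theorem conj_eq {g g' v : G} (hv : v ∈ N) (hg : g * v * g⁻¹ ∈ N) (hg' : g' * v * g'⁻¹ ∈ N) {A : Fin n → Q}
    (hA : Act e N g A) (hB : Act e N g' A) : g * v * g⁻¹ = g' * v * g'⁻¹ :=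
  h.e_inj hg hg' (funext fun i => by rw [hA v hv, hB v hv])

/-- Transport of an element which acts as an element of `Q^n`, trivial outside the factor `i`, to the factor `j`. -/
theorem transport {g d : G} (hg : g ∈ P) {i j : Fin n} (hgi : ∀ v ∈ N, e (g * v * g⁻¹) i = 0 ↔ e v j = 0)
    (hd : ∀ v ∈ N, d * v * d⁻¹ ∈ N) {B : Fin n → Q} (hB : Act e N d B)
    (hB1 : ∀ v ∈ N, ∀ l, l ≠ i → e (d * v * d⁻¹) l = e v l) :
    ∃ B' : Fin n → Q, Act e N (g⁻¹ * d * g) B' ∧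
      ∀ v ∈ N, ∀ l, l ≠ j → e (g⁻¹ * d * g * v * (g⁻¹ * d * g)⁻¹) l = e v l := by
  obtain ⟨x, hx, hxB⟩ := h.lift B
  obtain ⟨B', hB'⟩ := h.norm g⁻¹ (P.inv_mem hg) x hx B hxB
  have key : ∀ v ∈ N, g⁻¹ * d * g * v * (g⁻¹ * d * g)⁻¹ = g⁻¹ * x * g⁻¹⁻¹ * v * (g⁻¹ * x * g⁻¹⁻¹)⁻¹ := by
    intro v hv
    have h1 := h.conj_eq (h.cj hg hv) (hd _ (h.cj hg hv)) (h.cj hx (h.cj hg hv)) hB hxB
    have e1 : g⁻¹ * d * g * v * (g⁻¹ * d * g)⁻¹ = g⁻¹ * (d * (g * v * g⁻¹) * d⁻¹) * g := by group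
    rw [e1, h1]; group
  obtain ⟨σ, hσ⟩ := h.perm g hg
  -- `σ j = i`
  have hσj : ∀ v ∈ N, e (g * v * g⁻¹) (σ j) = 0 ↔ e (g * v * g⁻¹) i = 0 := fun v hv =>
    (hσ v hv j).trans (hgi v hv).symm
  refine ⟨B', fun v hv i => by rw [key v hv]; exact hB' v hv i, fun v hv l hl => ?_⟩
  -- `y = [g⁻¹ d g, v]`
  set c := g⁻¹ * d * g with hc
  have hcN : c * v * c⁻¹ ∈ N := by
    rw [key v hv]
    have h1 : g⁻¹ * x * g⁻¹⁻¹ ∈ P := P.mul_mem (P.mul_mem (P.inv_mem hg) hx) (P.inv_mem (P.inv_mem hg))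
    exact h.cj h1 hv
  have hkN : VF.Q.k c v ∈ N := N.mul_mem hcN (N.inv_mem hv)
  have hgv : g * v * g⁻¹ ∈ N := h.cj hg hv
  have h2 : g * VF.Q.k c v * g⁻¹ = VF.Q.k d (g * v * g⁻¹) := by
    rw [← k_cj, hc]
    congr 1
    group
  have h3 : e (VF.Q.k c v) l = 0 := by
    rw [← hσ _ hkN l, h2, h.e_k (hd _ hgv) hgv hB]
    by_cases hli : σ l = i
    · -- then `e u l = 0 ↔ e u j = 0` for all `u`
      exfalso
      apply hl
      have h4 : ∀ u ∈ N, e u l = 0 ↔ e u j = 0 := fun u hu => by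
        rw [← hσ u hu l, hli, hgi u hu]
      by_contra hne
      obtain ⟨y, hy, hy0⟩ := h.ne
      obtain ⟨u, hu, hue⟩ := h.surj (Pi.single j y) fun a => by
        by_cases ha : a = j
        · subst ha; rw [Pi.single_eq_same]; exact hy
        · rw [Pi.single_eq_of_ne ha]; exact Y₀.zero_mem
      have h5 := (h4 u hu).1 (by rw [hue, Pi.single_eq_of_ne hne])
      rw [hue, Pi.single_eq_same] at h5
      exact hy0 h5
    · have h5 := hB1 _ hgv (σ l) hli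
      rw [hB _ hgv] at h5
      rw [h5, sub_self]
  have h6 : c * v * c⁻¹ = VF.Q.k c v * v := cj_eq c v
  rw [h6, h.mul _ hkN _ hv, Pi.add_apply, h3, zero_add]

/-- `[k, v] = 1` and `k` acts trivially on the coordinates -/
theorem k_one_of {d v : G} (hv : v ∈ N) (hd : d * v * d⁻¹ ∈ N) (he : e (d * v * d⁻¹) = e v) : VF.Q.k d v = 1 := by
  rw [k_def, h.e_inj hd hv he, mul_inv_cancel]

variable {M₀ W : Subgroup G} {B : Type*} [AddGroup B] [Finite B] {a : B → G} {l : G} {f : G → B}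

omit h in
/-- **LEMMA D**, all conjugates. -/
theorem lemD [Finite G] (nor : P ≤ normalizer (N : Set G)) (s : Sit M₀ W N) (PM : P ≤ M₀) (no : NoOverM W M₀)
    (hB : 1 < Nat.card B) (R : RootM M₀ W N B a l f) (ker : ∀ u ∈ N, (∀ p ∈ P, f (p * u * p⁻¹) = 0) → u = 1)
    {d : G} (hd : d ∈ M₀) (hdV : ∀ v ∈ N, VF.Q.k d v = 1) (hdW : ∀ w ∈ W, VF.Q.k d w ∈ N) {w : G} (hw : w ∈ W) :
    VF.Q.k d w = 1 := by
  have cjV : ∀ p ∈ P, ∀ v ∈ N, p * v * p⁻¹ ∈ N := fun p hp v hv => (mem_normalizer_iff.1 (nor hp) v).1 hv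
  have cjV' : ∀ p ∈ P, ∀ v ∈ N, p⁻¹ * v * p ∈ N := fun p hp v hv => by
    have := cjV p⁻¹ (P.inv_mem hp) v hv
    rwa [inv_inv] at this
  have cjW : ∀ p ∈ P, ∀ v ∈ W, p * v * p⁻¹ ∈ W := fun p hp v hv => s.cj_mem (PM hp) hv
  have cjW' : ∀ p ∈ P, ∀ v ∈ W, p⁻¹ * v * p ∈ W := fun p hp v hv => by
    have := cjW p⁻¹ (P.inv_mem hp) v hv
    rwa [inv_inv] at this
  refine ker _ (hdW w hw) fun p hp => ?_
  rw [← k_cj]
  refine VF.Q.lemD s no hB R (M₀.mul_mem (M₀.mul_mem (PM hp) hd) (M₀.inv_mem (PM hp)))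
    (fun v hv => ?_) (fun v hv => ?_) (cjW p hp w hw)
  · have e : v = p * (p⁻¹ * v * p) * p⁻¹ := by group
    rw [e, k_cj, hdV _ (cjV' p hp v hv)]
    group
  · have e : v = p * (p⁻¹ * v * p) * p⁻¹ := by group
    rw [e, k_cj]
    exact cjV p hp _ (hdW _ (cjW' p hp v hv))

omit h in
theorem k_mul_one {x y w : G} (hx : VF.Q.k x w = 1) (hy : VF.Q.k y w = 1) : VF.Q.k (x * y) w = 1 := by
  rw [k_eq_one] at hx hy ⊢
  rw [mul_assoc, hy, ← mul_assoc, hx, mul_assoc]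

omit h in
theorem k_inv_one {x w : G} (hx : VF.Q.k x w = 1) : VF.Q.k x⁻¹ w = 1 := by
  rw [k_eq_one] at hx ⊢
  calc x⁻¹ * w = x⁻¹ * (w * x) * x⁻¹ := by group
    _ = x⁻¹ * (x * w) * x⁻¹ := by rw [hx]
    _ = w * x⁻¹ := by group

omit h in
/-- `[W, x] ≤ N`, `[W, y] ≤ N` -/
theorem kN_mul (s : Sit M₀ W N) {x y : G} (hx : x ∈ M₀) (hy : y ∈ M₀) (h1 : ∀ w ∈ W, VF.Q.k x w ∈ N)
    (h2 : ∀ w ∈ W, VF.Q.k y w ∈ N) : ∀ w ∈ W, VF.Q.k (x * y) w ∈ N := by
  intro w hw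
  rw [Sit.k_mul hx hy hw]
  exact N.mul_mem (N.mul_mem (h1 _ (s.VW (h2 w hw))) (h2 w hw)) (h1 w hw)

omit h in
theorem kN_inv (s : Sit M₀ W N) {x : G} (hx : x ∈ M₀) (h1 : ∀ w ∈ W, VF.Q.k x w ∈ N) :
    ∀ w ∈ W, VF.Q.k x⁻¹ w ∈ N := by
  intro w hw
  have hw' : x⁻¹ * w * x ∈ W := by
    have := s.cj_mem (M₀.inv_mem hx) hw
    rwa [inv_inv] at this
  have h2 := h1 _ hw'
  have e1 : VF.Q.k x (x⁻¹ * w * x) = (VF.Q.k x⁻¹ w)⁻¹ := by
    simp only [k_def]; group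
  rw [e1] at h2
  exact (N.inv_mem_iff).1 h2

omit h in
theorem kN_cj (nor : P ≤ normalizer (N : Set G)) (s : Sit M₀ W N) (PM : P ≤ M₀) {p x : G} (hp : p ∈ P)
    (h1 : ∀ w ∈ W, VF.Q.k x w ∈ N) : ∀ w ∈ W, VF.Q.k (p * x * p⁻¹) w ∈ N := by
  intro w hw
  have e : w = p * (p⁻¹ * w * p) * p⁻¹ := by group
  have hw' : p⁻¹ * w * p ∈ W := by
    have := s.cj_mem (M₀.inv_mem (PM hp)) hw
    rwa [inv_inv] at this
  rw [e, k_cj]
  exact (mem_normalizer_iff.1 (nor hp) _).1 (h1 _ hw')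

/-- the class of elements `d ∈ M₀` with `[W, d] ≤ N` which act on `N` as `B ∈ Q^n` -/
structure Cl (M₀ W N : Subgroup G) (e : G → Fin n → Y) (d : G) (B : Fin n → Q) : Prop where
  mem : d ∈ M₀
  kN : ∀ w ∈ W, VF.Q.k d w ∈ N
  act : Act e N d B

omit h in
theorem Cl.cjN {M₀ W N : Subgroup G} {e : G → Fin n → Y} {d : G} {B : Fin n → Q} (c : Cl M₀ W N e d B)
    (s : Sit M₀ W N) {v : G} (hv : v ∈ N) : d * v * d⁻¹ ∈ N := by
  rw [cj_eq]; exact N.mul_mem (c.kN v (s.VW hv)) hv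

omit h in
theorem Cl.inv {M₀ W N : Subgroup G} {e : G → Fin n → Y} {d : G} {B : Fin n → Q} (c : Cl M₀ W N e d B)
    (s : Sit M₀ W N) : Cl M₀ W N e d⁻¹ B⁻¹ := by
  have h1 := kN_inv s c.mem c.kN
  refine ⟨M₀.inv_mem c.mem, h1, act_inv (fun v hv => ?_) c.act⟩
  have h2 := cj_of_k (h1 v (s.VW hv)) hv
  rwa [inv_inv] at h2

omit h in
theorem Cl.mul {M₀ W N : Subgroup G} {e : G → Fin n → Y} {d d' : G} {B B' : Fin n → Q} (c : Cl M₀ W N e d B)
    (c' : Cl M₀ W N e d' B') (s : Sit M₀ W N) : Cl M₀ W N e (d * d') (B * B') :=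
  ⟨M₀.mul_mem c.mem c'.mem, kN_mul s c.mem c'.mem c.kN c'.kN, act_mul (fun _ hv => c'.cjN s hv) c.act c'.act⟩

/-- elements with the same action on `N` have the same action on `W` -/
theorem k_of_same [Finite G] (s : Sit M₀ W N) (PM : P ≤ M₀) (no : NoOverM W M₀)
    (hB : 1 < Nat.card B) (R : RootM M₀ W N B a l f) (ker : ∀ u ∈ N, (∀ p ∈ P, f (p * u * p⁻¹) = 0) → u = 1)
    {d x : G} {A : Fin n → Q} (hd : Cl M₀ W N e d A) (hx : Cl M₀ W N e x A) {w : G} (hw : w ∈ W)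
    (h0 : VF.Q.k x w = 1) : VF.Q.k d w = 1 := by
  have c := (hx.inv s).mul hd s
  rw [inv_mul_cancel] at c
  have h1 : VF.Q.k (x⁻¹ * d) w = 1 := by
    refine lemD h.nor s PM no hB R ker c.mem (fun v hv => ?_) c.kN hw
    refine h.k_one_of hv (c.cjN s hv) (funext fun i => ?_)
    rw [c.act v hv i, Pi.one_apply, one_smul]
  have h2 := k_mul_one h0 h1
  rwa [mul_inv_cancel_left] at h2

/-- **The main theorem**, abstract. -/
theorem main [Finite G] (s : Sit M₀ W N) (PM : P ≤ M₀) (no : NoOverM W M₀)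
    (hB : 1 < Nat.card B) (R : RootM M₀ W N B a l f) (ker : ∀ u ∈ N, (∀ p ∈ P, f (p * u * p⁻¹) = 0) → u = 1)
    {i₀ : Fin n} {X : Set Q} (hX : closure X = ⊤)
    (hs : ∀ w ∈ W, ∃ v ∈ N, ∀ r ∈ X, ∃ x, Cl M₀ W N e x (Function.update (1 : Fin n → Q) i₀ r) ∧
      VF.Q.k x (v⁻¹ * w) = 1) {w : G} (hw : w ∈ W) :
    ∃ v ∈ N, ∀ (d : G) (A : Fin n → Q), Cl M₀ W N e d A → VF.Q.k d (v⁻¹ * w) = 1 := by
  -- all elements of `Q` on the factor `i₀`
  have upd_mul : ∀ (i : Fin n) (q r : Q), Function.update (1 : Fin n → Q) i q * Function.update (1 : Fin n → Q) i r =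
      Function.update (1 : Fin n → Q) i (q * r) := by
    intro i q r
    rw [← Function.update_mul, mul_one]
  have upd_inv : ∀ (i : Fin n) (q : Q), (Function.update (1 : Fin n → Q) i q)⁻¹ =
      Function.update (1 : Fin n → Q) i q⁻¹ := by
    intro i q
    rw [← Function.update_inv, inv_one]
  have st0 : ∀ w ∈ W, ∃ v ∈ N, ∀ q : Q, ∃ x, Cl M₀ W N e x (Function.update (1 : Fin n → Q) i₀ q) ∧
      VF.Q.k x (v⁻¹ * w) = 1 := by
    intro w hw
    obtain ⟨v, hv, h1⟩ := hs w hw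
    refine ⟨v, hv, fun q => ?_⟩
    have hq : q ∈ closure X := by rw [hX]; exact mem_top _
    induction hq using Subgroup.closure_induction with
    | mem r hr => exact h1 r hr
    | one =>
      refine ⟨1, ⟨M₀.one_mem, fun w _ => by rw [k_one]; exact N.one_mem, ?_⟩, k_one _⟩
      have e1 : Function.update (1 : Fin n → Q) i₀ 1 = 1 := by
        rw [Function.update_eq_self_iff]; rfl
      rw [e1]
      exact act_one
    | mul q r _ _ hq hr =>
      obtain ⟨x, hx, hx1⟩ := hq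
      obtain ⟨y, hy, hy1⟩ := hr
      refine ⟨x * y, ?_, k_mul_one hx1 hy1⟩
      rw [← upd_mul]
      exact hx.mul hy s
    | inv q _ hq =>
      obtain ⟨x, hx, hx1⟩ := hq
      refine ⟨x⁻¹, ?_, k_inv_one hx1⟩
      rw [← upd_inv]
      exact hx.inv s
  -- an element acting trivially outside `i`
  have upd_of : ∀ (i : Fin n) (d : G) (A : Fin n → Q), (∀ v ∈ N, ∀ l, l ≠ i → e (d * v * d⁻¹) l = e v l) →
      Act e N d A → Act e N d (Function.update (1 : Fin n → Q) i (A i)) := by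
    intro i d A h1 h2 v hv l
    by_cases hl : l = i
    · subst hl
      rw [Function.update_self]; exact h2 v hv l
    · rw [Function.update_of_ne hl, Pi.one_apply, one_smul]; exact h1 v hv l hl
  -- the factor `i`
  have st1 : ∀ i, ∀ w ∈ W, ∃ v ∈ N, ∀ (d : G) (A : Fin n → Q), Cl M₀ W N e d A →
      (∀ v ∈ N, ∀ l, l ≠ i → e (d * v * d⁻¹) l = e v l) → VF.Q.k d (v⁻¹ * w) = 1 := by
    intro i w hw
    obtain ⟨t, ht, htf⟩ := h.trans i₀ i
    have hw' : t⁻¹ * w * t ∈ W := by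
      have := s.cj_mem (M₀.inv_mem (PM ht)) hw
      rwa [inv_inv] at this
    obtain ⟨v, hv, h1⟩ := st0 _ hw'
    refine ⟨t * v * t⁻¹, h.cj ht hv, fun d A hd hdi => ?_⟩
    obtain ⟨A', hA', hA1⟩ := h.transport ht htf (fun v hv => hd.cjN s hv) hd.act hdi
    have hd' : Cl M₀ W N e (t⁻¹ * d * t) (Function.update (1 : Fin n → Q) i₀ (A' i₀)) := by
      refine ⟨M₀.mul_mem (M₀.mul_mem (M₀.inv_mem (PM ht)) hd.mem) (PM ht), ?_, upd_of _ _ _ hA1 hA'⟩
      have h2 := kN_cj h.nor s PM (P.inv_mem ht) hd.kN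
      rwa [inv_inv] at h2
    obtain ⟨x, hx, hx1⟩ := h1 (A' i₀)
    have hvw : v⁻¹ * (t⁻¹ * w * t) ∈ W := W.mul_mem (W.inv_mem (s.VW hv)) hw'
    have h3 := h.k_of_same s PM no hB R ker hd' hx hvw hx1
    have e1 : (t * v * t⁻¹)⁻¹ * w = t * (v⁻¹ * (t⁻¹ * w * t)) * t⁻¹ := by group
    have e2 : d = t * (t⁻¹ * d * t) * t⁻¹ := by group
    rw [e1, e2, k_cj, h3]
    group
  -- existence on the factor `i`
  have st2 : ∀ i (q : Q), ∃ x, Cl M₀ W N e x (Function.update (1 : Fin n → Q) i q) := by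
    intro i q
    obtain ⟨t, ht, htf⟩ := h.trans i₀ i
    obtain ⟨g, hg, hgA⟩ := h.lift (Function.update (1 : Fin n → Q) i q)
    obtain ⟨A', hA', hA1⟩ := h.transport ht htf (fun v hv => h.cj hg hv) hgA fun v hv l hl => by
      rw [hgA v hv, Function.update_of_ne hl, Pi.one_apply, one_smul]
    obtain ⟨v, -, h1⟩ := st0 1 W.one_mem
    obtain ⟨x, hx, -⟩ := h1 (A' i₀)
    have hA2 := upd_of _ _ _ hA1 hA'
    have hkN := kN_cj h.nor s PM ht hx.kN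
    refine ⟨t * x * t⁻¹, M₀.mul_mem (M₀.mul_mem (PM ht) hx.mem) (M₀.inv_mem (PM ht)), hkN, fun v hv l => ?_⟩
    have hv' := h.cj' ht hv
    have hgt : t⁻¹ * g * t ∈ P := P.mul_mem (P.mul_mem (P.inv_mem ht) hg) ht
    have h2 := h.conj_eq hv' (hx.cjN s hv') (h.cj hgt hv') hx.act hA2
    have e1 : t * x * t⁻¹ * v * (t * x * t⁻¹)⁻¹ = t * (x * (t⁻¹ * v * t) * x⁻¹) * t⁻¹ := by group
    have e2 : t * (t⁻¹ * g * t * (t⁻¹ * v * t) * (t⁻¹ * g * t)⁻¹) * t⁻¹ = g * v * g⁻¹ := by group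
    rw [e1, h2, e2]
    exact hgA v hv l
  -- glue
  choose y hyN hy using fun i => st1 i w hw
  obtain ⟨v, hv, hve⟩ := h.surj (fun i => e (y i) i) fun i => h.mem _ (hyN i) i
  have st3 : ∀ i (d : G) (A : Fin n → Q), Cl M₀ W N e d A → (∀ v ∈ N, ∀ l, l ≠ i → e (d * v * d⁻¹) l = e v l) →
      VF.Q.k d (v⁻¹ * w) = 1 := by
    intro i d A hd hdi
    have hu : v⁻¹ * y i ∈ N := N.mul_mem (N.inv_mem hv) (hyN i)
    have hui : e (v⁻¹ * y i) i = 0 := by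
      rw [h.mul _ (N.inv_mem hv) _ (hyN i), h.e_inv hv, Pi.add_apply, Pi.neg_apply, hve, neg_add_cancel]
    have h1 : VF.Q.k d (v⁻¹ * y i) = 1 := by
      refine h.k_one_of hu (hd.cjN s hu) (funext fun l => ?_)
      by_cases hl : l = i
      · subst hl
        rw [hd.act _ hu, hui, smul_zero]
      · exact hdi _ hu l hl
    have e1 : v⁻¹ * w = (v⁻¹ * y i) * ((y i)⁻¹ * w) := by group
    rw [e1, s.k_mul_right hd.mem (s.VW hu) (W.mul_mem (W.inv_mem (s.VW (hyN i))) hw), h1, hy i d A hd hdi, one_mul]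
  have huW : v⁻¹ * w ∈ W := W.mul_mem (W.inv_mem (s.VW hv)) hw
  refine ⟨v, hv, ?_⟩
  -- induction
  have st4 : ∀ t : Finset (Fin n), ∀ (d : G) (A : Fin n → Q), Cl M₀ W N e d A → (∀ j, j ∉ t → A j = 1) →
      VF.Q.k d (v⁻¹ * w) = 1 := by
    intro t
    induction t using Finset.induction_on with
    | empty =>
      intro d A hd hA
      refine lemD h.nor s PM no hB R ker hd.mem (fun v hv => ?_) hd.kN huW
      refine h.k_one_of hv (hd.cjN s hv) (funext fun i => ?_)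
      rw [hd.act v hv i, hA i (Finset.notMem_empty i), one_smul]
    | insert j t hj ih =>
      intro d A hd hA
      obtain ⟨x, hx⟩ := st2 j (A j)
      have hx1 : VF.Q.k x (v⁻¹ * w) = 1 := st3 j x _ hx fun u hu l hl => by
        rw [hx.act u hu, Function.update_of_ne hl, Pi.one_apply, one_smul]
      have hdx := hd.mul (hx.inv s) s
      have h1 : VF.Q.k (d * x⁻¹) (v⁻¹ * w) = 1 := by
        refine ih _ _ hdx fun l hl => ?_
        by_cases hlj : l = j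
        · subst hlj
          rw [Pi.mul_apply, Pi.inv_apply, Function.update_self, mul_inv_cancel]
        · rw [Pi.mul_apply, Pi.inv_apply, Function.update_of_ne hlj, Pi.one_apply, inv_one, mul_one]
          exact hA l fun h2 => by
            rcases Finset.mem_insert.1 h2 with h3 | h3
            · exact hlj h3
            · exact hl h3
      have h2 := k_mul_one h1 hx1
      rwa [inv_mul_cancel_right] at h2
  exact fun d A hd => st4 Finset.univ d A hd fun j hj => absurd (Finset.mem_univ j) hj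

end Ns

end Cfsg.Agent.Omega.NOThreeL.RRed.Blk.SplitAbs
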