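import Cfsg.Agent.Omega.NOThreeL.RRed.Blk.SplitAbs
import Cfsg.Agent.Omega.NatPair.Semi

/-!
# The splitting `W = N × C_W(O²(P))`, natural `SL₂(F)`-modules, in coordinates
-/

set_option autoImplicit false
set_option linter.unusedSectionVars false

namespace Cfsg.Agent.Omega.NOThreeL.RRed.Blk.SplitNat

open Subgroup Cfsg Cfsg.Agent.Omega.FFThm
open Cfsg.Agent.Omega.NOThreeL.VF.Q (Sit RootM k_def cj_eq k_eq_one k_one k_mul_left k_cj)
open Cfsg.Agent.Omega.NOThreeL.RRed.Blk.SplitAbs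
open Cfsg.Agent.Omega.NOThreeL.RRed.Blk.SplitAbs.Ns
open Cfsg.Agent.Lib.SL2Mat
open Cfsg.Agent.Omega.NatPair (ap ap_mul ap_one ap_add ext2 ap_zero' ap_one')

universe u

theorem ap_zero {F : Type*} [Field F] (A : Matrix.SpecialLinearGroup (Fin 2) F) : ap A 0 = 0 := by
  have h := ap_add A 0 0
  rw [add_zero] at h
  exact left_eq_add.1 h

/-- the natural action -/
@[reducible] def nat (F : Type*) [Field F] :
    DistribMulAction (Matrix.SpecialLinearGroup (Fin 2) F) (Fin 2 → F) where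
  smul := ap
  one_smul := ap_one
  mul_smul := ap_mul
  smul_zero := ap_zero
  smul_add := ap_add

attribute [local instance] nat

theorem smul_eq {F : Type*} [Field F] (A : Matrix.SpecialLinearGroup (Fin 2) F) (x : Fin 2 → F) : A • x = ap A x :=
  rfl

theorem closure_up_lo {F : Type*} [Field F] :
    closure (Set.range up ∪ Set.range lo : Set (Matrix.SpecialLinearGroup (Fin 2) F)) = ⊤ := by
  rw [eq_top_iff]
  intro x _
  obtain ⟨a, b, c, d, rfl⟩ := exists_up_lo x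
  have hu : ∀ a : F, up a ∈ closure (Set.range up ∪ Set.range lo : Set (Matrix.SpecialLinearGroup (Fin 2) F)) :=
    fun a => subset_closure (Or.inl ⟨a, rfl⟩)
  have hl : ∀ a : F, lo a ∈ closure (Set.range up ∪ Set.range lo : Set (Matrix.SpecialLinearGroup (Fin 2) F)) :=
    fun a => subset_closure (Or.inr ⟨a, rfl⟩)
  exact mul_mem (mul_mem (mul_mem (hu a) (hl b)) (hu c)) (hl d)

theorem wm_conj {F : Type*} [Field F] (c : F) :
    wm (1 : F) one_ne_zero * up c * (wm (1 : F) one_ne_zero)⁻¹ = lo (-c) := by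
  rw [wm_up, mul_inv_cancel_right, one_pow, div_one]

variable {G : Type u} [Group G] {F : Type} [Field F] {P N : Subgroup G} {n : ℕ} {e : G → Fin n → Fin 2 → F}

abbrev SL (F : Type) [Field F] : Type := Matrix.SpecialLinearGroup (Fin 2) F

abbrev upd (i : Fin n) (q : SL F) : Fin n → SL F := Function.update 1 i q

theorem upd_self (i : Fin n) (q : SL F) : upd i q i = q := Function.update_self _ _ _

theorem upd_ne {i j : Fin n} (h : j ≠ i) (q : SL F) : upd i q j = 1 := Function.update_of_ne h _ _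

theorem upd_mul (i : Fin n) (q r : SL F) : upd i q * upd i r = upd i (q * r) := by
  rw [upd, upd, ← Function.update_mul, mul_one]

theorem upd_inv (i : Fin n) (q : SL F) : (upd i q)⁻¹ = upd i q⁻¹ := by
  rw [upd, ← Function.update_inv, inv_one]

variable (h : Ns (SL F) (⊤ : AddSubgroup (Fin 2 → F)) P N n e)
include h

variable {i₀ : Fin n} {a : F → G}

/-- the coordinates of `[a b, v]` -/
theorem e_root (haN : ∀ b, ∀ v ∈ N, a b * v * (a b)⁻¹ ∈ N) (ha : ∀ b, Act e N (a b) (upd i₀ (up b))) (b : F)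
    {v : G} (hv : v ∈ N) : e (VF.Q.k (a b) v) i₀ 0 = b * e v i₀ 1 ∧ e (VF.Q.k (a b) v) i₀ 1 = 0 ∧
      ∀ i, i ≠ i₀ → e (VF.Q.k (a b) v) i = 0 := by
  have h1 := h.e_k (haN b v hv) hv (ha b)
  refine ⟨?_, ?_, fun i hi => ?_⟩
  · rw [h1 i₀, upd_self, Pi.sub_apply, smul_eq, ap_zero', up_00, up_01]; ring
  · rw [h1 i₀, upd_self, Pi.sub_apply, smul_eq, ap_one', up_10, up_11]; ring
  · rw [h1 i, upd_ne hi, one_smul, sub_self]

theorem root_eq_one (haN : ∀ b, ∀ v ∈ N, a b * v * (a b)⁻¹ ∈ N) (ha : ∀ b, Act e N (a b) (upd i₀ (up b))) (b : F)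
    {v : G} (hv : v ∈ N) : VF.Q.k (a b) v = 1 ↔ b * e v i₀ 1 = 0 := by
  obtain ⟨h0, h1, h2⟩ := e_root h haN ha b hv
  rw [← h0]
  constructor
  · intro h3
    rw [h3, h.e_one]; rfl
  · intro h3
    refine h.inj _ (N.mul_mem (haN b v hv) (N.inv_mem hv)) ?_
    funext i
    by_cases hi : i = i₀
    · subst hi
      exact ext2 h3 h1
    · exact h2 i hi

/-- the kernel of the coordinate and its conjugates -/
theorem ker_of {u : G} (hu : u ∈ N) (h0 : ∀ p ∈ P, e (p * u * p⁻¹) i₀ 1 = 0) : u = 1 := by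
  obtain ⟨ω, hω, hωA⟩ := h.lift (upd i₀ (wm (1 : F) one_ne_zero))
  have h1 : ∀ p ∈ P, e (p * u * p⁻¹) i₀ = 0 := by
    intro p hp
    have h2 := h0 (ω * p) (P.mul_mem hω hp)
    have e1 : ω * p * u * (ω * p)⁻¹ = ω * (p * u * p⁻¹) * ω⁻¹ := by group
    rw [e1, hωA _ (h.cj hp hu) i₀, upd_self, smul_eq, ap_one', wm_10, wm_11] at h2
    apply ext2
    · simpa using h2
    · exact h0 p hp
  refine h.inj u hu (funext fun j => ?_)
  obtain ⟨t, ht, h3⟩ := h.trans j i₀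
  exact (h3 u hu).1 (h1 t ht)

variable {M₀ W : Subgroup G} {ω : G}

theorem low_act (haP : ∀ b, a b ∈ P) (ha : ∀ b, Act e N (a b) (upd i₀ (up b)))
    (hω : ω ∈ P) (hωA : Act e N ω (upd i₀ (wm (1 : F) one_ne_zero))) (c : F) :
    Act e N (ω * a c * ω⁻¹) (upd i₀ (lo (-c))) := by
  have h1 := act_mul (fun v hv => h.cj (P.inv_mem hω) hv) (act_mul (fun v hv => h.cj (haP c) hv) hωA (ha c))
    (act_inv (fun v hv => h.cj' hω hv) hωA)
  rwa [upd_inv, upd_mul, upd_mul, wm_conj] at h1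

theorem rootM (s : Sit M₀ W N) (PM : P ≤ M₀) (haP : ∀ b, a b ∈ P) (haW : ∀ b, ∀ w ∈ W, VF.Q.k (a b) w ∈ N)
    (ha : ∀ b, Act e N (a b) (upd i₀ (up b))) (hω : ω ∈ P) (hωA : Act e N ω (upd i₀ (wm (1 : F) one_ne_zero))) :
    RootM M₀ W N F a (ω * a 1 * ω⁻¹) fun v => e v i₀ 1 := by
  have haN : ∀ b, ∀ v ∈ N, a b * v * (a b)⁻¹ ∈ N := fun b v hv => h.cj (haP b) hv
  have hkN : ∀ b, ∀ v ∈ N, VF.Q.k (a b) v ∈ N := fun b v hv => haW b v (s.VW hv)
  refine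
  { mem := fun b => PM (haP b)
    aW := haW
    lM := PM (P.mul_mem (P.mul_mem hω (haP 1)) (P.inv_mem hω))
    lW := kN_cj h.nor s PM hω (haW 1)
    f_mul := fun u hu v hv => by
      rw [h.mul u hu v hv]; rfl
    add := fun b b' v hv => ?_
    zero := fun v hv h0 b => (root_eq_one h haN ha b hv).2 (by
      have h' : e v i₀ 1 = 0 := h0
      rw [h', mul_zero])
    inj := fun b hb v hv h0 => by
      rcases mul_eq_zero.1 ((root_eq_one h haN ha b hv).1 h0) with h1 | h1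
      · exact absurd h1 hb
      · exact h1
    disj := fun b c v hv v' hv' h0 => ?_ }
  · refine h.e_inj (hkN _ v hv) (N.mul_mem (hkN _ v hv) (hkN _ v hv)) ?_
    rw [h.mul _ (hkN _ v hv) _ (hkN _ v hv)]
    funext i
    rw [Pi.add_apply]
    obtain ⟨x0, x1, x2⟩ := e_root h haN ha (b + b') hv
    obtain ⟨y0, y1, y2⟩ := e_root h haN ha b hv
    obtain ⟨z0, z1, z2⟩ := e_root h haN ha b' hv
    by_cases hi : i = i₀
    · subst hi
      apply ext2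
      · rw [Pi.add_apply, x0, y0, z0]; ring
      · rw [Pi.add_apply, x1, y1, z1, add_zero]
    · rw [x2 i hi, y2 i hi, z2 i hi, add_zero]
  · obtain ⟨x0, x1, -⟩ := e_root h haN ha b hv
    obtain ⟨y0, y1, -⟩ := e_root h haN ha c hv'
    have h2 := low_act h haP ha hω hωA 1 _ (hkN c v' hv') i₀
    rw [← h0, upd_self, smul_eq] at h2
    have h3 := congrFun h2 1
    rw [x1, ap_one', lo_10, lo_11, y1, y0] at h3
    have h4 : c * e v' i₀ 1 = 0 := by linear_combination h3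
    have h5 := (root_eq_one h haN ha c hv').2 h4
    rw [h0, h5]; group

/-- **natural modules** -/
theorem main [Finite G] [Finite F] (s : Sit M₀ W N) (PM : P ≤ M₀) (no : NoOverM W M₀)
    (haP : ∀ b, a b ∈ P) (haW : ∀ b, ∀ w ∈ W, VF.Q.k (a b) w ∈ N)
    (ha : ∀ b, Act e N (a b) (upd i₀ (up b)))
    (hsplit : ∀ w ∈ W, ∃ v ∈ N, ∀ b, VF.Q.k (a b) (v⁻¹ * w) = 1) {w : G} (hw : w ∈ W) :
    ∃ v ∈ N, ∀ (d : G) (A : Fin n → SL F), Cl M₀ W N e d A → VF.Q.k d (v⁻¹ * w) = 1 := by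
  have haN : ∀ b, ∀ v ∈ N, a b * v * (a b)⁻¹ ∈ N := fun b v hv => h.cj (haP b) hv
  obtain ⟨ω, hω, hωA⟩ := h.lift (upd i₀ (wm (1 : F) one_ne_zero))
  refine h.main s PM no Finite.one_lt_card (rootM h s PM haP haW ha hω hωA) (fun u hu h0 => ker_of h hu h0)
    (i₀ := i₀) closure_up_lo (fun w hw => ?_) hw
  have hωW : ∀ w ∈ W, ω⁻¹ * w * ω ∈ W := fun w hw => by
    have := s.cj_mem (M₀.inv_mem (PM hω)) hw
    rwa [inv_inv] at this
  obtain ⟨v₁, hv₁, hc₁⟩ := hsplit w hw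
  obtain ⟨v₂, hv₂, hc₂⟩ := hsplit _ (hωW w hw)
  have hv₂' : ω * v₂ * ω⁻¹ ∈ N := h.cj hω hv₂
  obtain ⟨v, hv, hev⟩ := h.surj (fun _ => ![e (ω * v₂ * ω⁻¹) i₀ 0, e v₁ i₀ 1]) fun _ => trivial
  have hev' : e v i₀ = ![e (ω * v₂ * ω⁻¹) i₀ 0, e v₁ i₀ 1] := congrFun hev i₀
  refine ⟨v, hv, fun r hr => ?_⟩
  rcases hr with ⟨b, rfl⟩ | ⟨b, rfl⟩
  · refine ⟨a b, ⟨PM (haP b), haW b, ha b⟩, ?_⟩
    have e1 : v⁻¹ * w = (v⁻¹ * v₁) * (v₁⁻¹ * w) := by group
    have hx : v⁻¹ * v₁ ∈ N := N.mul_mem (N.inv_mem hv) hv₁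
    have hy : v₁⁻¹ * w ∈ W := W.mul_mem (W.inv_mem (s.VW hv₁)) hw
    have h3 : VF.Q.k (a b) (v⁻¹ * v₁) = 1 := by
      rw [root_eq_one h haN ha b hx, h.mul _ (N.inv_mem hv) _ hv₁, h.e_inv hv, Pi.add_apply,
        Pi.add_apply, Pi.neg_apply, Pi.neg_apply, hev']
      simp
    rw [e1, s.k_mul_right (PM (haP b)) (s.VW hx) hy, h3, hc₁ b, one_mul]
  · have hbP : ω * a (-b) * ω⁻¹ ∈ P := P.mul_mem (P.mul_mem hω (haP _)) (P.inv_mem hω)
    refine ⟨ω * a (-b) * ω⁻¹, ⟨PM hbP, kN_cj h.nor s PM hω (haW _), ?_⟩, ?_⟩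
    · have h2 := low_act h haP ha hω hωA (-b)
      rwa [neg_neg] at h2
    · have hx : v⁻¹ * (ω * v₂ * ω⁻¹) ∈ N := N.mul_mem (N.inv_mem hv) hv₂'
      have hx' : ω⁻¹ * (v⁻¹ * (ω * v₂ * ω⁻¹)) * ω ∈ N := h.cj' hω hx
      have e1 : v⁻¹ * w = ω * ((ω⁻¹ * (v⁻¹ * (ω * v₂ * ω⁻¹)) * ω) * (v₂⁻¹ * (ω⁻¹ * w * ω))) * ω⁻¹ := by group
      have hy : v₂⁻¹ * (ω⁻¹ * w * ω) ∈ W := W.mul_mem (W.inv_mem (s.VW hv₂)) (hωW w hw)
      have h4 : VF.Q.k (a (-b)) (ω⁻¹ * (v⁻¹ * (ω * v₂ * ω⁻¹)) * ω) = 1 := by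
        rw [root_eq_one h haN ha _ hx']
        have h5 := hωA _ hx' i₀
        rw [upd_self, smul_eq] at h5
        have h6 := congrFun h5 0
        rw [ap_zero', wm_00, wm_01, zero_mul, zero_add, one_mul] at h6
        have e2 : ω * (ω⁻¹ * (v⁻¹ * (ω * v₂ * ω⁻¹)) * ω) * ω⁻¹ = v⁻¹ * (ω * v₂ * ω⁻¹) := by group
        rw [← h6, e2, h.mul _ (N.inv_mem hv) _ hv₂', h.e_inv hv, Pi.add_apply,
          Pi.add_apply, Pi.neg_apply, Pi.neg_apply, hev']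
        simp
      rw [e1, k_cj, s.k_mul_right (PM (haP _)) (s.VW hx') hy, h4, hc₂]
      group

end Cfsg.Agent.Omega.NOThreeL.RRed.Blk.SplitNat
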