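import Cfsg.Agent.Omega.NOThreeL.RRed.Blk.SrcBox
import Cfsg.Agent.Omega.NOThreeL.RRed.Blk.SrcTwo
import Cfsg.Agent.Omega.NOThreeL.RRed.Blk.AsmRR
import Cfsg.Agent.Omega.NOThreeL.RRed.Blk.AsmTwo
import Cfsg.Agent.Omega.NOThreeL.RRed.Blk.AsmUnion

/-!
# NO-3L, box R: the structure `Src` in the mixed case

`FF₁ = RRs S (MZ S) Q` : the natural root groups of order at least 4; `FF₂ = AsmTwo.FF S E Q` : the blocks of three letters;
the index type is `↥(FF₁ ∪ FF₂)`.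

* `cov_two` : block, line and order of the members of `FF₂`;
* `two_or_big` : an active `P` is small, or some `A ∈ EP` has `|im Q A| ≥ 4`;
* **`src_mix`** : `Src`, from the fields `act`, `mov` for the letters.
-/

set_option autoImplicit false
set_option linter.unusedSectionVars false

namespace Cfsg.Agent.Omega.NOThreeL.RRed.Blk.SrcMix

open Subgroup Cfsg Cfsg.Agent.ZN Cfsg.Agent.Omega.MinPar
open Cfsg.Agent.Omega.FFThm (NatKM SymKM)
open Cfsg.Agent.Omega.FrameFF (cv)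
open Cfsg.Agent.Omega.NO3S.ThmB (Nb)
open Cfsg.Agent.Omega.NO3S.KeyRad (blk)
open Cfsg.Agent.Omega.NOThreeL.RSplit (Nrm)
open Cfsg.Agent.Omega.NOThreeL.RRed.NS (fxd brk mem_fxd un val_mem_un DD YY)
open Cfsg.Agent.Omega.NOThreeL.RRed.WideTree (Act MvAct Src)
open Cfsg.Agent.Omega.NOThreeL.RTree (RB)
open Cfsg.Agent.Omega.NOThreeL.Merge (MZ le_MZ isLoc_MZ)
open Cfsg.Agent.Omega.NOThreeL.RRed.TvFin (Full)
open Cfsg.Agent.Omega.NOThreeL.RRed.Blk (Dec Co)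
open Cfsg.Agent.Omega.NOThreeL.RRed.Blk.TypesNat (XH ph ph_smul XH_faith ph_eq ph_surj no_XH two_of)
open Cfsg.Agent.Omega.NOThreeL.RRed.Blk.Asm (GB NB Fam FFs NN CC uN uN_pos uN_neg)
open Cfsg.Agent.Omega.NOThreeL.RRed.Blk.AsmCore (EP KP)
open Cfsg.Agent.Omega.NOThreeL.RRed.Blk.AsmG (Inp RRs)
open Cfsg.Agent.Omega.NOThreeL.RRed.Blk.AsmTwo (NF_im)
open Cfsg.Agent.Omega.NOThreeL.RRed.Blk.AsmOneBlk (EB nat_fam)
open Cfsg.Agent.Omega.NOThreeL.RRed.Blk.SrcBox (Cov act_cov mov_cov)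
open scoped Pointwise

universe u

variable {G : Type u} [Group G] [Finite G] {S : Sylow 2 G} {I : Type u} {N E : I → Subgroup G} {R₀ : Subgroup G}
  {Om : I → Type u} [∀ i, Fintype (Om i)] [∀ i, DecidableEq (Om i)] {phi : ∀ i, Finset (Om i) → G}

section two

variable {M V : Subgroup G} (F : Full (S : Subgroup G) M V N E R₀ Om phi) (Q : Nrm M V)
include F

/-- block, line and order of the letters' root groups -/
theorem cov_two (h3 : ∀ b, Fintype.card (Om b) = 3) (h2 : ∀ v : Q.Mod, v + v = 0) (b : I) :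
    Cov Q (TypesNat.im Q ((S : Subgroup G) ⊓ E b)) (AsmTwo.NF S E Q N (TypesNat.im Q ((S : Subgroup G) ⊓ E b))) (N b)
      (N b ⊓ centralizer (((S : Subgroup G) ⊓ E b : Subgroup G) : Set G)) 2 := by
  have hNV : N b ≤ V := F.toDec.NU b
  have hM : (S : Subgroup G) ⊓ E b ≤ M := inf_le_right.trans (F.EL b)
  refine ⟨?_, ?_, (AsmTwo.card_im F Q (h3 b) h2).symm⟩
  · rw [NF_im F Q]
    exact (AsmUn.un_ad Q hNV).symm
  · rw [SrcBox.line_eq h2 (fun x hx => XH_faith Q x hx) (AsmTwo.nb F Q (h3 b)), TypesNat.fxd_im Q hM]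
    ext x
    constructor
    · rintro ⟨h4, h5⟩
      exact ⟨Q.of x (hNV h4), ⟨h4, h5⟩, rfl⟩
    · rintro ⟨m, ⟨h4, h5⟩, rfl⟩
      exact ⟨h4, h5⟩

end two

/-- an active `P` is small, or some `A ∈ EP` has `|im Q A| ≥ 4` -/
theorem two_or_big (B : RB S) (mv : MvAct (S : Subgroup G))
    (Q : Nrm (MZ (S : Subgroup G)) (zl (S : Subgroup G) (MZ (S : Subgroup G))))
    (no : FFThm.NoOverM (zl (S : Subgroup G) (MZ (S : Subgroup G))) (MZ (S : Subgroup G))) {P : Subgroup G}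
    (a : Act (S : Subgroup G) P) :
    Two2 S P ∨ ∃ A ∈ EP (S : Subgroup G) P (zl (S : Subgroup G) (MZ (S : Subgroup G))), 4 ≤ Nat.card (AsmCore.im Q A) := by
  have hc := B.ctx.char2
  have hL := isLoc_MZ B.ctx B.full B.data.noff
  have ne : (EP (S : Subgroup G) P (zl (S : Subgroup G) (MZ (S : Subgroup G)))).Nonempty := AsmMv.EP_ne B a
  rcases AsmInp.type_of hc hL no a.1 (le_MZ a.1) ne with h | ⟨F, i1, i2, i3, k, h4, hk, ⟨M⟩⟩
  · exact Or.inl h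
  · obtain ⟨A, hA⟩ := ne
    obtain ⟨h5, -⟩ := AsmAct.typ_of hc hL a.1 (le_MZ a.1) no M h4 (NS.act_inf_eq_bot B mv a M (by omega)) Q hA
    exact Or.inr ⟨A, hA, h5⟩

/-- the field `act` for the small active `P` (helper559) -/
theorem act_letters (B : RB S) (no : FFThm.NoOverM (zl (S : Subgroup G) (MZ (S : Subgroup G))) (MZ (S : Subgroup G)))
    (F : Full (S : Subgroup G) (MZ (S : Subgroup G)) (zl (S : Subgroup G) (MZ (S : Subgroup G))) N E R₀ Om phi)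
    (h3 : ∀ b, Fintype.card (Om b) = 3) {P : Subgroup G} (a : Act (S : Subgroup G) P) (h2 : Two2 S P) :
    ∃ (K : Type) (_ : Field K) (_ : Finite K) (_ : CharP K 2) (k : ℕ) (_ : 0 < k)
      (M : NatKM K (S : Subgroup G) P (zl (S : Subgroup G) P) (cv (S : Subgroup G) P) k) (h : Nb M),
      (∀ j, DD M j = ⊥) ∧ ∀ j, ∃ b, N b = blk M j ∧
        N b ⊓ centralizer (((S : Subgroup G) ⊓ E b : Subgroup G) : Set G) = YY h j ∧ 2 = Nat.card K := by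
  have ne : (EP (S : Subgroup G) P (zl (S : Subgroup G) (MZ (S : Subgroup G)))).Nonempty := AsmMv.EP_ne B a
  obtain ⟨K, i1, i2, i3, k, hk, M, h, hK, hD, h5⟩ := SrcTwo.act_two B.ctx.char2 (isLoc_MZ B.ctx B.full B.data.noff) a.1
    (le_MZ a.1) no F h3 h2 ne
  refine ⟨K, i1, i2, i3, k, hk, M, h, hD, fun j => ?_⟩
  obtain ⟨b, e1, e2, -⟩ := h5 j
  exact ⟨b, e1, e2.symm, hK.symm⟩

/-- **`Src`, mixed case**, from the field `mov` for the letters. -/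
theorem src_mix (B : RB S) (mv : MvAct (S : Subgroup G))
    (Q : Nrm (MZ (S : Subgroup G)) (zl (S : Subgroup G) (MZ (S : Subgroup G))))
    (no : FFThm.NoOverM (zl (S : Subgroup G) (MZ (S : Subgroup G))) (MZ (S : Subgroup G)))
    (F : Full (S : Subgroup G) (MZ (S : Subgroup G)) (zl (S : Subgroup G) (MZ (S : Subgroup G))) N E R₀ Om phi)
    (h3 : ∀ b, Fintype.card (Om b) = 3)
    (mov₂ : ∀ b : I, ∃ P, Act (S : Subgroup G) P ∧ ∃ (K : Type) (_ : Field K) (_ : Finite K) (_ : CharP K 2) (k : ℕ)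
      (_ : 0 < k) (M : NatKM K (S : Subgroup G) P (zl (S : Subgroup G) P) (cv (S : Subgroup G) P) k) (h : Nb M),
      (∀ j, DD M j = ⊥) ∧
      (∃ j, N b = blk M j ∧ N b ⊓ centralizer (((S : Subgroup G) ⊓ E b : Subgroup G) : Set G) = YY h j ∧ 2 = Nat.card K) ∧
      ∀ j, ∃ c, N c = blk M j ∧
        N c ⊓ centralizer (((S : Subgroup G) ⊓ E c : Subgroup G) : Set G) = YY h j ∧ 2 = Nat.card K) :
    Src (S : Subgroup G)
      (fun b : ↥(RRs S (MZ (S : Subgroup G)) Q ∪ AsmTwo.FF S E Q) =>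
        un Q (uN (RRs S (MZ (S : Subgroup G)) Q) (NN (EB S Q) Q.Mod) (AsmTwo.NF S E Q N) (b : Subgroup (XH Q))))
      (fun b => un Q (brk Q.Mod (b : Subgroup (XH Q)))) (fun b => Nat.card (b : Subgroup (XH Q))) := by
  obtain ⟨hI, h4, hGB, hF, -⟩ := nat_fam B mv no Q
  have h2 : ∀ v : Q.Mod, v + v = 0 := hI.two
  -- the two kinds of indices
  have cov₁ : ∀ D ∈ RRs S (MZ (S : Subgroup G)) Q, ∃ b : ↥(RRs S (MZ (S : Subgroup G)) Q ∪ AsmTwo.FF S E Q),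
      Cov Q D (NN (EB S Q) Q.Mod D)
        (un Q (uN (RRs S (MZ (S : Subgroup G)) Q) (NN (EB S Q) Q.Mod) (AsmTwo.NF S E Q N) (b : Subgroup (XH Q))))
        (un Q (brk Q.Mod (b : Subgroup (XH Q)))) (Nat.card (b : Subgroup (XH Q))) := fun D hD =>
    ⟨⟨D, Or.inl hD⟩, by rw [uN_pos hD], rfl, rfl⟩
  have nm : ∀ b : I, TypesNat.im Q ((S : Subgroup G) ⊓ E b) ∉ RRs S (MZ (S : Subgroup G)) Q := fun b h5 => by
    have h6 := h4 _ h5
    rw [AsmTwo.card_im F Q (h3 b) h2] at h6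
    omega
  have cov₂ : ∀ b : I, ∃ b' : ↥(RRs S (MZ (S : Subgroup G)) Q ∪ AsmTwo.FF S E Q),
      (b' : Subgroup (XH Q)) = TypesNat.im Q ((S : Subgroup G) ⊓ E b) ∧
      un Q (uN (RRs S (MZ (S : Subgroup G)) Q) (NN (EB S Q) Q.Mod) (AsmTwo.NF S E Q N) (b' : Subgroup (XH Q))) = N b ∧
      un Q (brk Q.Mod (b' : Subgroup (XH Q))) = N b ⊓ centralizer (((S : Subgroup G) ⊓ E b : Subgroup G) : Set G) ∧
      Nat.card (b' : Subgroup (XH Q)) = 2 := fun b => by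
    have hc := cov_two F Q h3 h2 b
    exact ⟨⟨TypesNat.im Q ((S : Subgroup G) ⊓ E b), Or.inr ⟨b, rfl⟩⟩, rfl, by rw [uN_neg (nm b)]; exact hc.n.symm,
      hc.l.symm, hc.q.symm⟩
  have hGB' : ∀ D ∈ RRs S (MZ (S : Subgroup G)) Q, NB D (NN (EB S Q) Q.Mod D) (CC (EB S Q) Q.Mod D) :=
    fun D hD => (hGB D hD).nb
  refine ⟨fun P a => ?_, ?_⟩
  · rcases two_or_big B mv Q no a with h | ⟨A, hA, h5⟩
    · obtain ⟨K, i1, i2, i3, k, hk, M, h, hD, h6⟩ := act_letters B no F h3 a h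
      refine ⟨K, i1, i2, i3, k, hk, M, h, hD, fun j => ?_⟩
      obtain ⟨b, e1, e2, e3⟩ := h6 j
      obtain ⟨b', -, e4, e5, e6⟩ := cov₂ b
      exact ⟨b', e4.trans e1, e5.trans e2, e6.trans e3⟩
    · exact act_cov B mv Q hGB' h4 hF.sinv cov₁ a.1 hA ⟨h5, P, a.1, le_MZ a.1, A, hA, rfl⟩
  · rintro ⟨D, hD | ⟨b, rfl⟩⟩
    · exact mov_cov B mv Q hI hGB h4 hF.sinv AsmOneBlk.rrs_sub cov₁ hD ⟨congrArg (un Q) (uN_pos hD), rfl, rfl⟩
    · obtain ⟨P, a, K, i1, i2, i3, k, hk, M, h, hD, ⟨j, e1, e2, e3⟩, h6⟩ := mov₂ b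
      refine ⟨P, a, K, i1, i2, i3, k, hk, M, h, hD, ⟨j, ?_, ?_, ?_⟩, fun j => ?_⟩
      · rw [uN_neg (nm b)]
        exact (cov_two F Q h3 h2 b).n.symm.trans e1
      · exact (cov_two F Q h3 h2 b).l.symm.trans e2
      · exact (cov_two F Q h3 h2 b).q.symm.trans e3
      · obtain ⟨c, e1, e2, e3⟩ := h6 j
        obtain ⟨b', -, e4, e5, e6⟩ := cov₂ c
        exact ⟨b', e4.trans e1, e5.trans e2, e6.trans e3⟩

end Cfsg.Agent.Omega.NOThreeL.RRed.Blk.SrcMix
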