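import Cfsg.Agent.Omega.NOThreeL.RRed.Blk.TypesAbsN

/-!
# NO-3L, box R: nonsplit natural blocks (helper855, #26560), (T3n), abstract form over `TypesN.DtN`

`V = N ⊕ C`, `L ≤ N`, `A` exact with `C_V(A) = L + C`, `E` generated by `E`-conjugates of `A`, `[V, E] ≤ W`, `C_V(E) ≤ C`.
`K` is generated by `K`-conjugates of exact groups `B ∈ B₀` which centralise `W`; `A` centralises `[V, K]`.

* **`DtN.away`** : `K` centralises `N`, `A` and `[V, A]`; `[V, K] ≤ C`.
-/

set_option autoImplicit false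
set_option linter.unusedSectionVars false

namespace Cfsg.Agent.Omega.NOThreeL.RRed.Blk.TThreeN

open Subgroup
open scoped Pointwise
open Cfsg.Agent.Omega.NOThreeL.RRed.NS (fxd brk mem_fxd)
open Cfsg.Agent.Omega.NOThreeL.RRed.Blk.Types Cfsg.Agent.Omega.NOThreeL.RRed.Blk.TypesN

universe u v

variable {X : Type u} {V : Type v} [Group X] [AddCommGroup V] [DistribMulAction X V]

theorem brkMono {A B : Subgroup X} (h : A ≤ B) : brk V A ≤ brk V B := brk_le fun _ ha m => sub_mem_brk (h ha) m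

theorem card_fxd_conj (x : X) (A : Subgroup X) :
    Nat.card (fxd (MulAut.conj x • A) : AddSubgroup V) = Nat.card (fxd A : AddSubgroup V) := by
  refine Nat.card_congr ⟨fun m => ⟨x⁻¹ • m.1, (fxd_cj x A).1 m.2⟩, fun m => ⟨x • m.1, (fxd_cj x A).2 ?_⟩, fun m => ?_,
    fun m => ?_⟩
  · rw [inv_smul_smul]; exact m.2
  · exact Subtype.ext (smul_inv_smul _ _)
  · exact Subtype.ext (inv_smul_smul _ _)

/-- **(T3n)** -/
theorem away [Finite X] [Finite V] (S : Sit V (⊤ : Subgroup X)) {A E : Subgroup X} {L N C W : AddSubgroup V} {τ : X}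
    (T : DtN ⊤ A L N C τ) (NC : ∀ m ∈ N, m ∈ C → m = 0) (sep : ∀ a ∈ A, (∀ m : V, a • m - m ∈ C) → a = 1) (AE : A ≤ E)
    (EW : brk V E ≤ W) (EC : (fxd E : AddSubgroup V) ≤ C)
    (genE : E ≤ closure {x | ∃ g ∈ E, ∃ a ∈ A, x = g * a * g⁻¹}) {K : Subgroup X} {B₀ : Set (Subgroup X)}
    (hel : ∀ B ∈ B₀, El B) (hex : ∀ B ∈ B₀, Nat.card V ≤ Nat.card B * Nat.card (fxd B : AddSubgroup V))
    (hqd : ∀ B ∈ B₀, brk V B ≤ fxd B) (hBK : ∀ B ∈ B₀, B ≤ K) (hBW : ∀ B ∈ B₀, ∀ b ∈ B, ∀ n ∈ W, b • n = n)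
    (hAK : ∀ a ∈ A, ∀ m ∈ brk V K, a • m = m)
    (gen : K ≤ closure {x | ∃ g ∈ K, ∃ B ∈ B₀, ∃ b ∈ B, x = g * b * g⁻¹}) :
    (∀ k ∈ K, ∀ n ∈ N, k • n = n) ∧ (∀ k ∈ K, ∀ n ∈ brk V A, k • n = n) ∧ brk V K ≤ C ∧
      ∀ k ∈ K, ∀ a ∈ A, k * a = a * k := by
  have hKA : brk V K ≤ fxd A := fun m hm => mem_fxd.2 fun a ha => hAK a ha m hm
  have hAW : brk V A ≤ W := (brkMono AE).trans EW
  have hcm0 : ∀ B ∈ B₀, ∀ b ∈ B, ∀ a ∈ A, b * a = a * b := by
    intro B hB b hb a ha
    refine S.comm_of (mem_top _) (mem_top _) (fun m => ?_) fun m => ?_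
    · exact hAK a ha _ (brkMono (hBK B hB) (sub_mem_brk hb m))
    · exact hBW B hB b hb _ (hAW (sub_mem_brk ha m))
  -- (1) `[V, B] ≤ C`
  have hBC0 : ∀ B ∈ B₀, brk V B ≤ C := by
    intro B hB
    have h1 := S.cent (D := B) (K := E) le_top (hel B hB) (hex B hB) (hqd B hB) le_top
      (fun m hm => mem_fxd.2 fun b hb => hBW B hB b hb m (EW hm)) (genE.trans (by
        rw [closure_le]
        rintro _ ⟨g, hg, a, ha, rfl⟩
        exact subset_closure ⟨g, hg, a, fun b hb => (hcm0 B hB b hb a ha).symm, rfl⟩))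
    exact h1.2.trans EC
  -- (2) `K` centralises `A` and `[V, A]`
  obtain ⟨hKc, hAfK⟩ := S.cent (D := A) (K := K) le_top T.el T.ex T.qd le_top hKA
    (gen.trans (by
      apply Subgroup.closure_mono
      rintro x ⟨g, hg, B, hB, b, hb, rfl⟩
      exact ⟨g, hg, b, fun d hd => hcm0 B hB b hb d hd, rfl⟩))
  -- (3) the conjugates
  have hback : ∀ g ∈ K, ∀ B ∈ B₀, ∀ y ∈ brk V (MulAut.conj g • B), y ∈ brk V A → y ∈ C := by
    intro g hg B hB y hy hyA
    have h1 := brk_cj hy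
    have h2 : g⁻¹ • y = y := mem_fxd.1 (hAfK hyA) _ (inv_mem hg)
    rw [h2] at h1
    exact hBC0 B hB h1
  have hcjK : ∀ g ∈ K, ∀ B ∈ B₀, MulAut.conj g • B ≤ K := by
    intro g hg B hB x hx
    have h1 := hBK B hB (mem_cj.1 hx)
    have e1 : x = g * (g⁻¹ * x * g) * g⁻¹ := by group
    rw [e1]; exact mul_mem (mul_mem hg h1) (inv_mem hg)
  have hBd : ∀ g ∈ K, ∀ B ∈ B₀, BdN (⊤ : Subgroup X) A (MulAut.conj g • B) L := by
    intro g hg B hB
    have hle := hcjK g hg B hB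
    refine
      { BX := le_top
        el := (hel B hB).cj g
        ex := ?_
        qd := ?_
        cm := fun d hd b hb => (hKc b (hle hb) d hd).symm
        BD := (brkMono hle).trans hKA
        DB := fun m hm => mem_fxd.2 fun b hb => mem_fxd.1 (hAfK hm) b (hle hb)
        tr := fun y hy hy' => NC y (T.LN hy') (hback g hg B hB y hy (T.LD hy'))
        ab := fun a ha h => sep a ha fun m => hback g hg B hB _ (h m) (sub_mem_brk ha m) }
    · rw [card_cj, card_fxd_conj]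
      exact hex B hB
    · intro m hm
      rw [fxd_cj]
      exact hqd B hB (brk_cj hm)
  have hkeep : ∀ k ∈ K, ∀ c ∈ C, k • c ∈ C := by
    have h1 : K ≤ {
        carrier := {x | ∀ c, c ∈ C ↔ x • c ∈ C}
        mul_mem' := fun {a b} ha hb c => by rw [mul_smul, ← ha, ← hb]
        one_mem' := fun c => by rw [one_smul]
        inv_mem' := fun {a} ha c => by rw [ha (a⁻¹ • c), smul_inv_smul] } := by
      refine gen.trans ((Subgroup.closure_le _).2 ?_)
      rintro x ⟨g, hg, B, hB, b, hb, rfl⟩ c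
      have hb' : g * b * g⁻¹ ∈ MulAut.conj g • B := by
        rw [mem_cj]; convert hb using 1; group
      constructor
      · exact fun hc => T.keep S (hBd g hg B hB) hb' hc
      · intro hc
        have h3 := T.keep S (hBd g hg B hB) hb' hc
        have h5 : (g * b * g⁻¹) * (g * b * g⁻¹) = 1 := ((hel B hB).cj g).sq _ hb'
        rw [← mul_smul, h5, one_smul] at h3
        exact h3
    exact fun k hk c hc => (h1 hk c).1 hc
  have hBC : ∀ g ∈ K, ∀ B ∈ B₀, brk V (MulAut.conj g • B) ≤ C := by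
    intro g hg B hB m hm
    have h1 := hkeep g hg _ (hBC0 B hB (brk_cj hm))
    rwa [smul_inv_smul] at h1
  refine ⟨fun k hk n hn => ?_, fun k hk n hn => mem_fxd.1 (hAfK hn) k hk, ?_, fun k hk a ha => hKc k hk a ha⟩
  · have h1 : K ≤ MulAction.stabilizer X n := by
      refine gen.trans ((Subgroup.closure_le _).2 ?_)
      rintro x ⟨g, hg, B, hB, b, hb, rfl⟩
      have hb' : g * b * g⁻¹ ∈ MulAut.conj g • B := by
        rw [mem_cj]; convert hb using 1; group
      exact MulAction.mem_stabilizer_iff.2 (T.kill S (hBd g hg B hB) (hBC g hg B hB) hb' hn)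
    exact MulAction.mem_stabilizer_iff.1 (h1 hk)
  · have h1 : K ≤ {
        carrier := {x | (∀ c, c ∈ C ↔ x • c ∈ C) ∧ ∀ v : V, x • v - v ∈ C}
        mul_mem' := by
          rintro a b ⟨ha, ha'⟩ ⟨hb, hb'⟩
          refine ⟨fun c => by rw [mul_smul, ← ha, ← hb], fun v => ?_⟩
          have e1 : (a * b) • v - v = a • (b • v - v) + (a • v - v) := by
            rw [mul_smul, smul_sub]; abel
          rw [e1]
          exact add_mem ((ha _).1 (hb' v)) (ha' v)
        one_mem' := ⟨fun c => by rw [one_smul], fun v => by rw [one_smul, sub_self]; exact C.zero_mem⟩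
        inv_mem' := by
          rintro a ⟨ha, ha'⟩
          refine ⟨fun c => by rw [ha (a⁻¹ • c), smul_inv_smul], fun v => ?_⟩
          rw [ha]
          have e1 : a • (a⁻¹ • v - v) = -(a • v - v) := by rw [smul_sub, smul_inv_smul]; abel
          rw [e1]
          exact neg_mem (ha' v) } := by
      refine gen.trans ((Subgroup.closure_le _).2 ?_)
      rintro x ⟨g, hg, B, hB, b, hb, rfl⟩
      have hb' : g * b * g⁻¹ ∈ MulAut.conj g • B := by
        rw [mem_cj]; convert hb using 1; group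
      refine ⟨fun c => ⟨fun hc => T.keep S (hBd g hg B hB) hb' hc, fun hc => ?_⟩, fun v =>
        hBC g hg B hB (sub_mem_brk hb' v)⟩
      have h3 := T.keep S (hBd g hg B hB) hb' hc
      have h5 : (g * b * g⁻¹) * (g * b * g⁻¹) = 1 := ((hel B hB).cj g).sq _ hb'
      rw [← mul_smul, h5, one_smul] at h3
      exact h3
    exact brk_le fun k hk v => (h1 hk).2 v

/-- `[V, K] ≤ C = C_V(E)`, `K` centralises `[V, E]`: `E` and `K` commute. -/
theorem comm [Finite X] [Finite V] (S : Sit V (⊤ : Subgroup X)) {E K : Subgroup X} {C W : AddSubgroup V}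
    (EW : brk V E ≤ W) (CE : C ≤ fxd E) (hC : brk V K ≤ C) (hW : ∀ k ∈ K, ∀ n ∈ W, k • n = n) :
    ∀ k ∈ K, ∀ x ∈ E, k * x = x * k := by
  intro k hk x hx
  refine S.comm_of (mem_top _) (mem_top _) (fun m => ?_) fun m => ?_
  · exact mem_fxd.1 (CE (hC (sub_mem_brk hk m))) x hx
  · exact hW k hk _ (EW (sub_mem_brk hx m))

end Cfsg.Agent.Omega.NOThreeL.RRed.Blk.TThreeN
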