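import Cfsg.Agent.Omega.NOThreeL.RRed.NS.Three

/-!
# NO-3L, box R: THEOREM TYPES (helper797, #24779), step (T4), abstract

`X` acts faithfully on `V` (additive, `v + v = 0`), no over-offender (`NO`).  `Bk e f C up lo` : a natural block
`N = e(F) ⊕ f(F)` over the field `F` (`|F| ≥ 4`), `V = N ⊕ C`, with root elements `up t : f x ↦ f x + e (t x)`,
`lo t : e x ↦ e x + f (t x)`, trivial on `C`.  `rt up` = the root group.

* **`Bk.gam`** : an element which is trivial on `e(F)`, on `(e(F) + C)/e(F)` and on `V/(e(F) + C)` is in `rt up`.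
* `Bk.eq` (two blocks with the same root group have the same `N` and `C`): in `TypesEq.lean`.
-/

set_option autoImplicit false
set_option linter.unusedSectionVars false

namespace Cfsg.Agent.Omega.NOThreeL.RRed.Blk.TypesGam

open Cfsg.Agent.Omega.NOThreeL.RRed.NS (fxd mem_fxd)

universe u v w w'

variable {X : Type u} {V : Type v} [Group X] [AddCommGroup V] [DistribMulAction X V]

/-- no over-offender -/
def NO (X : Type u) (V : Type v) [Group X] [AddCommGroup V] [DistribMulAction X V] : Prop :=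
  ∀ W : Subgroup X, (∀ x ∈ W, ∀ y ∈ W, x * y = y * x) → (∀ x ∈ W, x * x = 1) →
    Nat.card W ≤ (fxd W : AddSubgroup V).index

/-- a natural block -/
structure Bk {F : Type w} [Field F] (e f : F →+ V) (C : AddSubgroup V) (up lo : F → X) : Prop where
  dec : ∀ v : V, ∃ x y, ∃ c ∈ C, v = e x + f y + c
  ind : ∀ x y, e x + f y ∈ C → x = 0 ∧ y = 0
  up_e : ∀ t x, up t • e x = e x
  up_f : ∀ t x, up t • f x = f x + e (t * x)
  up_c : ∀ t, ∀ c ∈ C, up t • c = c
  lo_e : ∀ t x, lo t • e x = e x + f (t * x)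
  lo_f : ∀ t x, lo t • f x = f x
  lo_c : ∀ t, ∀ c ∈ C, lo t • c = c

section

variable {F : Type w} [Field F] {e f : F →+ V} {C : AddSubgroup V} {up lo : F → X}

theorem Bk.swap (h : Bk e f C up lo) : Bk f e C lo up where
  dec := by
    intro v
    obtain ⟨x, y, c, hc, e1⟩ := h.dec v
    exact ⟨y, x, c, hc, by rw [e1]; abel⟩
  ind := by
    intro x y hm
    rw [add_comm] at hm
    exact (h.ind y x hm).symm
  up_e := h.lo_f
  up_f := h.lo_e
  up_c := h.lo_c
  lo_e := h.up_f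
  lo_f := h.up_e
  lo_c := h.up_c

/-- uniqueness of the components -/
theorem Bk.uniq (h : Bk e f C up lo) {x y x' y' : F} {c c' : V} (hc : c ∈ C) (hc' : c' ∈ C)
    (e1 : e x + f y + c = e x' + f y' + c') : x = x' ∧ y = y' ∧ c = c' := by
  have e2 : e (x - x') + f (y - y') = c' - c := by
    rw [map_sub, map_sub]
    have e3 : e x + f y = e x' + f y' + c' - c := by rw [← e1]; abel
    have e4 : e x - e x' + (f y - f y') = (e x + f y) - (e x' + f y') := by abel
    rw [e4, e3]; abel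
  obtain ⟨h1, h2⟩ := h.ind _ _ (e2 ▸ C.sub_mem hc' hc)
  have h3 := sub_eq_zero.1 h1
  have h4 := sub_eq_zero.1 h2
  subst h3 h4
  exact ⟨rfl, rfl, add_left_cancel e1⟩

/-- the projections -/
theorem Bk.proj' (h : Bk e f C up lo) :
    ∃ (px py : V →+ F) (pc : V →+ V), (∀ v, v = e (px v) + f (py v) + pc v) ∧ ∀ v, pc v ∈ C := by
  choose px py pc hpc hv using h.dec
  refine ⟨AddMonoidHom.mk' px ?_, AddMonoidHom.mk' py ?_, AddMonoidHom.mk' pc ?_, hv, hpc⟩
  all_goals
    intro a b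
    have e1 : e (px (a + b)) + f (py (a + b)) + pc (a + b)
        = e (px a + px b) + f (py a + py b) + (pc a + pc b) := by
      rw [← hv (a + b), map_add, map_add]
      conv_lhs => rw [hv a, hv b]
      abel
    obtain ⟨h1, h2, h3⟩ := h.uniq (hpc _) (C.add_mem (hpc a) (hpc b)) e1
    first | exact h1 | exact h2 | exact h3

theorem Bk.proj (h : Bk e f C up lo) :
    ∃ (px py : V →+ F) (pc : V →+ V), (∀ v, v = e (px v) + f (py v) + pc v) ∧ (∀ v, pc v ∈ C) ∧
      ∀ a b, ∀ c ∈ C, px (e a + f b + c) = a ∧ py (e a + f b + c) = b ∧ pc (e a + f b + c) = c := by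
  obtain ⟨px, py, pc, hv, hpc⟩ := h.proj'
  exact ⟨px, py, pc, hv, hpc, fun a b c hc => h.uniq (hpc _) hc (hv _).symm⟩

variable (h : Bk e f C up lo) (h2 : ∀ v : V, v + v = 0) (hf : ∀ x : X, (∀ v : V, x • v = v) → x = 1)
include h h2 hf

omit h2 in
/-- two elements which agree on the three parts are equal -/
theorem Bk.ext {x y : X} (he : ∀ z, x • e z = y • e z) (hff : ∀ z, x • f z = y • f z)
    (hc : ∀ c ∈ C, x • c = y • c) : x = y := by
  have h1 : y⁻¹ * x = 1 := by
    refine hf _ fun v => ?_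
    obtain ⟨a, b, c, hcc, rfl⟩ := h.dec v
    have e1 : x • (e a + f b + c) = y • (e a + f b + c) := by
      rw [smul_add, smul_add, smul_add, smul_add, he, hff, hc c hcc]
    rw [mul_smul, e1, inv_smul_smul]
  exact (inv_mul_eq_one.1 h1).symm

omit hf in
theorem Bk.two (x : F) : x + x = 0 := by
  refine (h.ind (x + x) 0 ?_).1
  rw [map_add, map_zero, h2, add_zero]
  exact C.zero_mem

omit h2 in
theorem Bk.up_zero : up 0 = 1 := by
  refine h.ext hf (fun z => ?_) (fun z => ?_) fun c hc => ?_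
  · rw [h.up_e, one_smul]
  · rw [h.up_f, zero_mul, map_zero, add_zero, one_smul]
  · rw [h.up_c _ c hc, one_smul]

omit h2 in
theorem Bk.up_add (s t : F) : up s * up t = up (s + t) := by
  refine h.ext hf (fun z => ?_) (fun z => ?_) fun c hc => ?_
  · rw [mul_smul, h.up_e, h.up_e, h.up_e]
  · rw [mul_smul, h.up_f, smul_add, h.up_f, h.up_e, h.up_f, add_mul, map_add]; abel
  · rw [mul_smul, h.up_c _ c hc, h.up_c _ c hc, h.up_c _ c hc]

theorem Bk.up_inv (t : F) : (up t)⁻¹ = up t := by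
  rw [inv_eq_iff_mul_eq_one, h.up_add hf, h.two h2, h.up_zero hf]

/-- the root group -/
def rt (up : F → X) : Subgroup X := Subgroup.closure (Set.range up)

omit h h2 hf in
theorem up_mem (t : F) : up t ∈ rt up := Subgroup.subset_closure ⟨t, rfl⟩

theorem Bk.mem_rt {a : X} : a ∈ rt up ↔ ∃ t, up t = a := by
  constructor
  · intro ha
    refine Subgroup.closure_induction (p := fun a _ => ∃ t, up t = a) ?_ ⟨0, h.up_zero hf⟩ ?_ ?_ ha
    · rintro _ ⟨t, rfl⟩
      exact ⟨t, rfl⟩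
    · rintro _ _ _ _ ⟨s, rfl⟩ ⟨t, rfl⟩
      exact ⟨s + t, (h.up_add hf s t).symm⟩
    · rintro _ _ ⟨t, rfl⟩
      exact ⟨t, (h.up_inv h2 hf t).symm⟩
  · rintro ⟨t, rfl⟩
    exact up_mem t

omit h2 hf in
theorem Bk.up_inj {s t : F} (e1 : up s = up t) : s = t := by
  have e2 := h.up_f s 1
  rw [e1, h.up_f, mul_one, mul_one] at e2
  have e3 : e t + f 0 + 0 = e s + f 0 + 0 := by
    rw [map_zero, add_zero, add_zero, add_zero, add_zero]
    exact add_left_cancel e2
  exact (h.uniq C.zero_mem C.zero_mem e3).1.symm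

theorem Bk.card_rt : Nat.card (rt up) = Nat.card F := by
  refine (Nat.card_congr (Equiv.ofBijective (fun t : F => (⟨up t, up_mem t⟩ : rt up)) ⟨?_, ?_⟩)).symm
  · intro s t e1
    exact h.up_inj (congrArg Subtype.val e1)
  · rintro ⟨a, ha⟩
    obtain ⟨t, rfl⟩ := (h.mem_rt h2 hf).1 ha
    exact ⟨t, rfl⟩

end

section card

/-- counting: a subgroup which fixes the kernel of `π : V → K` has at most `|K|` elements -/
theorem card_le_of [Finite V] (hno : NO X V) {K : Type w} [AddCommGroup K] [Finite K] (π : V →+ K) (W : Subgroup X)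
    (hc : ∀ x ∈ W, ∀ y ∈ W, x * y = y * x) (hq : ∀ x ∈ W, x * x = 1)
    (hfix : ∀ x ∈ W, ∀ v, π v = 0 → x • v = v) : Nat.card W ≤ Nat.card K := by
  have h1 : π.ker ≤ (fxd W : AddSubgroup V) := fun v hv x hx => hfix x hx v (AddMonoidHom.mem_ker.1 hv)
  have h3 : (fxd W : AddSubgroup V).index ≤ π.ker.index := by
    have h4 : (fxd W : AddSubgroup V).index ∣ π.ker.index := AddSubgroup.index_dvd_of_le h1
    exact Nat.le_of_dvd (Nat.pos_of_ne_zero AddSubgroup.index_ne_zero_of_finite) h4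
  have h5 : π.ker.index = Nat.card π.range := AddSubgroup.index_ker π
  have h6 : Nat.card π.range ≤ Nat.card K := Nat.card_le_card_of_injective _ Subtype.val_injective
  exact (hno W hc hq).trans (h3.trans (h5 ▸ h6))

end card

section gam

variable {F : Type w} [Field F] [Finite F] {e f : F →+ V} {C : AddSubgroup V} {up lo : F → X} [Finite V] [Finite X]

/-- LEMMA K : an element which fixes `e(F) + C` and is trivial on the quotient is in the root group. -/
theorem Bk.memK (h : Bk e f C up lo) (h2 : ∀ v : V, v + v = 0) (hf : ∀ x : X, (∀ v : V, x • v = v) → x = 1)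
    (hno : NO X V) {g : X} (ge : ∀ z, g • e z = e z) (gc : ∀ c ∈ C, g • c = c)
    (gf : ∀ z, ∃ x, ∃ c ∈ C, g • f z = f z + (e x + c)) : g ∈ rt up := by
  obtain ⟨px, py, pc, hv, hpc⟩ := h.proj'
  have hU : ∀ v : V, py v = 0 ↔ ∃ x, ∃ c ∈ C, v = e x + c := by
    intro v
    constructor
    · intro h0
      refine ⟨px v, pc v, hpc v, ?_⟩
      have e1 := hv v
      rw [h0, map_zero, add_zero] at e1
      exact e1
    · rintro ⟨x, c, hc, rfl⟩
      have e1 : e (px (e x + c)) + f (py (e x + c)) + pc (e x + c) = e x + f 0 + c := by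
        rw [← hv, map_zero, add_zero]
      exact (h.uniq (hpc _) hc e1).2.1
  -- the group of all such elements
  let W : Subgroup X :=
    { carrier := {x | (∀ v, py v = 0 → x • v = v) ∧ ∀ v, py (x • v - v) = 0}
      one_mem' := ⟨fun v _ => one_smul _ _, fun v => by rw [one_smul, sub_self, map_zero]⟩
      mul_mem' := by
        rintro x y ⟨hx1, hx2⟩ ⟨hy1, hy2⟩
        refine ⟨fun v hv0 => by rw [mul_smul, hy1 v hv0, hx1 v hv0], fun v => ?_⟩
        have e1 : (x * y) • v - v = (x • (y • v) - y • v) + (y • v - v) := by rw [mul_smul]; abel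
        rw [e1, map_add, hx2, hy2, add_zero]
      inv_mem' := by
        rintro x ⟨hx1, hx2⟩
        refine ⟨fun v hv0 => by rw [inv_smul_eq_iff, hx1 v hv0], fun v => ?_⟩
        have e1 : x⁻¹ • v - v = -(x • (x⁻¹ • v) - x⁻¹ • v) := by rw [smul_inv_smul]; abel
        rw [e1, map_neg, hx2, neg_zero] }
  have key : ∀ x ∈ W, ∀ y ∈ W, ∀ v : V, (x * y) • v = v + (x • v - v) + (y • v - v) := by
    rintro x ⟨hx1, hx2⟩ y ⟨hy1, hy2⟩ v
    have e1 : y • v = v + (y • v - v) := by abel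
    rw [mul_smul]
    conv_lhs => rw [e1]
    rw [smul_add, hx1 _ (hy2 v)]
    abel
  have hcom : ∀ x ∈ W, ∀ y ∈ W, x * y = y * x := by
    intro x hx y hy
    have h3 : (y * x)⁻¹ * (x * y) = 1 := by
      refine hf _ fun v => ?_
      rw [mul_smul, inv_smul_eq_iff, key x hx y hy, key y hy x hx]
      abel
    exact (inv_mul_eq_one.1 h3).symm
  have hsq : ∀ x ∈ W, x * x = 1 := by
    intro x hx
    refine hf _ fun v => ?_
    rw [key x hx x hx, add_assoc, h2, add_zero]
  have hcard : Nat.card W ≤ Nat.card F := card_le_of hno py W hcom hsq fun x hx v h0 => hx.1 v h0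
  have hle : rt up ≤ W := by
    intro a ha
    obtain ⟨t, rfl⟩ := (h.mem_rt h2 hf).1 ha
    refine ⟨fun v h0 => ?_, fun v => ?_⟩
    · obtain ⟨x, c, hc, rfl⟩ := (hU v).1 h0
      rw [smul_add, h.up_e, h.up_c t c hc]
    · rw [hU]
      obtain ⟨x, y, c, hc, rfl⟩ := h.dec v
      refine ⟨t * y, 0, C.zero_mem, ?_⟩
      rw [smul_add, smul_add, h.up_e, h.up_f, h.up_c t c hc]
      abel
  have hgW : g ∈ W := by
    refine ⟨fun v h0 => ?_, fun v => ?_⟩
    · obtain ⟨x, c, hc, rfl⟩ := (hU v).1 h0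
      rw [smul_add, ge, gc c hc]
    · rw [hU]
      obtain ⟨x, y, c, hc, rfl⟩ := h.dec v
      obtain ⟨a, c', hc', e1⟩ := gf y
      refine ⟨a, c', hc', ?_⟩
      rw [smul_add, smul_add, ge, e1, gc c hc]
      abel
  have heq : rt up = W := by
    refine Subgroup.eq_of_le_of_card_ge hle ?_
    rw [h.card_rt h2 hf]
    exact hcard
  rw [heq]
  exact hgW

/-- the action of an element of `Gam` -/
structure Dat {F : Type w} [Field F] (e f : F →+ V) (C : AddSubgroup V) (g : X) (σ : V →+ F) (ρ : F →+ V)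
    (γ : F → F) : Prop where
  ee : ∀ z, g • e z = e z
  cc : ∀ c ∈ C, g • c = c + e (σ c)
  ff : ∀ s, g • f s = f s + ρ s + e (γ s)
  rc : ∀ s, ρ s ∈ C

omit [Finite F] [Finite V] [Finite X] in
theorem Bk.exists_dat (h : Bk e f C up lo) {g : X} (ge : ∀ z, g • e z = e z)
    (gc : ∀ c ∈ C, ∃ x, g • c = c + e x) (gf : ∀ z, ∃ x, ∃ c ∈ C, g • f z = f z + c + e x) :
    ∃ (σ : V →+ F) (ρ : F →+ V) (γ : F →+ F), Dat e f C g σ ρ γ := by
  obtain ⟨px, py, pc, hv, hpc, hu⟩ := h.proj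
  refine ⟨px.comp ((DistribSMul.toAddMonoidHom V g).comp pc),
    pc.comp ((DistribSMul.toAddMonoidHom V g).comp f),
    px.comp ((DistribSMul.toAddMonoidHom V g).comp f), ge, ?_, ?_, fun s => hpc _⟩
  · intro c hc
    obtain ⟨x, hx⟩ := gc c hc
    have e1 : pc c = c := by
      have := (hu 0 0 c hc).2.2
      rwa [map_zero, map_zero, zero_add, zero_add] at this
    have e2 : px (c + e x) = x := by
      have := (hu x 0 c hc).1
      rwa [map_zero, add_zero, add_comm] at this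
    show g • c = c + e (px (g • pc c))
    rw [e1, hx, e2]
  · intro s
    obtain ⟨x, c, hc, hx⟩ := gf s
    have e1 : g • f s = e x + f s + c := by rw [hx]; abel
    show g • f s = f s + pc (g • f s) + e (px (g • f s))
    rw [e1, (hu x s c hc).1, (hu x s c hc).2.2]
    abel

/-- the Weyl elements -/
def wt (up lo : F → X) (t : F) : X := up t * lo t⁻¹ * up t

/-- the torus -/
def hh (up lo : F → X) (t : F) : X := wt up lo t * wt up lo 1

section torus
omit [Finite F] [Finite V] [Finite X]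
variable (h : Bk e f C up lo) (h2 : ∀ v : V, v + v = 0)
include h h2

theorem Bk.wt_e {t : F} (ht : t ≠ 0) (x : F) : wt up lo t • e x = f (t⁻¹ * x) := by
  rw [wt, mul_smul, mul_smul, h.up_e, h.lo_e, smul_add, h.up_e, h.up_f, mul_inv_cancel_left₀ ht]
  have e1 : e x + (f (t⁻¹ * x) + e x) = f (t⁻¹ * x) + (e x + e x) := by abel
  rw [e1, h2, add_zero]

theorem Bk.wt_f {t : F} (ht : t ≠ 0) (y : F) : wt up lo t • f y = e (t * y) := by
  rw [wt, mul_smul, mul_smul, h.up_f, smul_add, h.lo_f, h.lo_e, inv_mul_cancel_left₀ ht, smul_add, smul_add,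
    h.up_f, h.up_e]
  have e1 : f y + e (t * y) + (e (t * y) + (f y + e (t * y)))
      = e (t * y) + ((f y + f y) + (e (t * y) + e (t * y))) := by abel
  rw [e1, h2, h2, add_zero, add_zero]

omit h2 in
theorem Bk.wt_c (t : F) {c : V} (hc : c ∈ C) : wt up lo t • c = c := by
  rw [wt, mul_smul, mul_smul, h.up_c _ c hc, h.lo_c _ c hc, h.up_c _ c hc]

theorem Bk.hh_e {t : F} (ht : t ≠ 0) (x : F) : hh up lo t • e x = e (t * x) := by
  rw [hh, mul_smul, h.wt_e h2 one_ne_zero, h.wt_f h2 ht, inv_one, one_mul]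

theorem Bk.hh_f {t : F} (ht : t ≠ 0) (y : F) : hh up lo t • f y = f (t⁻¹ * y) := by
  rw [hh, mul_smul, h.wt_f h2 one_ne_zero, h.wt_e h2 ht, one_mul]

omit h2 in
theorem Bk.hh_c (t : F) {c : V} (hc : c ∈ C) : hh up lo t • c = c := by
  rw [hh, mul_smul, h.wt_c _ hc, h.wt_c _ hc]

theorem Bk.hhi_e {t : F} (ht : t ≠ 0) (x : F) : (hh up lo t)⁻¹ • e x = e (t⁻¹ * x) := by
  rw [inv_smul_eq_iff, h.hh_e h2 ht, mul_inv_cancel_left₀ ht]

theorem Bk.hhi_f {t : F} (ht : t ≠ 0) (y : F) : (hh up lo t)⁻¹ • f y = f (t * y) := by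
  rw [inv_smul_eq_iff, h.hh_f h2 ht, inv_mul_cancel_left₀ ht]

omit h2 in
theorem Bk.hhi_c (t : F) {c : V} (hc : c ∈ C) : (hh up lo t)⁻¹ • c = c := by
  rw [inv_smul_eq_iff, h.hh_c t hc]

/-- the torus conjugates of an element of `Gam` -/
theorem Dat.conj_h {g : X} {σ : V →+ F} {ρ : F →+ V} {γ : F → F} (D : Dat e f C g σ ρ γ) {t : F} (ht : t ≠ 0) :
    Dat e f C (hh up lo t * g * (hh up lo t)⁻¹) ((AddMonoidHom.mulLeft t).comp σ)
      (ρ.comp (AddMonoidHom.mulLeft t)) (fun s => t * γ (t * s)) where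
  ee := by
    intro z
    rw [mul_smul, mul_smul, h.hhi_e h2 ht, D.ee, h.hh_e h2 ht, mul_inv_cancel_left₀ ht]
  cc := by
    intro c hc
    rw [mul_smul, mul_smul, h.hhi_c t hc, D.cc c hc, smul_add, h.hh_c t hc, h.hh_e h2 ht]
    rfl
  ff := by
    intro s
    rw [mul_smul, mul_smul, h.hhi_f h2 ht, D.ff, smul_add, smul_add, h.hh_f h2 ht, h.hh_c t (D.rc _),
      h.hh_e h2 ht, inv_mul_cancel_left₀ ht]
    rfl
  rc := fun s => D.rc _

end torus

section lin
variable (h : Bk e f C up lo) (h2 : ∀ v : V, v + v = 0) (hf : ∀ x : X, (∀ v : V, x • v = v) → x = 1) (hno : NO X V)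
include h h2 hf hno

/-- two elements of `Gam` with the same `σ`, `ρ` differ by a root element -/
theorem Bk.lin {P Q : X} {κ : F → F} (Pe : ∀ z, P • e z = e z) (Qe : ∀ z, Q • e z = e z)
    (PQ : ∀ c ∈ C, P • c = Q • c) (Qc : ∀ c ∈ C, ∃ x, Q • c = c + e x)
    (Qf : ∀ s, ∃ x, ∃ c ∈ C, Q • f s = f s + c + e x) (Pf : ∀ s, P • f s = Q • f s + e (κ s)) :
    ∃ t, ∀ s, κ s = t * s := by
  have Qie : ∀ z, Q⁻¹ • e z = e z := fun z => by rw [inv_smul_eq_iff, Qe]
  have dc : ∀ c ∈ C, (P * Q⁻¹) • c = c := by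
    intro c hc
    obtain ⟨x, hx⟩ := Qc c hc
    have e1 : Q⁻¹ • c = c - e x := by
      rw [inv_smul_eq_iff, smul_sub, hx, Qe]; abel
    rw [mul_smul, e1, smul_sub, PQ c hc, hx, Pe]; abel
  have df : ∀ s, (P * Q⁻¹) • f s = f s + e (κ s) := by
    intro s
    obtain ⟨x, c, hc, hx⟩ := Qf s
    have e1 : Q⁻¹ • f s = f s - Q⁻¹ • c - e x := by
      have e2 : Q⁻¹ • (Q • f s) = Q⁻¹ • (f s + c + e x) := by rw [hx]
      rw [inv_smul_smul, smul_add, smul_add, Qie] at e2
      have e4 : f s - Q⁻¹ • c - e x = Q⁻¹ • f s := by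
        conv_lhs => rw [e2]
        abel
      exact e4.symm
    have e3 : P • (Q⁻¹ • c) = c := by rw [← mul_smul]; exact dc c hc
    rw [mul_smul, e1, smul_sub, smul_sub, e3, Pe, Pf, hx]; abel
  have hm : P * Q⁻¹ ∈ rt up := by
    refine h.memK h2 hf hno (fun z => ?_) dc fun z => ⟨κ z, 0, C.zero_mem, by rw [df, add_zero]⟩
    rw [mul_smul, Qie, Pe]
  obtain ⟨t, ht⟩ := (h.mem_rt h2 hf).1 hm
  refine ⟨t, fun s => ?_⟩
  have e1 := df s
  rw [← ht, h.up_f] at e1
  have e2 : e (κ s) + f 0 + 0 = e (t * s) + f 0 + 0 := by rw [add_left_cancel e1]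
  exact (h.uniq C.zero_mem C.zero_mem e2).1

/-- `τ = σρ` is linear -/
theorem Bk.tau_lin {g : X} {σ : V →+ F} {ρ : F →+ V} {γ : F → F} (D : Dat e f C g σ ρ γ) :
    ∃ t, ∀ s, σ (ρ s) = t * s := by
  refine h.lin h2 hf hno (P := g * g) (Q := 1) (κ := fun s => σ (ρ s)) (fun z => ?_) (fun z => one_smul _ _)
    (fun c hc => ?_) (fun c hc => ⟨0, by rw [one_smul, map_zero, add_zero]⟩)
    (fun s => ⟨0, 0, C.zero_mem, by rw [one_smul, map_zero, add_zero, add_zero]⟩) fun s => ?_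
  · rw [mul_smul, D.ee, D.ee]
  · rw [mul_smul, D.cc c hc, smul_add, D.cc c hc, D.ee, one_smul, add_assoc, h2, add_zero]
  · rw [mul_smul, D.ff, smul_add, smul_add, D.ff, D.cc _ (D.rc s), D.ee, one_smul]
    have e1 : f s + ρ s + e (γ s) + (ρ s + e (σ (ρ s))) + e (γ s)
        = f s + e (σ (ρ s)) + ((ρ s + ρ s) + (e (γ s) + e (γ s))) := by abel
    rw [e1, h2, h2, add_zero, add_zero]

/-- the identity for two torus conjugates -/
theorem Bk.two_conj {g : X} {σ : V →+ F} {ρ : F →+ V} {γ : F →+ F} (D : Dat e f C g σ ρ γ) {c : F} (hc0 : c ≠ 0)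
    (hc1 : c + 1 ≠ 0) :
    ∃ t, ∀ s, c * γ (c * s) + γ s + c * σ (ρ s) + (c + 1) * γ ((c + 1) * s) = t * s := by
  have D1 := D.conj_h h h2 hc0
  have D2 := D.conj_h h h2 hc1
  refine h.lin h2 hf hno (P := hh up lo c * g * (hh up lo c)⁻¹ * g)
    (Q := hh up lo (c + 1) * g * (hh up lo (c + 1))⁻¹) (fun z => ?_) (fun z => D2.ee z) (fun v hv => ?_)
    (fun v hv => ⟨_, D2.cc v hv⟩) (fun s => ⟨_, _, D2.rc s, D2.ff s⟩) fun s => ?_
  · rw [mul_smul, D.ee, D1.ee]
  · rw [mul_smul, D.cc v hv, smul_add, D1.cc v hv, D1.ee, D2.cc v hv]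
    show v + e (c * σ v) + e (σ v) = v + e ((c + 1) * σ v)
    rw [add_mul, one_mul, map_add]; abel
  · rw [mul_smul, D.ff, smul_add, smul_add, D1.ff, D1.cc _ (D.rc s), D1.ee, D2.ff]
    show f s + ρ (c * s) + e (c * γ (c * s)) + (ρ s + e (c * σ (ρ s))) + e (γ s)
      = f s + ρ ((c + 1) * s) + e ((c + 1) * γ ((c + 1) * s))
        + e (c * γ (c * s) + γ s + c * σ (ρ s) + (c + 1) * γ ((c + 1) * s))
    have e1 : ρ ((c + 1) * s) = ρ (c * s) + ρ s := by rw [add_mul, one_mul, map_add]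
    rw [e1]
    simp only [map_add]
    have e2 : f s + (ρ (c * s) + ρ s) + e ((c + 1) * γ ((c + 1) * s))
        + (e (c * γ (c * s)) + e (γ s) + e (c * σ (ρ s)) + e ((c + 1) * γ ((c + 1) * s)))
        = (e ((c + 1) * γ ((c + 1) * s)) + e ((c + 1) * γ ((c + 1) * s)))
          + (f s + ρ (c * s) + ρ s + e (c * γ (c * s)) + e (γ s) + e (c * σ (ρ s))) := by abel
    rw [e2, h2, zero_add]
    abel

/-- `γ` is linear -/
theorem Bk.gam_lin {g : X} {σ : V →+ F} {ρ : F →+ V} {γ : F →+ F} (D : Dat e f C g σ ρ γ) (s : F) :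
    γ s = γ 1 * s := by
  have hF := h.two h2
  obtain ⟨t0, ht0⟩ := h.tau_lin h2 hf hno D
  have key : ∀ c s, γ (c * s) + c * γ s = (γ c + c * γ 1) * s := by
    intro c s
    by_cases hc0 : c = 0
    · subst hc0; simp
    by_cases hc1 : c + 1 = 0
    · have e1 : c = 1 := by
        have := add_eq_zero_iff_eq_neg.1 hc1
        rw [this, neg_eq_iff_add_eq_zero]
        exact hF 1
      subst e1
      rw [one_mul, one_mul, one_mul, hF, hF, zero_mul]
    obtain ⟨t, ht⟩ := h.two_conj h2 hf hno D hc0 hc1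
    have e1 : ∀ s, γ (c * s) + c * γ s = (t + c * t0) * s := by
      intro s
      have e2 := ht s
      have e5 : γ ((c + 1) * s) = γ (c * s) + γ s := by rw [add_mul, one_mul, map_add]
      rw [ht0, e5] at e2
      have e3 : γ (c * s) + c * γ s = (c * γ (c * s) + γ s + c * (t0 * s) + (c + 1) * (γ (c * s) + γ s))
          + c * t0 * s - ((c * γ (c * s) + c * γ (c * s)) + (γ s + γ s) + (c * t0 * s + c * t0 * s)) := by ring
      rw [e3, e2, hF (c * γ (c * s)), hF (γ s), hF (c * t0 * s)]; ring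
    have e4 := e1 1
    rw [mul_one, mul_one] at e4
    rw [e1, e4]
  have hsq : ∀ x, γ (x * x) = γ 1 * (x * x) := by
    intro x
    have e1 := key x x
    have e2 : γ (x * x) = (γ x + x * γ 1) * x - x * γ x := by rw [← e1]; ring
    rw [e2]; ring
  have hinj : Function.Injective (fun x : F => x * x) := by
    intro x y hxy
    have e1 : (x + y) * (x + y) = 0 := by
      have e2 : (x + y) * (x + y) = x * x + y * y + (x * y + x * y) := by ring
      have hxy' : x * x = y * y := hxy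
      rw [e2, hF, add_zero, hxy', hF]
    have e3 := mul_self_eq_zero.1 e1
    rw [add_eq_zero_iff_eq_neg.1 e3, neg_eq_iff_add_eq_zero]
    exact hF y
  obtain ⟨x, hx⟩ := (Finite.surjective_of_injective hinj) s
  have hx' : x * x = s := hx
  rw [← hx', hsq]

/-- SYM -/
theorem Bk.sym {g : X} {σ : V →+ F} {ρ : F →+ V} (D : Dat e f C g σ ρ (fun _ => 0)) (s : F) : σ (ρ s) = 0 := by
  have hF := h.two h2
  obtain ⟨px, py, pc, hv, hpc, hu⟩ := h.proj
  have hpx : ∀ (v : V) b, ∀ c ∈ C, px (v + f b + c) = px v := by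
    intro v b c hc
    have e1 : v + f b + c = e (px v) + f (py v + b) + (pc v + c) := by
      conv_lhs => rw [hv v]
      rw [map_add]; abel
    rw [e1, (hu _ _ _ (C.add_mem (hpc v) hc)).1]
  have hlo : ∀ r (v : V), lo r • v = v + f (r * px v) := by
    intro r v
    conv_lhs => rw [hv v]
    rw [smul_add, smul_add, h.lo_e, h.lo_f, h.lo_c r _ (hpc v)]
    conv_rhs => rw [hv v]
    rw [(hu _ _ _ (hpc v)).1]
    abel
  have gff : ∀ a, g • f a = f a + ρ a := by
    intro a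
    rw [D.ff, map_zero, add_zero]
  set x : X := g * lo 1 * g⁻¹ with hx
  have xv : ∀ v : V, x • v = v + f (px (g⁻¹ • v)) + ρ (px (g⁻¹ • v)) := by
    intro v
    rw [hx, mul_smul, mul_smul, hlo, smul_add, smul_inv_smul, one_mul, gff]; abel
  have xpx : ∀ v : V, px (x⁻¹ • v) = px v := by
    intro v
    have e1 := xv (x⁻¹ • v)
    rw [smul_inv_smul] at e1
    have e2 : px v = px (x⁻¹ • v) := by
      conv_lhs => rw [e1]
      exact hpx _ _ _ (D.rc _)
    exact e2.symm
  have yv : ∀ v : V, (x * lo 1 * x⁻¹) • v = v + x • f (px v) := by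
    intro v
    rw [mul_smul, mul_smul, hlo, smul_add, smul_inv_smul, one_mul, xpx]
  have hy : x * lo 1 * x⁻¹ ∈ rt lo := by
    refine h.swap.memK h2 hf hno (fun z => ?_) (fun c hc => ?_) fun z => ?_
    · have e1 : px (f z) = 0 := by
        have := (hu 0 z 0 C.zero_mem).1
        rwa [map_zero, zero_add, add_zero] at this
      rw [yv, e1, map_zero, smul_zero, add_zero]
    · have e1 : px c = 0 := by
        have := (hu 0 0 c hc).1
        rwa [map_zero, map_zero, zero_add, zero_add] at this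
      rw [yv, e1, map_zero, smul_zero, add_zero]
    · refine ⟨px (e z) + px (g⁻¹ • f (px (e z))), ρ (px (g⁻¹ • f (px (e z)))), D.rc _, ?_⟩
      rw [yv, xv, map_add]
  obtain ⟨r, hr⟩ := (h.swap.mem_rt h2 hf).1 hy
  have xf : ∀ z, x • f z = f (r * z) := by
    intro z
    have e1 : (x * lo 1 * x⁻¹) • e z = e z + x • f z := by
      have e2 : px (e z) = z := by
        have := (hu z 0 0 C.zero_mem).1
        rwa [map_zero, add_zero, add_zero] at this
      rw [yv, e2]
    rw [← hr, h.lo_e] at e1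
    exact (add_left_cancel e1).symm
  have hxx : x * x = 1 := by
    have e1 : lo 1 * lo 1 = (1 : X) := by rw [h.swap.up_add hf, hF, h.swap.up_zero hf]
    calc x * x = g * (lo 1 * lo 1) * g⁻¹ := by rw [hx]; group
      _ = 1 := by rw [e1]; group
  have hr1 : r = 1 := by
    have e1 : x • (x • f 1) = f 1 := by rw [← mul_smul, hxx, one_smul]
    rw [xf, xf, mul_one] at e1
    have e2 : e 0 + f (r * r) + 0 = e 0 + f 1 + 0 := by rw [e1]
    have e3 := (h.uniq C.zero_mem C.zero_mem e2).2.1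
    have e4 : (r + 1) * (r + 1) = 0 := by
      have e5 : (r + 1) * (r + 1) = r * r + 1 + (r + r) := by ring
      rw [e5, e3, hF, hF, add_zero]
    have e5 := mul_self_eq_zero.1 e4
    rw [add_eq_zero_iff_eq_neg.1 e5, neg_eq_iff_add_eq_zero]
    exact hF 1
  have e1 : px (g⁻¹ • f s) = 0 := by
    have e2 := xv (f s)
    rw [xf, hr1, one_mul] at e2
    have e3 : e 0 + f 0 + 0 = e 0 + f (px (g⁻¹ • f s)) + ρ (px (g⁻¹ • f s)) := by
      have e4 : f s + 0 = f s + (f (px (g⁻¹ • f s)) + ρ (px (g⁻¹ • f s))) := by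
        rw [add_zero, ← add_assoc]; exact e2
      rw [map_zero, map_zero, zero_add, zero_add, zero_add]
      exact add_left_cancel e4
    exact (h.uniq C.zero_mem (D.rc _) e3).2.1.symm
  have e2 : g⁻¹ • f s = f s + ρ s - e (σ (ρ s)) := by
    rw [inv_smul_eq_iff, smul_sub, smul_add, gff, D.cc _ (D.rc s), D.ee]
    have e3 : f s + ρ s + (ρ s + e (σ (ρ s))) - e (σ (ρ s)) = f s + (ρ s + ρ s) := by abel
    rw [e3, h2, add_zero]
  rw [e2] at e1
  have e3 : f s + ρ s - e (σ (ρ s)) = e (-(σ (ρ s))) + f s + ρ s := by rw [map_neg]; abel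
  rw [e3, (hu _ _ _ (D.rc s)).1] at e1
  exact neg_eq_zero.1 e1

omit hf hno in
/-- the `F`-line through an element of `Gam` with `γ = 0` -/
theorem Bk.dat_mul {g : X} {σ : V →+ F} {ρ : F →+ V} (D : Dat e f C g σ ρ (fun _ => 0)) (a : F) :
    ∃ x : X, Dat e f C x ((AddMonoidHom.mulLeft a).comp σ) (ρ.comp (AddMonoidHom.mulLeft a)) (fun _ => 0) := by
  by_cases ha : a = 0
  · subst ha
    refine ⟨1, fun z => one_smul _ _, fun c _ => ?_, fun s => ?_, fun s => ?_⟩
    · show (1 : X) • c = c + e (0 * σ c)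
      rw [zero_mul, map_zero, add_zero, one_smul]
    · show (1 : X) • f s = f s + ρ (0 * s) + e 0
      rw [zero_mul, map_zero, map_zero, add_zero, add_zero, one_smul]
    · show ρ (0 * s) ∈ C
      exact D.rc _
  · have D1 := D.conj_h h h2 ha
    refine ⟨_, D1.ee, D1.cc, fun s => ?_, D1.rc⟩
    have e1 := D1.ff s
    rw [e1, mul_zero]

/-- the case `ρ = 0` -/
theorem Bk.false_rho_zero (h4 : 4 ≤ Nat.card F) {g : X} {σ : V →+ F} {ρ : F →+ V}
    (D : Dat e f C g σ ρ (fun _ => 0)) (hr : ∀ s, ρ s = 0) {c1 : V} (hc1 : c1 ∈ C) (hs : σ c1 ≠ 0) : False := by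
  obtain ⟨px, py, pc, hv, hpc, hu⟩ := h.proj
  let W : Subgroup X :=
    { carrier := {x | (∀ z, x • e z = e z) ∧ (∀ z, x • f z = f z) ∧
        ∃ a b, ∀ c ∈ C, x • c = c + e (a * σ c) + f (b * σ c)}
      one_mem' := ⟨fun z => one_smul _ _, fun z => one_smul _ _, 0, 0, fun c _ => by
        rw [zero_mul, map_zero, map_zero, add_zero, add_zero, one_smul]⟩
      mul_mem' := by
        rintro x y ⟨hx1, hx2, a, b, hx3⟩ ⟨hy1, hy2, a', b', hy3⟩
        refine ⟨fun z => by rw [mul_smul, hy1, hx1], fun z => by rw [mul_smul, hy2, hx2], a + a', b + b',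
          fun c hc => ?_⟩
        rw [mul_smul, hy3 c hc, smul_add, smul_add, hx1, hx2, hx3 c hc, add_mul, add_mul, map_add, map_add]
        abel
      inv_mem' := by
        rintro x ⟨hx1, hx2, a, b, hx3⟩
        refine ⟨fun z => by rw [inv_smul_eq_iff, hx1], fun z => by rw [inv_smul_eq_iff, hx2], a, b, fun c hc => ?_⟩
        rw [inv_smul_eq_iff, smul_add, smul_add, hx1, hx2, hx3 c hc]
        have e1 : c + e (a * σ c) + f (b * σ c) + e (a * σ c) + f (b * σ c)
            = c + ((e (a * σ c) + e (a * σ c)) + (f (b * σ c) + f (b * σ c))) := by abel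
        rw [e1, h2, h2, add_zero, add_zero] }
  have hup : Nat.card W ≤ Nat.card F := by
    refine card_le_of hno (σ.comp pc) W ?_ ?_ ?_
    · rintro x ⟨hx1, hx2, a, b, hx3⟩ y ⟨hy1, hy2, a', b', hy3⟩
      refine h.ext hf (fun z => ?_) (fun z => ?_) fun c hc => ?_
      · rw [mul_smul, mul_smul, hy1, hx1, hy1]
      · rw [mul_smul, mul_smul, hy2, hx2, hy2]
      · rw [mul_smul, mul_smul, hy3 c hc, hx3 c hc, smul_add, smul_add, smul_add, smul_add, hx1, hx2, hy1, hy2,
          hx3 c hc, hy3 c hc]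
        abel
    · rintro x ⟨hx1, hx2, a, b, hx3⟩
      refine h.ext hf (fun z => ?_) (fun z => ?_) fun c hc => ?_
      · rw [mul_smul, hx1, hx1, one_smul]
      · rw [mul_smul, hx2, hx2, one_smul]
      · rw [mul_smul, hx3 c hc, smul_add, smul_add, hx1, hx2, hx3 c hc, one_smul]
        have e1 : c + e (a * σ c) + f (b * σ c) + e (a * σ c) + f (b * σ c)
            = c + ((e (a * σ c) + e (a * σ c)) + (f (b * σ c) + f (b * σ c))) := by abel
        rw [e1, h2, h2, add_zero, add_zero]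
    · rintro x ⟨hx1, hx2, a, b, hx3⟩ v hv0
      have hv0' : σ (pc v) = 0 := hv0
      conv_lhs => rw [hv v]
      rw [smul_add, smul_add, hx1, hx2, hx3 _ (hpc v), hv0', mul_zero, mul_zero, map_zero, map_zero, add_zero,
        add_zero]
      exact (hv v).symm
  -- elements
  have hex : ∀ p : F × F, ∃ x : X, (∀ z, x • e z = e z) ∧ (∀ z, x • f z = f z) ∧
      ∀ c ∈ C, x • c = c + e (p.1 * σ c) + f (p.2 * σ c) := by
    rintro ⟨a, b⟩
    obtain ⟨x, Dx⟩ := h.dat_mul h2 D a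
    obtain ⟨y, Dy⟩ := h.dat_mul h2 D b
    have w1 : ∀ z, (wt up lo 1)⁻¹ • e z = f z := fun z => by
      rw [inv_smul_eq_iff, h.wt_f h2 one_ne_zero, one_mul]
    have w2 : ∀ z, (wt up lo 1)⁻¹ • f z = e z := fun z => by
      rw [inv_smul_eq_iff, h.wt_e h2 one_ne_zero, inv_one, one_mul]
    have w3 : ∀ c ∈ C, (wt up lo 1)⁻¹ • c = c := fun c hc => by rw [inv_smul_eq_iff, h.wt_c _ hc]
    have yf : ∀ z, y • f z = f z := by
      intro z
      rw [Dy.ff]
      show f z + ρ (b * z) + e 0 = f z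
      rw [hr, map_zero, add_zero, add_zero]
    have xf : ∀ z, x • f z = f z := by
      intro z
      rw [Dx.ff]
      show f z + ρ (a * z) + e 0 = f z
      rw [hr, map_zero, add_zero, add_zero]
    refine ⟨x * (wt up lo 1 * y * (wt up lo 1)⁻¹), fun z => ?_, fun z => ?_, fun c hc => ?_⟩
    · rw [mul_smul, mul_smul, mul_smul, w1, yf, h.wt_f h2 one_ne_zero, one_mul, Dx.ee]
    · rw [mul_smul, mul_smul, mul_smul, w2, Dy.ee, h.wt_e h2 one_ne_zero, inv_one, one_mul, xf]
    · rw [mul_smul, mul_smul, mul_smul, w3 c hc, Dy.cc c hc, smul_add, h.wt_c _ hc, h.wt_e h2 one_ne_zero, inv_one,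
        one_mul, smul_add, xf, Dx.cc c hc]
      rfl
  choose m hm1 hm2 hm3 using hex
  have hlow : Nat.card (F × F) ≤ Nat.card W := by
    refine Nat.card_le_card_of_injective (fun p => (⟨m p, hm1 p, hm2 p, p.1, p.2, hm3 p⟩ : W)) ?_
    intro p p' hpp
    have e1 : m p = m p' := congrArg Subtype.val hpp
    have e2 := hm3 p c1 hc1
    rw [e1, hm3 p' c1 hc1] at e2
    have e3 : e (p'.1 * σ c1) + f (p'.2 * σ c1) + c1 = e (p.1 * σ c1) + f (p.2 * σ c1) + c1 := by
      have e4 : ∀ (a b : V), a + b + c1 = c1 + a + b := fun a b => by abel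
      rw [e4, e4, e2]
    obtain ⟨e5, e6, -⟩ := h.uniq hc1 hc1 e3
    exact Prod.ext (mul_right_cancel₀ hs e5.symm) (mul_right_cancel₀ hs e6.symm)
  rw [Nat.card_prod] at hlow
  nlinarith [hlow.trans hup]

/-- the case `ρ ≠ 0` -/
theorem Bk.false_rho_ne {g : X} {σ : V →+ F} {ρ : F →+ V}
    (D : Dat e f C g σ ρ (fun _ => 0)) {s1 : F} (hr : ρ s1 ≠ 0) {c1 : V} (hc1 : c1 ∈ C) (hs : σ c1 ≠ 0) : False := by
  have hsr := h.sym h2 hf hno D
  obtain ⟨px, py, pc, hv, hpc, hu⟩ := h.proj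
  let W : Subgroup X :=
    { carrier := {x | (∀ z, x • e z = e z) ∧
        ∃ a t k, (∀ s, x • f s = f s + ρ (a * s) + e (t * s)) ∧ ∀ c ∈ C, x • c = c + e (a * σ c) + ρ (k * σ c)}
      one_mem' := ⟨fun z => one_smul _ _, 0, 0, 0, fun s => by
        rw [zero_mul, map_zero, map_zero, add_zero, add_zero, one_smul], fun c _ => by
        rw [zero_mul, map_zero, map_zero, add_zero, add_zero, one_smul]⟩
      mul_mem' := by
        rintro x y ⟨hx1, a, t, k, hx2, hx3⟩ ⟨hy1, a', t', k', hy2, hy3⟩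
        have hxr : ∀ z, x • ρ z = ρ z := fun z => by
          rw [hx3 _ (D.rc z), hsr, mul_zero, mul_zero, map_zero, map_zero, add_zero, add_zero]
        refine ⟨fun z => by rw [mul_smul, hy1, hx1], a + a', t + t', k + k', fun s => ?_, fun c hc => ?_⟩
        · rw [mul_smul, hy2, smul_add, smul_add, hx1, hxr, hx2, add_mul, add_mul, map_add, map_add]
          abel
        · rw [mul_smul, hy3 c hc, smul_add, smul_add, hx1, hxr, hx3 c hc, add_mul, add_mul, map_add, map_add]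
          abel
      inv_mem' := by
        rintro x ⟨hx1, a, t, k, hx2, hx3⟩
        have hxr : ∀ z, x • ρ z = ρ z := fun z => by
          rw [hx3 _ (D.rc z), hsr, mul_zero, mul_zero, map_zero, map_zero, add_zero, add_zero]
        refine ⟨fun z => by rw [inv_smul_eq_iff, hx1], a, t, k, fun s => ?_, fun c hc => ?_⟩
        · rw [inv_smul_eq_iff, smul_add, smul_add, hx1, hxr, hx2]
          have e1 : f s + ρ (a * s) + e (t * s) + ρ (a * s) + e (t * s)
            = f s + ((ρ (a * s) + ρ (a * s)) + (e (t * s) + e (t * s))) := by abel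
          rw [e1, h2, h2, add_zero, add_zero]
        · rw [inv_smul_eq_iff, smul_add, smul_add, hx1, hxr, hx3 c hc]
          have e1 : c + e (a * σ c) + ρ (k * σ c) + e (a * σ c) + ρ (k * σ c)
            = c + ((e (a * σ c) + e (a * σ c)) + (ρ (k * σ c) + ρ (k * σ c))) := by abel
          rw [e1, h2, h2, add_zero, add_zero] }
  have hWr : ∀ x ∈ W, ∀ z, x • ρ z = ρ z := by
    rintro x ⟨hx1, a, t, k, hx2, hx3⟩ z
    rw [hx3 _ (D.rc z), hsr, mul_zero, mul_zero, map_zero, map_zero, add_zero, add_zero]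
  have hup : Nat.card W ≤ Nat.card (F × F) := by
    refine card_le_of hno (py.prod (σ.comp pc)) W ?_ ?_ ?_
    · intro x hx y hy
      have hxr := hWr x hx
      have hyr := hWr y hy
      obtain ⟨hx1, a, t, k, hx2, hx3⟩ := hx
      obtain ⟨hy1, a', t', k', hy2, hy3⟩ := hy
      refine h.ext hf (fun z => ?_) (fun z => ?_) fun c hc => ?_
      · rw [mul_smul, mul_smul, hy1, hx1, hy1]
      · rw [mul_smul, mul_smul, hy2, hx2, smul_add, smul_add, smul_add, smul_add, hx1, hxr, hy1, hyr, hx2, hy2]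
        abel
      · rw [mul_smul, mul_smul, hy3 c hc, hx3 c hc, smul_add, smul_add, smul_add, smul_add, hx1, hxr, hy1, hyr,
          hx3 c hc, hy3 c hc]
        abel
    · intro x hx
      have hxr := hWr x hx
      obtain ⟨hx1, a, t, k, hx2, hx3⟩ := hx
      refine h.ext hf (fun z => ?_) (fun s => ?_) fun c hc => ?_
      · rw [mul_smul, hx1, hx1, one_smul]
      · rw [mul_smul, hx2, smul_add, smul_add, hx1, hxr, hx2, one_smul]
        have e1 : f s + ρ (a * s) + e (t * s) + ρ (a * s) + e (t * s)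
          = f s + ((ρ (a * s) + ρ (a * s)) + (e (t * s) + e (t * s))) := by abel
        rw [e1, h2, h2, add_zero, add_zero]
      · rw [mul_smul, hx3 c hc, smul_add, smul_add, hx1, hxr, hx3 c hc, one_smul]
        have e1 : c + e (a * σ c) + ρ (k * σ c) + e (a * σ c) + ρ (k * σ c)
          = c + ((e (a * σ c) + e (a * σ c)) + (ρ (k * σ c) + ρ (k * σ c))) := by abel
        rw [e1, h2, h2, add_zero, add_zero]
    · rintro x ⟨hx1, a, t, k, hx2, hx3⟩ v hv0
      have hv1 : py v = 0 := congrArg Prod.fst hv0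
      have hv2 : σ (pc v) = 0 := congrArg Prod.snd hv0
      conv_lhs => rw [hv v]
      rw [hv1, map_zero, add_zero, smul_add, hx1, hx3 _ (hpc v), hv2, mul_zero, mul_zero, map_zero, map_zero,
        add_zero, add_zero]
      conv_rhs => rw [hv v]
      rw [hv1, map_zero, add_zero]
  -- elements of `Gam`
  have hex : ∀ p : F × F, ∃ x : X, (∀ z, x • e z = e z) ∧ (∀ s, x • f s = f s + ρ (p.1 * s) + e (p.2 * s)) ∧
      ∀ c ∈ C, x • c = c + e (p.1 * σ c) + ρ (0 * σ c) := by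
    rintro ⟨a, t⟩
    obtain ⟨x, Dx⟩ := h.dat_mul h2 D a
    refine ⟨up t * x, fun z => ?_, fun s => ?_, fun c hc => ?_⟩
    · rw [mul_smul, Dx.ee, h.up_e]
    · rw [mul_smul, Dx.ff, map_zero, add_zero, smul_add, h.up_f, h.up_c _ _ (Dx.rc s)]
      show f s + e (t * s) + ρ (a * s) = f s + ρ (a * s) + e (t * s)
      abel
    · rw [mul_smul, Dx.cc c hc, smul_add, h.up_c _ c hc, h.up_e, zero_mul, map_zero, add_zero]
      rfl
  choose m hm1 hm2 hm3 using hex
  have hinj : Function.Injective (fun p : F × F => (⟨m p, hm1 p, p.1, p.2, 0, hm2 p, hm3 p⟩ : W)) := by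
    intro p p' hpp
    have e1 : m p = m p' := congrArg Subtype.val hpp
    have e2 := hm3 p c1 hc1
    rw [e1, hm3 p' c1 hc1, zero_mul, map_zero, add_zero, add_zero] at e2
    have e3 : e (p'.1 * σ c1) + f 0 + c1 = e (p.1 * σ c1) + f 0 + c1 := by
      rw [map_zero, add_zero, add_zero, add_comm _ c1, add_comm _ c1, e2]
    obtain ⟨e5, -, -⟩ := h.uniq hc1 hc1 e3
    have e6 : p.1 = p'.1 := mul_right_cancel₀ hs e5.symm
    have e7 := hm2 p 1
    rw [e1, hm2 p' 1, e6, mul_one, mul_one, mul_one] at e7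
    have e8 : e p'.2 + f 0 + 0 = e p.2 + f 0 + 0 := by rw [add_left_cancel e7]
    obtain ⟨e9, -, -⟩ := h.uniq C.zero_mem C.zero_mem e8
    exact Prod.ext e6 e9.symm
  have hbij := hinj.bijective_of_nat_card_le hup
  -- the element `y_k`
  set k : F := s1 / σ c1 with hk
  obtain ⟨x2, Dx⟩ := h.dat_mul h2 D k
  have w1 : ∀ z, (wt up lo 1)⁻¹ • e z = f z := fun z => by
    rw [inv_smul_eq_iff, h.wt_f h2 one_ne_zero, one_mul]
  have w2 : ∀ z, (wt up lo 1)⁻¹ • f z = e z := fun z => by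
    rw [inv_smul_eq_iff, h.wt_e h2 one_ne_zero, inv_one, one_mul]
  have w3 : ∀ c ∈ C, (wt up lo 1)⁻¹ • c = c := fun c hc => by rw [inv_smul_eq_iff, h.wt_c _ hc]
  have gr : ∀ z, g • ρ z = ρ z := fun z => by rw [D.cc _ (D.rc z), hsr, map_zero, add_zero]
  have gf : ∀ s, g • f s = f s + ρ s := fun s => by rw [D.ff, map_zero, add_zero]
  -- `X₁₂ = g * (w x₂ w⁻¹)`
  set Y : X := g * (wt up lo 1 * x2 * (wt up lo 1)⁻¹) with hY
  have Ye : ∀ z, Y • e z = e z + ρ (k * z) := by
    intro z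
    have e1 : x2 • f z = f z + ρ (k * z) := by
      rw [Dx.ff, map_zero, add_zero]; rfl
    rw [hY, mul_smul, mul_smul, mul_smul, w1, e1, smul_add, h.wt_f h2 one_ne_zero, one_mul, h.wt_c _ (D.rc _),
      smul_add, D.ee, gr]
  have Yf : ∀ z, Y • f z = f z + ρ z := by
    intro z
    rw [hY, mul_smul, mul_smul, mul_smul, w2, Dx.ee, h.wt_e h2 one_ne_zero, inv_one, one_mul, gf]
  have Yc : ∀ c ∈ C, Y • c = c + e (σ c) + f (k * σ c) + ρ (k * σ c) := by
    intro c hc
    have e1 : x2 • c = c + e (k * σ c) := by rw [Dx.cc c hc]; rfl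
    rw [hY, mul_smul, mul_smul, mul_smul, w3 c hc, e1, smul_add, h.wt_c _ hc, h.wt_e h2 one_ne_zero, inv_one,
      one_mul, smul_add, D.cc c hc, gf]
    abel
  -- `X₃ = lo k * g * lo k`
  set Z : X := lo k * g * lo k with hZ
  have Ze : ∀ z, Z • e z = e z + ρ (k * z) := by
    intro z
    rw [hZ, mul_smul, mul_smul, h.lo_e, smul_add, D.ee, gf, smul_add, smul_add, h.lo_e, h.lo_f,
      h.lo_c _ _ (D.rc _)]
    have e1 : e z + f (k * z) + (f (k * z) + ρ (k * z)) = e z + ρ (k * z) + (f (k * z) + f (k * z)) := by abel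
    rw [e1, h2, add_zero]
  have Zf : ∀ z, Z • f z = f z + ρ z := by
    intro z
    rw [hZ, mul_smul, mul_smul, h.lo_f, gf, smul_add, h.lo_f, h.lo_c _ _ (D.rc _)]
  have Zc : ∀ c ∈ C, Z • c = c + e (σ c) + f (k * σ c) := by
    intro c hc
    rw [hZ, mul_smul, mul_smul, h.lo_c _ c hc, D.cc c hc, smul_add, h.lo_c _ c hc, h.lo_e]
    abel
  set y : X := Y * Z⁻¹ with hy
  have yZ : ∀ v : V, y • (Z • v) = Y • v := fun v => by rw [hy, mul_smul, inv_smul_smul]
  have yr : ∀ z, y • ρ z = ρ z := by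
    intro z
    have e1 := yZ (ρ z)
    rw [Zc _ (D.rc z), Yc _ (D.rc z), hsr, mul_zero, map_zero, map_zero, map_zero, add_zero, add_zero,
      add_zero] at e1
    exact e1
  have ye : ∀ z, y • e z = e z := by
    intro z
    have e1 := yZ (e z)
    rw [Ze, Ye, smul_add, yr] at e1
    exact add_right_cancel e1
  have yf : ∀ z, y • f z = f z := by
    intro z
    have e1 := yZ (f z)
    rw [Zf, Yf, smul_add, yr] at e1
    exact add_right_cancel e1
  have yc : ∀ c ∈ C, y • c = c + ρ (k * σ c) := by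
    intro c hc
    have e1 := yZ c
    rw [Zc c hc, Yc c hc, smul_add, smul_add, ye, yf] at e1
    have e2 : y • c + e (σ c) + f (k * σ c) = (c + ρ (k * σ c)) + e (σ c) + f (k * σ c) := by
      rw [e1]; abel
    exact add_right_cancel (add_right_cancel e2)
  have hyW : y ∈ W := ⟨ye, 0, 0, k, fun s => by
      rw [yf, zero_mul, map_zero, map_zero, add_zero, add_zero], fun c hc => by
      rw [yc c hc, zero_mul, map_zero, add_zero]⟩
  obtain ⟨p, hp⟩ := hbij.2 ⟨y, hyW⟩
  have e1 : m p = y := congrArg Subtype.val hp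
  have e2 := hm3 p c1 hc1
  rw [e1, yc c1 hc1, zero_mul, map_zero, add_zero] at e2
  have e3 : e 0 + f 0 + ρ (k * σ c1) = e (p.1 * σ c1) + f 0 + 0 := by
    rw [map_zero, map_zero, add_zero, add_zero, add_zero, zero_add]
    exact add_left_cancel e2
  have e4 := (h.uniq (D.rc _) C.zero_mem e3).2.2
  rw [hk, div_mul_cancel₀ _ hs] at e4
  exact hr e4

/-- **`Gam = A`.** -/
theorem Bk.gam (h4 : 4 ≤ Nat.card F) {g : X} (ge : ∀ z, g • e z = e z) (gc : ∀ c ∈ C, ∃ x, g • c = c + e x)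
    (gf : ∀ z, ∃ x, ∃ c ∈ C, g • f z = f z + c + e x) : g ∈ rt up := by
  by_contra hg
  obtain ⟨σ, ρ, γ, D⟩ := h.exists_dat ge gc gf
  have hl := h.gam_lin h2 hf hno D
  have D' : Dat e f C (up (γ 1) * g) σ ρ (fun _ => 0) := by
    refine ⟨fun z => ?_, fun c hc => ?_, fun s => ?_, D.rc⟩
    · rw [mul_smul, D.ee, h.up_e]
    · rw [mul_smul, D.cc c hc, smul_add, h.up_c _ c hc, h.up_e]
    · rw [mul_smul, D.ff, smul_add, smul_add, h.up_f, h.up_c _ _ (D.rc s), h.up_e, hl s, map_zero, add_zero]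
      have e1 : f s + e (γ 1 * s) + ρ s + e (γ 1 * s) = f s + ρ s + (e (γ 1 * s) + e (γ 1 * s)) := by abel
      rw [e1, h2, add_zero]
  have hg' : up (γ 1) * g ∉ rt up := fun hm => hg ((Subgroup.mul_mem_cancel_left _ (up_mem _)).1 hm)
  by_cases hs : ∃ c1 ∈ C, σ c1 ≠ 0
  · obtain ⟨c1, hc1, hs⟩ := hs
    by_cases hr : ∃ s1, ρ s1 ≠ 0
    · obtain ⟨s1, hr⟩ := hr
      exact h.false_rho_ne h2 hf hno D' hr hc1 hs
    · push Not at hr
      exact h.false_rho_zero h2 hf hno h4 D' hr hc1 hs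
  · push Not at hs
    refine hg' (h.memK h2 hf hno D'.ee (fun c hc => ?_) fun z => ?_)
    · rw [D'.cc c hc, hs c hc, map_zero, add_zero]
    · refine ⟨0, ρ z, D'.rc z, ?_⟩
      rw [D'.ff, map_zero, add_zero, zero_add]

end lin

end gam

end Cfsg.Agent.Omega.NOThreeL.RRed.Blk.TypesGam
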