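import Cfsg.Agent.Omega.NOThreeL.RRed.Blk.TypesAbs
import Cfsg.Agent.Omega.NOThreeL.RRed.Blk.Split
import Cfsg.Agent.Omega.TV.Conj

/-!
# NO-3L, box R: THEOREM TYPES (#24779), the passage from `G` to the abstract situation

`U` elementary abelian, `L ≤ N(U)`, `NoOverM U L`. `Mo` = `U`, additive; `im A` = the image of `A ≤ L` in `GL(U)`.

* `mem_im`, `mem_fxd_im`, `brk_im_le`, `card_fxd_im`, `card_im` : the dictionary;
* `sit` : `Sit Mo (im L)`.
-/

set_option autoImplicit false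
set_option linter.unusedSectionVars false

namespace Cfsg.Agent.Omega.NOThreeL.RRed.Blk.Types

open Subgroup Cfsg Cfsg.Agent.Omega.TV Cfsg.Agent.Omega.FFThm
open scoped Pointwise
open Cfsg.Agent.Omega.NOThreeL.RRed.NS (fxd brk mem_fxd)

universe u

variable {G : Type u} [Group G]

/-- the situation at `G`-level -/
structure GS (U L : Subgroup G) : Prop where
  sq : ∀ x ∈ U, x * x = 1
  nor : ∀ c ∈ L, ∀ n ∈ U, c * n * c⁻¹ ∈ U
  no : NoOverM U L

variable {U L : Subgroup G} (g : GS U L)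

/-- `U`, additively -/
abbrev GS.Mo : Type u := EA U g.sq

/-- `GL(U)` -/
abbrev GS.Ho : Type u := EA U g.sq ≃ₗ[ZMod 2] EA U g.sq

namespace GS

/-- the representation of `L` -/
def ph : ↥L →* g.Ho := EA.crep g.sq L g.nor

/-- the image of `A ⊓ L` -/
def im (A : Subgroup G) : Subgroup g.Ho := (A.subgroupOf L).map g.ph

theorem mem_im {A : Subgroup G} {x : g.Ho} : x ∈ g.im A ↔ ∃ a, ∃ ha : a ∈ L, a ∈ A ∧ g.ph ⟨a, ha⟩ = x := by
  unfold im
  rw [mem_map]
  constructor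
  · rintro ⟨⟨a, ha⟩, h1, h2⟩
    exact ⟨a, ha, mem_subgroupOf.1 h1, h2⟩
  · rintro ⟨a, ha, h1, h2⟩
    exact ⟨⟨a, ha⟩, mem_subgroupOf.2 h1, h2⟩

theorem ph_mem {A : Subgroup G} {a : G} (ha : a ∈ L) (h : a ∈ A) : g.ph ⟨a, ha⟩ ∈ g.im A := g.mem_im.2 ⟨a, ha, h, rfl⟩

theorem val_ph {a : G} (ha : a ∈ L) (m : g.Mo) : (g.ph ⟨a, ha⟩ • m).val = a * m.val * a⁻¹ := rfl

theorem ph_mul {a b : G} (ha : a ∈ L) (hb : b ∈ L) : g.ph ⟨a * b, mul_mem ha hb⟩ = g.ph ⟨a, ha⟩ * g.ph ⟨b, hb⟩ :=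
  g.ph.map_mul ⟨a, ha⟩ ⟨b, hb⟩

theorem ph_inv {a : G} (ha : a ∈ L) : g.ph ⟨a⁻¹, inv_mem ha⟩ = (g.ph ⟨a, ha⟩)⁻¹ := g.ph.map_inv ⟨a, ha⟩

theorem im_mono {A B : Subgroup G} (h : A ≤ B) : g.im A ≤ g.im B := by
  intro x hx
  obtain ⟨a, ha, h1, h2⟩ := g.mem_im.1 hx
  exact g.mem_im.2 ⟨a, ha, h h1, h2⟩

theorem fix_iff {a : G} (ha : a ∈ L) (m : g.Mo) : g.ph ⟨a, ha⟩ • m = m ↔ a * m.val = m.val * a := by
  rw [← EA.val_inj, g.val_ph]
  constructor
  · intro h
    calc a * m.val = (a * m.val * a⁻¹) * a := by group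
      _ = m.val * a := by rw [h]
  · intro h
    rw [h]; group

theorem mem_fxd_im {A : Subgroup G} (hA : A ≤ L) {m : g.Mo} :
    m ∈ (fxd (g.im A) : AddSubgroup g.Mo) ↔ m.val ∈ centralizer (A : Set G) := by
  rw [mem_fxd, mem_centralizer_iff]
  constructor
  · intro h a ha
    exact (g.fix_iff (hA ha) m).1 (h _ (g.ph_mem (hA ha) ha))
  · intro h x hx
    obtain ⟨a, ha, h1, rfl⟩ := g.mem_im.1 hx
    exact (g.fix_iff ha m).2 (h a h1)

/-- a subgroup of `U`, additively -/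
def sub (W : Subgroup G) : AddSubgroup g.Mo where
  carrier := {m | m.val ∈ W}
  zero_mem' := W.one_mem
  add_mem' := fun {_ _} ha hb => W.mul_mem ha hb
  neg_mem' := fun {_} ha => W.inv_mem ha

theorem mem_sub {W : Subgroup G} {m : g.Mo} : m ∈ g.sub W ↔ m.val ∈ W := Iff.rfl

theorem val_neg (n : g.Mo) : (-n).val = (n.val)⁻¹ := rfl

theorem val_sub (m n : g.Mo) : (m - n).val = m.val * (n.val)⁻¹ := by
  rw [sub_eq_add_neg, EA.val_add, g.val_neg]

theorem brk_im_le {A W : Subgroup G} (h : ∀ a ∈ A, a ∈ L → ∀ w ∈ U, a * w * a⁻¹ * w⁻¹ ∈ W) :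
    brk g.Mo (g.im A) ≤ g.sub W := by
  apply brk_le
  intro x hx m
  obtain ⟨a, ha, h1, rfl⟩ := g.mem_im.1 hx
  rw [mem_sub, g.val_sub, g.val_ph]
  exact h a h1 ha _ m.val_mem

theorem card_sub {W : Subgroup G} (hW : W ≤ U) : Nat.card (g.sub W) = Nat.card W := by
  refine Nat.card_congr ⟨fun m => ⟨m.1.val, m.2⟩, fun w => ⟨EA.mk g.sq w.1 (hW w.2), w.2⟩, fun m => ?_, fun w => ?_⟩
  · exact Subtype.ext (EA.ext rfl)
  · rfl

theorem card_Mo : Nat.card g.Mo = Nat.card U := rfl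

theorem card_fxd_im {A : Subgroup G} (hA : A ≤ L) :
    Nat.card (fxd (g.im A) : AddSubgroup g.Mo) = Nat.card ↥(U ⊓ centralizer (A : Set G)) := by
  rw [← g.card_sub (inf_le_left : U ⊓ centralizer (A : Set G) ≤ U)]
  congr 1
  have e : (fxd (g.im A) : AddSubgroup g.Mo) = g.sub (U ⊓ centralizer (A : Set G)) := by
    ext m
    rw [g.mem_fxd_im hA, mem_sub, mem_inf]
    exact ⟨fun h => ⟨m.val_mem, h⟩, fun h => h.2⟩
  rw [e]

theorem ph_eq_one {a : G} (ha : a ∈ L) : g.ph ⟨a, ha⟩ = 1 ↔ a ∈ centralizer (U : Set G) := by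
  rw [mem_centralizer_iff]
  constructor
  · intro h w hw
    have h1 := (g.fix_iff ha (EA.mk g.sq w hw)).1 (by rw [h, one_smul])
    exact h1.symm
  · intro h
    refine LinearEquiv.ext fun m => ?_
    exact (g.fix_iff ha m).2 (h _ m.val_mem).symm

theorem card_im [Finite G] {A : Subgroup G} (hA : A ≤ L) :
    Nat.card (g.im A) * Nat.card ↥(A ⊓ centralizer (U : Set G)) = Nat.card A := by
  let f : ↥A →* g.Ho := g.ph.comp (inclusion hA)
  have h1 : f.range = g.im A := by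
    ext x
    rw [MonoidHom.mem_range, g.mem_im]
    constructor
    · rintro ⟨a, rfl⟩
      exact ⟨a, hA a.2, a.2, rfl⟩
    · rintro ⟨a, ha, h2, rfl⟩
      exact ⟨⟨a, h2⟩, rfl⟩
  have h2 : Nat.card f.ker = Nat.card ↥(A ⊓ centralizer (U : Set G)) := by
    refine Nat.card_congr ⟨fun a => ⟨a.1.1, mem_inf.2 ⟨a.1.2, ?_⟩⟩, fun a => ⟨⟨a.1, (mem_inf.1 a.2).1⟩, ?_⟩, fun a => ?_,
      fun a => ?_⟩
    · exact (g.ph_eq_one (hA a.1.2)).1 (MonoidHom.mem_ker.1 a.2)
    · exact MonoidHom.mem_ker.2 ((g.ph_eq_one (hA (mem_inf.1 a.2).1)).2 (mem_inf.1 a.2).2)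
    · rfl
    · rfl
  have h3 : Nat.card f.ker * f.ker.index = Nat.card ↥A := f.ker.card_mul_index
  rw [Subgroup.index_ker] at h3
  rw [← h1, ← h2, mul_comm]
  exact h3

instance [Finite G] : Finite g.Ho := by
  classical
  have : Finite g.Mo := inferInstanceAs (Finite (EA U g.sq))
  exact Finite.of_injective (fun h : g.Ho => (h : g.Mo → g.Mo)) fun a b h => LinearEquiv.ext (congrFun h)

/-- **the abstract situation** -/
theorem sit [Finite G] : Sit g.Mo (g.im L) where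
  faith := fun h _ hm => LinearEquiv.ext fun m => hm m
  ch := fun m => EA.ext (g.sq _ m.val_mem)
  no := by
    intro F hF hsq hcm
    let A : Subgroup G := (F.comap g.ph).map L.subtype
    have hAL : A ≤ L := map_subtype_le _
    have hmem : ∀ a (ha : a ∈ L), a ∈ A ↔ g.ph ⟨a, ha⟩ ∈ F := by
      intro a ha
      constructor
      · rintro ⟨⟨b, hb⟩, h1, h2⟩
        have e : b = a := h2
        subst e
        exact h1
      · intro h
        exact ⟨⟨a, ha⟩, h, rfl⟩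
    have him : g.im A = F := by
      ext x
      rw [g.mem_im]
      constructor
      · rintro ⟨a, ha, h1, rfl⟩
        exact (hmem a ha).1 h1
      · intro hx
        obtain ⟨a, ha, -, h2⟩ := g.mem_im.1 (hF hx)
        subst h2
        exact ⟨a, ha, (hmem a ha).2 hx, rfl⟩
    have hel : ElemM U A := by
      constructor
      · intro a ha
        have h1 := hsq _ ((hmem a (hAL ha)).1 ha)
        rw [← g.ph_mul (hAL ha) (hAL ha)] at h1
        rw [pow_two]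
        exact (g.ph_eq_one _).1 h1
      · intro a ha b hb
        have h1 := hcm _ ((hmem a (hAL ha)).1 ha) _ ((hmem b (hAL hb)).1 hb)
        have h2 : g.ph ⟨a * b * a⁻¹ * b⁻¹, mul_mem (mul_mem (mul_mem (hAL ha) (hAL hb)) (inv_mem (hAL ha)))
            (inv_mem (hAL hb))⟩ = 1 := by
          rw [g.ph_mul (mul_mem (mul_mem (hAL ha) (hAL hb)) (inv_mem (hAL ha))) (inv_mem (hAL hb)),
            g.ph_mul (mul_mem (hAL ha) (hAL hb)) (inv_mem (hAL ha)), g.ph_mul (hAL ha) (hAL hb), g.ph_inv (hAL ha),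
            g.ph_inv (hAL hb), h1]
          group
        exact (g.ph_eq_one _).1 h2
    have h1 := g.no A hAL hel
    rw [← g.card_im hAL, him, ← g.card_fxd_im hAL, him] at h1
    have h2 : 0 < Nat.card ↥(A ⊓ centralizer (U : Set G)) := Nat.card_pos
    rw [g.card_Mo]
    refine Nat.le_of_mul_le_mul_right ?_ h2
    calc Nat.card F * Nat.card (fxd F : AddSubgroup g.Mo) * Nat.card ↥(A ⊓ centralizer (U : Set G))
        = Nat.card F * Nat.card ↥(A ⊓ centralizer (U : Set G)) * Nat.card (fxd F : AddSubgroup g.Mo) := by ring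
      _ ≤ Nat.card U * Nat.card ↥(A ⊓ centralizer (U : Set G)) := h1

/-- an offender is exact -/
theorem exact_of [Finite G] {A : Subgroup G} (hA : A ≤ L) (off : OffM U A) :
    Nat.card g.Mo ≤ Nat.card (g.im A) * Nat.card (fxd (g.im A) : AddSubgroup g.Mo) := by
  have h1 := off.le
  rw [← g.card_im hA, ← g.card_fxd_im hA] at h1
  have h2 : 0 < Nat.card ↥(A ⊓ centralizer (U : Set G)) := Nat.card_pos
  rw [g.card_Mo]
  refine Nat.le_of_mul_le_mul_right ?_ h2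
  calc Nat.card U * Nat.card ↥(A ⊓ centralizer (U : Set G))
      ≤ Nat.card (g.im A) * Nat.card ↥(A ⊓ centralizer (U : Set G)) * Nat.card (fxd (g.im A) : AddSubgroup g.Mo) := h1
    _ = Nat.card (g.im A) * Nat.card (fxd (g.im A) : AddSubgroup g.Mo) * Nat.card ↥(A ⊓ centralizer (U : Set G)) := by
        ring

theorem el_of {A : Subgroup G} (hel : ElemM U A) : El (g.im A) where
  sq := by
    intro x hx
    obtain ⟨a, ha, h1, rfl⟩ := g.mem_im.1 hx
    rw [← g.ph_mul ha ha, g.ph_eq_one, ← pow_two]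
    exact hel.sq a h1
  cm := by
    intro x hx y hy
    obtain ⟨a, ha, h1, rfl⟩ := g.mem_im.1 hx
    obtain ⟨b, hb, h2, rfl⟩ := g.mem_im.1 hy
    have h3 := (g.ph_eq_one (mul_mem (mul_mem (mul_mem ha hb) (inv_mem ha)) (inv_mem hb))).2 (hel.comm a h1 b h2)
    rw [g.ph_mul (mul_mem (mul_mem ha hb) (inv_mem ha)) (inv_mem hb), g.ph_mul (mul_mem ha hb) (inv_mem ha),
      g.ph_mul ha hb, g.ph_inv ha, g.ph_inv hb] at h3
    have h4 := mul_inv_eq_one.1 h3
    exact mul_inv_eq_iff_eq_mul.1 h4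

/-- conjugation -/
theorem im_cj {A : Subgroup G} {x : G} (hx : x ∈ L) :
    g.im (MulAut.conj x • A) = MulAut.conj (g.ph ⟨x, hx⟩) • g.im A := by
  ext y
  rw [mem_cj, g.mem_im, g.mem_im]
  constructor
  · rintro ⟨a, ha, h1, rfl⟩
    refine ⟨x⁻¹ * a * x, mul_mem (mul_mem (inv_mem hx) ha) hx, mem_cj.1 h1, ?_⟩
    rw [g.ph_mul (mul_mem (inv_mem hx) ha) hx, g.ph_mul (inv_mem hx) ha, g.ph_inv]
  · rintro ⟨a, ha, h1, h2⟩
    refine ⟨x * a * x⁻¹, mul_mem (mul_mem hx ha) (inv_mem hx), ?_, ?_⟩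
    · rw [mem_cj]; convert h1 using 1; group
    · rw [g.ph_mul (mul_mem hx ha) (inv_mem hx), g.ph_mul hx ha, g.ph_inv hx, h2]; group

end GS

end Cfsg.Agent.Omega.NOThreeL.RRed.Blk.Types
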