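import Cfsg.Agent.Omega.NOThreeL.RRed.NS.Inst
import Cfsg.Agent.Omega.NOThreeL.RRed.Blk.TypesGam

/-!
# NO-3L, box R: THEOREM TYPES (helper797, #24779): the natural blocks as `TypesGam.Bk`

`M : NatKM F S P V D k`, `h : Nb M`, `2 < |F|`, `DD M j = 1` (split), `One M U A j`, `P ≤ H ≤ N(U)`, `U` abelian,
`Q : Nrm H U`, `Q.Mod` = `U` additively.

* `blk_ext` : elements of `blk M j` are determined by the `j`-th coordinate;
* **`exists_bk`** : `Bk e f C up lo`, `e(F) = Y_j = [U, A]`, `e(F) ⊕ f(F) = blk M j`, `C = C_U(⟨A, A^p⟩)`, `up t ∈ A`, every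
  element of `A` acts as some `up t`;
* `Bk.map`, `Bk.conj` : transport by `X → X'` and by conjugation.
-/

set_option autoImplicit false
set_option linter.unusedSectionVars false

namespace Cfsg.Agent.Omega.NOThreeL.RRed.Blk.TypesNat

open Subgroup Cfsg Cfsg.Agent.ZN
open Cfsg.Agent.Omega.FFThm Cfsg.Agent.Lib.SL2Mat
open Cfsg.Agent.Omega.NatPair (ap)
open Cfsg.Agent.Omega.NO3S.ThmB Cfsg.Agent.Omega.NO3S.KeyRad
open Cfsg.Agent.Omega.NOThreeL.RSplit (Nrm)
open Cfsg.Agent.Omega.NOThreeL.RRed.NS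
open Cfsg.Agent.Omega.NOThreeL.RRed.Blk.TypesGam (Bk rt)
open scoped Pointwise

universe u

variable {G : Type u} [Group G] {F : Type} [Field F] {S P V D U H : Subgroup G} {k : ℕ}

section basic

variable {M : NatKM F S P V D k} (h : Nb M) [CharP F 2] {j : Fin k}
include h

/-- elements of a split block are determined by their coordinate -/
theorem blk_ext (hD : DD M j = ⊥) {v w : G} (hv : v ∈ blk M j) (hw : w ∈ blk M j) (e : M.e v j = M.e w j) : v = w := by
  have h1 : v * w⁻¹ ∈ DD M j := by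
    rw [mem_DD h (mul_mem hv (inv_mem hw)), h.e_div (blk_le h j hv) (blk_le h j hw), Pi.add_apply, e]
    funext i
    exact CharTwo.add_self_eq_zero _
  rw [hD, Subgroup.mem_bot] at h1
  exact mul_inv_eq_one.1 h1

theorem e_mul {v w : G} (hv : v ∈ blk M j) (hw : w ∈ blk M j) : M.e (v * w) j = M.e v j + M.e w j := by
  rw [M.mul _ (blk_le h j hv) _ (blk_le h j hw), Pi.add_apply]

end basic

/-! ### the module -/

section ad

variable [Finite G] (Q : Nrm H U)

theorem ad_inf (B C : Subgroup G) : Q.ad B ⊓ Q.ad C = Q.ad (B ⊓ C) := rfl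

theorem ad_bot : Q.ad (⊥ : Subgroup G) = ⊥ := by
  rw [eq_bot_iff]
  intro m hm
  exact AddSubgroup.mem_bot.2 (Nrm.eq_zero_iff.2 (Subgroup.mem_bot.1 hm))

/-- a complement -/
theorem sup_top {W C : AddSubgroup Q.Mod} {q : ℕ} (h0 : W ⊓ C = ⊥) (hi : C.index ≤ q) (hW : q ≤ Nat.card W) :
    W ⊔ C = ⊤ := by
  rw [← AddSubgroup.index_eq_one]
  have h1 : C.relIndex (W ⊔ C) = Nat.card W := by
    rw [AddSubgroup.relIndex_sup_right]
    have h2 : C.relIndex W = (C ⊓ W).relIndex W := (AddSubgroup.inf_relIndex_right _ _).symm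
    rw [h2, inf_comm, h0, AddSubgroup.relIndex_bot_left]
  have h2 : C.relIndex (W ⊔ C) * (W ⊔ C).index = C.index := AddSubgroup.relIndex_mul_index le_sup_right
  rw [h1] at h2
  have h3 : 0 < Nat.card W := Nat.card_pos
  have h4 : (W ⊔ C).index ≠ 0 := AddSubgroup.index_ne_zero_of_finite
  have h5 : Nat.card W * (W ⊔ C).index ≤ Nat.card W * 1 := by
    rw [h2, mul_one]
    exact hi.trans hW
  have h6 := Nat.le_of_mul_le_mul_left h5 h3
  omega

end ad

/-- **The natural block as a `Bk`.** -/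
theorem exists_bk [Finite G] [Finite F] [CharP F 2] {M : NatKM F S P V D k} (h : Nb M) (hF : 2 < Nat.card F)
    (Q : Nrm H U) (hPH : P ≤ H) (hVU : V ≤ U) {A : Subgroup G} {j : Fin k} (O : One M U A j) (hAP : A ≤ P)
    (hD : DD M j = ⊥) :
    ∃ (e f : F →+ Q.Mod) (up lo : F → H) (p : G), p ∈ P ∧
      Bk e f (Q.ad (centralizer ((A ⊔ MulAut.conj p • A : Subgroup G) : Set G))) up lo ∧
      (∀ t, (up t : G) ∈ A) ∧ (∀ t, (lo t : G) ∈ MulAut.conj p • A) ∧
      (∀ a (ha : a ∈ A), ∃ t, ∀ m : Q.Mod, (⟨a, hPH (hAP ha)⟩ : H) • m = up t • m) ∧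
      e.range = Q.ad (YY h j) ∧ e.range ⊔ f.range = Q.ad (blk M j) := by
  obtain ⟨l, g, C⟩ := exists_cd h hF j
  have hg : ∀ x, g x = 1 := fun x => by
    have h1 := C.gDD h x
    rw [hD, Subgroup.mem_bot] at h1
    exact h1
  obtain ⟨p, hp, hpA⟩ := exists_p M j
  have hfm : ∀ t, p * l t * p⁻¹ ∈ blk M j := fun t => conj_blk h hp hpA (C.lm t)
  have hlU : ∀ t, l t ∈ U := fun t => hVU (C.lV h t)
  have hbU : ∀ {w}, w ∈ blk M j → w ∈ U := fun hw => hVU (blk_le h j hw)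
  have hfe : ∀ t, M.e (p * l t * p⁻¹) j = ![0, t] := fun t => by
    rw [e_conj_blk h hpA (C.lm t), C.le]
    refine vec_eq ?_ ?_
    · rw [Cfsg.Agent.Omega.NatPair.ap_zero']
      simp [wl]
    · rw [Cfsg.Agent.Omega.NatPair.ap_one']
      simp [wl, CharTwo.neg_eq]
  let e : F →+ Q.Mod := AddMonoidHom.mk' (fun s => Q.of (l s) (hlU s)) fun s t => Nrm.ext (C.la s t)
  let f : F →+ Q.Mod := AddMonoidHom.mk' (fun s => Q.of (p * l s * p⁻¹) (hbU (hfm s))) fun s t => Nrm.ext (by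
    rw [Nrm.val_of, Nrm.val_add, Nrm.val_of, Nrm.val_of, C.la]
    group)
  have hev : ∀ s, Q.val (e s) = l s := fun _ => rfl
  have hfv : ∀ s, Q.val (f s) = p * l s * p⁻¹ := fun _ => rfl
  have hef : ∀ x y, Q.val (e x + f y) ∈ blk M j ∧ M.e (Q.val (e x + f y)) j = ![x, y] := fun x y => by
    rw [Nrm.val_add, hev, hfv]
    refine ⟨mul_mem (C.lm x) (hfm y), ?_⟩
    rw [e_mul h (C.lm x) (hfm y), C.le, hfe]
    refine vec_eq ?_ ?_ <;> simp
  -- root elements
  choose a ha haA using O.all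
  have hal := all_conj h O hAP hp hpA
  choose b hb hbA using hal
  have hbP : ∀ t, b t ∈ P := fun t => conj_le_P hAP hp (hb t)
  set E : Subgroup G := A ⊔ MulAut.conj p • A with hE
  have hEP : E ≤ P := sup_le hAP (conj_le_P hAP hp)
  -- the fixed points of `E`
  have hfix : ∀ m : Q.Mod, m ∈ Q.ad (centralizer (E : Set G)) ↔ ∀ x ∈ E, x * Q.val m * x⁻¹ = Q.val m := by
    intro m
    rw [Nrm.mem_ad, mem_centralizer_iff]
    exact forall₂_congr fun x _ => mul_inv_eq_iff_eq_mul.symm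
  have h0 : Q.ad (blk M j) ⊓ Q.ad (centralizer (E : Set G)) = ⊥ := by
    rw [eq_bot_iff]
    rintro m ⟨h1, h2⟩
    have h3 := (hfix m).1 h2
    have h4 : Q.val m ∈ DD M j := mem_DD_of_fixed h O hAP hp hpA h1 (fun x hx => h3 x (mem_sup_left hx))
      fun x hx => h3 x (mem_sup_right hx)
    rw [hD, Subgroup.mem_bot] at h4
    exact AddSubgroup.mem_bot.2 (Nrm.eq_zero_iff.2 h4)
  have hmA : (A.subgroupOf H).map H.subtype = A :=
    (subgroupOf_map_subtype _ _).trans (inf_eq_left.2 (hAP.trans hPH))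
  have hcE : Q.ad (centralizer (E : Set G)) =
      (fxd (A.subgroupOf H) : AddSubgroup Q.Mod) ⊓ fxd (MulAut.conj (⟨p, hPH hp⟩ : H) • A.subgroupOf H) := by
    rw [fxd_eq, fxd_eq, map_conj, hmA, ad_inf, hE]
    congr 1
    ext x
    rw [mem_inf, mem_centralizer_iff, mem_centralizer_iff, mem_centralizer_iff]
    constructor
    · exact fun h1 => ⟨fun y hy => h1 y (mem_sup_left hy), fun y hy => h1 y (mem_sup_right hy)⟩
    · rintro ⟨h1, h2⟩ y hy
      have h3 : A ⊔ MulAut.conj p • A ≤ centralizer ({x} : Set G) :=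
        sup_le (fun z hz => mem_centralizer_singleton_iff.2 (h1 z hz))
          fun z hz => mem_centralizer_singleton_iff.2 (h2 z hz)
      exact mem_centralizer_singleton_iff.1 (h3 hy)
  have hi : (Q.ad (centralizer (E : Set G))).index ≤ Nat.card F ^ 2 := by
    rw [hcE, pow_two]
    refine AddSubgroup.index_inf_le.trans (Nat.mul_le_mul ?_ ?_)
    · rw [index_fxd, hmA]
      exact relIndex_le h O hAP
    · rw [index_fxd_conj, index_fxd, hmA]
      exact relIndex_le h O hAP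
  have hcard : Nat.card (Q.ad (blk M j)) = Nat.card F ^ 2 := by
    rw [Nrm.card_ad ((blk_le h j).trans hVU), card_blk h, hD, Subgroup.card_bot, mul_one]
  have htop := sup_top Q h0 hi hcard.ge
  have hmem : ∀ m : Q.Mod, m ∈ Q.ad (blk M j) → ∃ x y, m = e x + f y := by
    intro m hm
    refine ⟨M.e (Q.val m) j 0, M.e (Q.val m) j 1, Nrm.ext ?_⟩
    refine blk_ext h hD hm (hef _ _).1 ?_
    rw [(hef _ _).2]
    refine vec_eq ?_ ?_ <;> simp
  have hcomb : ∀ (x : H) (B : Matrix.SpecialLinearGroup (Fin 2) F) (hB : ActsSL M.e V D (x : G) (sg j B)) (hx : (x : G) ∈ P)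
      (s t s' t' : F), ap B ![s, t] = ![s', t'] → x • (e s + f t) = e s' + f t' := by
    intro x B hB hx s t s' t' hap
    refine Nrm.ext ?_
    rw [Nrm.val_smul]
    refine blk_ext h hD (conj_blk h hx hB (hef s t).1) (hef s' t').1 ?_
    rw [e_conj_blk h hB (hef s t).1, (hef s t).2, (hef s' t').2, hap]
  refine ⟨e, f, fun t => ⟨a t, hPH (hAP (ha t))⟩, fun t => ⟨b t, hPH (hbP t)⟩, p, hp, ?_, ha, hb, ?_, ?_, ?_⟩
  · refine
      { dec := fun v => ?_
        ind := fun x y hxy => ?_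
        up_e := fun t x => ?_
        up_f := fun t x => ?_
        up_c := fun t c hc => ?_
        lo_e := fun t x => ?_
        lo_f := fun t x => ?_
        lo_c := fun t c hc => ?_ }
    · have h1 : v ∈ Q.ad (blk M j) ⊔ Q.ad (centralizer (E : Set G)) := by rw [htop]; exact AddSubgroup.mem_top _
      obtain ⟨w, hw, c, hc, rfl⟩ := AddSubgroup.mem_sup.1 h1
      obtain ⟨x, y, rfl⟩ := hmem w hw
      exact ⟨x, y, c, hc, rfl⟩
    · have h1 : e x + f y ∈ Q.ad (blk M j) ⊓ Q.ad (centralizer (E : Set G)) := ⟨(hef x y).1, hxy⟩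
      rw [h0, AddSubgroup.mem_bot] at h1
      have h2 := (hef x y).2
      rw [h1, Nrm.val_zero, Nb.e_one (M := M)] at h2
      exact ⟨(congrFun h2 0).symm, (congrFun h2 1).symm⟩
    · have h1 := hcomb ⟨a t, hPH (hAP (ha t))⟩ (up t) (haA t) (hAP (ha t)) x 0 x 0
        (by refine vec_eq ?_ ?_ <;> simp [ap_up_0, ap_up_1])
      rwa [map_zero, add_zero] at h1
    · have h1 := hcomb ⟨a t, hPH (hAP (ha t))⟩ (up t) (haA t) (hAP (ha t)) 0 x (t * x) x
        (by refine vec_eq ?_ ?_ <;> simp [ap_up_0, ap_up_1])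
      rw [map_zero, zero_add] at h1
      rw [h1, add_comm]
    · exact (smul_eq_iff Q _ c).2 ((hfix c).1 hc _ (mem_sup_left (ha t)))
    · have h1 := hcomb ⟨b t, hPH (hbP t)⟩ (lo t) (hbA t) (hbP t) x 0 x (t * x)
        (by refine vec_eq ?_ ?_ <;> simp [ap_lo_0, ap_lo_1])
      rwa [map_zero, add_zero] at h1
    · have h1 := hcomb ⟨b t, hPH (hbP t)⟩ (lo t) (hbA t) (hbP t) 0 x 0 x
        (by refine vec_eq ?_ ?_ <;> simp [ap_lo_0, ap_lo_1])
      rwa [map_zero, zero_add] at h1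
    · exact (smul_eq_iff Q _ c).2 ((hfix c).1 hc _ (mem_sup_right (hb t)))
  · -- `A` acts as the `up t`
    intro x hx
    obtain ⟨β, hβ⟩ := O.act x hx
    refine ⟨β, fun m => ?_⟩
    have h1 : m ∈ Q.ad (blk M j) ⊔ Q.ad (centralizer (E : Set G)) := by rw [htop]; exact AddSubgroup.mem_top _
    obtain ⟨w, hw, c, hc, rfl⟩ := AddSubgroup.mem_sup.1 h1
    rw [smul_add, smul_add]
    congr 1
    · refine Nrm.ext ?_
      rw [Nrm.val_smul, Nrm.val_smul]
      exact h.same (hAP hx) (hAP (ha β)) hβ (haA β) (blk_le h j hw)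
    · rw [(smul_eq_iff Q _ c).2 ((hfix c).1 hc _ (mem_sup_left hx)),
        (smul_eq_iff Q _ c).2 ((hfix c).1 hc _ (mem_sup_left (ha β)))]
  · ext m
    constructor
    · rintro ⟨s, rfl⟩
      exact C.lY h s
    · intro hm
      obtain ⟨s, x, hsx⟩ := C.exists_eq h hm
      refine ⟨s, Nrm.ext ?_⟩
      rw [hsx, hg, mul_one]
      rfl
  · apply le_antisymm
    · refine sup_le ?_ ?_
      · rintro _ ⟨s, rfl⟩
        exact C.lm s
      · rintro _ ⟨s, rfl⟩
        exact hfm s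
    · intro m hm
      obtain ⟨x, y, rfl⟩ := hmem m hm
      exact add_mem (AddSubgroup.mem_sup_left ⟨x, rfl⟩) (AddSubgroup.mem_sup_right ⟨y, rfl⟩)

end Cfsg.Agent.Omega.NOThreeL.RRed.Blk.TypesNat
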