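import Cfsg.Agent.Omega.NOThreeL.RRed.ClassD
import Cfsg.Agent.Omega.NOThreeL.RTreeA
import Cfsg.Agent.Omega.NOThreeL.RLow.FFr

/-!
# NO-3L, box R: a complement `V₀` of `D = C_{V_P}(O²(P))` in `V_P` (for THEOREM TYPES, helper797 #24779)

* `irr_nat`, `irr_sym` : a `P`-invariant subgroup of `V₀` is `1` or `V₀`;
* `quad_nat`, `quad_sym` : `[V₀, A, A] = 1` for an offender `A ≤ S` of `V_P`.
-/

set_option autoImplicit false
set_option linter.unusedSectionVars false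

namespace Cfsg.Agent.Omega.NOThreeL.RRed.Blk.Types

open Subgroup Pointwise Cfsg Cfsg.Agent.ZN Cfsg.Agent.Omega.MinPar
open Cfsg.Agent.Omega.FFThm (ElemM OffM NoOverM ConclM NatKM SymKM NatK SymK ActsSL ActsSym)
open Cfsg.Agent.Omega.FrameFF (cv)
open Cfsg.Agent.Omega.NatPair (ap)
open Cfsg.Agent.Lib.SL2Mat
open Cfsg.Agent.Omega.NOThreeL.RTreeA (SplitBy)

universe u

variable {G : Type u} [Group G]

/-- elements of `V₀` with the same coordinates are equal -/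
theorem eq_of_e {X : Type*} [AddGroup X] {V D V₀ : Subgroup G} {e : G → X}
    (hmul : ∀ v ∈ V, ∀ w ∈ V, e (v * w) = e v + e w) (hker : ∀ v ∈ V, e v = 0 ↔ v ∈ D) (h1 : V₀ ≤ V) (h2 : V₀ ⊓ D = ⊥)
    {x y : G} (hx : x ∈ V₀) (hy : y ∈ V₀) (h : e x = e y) : x = y := by
  have h3 : x * y⁻¹ ∈ V₀ := mul_mem hx (inv_mem hy)
  have h4 := hmul (x * y⁻¹) (h1 h3) y (h1 hy)
  rw [inv_mul_cancel_right, h] at h4
  have h5 : e (x * y⁻¹) = 0 := right_eq_add.1 h4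
  have h6 : x * y⁻¹ ∈ V₀ ⊓ D := ⟨h3, (hker _ (h1 h3)).1 h5⟩
  rw [h2, mem_bot] at h6
  exact mul_inv_eq_one.1 h6

theorem comm_mem {V₀ P : Subgroup G} (hPV : P ≤ normalizer (V₀ : Set G)) {v a : G} (hv : v ∈ V₀) (ha : a ∈ P) :
    a * v⁻¹ * a⁻¹ ∈ V₀ ∧ v * (a * v⁻¹ * a⁻¹) ∈ V₀ := by
  have h1 := (mem_normalizer_iff.1 (hPV ha) _).1 (inv_mem hv)
  exact ⟨h1, mul_mem hv h1⟩

/-- the common form of the quadratic action -/
theorem quad_of {V₀ A : Subgroup G} (h : ∀ v ∈ V₀, ∀ a ∈ A, ∀ a' ∈ A,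
    a' * (v * (a * v⁻¹ * a⁻¹)) * a'⁻¹ = v * (a * v⁻¹ * a⁻¹)) : ⁅V₀, A⁆ ≤ centralizer (A : Set G) := by
  rw [Subgroup.commutator_le]
  intro v hv a ha
  rw [mem_centralizer_iff]
  intro a' ha'
  have h1 := h v hv a ha a' ha'
  have e : v * a * v⁻¹ * a⁻¹ = v * (a * v⁻¹ * a⁻¹) := by group
  change a' * (v * a * v⁻¹ * a⁻¹) = v * a * v⁻¹ * a⁻¹ * a'
  rw [e]
  exact mul_inv_eq_iff_eq_mul.1 h1

section nat

variable {F : Type} [Field F] {S P D V₀ : Subgroup G} {k : ℕ}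

/-- **`V₀` is irreducible** (natural). -/
theorem irr_nat' (M : NatK F S P (zl S P) D k) (hSP : S ≤ P) (hV : SplitBy S P D V₀) :
    ∀ W ≤ V₀, P ≤ normalizer (W : Set G) → W = ⊥ ∨ W = V₀ := by
  intro W hW hPW
  obtain ⟨h1, -, h2, -⟩ := hV
  by_cases hD : W ≤ D
  · left
    rw [eq_bot_iff, ← h2]
    exact le_inf hW hD
  · right
    refine le_antisymm hW fun v hv => ?_
    obtain ⟨w, hw, he⟩ := cover_nat M hSP (hW.trans h1) hPW hD (M.e v)
    rw [← eq_of_e M.mul M.ker h1 h2 (hW hw) hv he]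
    exact hw

theorem irr_nat (M : NatKM F S P (zl S P) D k) (hSP : S ≤ P) (hV : SplitBy S P D V₀) :
    ∀ W ≤ V₀, P ≤ normalizer (W : Set G) → W = ⊥ ∨ W = V₀ := irr_nat' M.toNatK hSP hV

/-- **An offender acts quadratically on `V₀`** (natural). -/
theorem quad_nat (M : NatKM F S P (zl S P) D k) (hSP : S ≤ P) (hV : SplitBy S P D V₀) {A : Subgroup G}
    (hA : A ≤ S) (ho : OffM (zl S P) A) : ⁅V₀, A⁆ ≤ centralizer (A : Set G) := by
  obtain ⟨h1, hPV, h2, -⟩ := hV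
  obtain ⟨I, hI, -⟩ := M.offM A hA ho
  refine quad_of fun v hv a ha a' ha' => ?_
  obtain ⟨h3, h4⟩ := comm_mem hPV hv (hSP (hA ha))
  obtain ⟨b, -, hb⟩ := hI a ha
  obtain ⟨b', -, hb'⟩ := hI a' ha'
  have e1 : ∀ i, M.e (v * (a * v⁻¹ * a⁻¹)) i 1 = 0 := by
    intro i
    rw [M.mul _ (h1 hv) _ (h1 h3), Pi.add_apply, Pi.add_apply, hb.1 _ (h1 (inv_mem hv)) i, VF.Nat.ap_up_1]
    have e2 := M.mul _ (h1 hv) _ (h1 (inv_mem hv))
    have e3 : M.e (v * v⁻¹) = 0 := (M.ker _ (h1 (mul_mem hv (inv_mem hv)))).2 (by rw [mul_inv_cancel]; exact one_mem _)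
    rw [e3] at e2
    exact (congrFun (congrFun e2 i) 1).symm
  refine eq_of_e M.mul M.ker h1 h2 ((mem_normalizer_iff.1 (hPV (hSP (hA ha'))) _).1 h4) h4 ?_
  funext i
  rw [hb'.1 _ (h1 h4) i]
  refine VF.Nat.ext2' ?_ ?_
  · rw [VF.Nat.ap_up_0, e1, mul_zero, add_zero]
  · rw [VF.Nat.ap_up_1]

end nat

section sym

variable {S P D V₀ : Subgroup G} {k m : ℕ}

/-- **`V₀` is irreducible** (symmetric). -/
theorem irr_sym' (M : SymK S P (zl S P) D k m) (hm : 1 ≤ m) (hSP : S ≤ P) (hV : SplitBy S P D V₀) :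
    ∀ W ≤ V₀, P ≤ normalizer (W : Set G) → W = ⊥ ∨ W = V₀ := by
  intro W hW hPW
  obtain ⟨h1, -, h2, -⟩ := hV
  by_cases hD : W ≤ D
  · left
    rw [eq_bot_iff, ← h2]
    exact le_inf hW hD
  · right
    refine le_antisymm hW fun v hv => ?_
    obtain ⟨w, hw, he⟩ := cover_sym M hSP hm (hW.trans h1) hPW hD (h1 hv)
    rw [← eq_of_e M.mul M.ker h1 h2 (hW hw) hv he]
    exact hw

theorem irr_sym (M : SymKM S P (zl S P) D k m) (hm : 1 ≤ m) (hSP : S ≤ P) (hV : SplitBy S P D V₀) :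
    ∀ W ≤ V₀, P ≤ normalizer (W : Set G) → W = ⊥ ∨ W = V₀ := irr_sym' M.toSymK hm hSP hV

/-- **An offender acts quadratically on `V₀`** (symmetric). -/
theorem quad_sym (M : SymKM S P (zl S P) D k m) (hm : 1 ≤ m) (hSP : S ≤ P) (hV : SplitBy S P D V₀) {A : Subgroup G}
    (hA : A ≤ S) (ho : OffM (zl S P) A) : ⁅V₀, A⁆ ≤ centralizer (A : Set G) := by
  obtain ⟨h1, hPV, h2, -⟩ := hV
  have hPn : P ≤ normalizer (zl S P : Set G) := MinSimple.VModule.le_normalizer_zl _ _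
  obtain ⟨-, hI⟩ := M.offM A hA ho
  refine quad_of fun v hv a ha a' ha' => ?_
  obtain ⟨h3, h4⟩ := comm_mem hPV hv (hSP (hA ha))
  obtain ⟨τ, hτ, -⟩ := hI a ha
  obtain ⟨τ', hτ', hd⟩ := hI a' ha'
  have two : ∀ x : ZMod 2, x + x = 0 := fun x => CharTwo.add_self_eq_zero x
  have conjA : ∀ {c : G}, c ∈ A → ∀ {w : G}, w ∈ zl S P → c * w * c⁻¹ ∈ zl S P := fun hc w hw =>
    (mem_normalizer_iff.1 (hPn (hSP (hA hc))) _).1 hw
  -- the action of `a` in coordinates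
  have acta : ∀ w ∈ zl S P, ∀ i z, M.e (a * w * a⁻¹) i z = M.e w i ((τ i).symm z) := by
    intro w hw i z
    have h5 := hτ w hw i ((τ i).symm z)
    rwa [Equiv.apply_symm_apply] at h5
  have acta' : ∀ w ∈ zl S P, ∀ i z, M.e (a' * w * a'⁻¹) i z = M.e w i ((τ' i).symm z) := by
    intro w hw i z
    have h5 := hτ' w hw i ((τ' i).symm z)
    rwa [Equiv.apply_symm_apply] at h5
  have einv : M.e v⁻¹ = M.e v := by
    have e2 := M.mul _ (h1 hv) _ (h1 (inv_mem hv))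
    have e3 : M.e (v * v⁻¹) = 0 := (M.ker _ (h1 (mul_mem hv (inv_mem hv)))).2 (by rw [mul_inv_cancel]; exact one_mem _)
    rw [e3] at e2
    funext i z
    have e4 : (0 : ZMod 2) = M.e v i z + M.e v⁻¹ i z := congrFun (congrFun e2 i) z
    have e5 := two (M.e v i z)
    rw [e4] at e5
    exact (add_left_cancel e5).symm
  have e1 : ∀ i z, M.e (v * (a * v⁻¹ * a⁻¹)) i z = M.e v i z + M.e v i ((τ i).symm z) := by
    intro i z
    rw [M.mul _ (h1 hv) _ (h1 h3), Pi.add_apply, Pi.add_apply, acta _ (h1 (inv_mem hv)), einv]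
  refine eq_of_e M.mul M.ker h1 h2 ((mem_normalizer_iff.1 (hPV (hSP (hA ha'))) _).1 h4) h4 ?_
  funext i z
  rw [acta' _ (h1 h4)]
  obtain ⟨x, hx⟩ : ∃ x, x = (τ' i).symm z := ⟨_, rfl⟩
  rw [← hx]
  have hz : τ' i x = z := by rw [hx, Equiv.apply_symm_apply]
  by_cases hxz : τ' i x = x
  · rw [← hz, hxz]
  obtain ⟨-, b, hbA, hb⟩ := hd i x hxz
  rw [hz] at hb
  have hne : x ≠ z := fun h => hxz (by rw [hz, ← h])
  have actb : ∀ w ∈ zl S P, ∀ y, M.e (b * w * b⁻¹) i y = M.e w i (Equiv.swap x z y) := by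
    intro w hw y
    have h5 := hb w hw i (Equiv.swap x z y)
    rw [Function.update_self, Equiv.swap_apply_self] at h5
    exact h5
  -- `a` and `b` commute modulo `C(V)`
  have hcom : ∀ y, Equiv.swap x z ((τ i).symm y) = (τ i).symm (Equiv.swap x z y) := by
    intro y
    refine RLow.eq_of_not_sep hm M.toSymK i fun w hw => ?_
    have h5 := ho.comm a ha b hbA
    have h6 : b * (a * w * a⁻¹) * b⁻¹ ∈ zl S P := conjA hbA (conjA ha hw)
    have h7 := mem_centralizer_iff.1 h5 _ h6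
    have h8 : a * (b * w * b⁻¹) * a⁻¹ = b * (a * w * a⁻¹) * b⁻¹ := by
      calc a * (b * w * b⁻¹) * a⁻¹ = (a * b * a⁻¹ * b⁻¹) * (b * (a * w * a⁻¹) * b⁻¹) * (a * b * a⁻¹ * b⁻¹)⁻¹ := by group
        _ = b * (a * w * a⁻¹) * b⁻¹ := by rw [← h7]; group
    rw [← actb w hw, ← acta _ (conjA hbA hw), h8, actb _ (conjA ha hw), acta w hw]
  have hx1 : (τ i).symm x = x ∨ (τ i).symm x = z := by
    by_contra hcon
    rw [not_or] at hcon
    have h5 := hcom x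
    rw [Equiv.swap_apply_left, Equiv.swap_apply_of_ne_of_ne hcon.1 hcon.2] at h5
    exact hne ((τ i).symm.injective h5)
  rw [e1, e1]
  rcases hx1 with h5 | h5
  · have h6 : (τ i).symm z = z := by
      have h7 := hcom x
      rw [h5, Equiv.swap_apply_left] at h7
      exact h7.symm
    rw [h5, h6, two, two]
  · have h6 : (τ i).symm z = x := by
      have h7 := hcom x
      rw [h5, Equiv.swap_apply_right, Equiv.swap_apply_left] at h7
      exact h7.symm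
    rw [h5, h6, add_comm]

end sym

end Cfsg.Agent.Omega.NOThreeL.RRed.Blk.Types
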