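import Cfsg.Agent.Omega.NOThreeL.RRed.Blk.AsmPair
import Cfsg.Agent.Omega.NOThreeL.RRed.Blk.GamD

/-!
# NO-3L, box R, blocks with a radical: two blocks with the same root group have the same radical (helper855 #26560, (SW))

`X` acts faithfully on `V` (additive, `v + v = 0`), no over-offender (`NO`), `EE` : minimal exact subgroups of `S`.
`GB1 EE A` : `A` is the root group of a natural block `(e, f, d)` (`BkD`), which the other members of `EE` centralise.

* `GB1.comm` : all members of `EE` commute with `A`;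
* **`comm`** : so with the conjugates of `A` in `EE` (gallery over `Ps`);
* `swap_or` : two blocks `(e, f, d)`, `(e', f', d')` with the same root group : `d'(F') = d(F)` or `d'(F') = e(F)`, `e'(F') = d(F)`.
-/

set_option autoImplicit false
set_option linter.unusedSectionVars false

namespace Cfsg.Agent.Omega.NOThreeL.RRed.Blk.Uni

open Cfsg.Agent.Omega.NOThreeL.RRed.NS (fxd brk mem_fxd)
open Cfsg.Agent.Omega.NOThreeL.RRed.Blk.TypesGam (NO rt up_mem)
open Cfsg.Agent.Omega.NOThreeL.RRed.Blk.GamD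
open Cfsg.Agent.Omega.NOThreeL.RRed.Blk.Types
open Cfsg.Agent.Omega.NOThreeL.RRed.Blk.Asm (Es sit)
open scoped Pointwise

universe u v w

variable {X : Type u} {V : Type v} [Group X] [AddCommGroup V] [DistribMulAction X V]

/-! ### one block -/

section blk

variable {F : Type w} [Field F] {e f d : F →+ V} {C : AddSubgroup V} {up lo : F → X}
variable (h : BkD e f d C up lo)
include h

theorem rt_el (h2 : ∀ v : V, v + v = 0) (hf : ∀ x : X, (∀ v : V, x • v = v) → x = 1) : El (rt up) where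
  sq := by
    intro x hx
    obtain ⟨t, rfl⟩ := (h.mem_rt h2 hf).1 hx
    rw [h.up_add hf, h.two h2, h.up_zero hf]
  cm := by
    intro x hx y hy
    obtain ⟨t, rfl⟩ := (h.mem_rt h2 hf).1 hx
    obtain ⟨s, rfl⟩ := (h.mem_rt h2 hf).1 hy
    rw [h.up_add hf, h.up_add hf, add_comm]

/-- the commutators -/
theorem up_sub (t x y : F) {c : V} (hc : c ∈ C) : up t • (e x + f y + c) - (e x + f y + c) = e (t * y) + d (t * y ^ 2) := by
  rw [smul_add, smul_add, h.up_e, h.up_f, h.up_c _ c hc]
  abel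

theorem brk_rt_le (h2 : ∀ v : V, v + v = 0) (hf : ∀ x : X, (∀ v : V, x • v = v) → x = 1) :
    brk V (rt up) ≤ e.range ⊔ d.range := by
  refine brk_le fun a ha m => ?_
  obtain ⟨t, rfl⟩ := (h.mem_rt h2 hf).1 ha
  obtain ⟨x, y, c, hc, rfl⟩ := h.dec m
  rw [up_sub h t x y hc]
  exact AddSubgroup.add_mem_sup ⟨_, rfl⟩ ⟨_, rfl⟩

theorem cov_iff (h2 : ∀ v : V, v + v = 0) (hf : ∀ x : X, (∀ v : V, x • v = v) → x = 1) (m : V) :
    (∃ a ∈ rt up, ∃ v : V, a • v - v = m) ↔ ∃ t y, m = e (t * y) + d (t * y ^ 2) := by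
  constructor
  · rintro ⟨a, ha, v, rfl⟩
    obtain ⟨t, rfl⟩ := (h.mem_rt h2 hf).1 ha
    obtain ⟨x, y, c, hc, rfl⟩ := h.dec v
    exact ⟨t, y, up_sub h t x y hc⟩
  · rintro ⟨t, y, rfl⟩
    refine ⟨up t, up_mem t, f y, ?_⟩
    rw [h.up_f]; abel

theorem n0 {r s : F} (e1 : e r + d s = 0) : r = 0 ∧ d s = 0 := by
  have h1 : e r + f 0 ∈ C := by
    rw [map_zero, add_zero, ← add_neg_cancel_right (e r) (d s), e1, zero_add]
    exact C.neg_mem (h.dC _)
  obtain ⟨rfl, -⟩ := h.ind r 0 h1
  rw [map_zero, zero_add] at e1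
  exact ⟨rfl, e1⟩

theorem e_inj : Function.Injective e := by
  rw [injective_iff_map_eq_zero]
  intro r hr
  exact (n0 h (r := r) (s := 0) (by rw [map_zero, add_zero, hr])).1

/-- the commutators of `A` in coordinates -/
theorem cv_of {r s : F} (hr : r ≠ 0) (hs : s ≠ 0) : ∃ a ∈ rt up, ∃ v : V, a • v - v = e r + d s := by
  refine ⟨up (r * r / s), up_mem _, f (s / r), ?_⟩
  rw [h.up_f, add_assoc, add_sub_cancel_left]
  congr 2 <;> field_simp

theorem of_cv (h2 : ∀ v : V, v + v = 0) (hf : ∀ x : X, (∀ v : V, x • v = v) → x = 1) {m : V}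
    (hm : ∃ a ∈ rt up, ∃ v : V, a • v - v = m) : m = 0 ∨ ∃ r s, r ≠ 0 ∧ s ≠ 0 ∧ m = e r + d s := by
  obtain ⟨t, y, rfl⟩ := (cov_iff h h2 hf m).1 hm
  by_cases h0 : t * y = 0
  · left
    have e1 : t * y ^ 2 = t * y * y := by ring
    rw [e1, h0, zero_mul, map_zero, map_zero, add_zero]
  · right
    obtain ⟨ht, hy⟩ := mul_ne_zero_iff.1 h0
    exact ⟨_, _, h0, mul_ne_zero ht (pow_ne_zero 2 hy), rfl⟩

theorem n1 (h2 : ∀ v : V, v + v = 0) (hf : ∀ x : X, (∀ v : V, x • v = v) → x = 1) {m : V} (hm : m ∈ d.range)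
    (hc : ∃ a ∈ rt up, ∃ v : V, a • v - v = m) : m = 0 := by
  rcases of_cv h h2 hf hc with h0 | ⟨r, s, hr, -, e1⟩
  · exact h0
  · exfalso
    obtain ⟨s', rfl⟩ := hm
    have e2 : e r + d (s - s') = 0 := by
      rw [map_sub, ← add_sub_assoc, ← e1, sub_self]
    exact hr (n0 h e2).1

theorem n2 (h2 : ∀ v : V, v + v = 0) (hf : ∀ x : X, (∀ v : V, x • v = v) → x = 1) (hd : Function.Injective d) {m : V}
    (hm : m ∈ e.range) (hc : ∃ a ∈ rt up, ∃ v : V, a • v - v = m) : m = 0 := by
  rcases of_cv h h2 hf hc with h0 | ⟨r, s, -, hs, e1⟩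
  · exact h0
  · exfalso
    obtain ⟨r', rfl⟩ := hm
    have e2 : e (r - r') + d s = 0 := by
      rw [map_sub, sub_add_eq_add_sub, ← e1, sub_self]
    exact hs (hd (by rw [(n0 h e2).2, map_zero]))

theorem n3 (hd : ¬ Function.Injective d) {m : V} (hm : m ∈ e.range) : ∃ a ∈ rt up, ∃ v : V, a • v - v = m := by
  rw [injective_iff_map_eq_zero] at hd
  push Not at hd
  obtain ⟨s, hs, hs0⟩ := hd
  obtain ⟨r, rfl⟩ := hm
  by_cases hr : r = 0
  · exact ⟨1, one_mem _, 0, by rw [hr, map_zero, one_smul, sub_zero]⟩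
  · have h1 := cv_of h hr hs0
    rwa [hs, add_zero] at h1

theorem n4 {m : V} (hm : m ∈ e.range ⊔ d.range) (hc : ¬ ∃ a ∈ rt up, ∃ v : V, a • v - v = m) :
    m ∈ e.range ∨ m ∈ d.range := by
  obtain ⟨_, ⟨r, rfl⟩, _, ⟨s, rfl⟩, rfl⟩ := AddSubgroup.mem_sup.1 hm
  by_cases hr : r = 0
  · right
    rw [hr, map_zero, zero_add]
    exact ⟨s, rfl⟩
  · by_cases hs : s = 0
    · left
      rw [hs, map_zero, add_zero]
      exact ⟨r, rfl⟩
    · exact absurd (cv_of h hr hs) hc

theorem n5 : e.range ⊓ d.range = ⊥ := by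
  rw [eq_bot_iff]
  rintro _ ⟨⟨r, rfl⟩, ⟨s, hs⟩⟩
  have e1 : e r + d (-s) = 0 := by rw [map_neg, hs, add_neg_cancel]
  rw [(n0 h e1).1, map_zero]
  exact zero_mem _

theorem n6 (h2 : ∀ v : V, v + v = 0) (hf : ∀ x : X, (∀ v : V, x • v = v) → x = 1) [Finite F] (h4 : 2 < Nat.card F) :
    brk V (rt up) = e.range ⊔ d.range := by
  refine le_antisymm (brk_rt_le h h2 hf) ?_
  have key : ∀ r s, r ≠ 0 → s ≠ 0 → e r + d s ∈ brk V (rt up) := by
    intro r s hr hs
    obtain ⟨a, ha, v, e1⟩ := cv_of h hr hs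
    rw [← e1]
    exact sub_mem_brk ha v
  have hd : ∀ u, d u ∈ brk V (rt up) := by
    intro u
    by_cases hu : u = 0
    · rw [hu, map_zero]; exact zero_mem _
    obtain ⟨s, hs0, hsu⟩ : ∃ s : F, s ≠ 0 ∧ s ≠ u := by
      by_contra hcon
      push Not at hcon
      have hs : (Set.univ : Set F) ⊆ {0, u} := by
        intro x _
        rcases eq_or_ne x 0 with h | h
        · exact Or.inl h
        · exact Or.inr (hcon x h)
      have h3 := Set.ncard_le_ncard hs (Set.toFinite _)
      rw [Set.ncard_univ, Set.ncard_pair (Ne.symm hu)] at h3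
      omega
    have e1 : d u = (e 1 + d s) - (e 1 + d (s - u)) := by
      rw [map_sub]; abel
    rw [e1]
    exact sub_mem (key _ _ one_ne_zero hs0) (key _ _ one_ne_zero (sub_ne_zero.2 hsu))
  refine sup_le ?_ ?_
  · rintro _ ⟨r, rfl⟩
    by_cases hr : r = 0
    · rw [hr, map_zero]; exact zero_mem _
    have e1 : e r = (e r + d 1) - d 1 := by abel
    rw [e1]
    exact sub_mem (key _ _ hr one_ne_zero) (hd 1)
  · rintro _ ⟨u, rfl⟩
    exact hd u

theorem card_e : Nat.card e.range = Nat.card F :=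
  (Nat.card_congr (AddMonoidHom.ofInjective (e_inj h)).toEquiv).symm

end blk

/-- a subgroup in the union of two -/
theorem le_or_le' {A B C : AddSubgroup V} (h : ∀ x ∈ A, x ∈ B ∨ x ∈ C) : A ≤ B ∨ A ≤ C := by
  by_contra hcon
  push Not at hcon
  obtain ⟨h1, h2⟩ := hcon
  obtain ⟨x, hx, hxB⟩ := SetLike.not_le_iff_exists.1 h1
  obtain ⟨y, hy, hyC⟩ := SetLike.not_le_iff_exists.1 h2
  have hxC : x ∈ C := (h x hx).resolve_left hxB
  have hyB : y ∈ B := (h y hy).resolve_right hyC
  rcases h (x + y) (add_mem hx hy) with h3 | h3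
  · exact hxB (by simpa using sub_mem h3 hyB)
  · exact hyC (by simpa using sub_mem h3 hxC)

section two

variable {F : Type w} [Field F] [Finite F] {F' : Type*} [Field F'] [Finite F'] {e f d : F →+ V} {C : AddSubgroup V}
  {up lo : F → X} {e' f' d' : F' →+ V} {C' : AddSubgroup V} {up' lo' : F' → X}

/-- `d'(F') ≤ d(F)` or `d'(F') ≤ e(F)` -/
theorem step (b : BkD e f d C up lo) (b' : BkD e' f' d' C' up' lo') (h2 : ∀ v : V, v + v = 0)
    (hf : ∀ x : X, (∀ v : V, x • v = v) → x = 1) (h4 : 2 < Nat.card F) (h4' : 2 < Nat.card F')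
    (hr : rt up' = rt up) : d'.range ≤ e.range ∨ d'.range ≤ d.range := by
  have hY : e'.range ⊔ d'.range = e.range ⊔ d.range := by rw [← n6 b h2 hf h4, ← n6 b' h2 hf h4', hr]
  refine le_or_le' fun x hx => ?_
  by_cases hc : ∃ a ∈ rt up, ∃ v : V, a • v - v = x
  · rw [n1 b' h2 hf hx (by rw [hr]; exact hc)]
    exact Or.inl (zero_mem _)
  · exact n4 b (hY ▸ (le_sup_right : d'.range ≤ _) hx) hc

/-- `d = 0` for one block implies `d = 0` for the other -/
theorem step0 (b : BkD e f d C up lo) (b' : BkD e' f' d' C' up' lo') (h2 : ∀ v : V, v + v = 0)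
    (hf : ∀ x : X, (∀ v : V, x • v = v) → x = 1) (h4 : 2 < Nat.card F) (h4' : 2 < Nat.card F')
    (hr : rt up' = rt up) (hd : ¬ Function.Injective d) : d'.range ≤ d.range := by
  rcases step b b' h2 hf h4 h4' hr with h1 | h1
  · intro x hx
    have h3 := n3 b hd (h1 hx)
    rw [n1 b' h2 hf hx (by rw [hr]; exact h3)]
    exact zero_mem _
  · exact h1

/-- **the two blocks have the same radical, or the radical and the line are interchanged** -/
theorem swap_or (b : BkD e f d C up lo) (b' : BkD e' f' d' C' up' lo') (h2 : ∀ v : V, v + v = 0)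
    (hf : ∀ x : X, (∀ v : V, x • v = v) → x = 1) (h4 : 2 < Nat.card F) (h4' : 2 < Nat.card F')
    (hr : rt up' = rt up) :
    d'.range = d.range ∨ (Function.Injective d ∧ Function.Injective d' ∧ d'.range = e.range ∧ e'.range = d.range) := by
  have hq : Nat.card F' = Nat.card F := by rw [← b.card_rt h2 hf, ← b'.card_rt h2 hf, hr]
  have : Finite d.range := Finite.of_surjective _ d.rangeRestrict_surjective
  have : Finite d'.range := Finite.of_surjective _ d'.rangeRestrict_surjective
  have : Finite e.range := Finite.of_surjective _ e.rangeRestrict_surjective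
  have : Finite e'.range := Finite.of_surjective _ e'.rangeRestrict_surjective
  by_cases hd : Function.Injective d
  swap
  · by_cases hd' : Function.Injective d'
    swap
    · exact Or.inl (le_antisymm (step0 b b' h2 hf h4 h4' hr hd) (step0 b' b h2 hf h4' h4 hr.symm hd'))
    · -- `d'` injective, `d` not
      exfalso
      have h1 := step0 b b' h2 hf h4 h4' hr hd
      -- `|d(F)| < |F|`, `|d'(F')| = |F|`
      have c1 : Nat.card d'.range = Nat.card F' := (Nat.card_congr (AddMonoidHom.ofInjective hd').toEquiv).symm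
      have c2 : Nat.card d'.range ≤ Nat.card d.range := AddSubgroup.card_le_of_le h1
      have c3 : Nat.card d.range < Nat.card F := by
        refine lt_of_le_of_ne (Nat.card_le_card_of_surjective d.rangeRestrict d.rangeRestrict_surjective) fun h3 => hd ?_
        have h5 : Function.Bijective d.rangeRestrict :=
          (Nat.bijective_iff_surjective_and_card _).2 ⟨d.rangeRestrict_surjective, h3.symm⟩
        intro x y hxy
        exact h5.1 (Subtype.ext hxy)
      omega
  · by_cases hd' : Function.Injective d'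
    swap
    · exfalso
      have h1 := step0 b' b h2 hf h4' h4 hr.symm hd'
      have c1 : Nat.card d.range = Nat.card F := (Nat.card_congr (AddMonoidHom.ofInjective hd).toEquiv).symm
      have c2 : Nat.card d.range ≤ Nat.card d'.range := AddSubgroup.card_le_of_le h1
      have c3 : Nat.card d'.range < Nat.card F' := by
        refine lt_of_le_of_ne (Nat.card_le_card_of_surjective d'.rangeRestrict d'.rangeRestrict_surjective) fun h3 => hd' ?_
        have h5 : Function.Bijective d'.rangeRestrict :=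
          (Nat.bijective_iff_surjective_and_card _).2 ⟨d'.rangeRestrict_surjective, h3.symm⟩
        intro x y hxy
        exact h5.1 (Subtype.ext hxy)
      omega
    · have c1 : Nat.card d.range = Nat.card F := (Nat.card_congr (AddMonoidHom.ofInjective hd).toEquiv).symm
      have c2 : Nat.card d'.range = Nat.card F' := (Nat.card_congr (AddMonoidHom.ofInjective hd').toEquiv).symm
      have c3 := card_e b
      have c4 := card_e b'
      rcases step b b' h2 hf h4 h4' hr with h1 | h1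
      · right
        have e1 : d'.range = e.range := AddSubgroup.eq_of_le_of_card_ge h1 (by omega)
        refine ⟨hd, hd', e1, ?_⟩
        rcases step b' b h2 hf h4' h4 hr.symm with h3 | h3
        · exact (AddSubgroup.eq_of_le_of_card_ge h3 (by omega)).symm
        · exfalso
          rw [e1] at h3
          have h5 : e.range ⊓ d.range = d.range := inf_eq_right.2 h3
          rw [n5 b] at h5
          rw [← h5, AddSubgroup.card_bot] at c1
          omega
      · left
        exact AddSubgroup.eq_of_le_of_card_ge h1 (by omega)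

end two

/-- `A` is the root group of a natural block (with radical), which the other members of `EE` centralise. -/
def GB1 (V : Type v) [AddCommGroup V] [DistribMulAction X V] (EE : Set (Subgroup X)) (A : Subgroup X) : Prop :=
  ∃ (F : Type) (_ : Field F) (_ : Finite F) (e f d : F →+ V) (C : AddSubgroup V) (up lo : F → X),
    BkD e f d C up lo ∧ rt up = A ∧ ∀ B ∈ EE, B ≠ A → ∀ b ∈ B, ∀ n ∈ (e.range ⊔ f.range) ⊔ d.range, b • n = n

section comm

variable (h2 : ∀ v : V, v + v = 0) (hf : ∀ x : X, (∀ v : V, x • v = v) → x = 1)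
  {S : Subgroup X} {EE : Set (Subgroup X)} (E : Es S EE V)
include h2 hf E

/-- all members of `EE` commute with `A` -/
theorem comm_blk {F : Type w} [Field F] {e f d : F →+ V} {C : AddSubgroup V} {up lo : F → X}
    (h : BkD e f d C up lo) {A : Subgroup X} (hr : rt up = A) (hA : A ∈ EE)
    (oth : ∀ B ∈ EE, B ≠ A → ∀ b ∈ B, ∀ n ∈ (e.range ⊔ f.range) ⊔ d.range, b • n = n) :
    ∀ B ∈ EE, ∀ a ∈ A, ∀ b ∈ B, a * b = b * a := by
  intro B hB a ha b hb
  by_cases hBA : B = A
  · exact (E.el A hA).cm a ha b (hBA ▸ hb)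
  have hfN : ∀ y, f y ∈ (e.range ⊔ f.range) ⊔ d.range := fun y =>
    (le_sup_left : e.range ⊔ f.range ≤ _) ((le_sup_right : f.range ≤ _) ⟨y, rfl⟩)
  have heN : ∀ y, e y ∈ (e.range ⊔ f.range) ⊔ d.range := fun y =>
    (le_sup_left : e.range ⊔ f.range ≤ _) ((le_sup_left : e.range ≤ _) ⟨y, rfl⟩)
  have hdN : ∀ y, d y ∈ (e.range ⊔ f.range) ⊔ d.range := fun y => (le_sup_right : d.range ≤ _) ⟨y, rfl⟩
  have hb1 := oth B hB hBA b hb
  have hb2 : ∀ n ∈ (e.range ⊔ f.range) ⊔ d.range, b⁻¹ • n = n := fun n hn => by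
    rw [inv_smul_eq_iff, hb1 n hn]
  have act : ∀ t, (b * up t * b⁻¹) • f 1 = f 1 + e t + d t := by
    intro t
    rw [mul_smul, mul_smul, hb2 _ (hfN 1), h.up_f, mul_one, one_pow, mul_one]
    exact hb1 _ (add_mem (add_mem (hfN 1) (heN t)) (hdN t))
  have hcj : MulAut.conj b • A = A := by
    by_contra hne
    have h3 := oth _ (E.nS b (E.le B hB hb) A hA) hne (b * up 1 * b⁻¹) (by
      rw [mem_cj]
      have e1 : b⁻¹ * (b * up 1 * b⁻¹) * b = up 1 := by group
      rw [e1, ← hr]
      exact up_mem 1) _ (hfN 1)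
    rw [act 1, add_assoc, add_eq_left] at h3
    exact one_ne_zero (n0 h h3).1
  rw [← hr] at ha
  obtain ⟨t, rfl⟩ := (h.mem_rt h2 hf).1 ha
  have h3 : b * up t * b⁻¹ ∈ rt up := by
    rw [hr, ← hcj, mem_cj]
    have e1 : b⁻¹ * (b * up t * b⁻¹) * b = up t := by group
    rw [e1, ← hr]
    exact ha
  obtain ⟨s, hs⟩ := (h.mem_rt h2 hf).1 h3
  have h5 := act t
  rw [← hs, h.up_f, mul_one, one_pow, mul_one] at h5
  have h6 : e (s - t) + d (s - t) = 0 := by
    rw [map_sub, map_sub]
    have e1 : e s - e t + (d s - d t) = (f 1 + e s + d s) - (f 1 + e t + d t) := by abel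
    rw [e1, h5, sub_self]
  have h7 : s = t := sub_eq_zero.1 (n0 h h6).1
  rw [h7] at hs
  exact (mul_inv_eq_iff_eq_mul.1 hs.symm).symm

theorem GB1.comm {A : Subgroup X} (g : GB1 V EE A) (hA : A ∈ EE) : ∀ B ∈ EE, ∀ a ∈ A, ∀ b ∈ B, a * b = b * a := by
  obtain ⟨F, _, _, e, f, d, C, up, lo, h, hr, oth⟩ := g
  exact comm_blk h2 hf E h hr hA oth

end comm

/-- the hypothesis on the members `P` of `Ps` : inactive or active -/
def PsH (V : Type v) [AddCommGroup V] [DistribMulAction X V] (S : Subgroup X) (EE Ps : Set (Subgroup X)) : Prop :=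
  ∀ P ∈ Ps, (∀ g ∈ P, ∀ A ∈ EE, MulAut.conj g • A ∈ EE) ∨ ∃ (K : Subgroup X) (EP : Set (Subgroup X)), P ≤ K ⊔ S ∧
    EP ⊆ EE ∧ (∀ A ∈ EP, A ≤ K) ∧ (∀ A ∈ EE, A ∈ EP ∨ ∀ a ∈ A, ∀ m ∈ brk V K, a • m = m) ∧
    ∀ A ∈ EP, 4 ≤ Nat.card A → GB1 V EE A

section gal

variable [Finite X] [Finite V] (h2 : ∀ v : V, v + v = 0) (hf : ∀ x : X, (∀ v : V, x • v = v) → x = 1) (hno : NO X V)
  {S : Subgroup X} {EE : Set (Subgroup X)} (E : Es S EE V)
include h2 hf hno E

/-- **(T0)** -/
theorem cj_of {K B : Subgroup X} (hB : B ∈ EE) (hBK : ∀ a ∈ B, ∀ m ∈ brk V K, a • m = m) {g : X} (hg : g ∈ K) :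
    MulAut.conj g • B = B := by
  have key : ∀ x ∈ K, ∀ n : V, n ∈ (fxd B : AddSubgroup V) → x • n ∈ (fxd B : AddSubgroup V) := by
    intro x hx n hn
    have e1 : x • n = (x • n - n) + n := by abel
    rw [e1]
    exact add_mem (mem_fxd.2 fun a ha => hBK a ha _ (sub_mem_brk hx n)) hn
  refine (sit h2 hf hno).cj_eq le_top (E.el B hB) (E.exact B hB) (E.quad B hB) (Subgroup.mem_top g) fun m => ?_
  constructor
  · exact fun h => key _ (inv_mem hg) m h
  · intro h
    have := key _ hg _ h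
    rwa [smul_inv_smul] at this

omit hf hno [Finite X] in
/-- `|[V, B]| ≤ 3` if `|B| ≤ 3` -/
theorem card_brk {B : Subgroup X} (hB : B ∈ EE) (h3 : Nat.card B ≤ 3) : Nat.card (brk V B) ≤ 3 := by
  by_cases hb : ∃ b ∈ B, b ≠ 1
  · obtain ⟨b, hb, hb1⟩ := hb
    -- `B = {1, b}`
    have hB2 : ∀ x ∈ B, x = 1 ∨ x = b := by
      intro x hx
      by_contra hcon
      push Not at hcon
      obtain ⟨hx1, hxb⟩ := hcon
      have : Finite B := Nat.finite_of_card_ne_zero (by
        intro h0
        have := E.exact B hB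
        rw [h0, zero_mul] at this
        have := Nat.card_pos (α := V)
        omega)
      have h4 : 4 ≤ Nat.card B := by
        have hs : ({1, b, x, x * b} : Set X) ⊆ (B : Set X) := by
          intro y hy
          rcases hy with rfl | rfl | rfl | rfl
          · exact one_mem _
          · exact hb
          · exact hx
          · exact mul_mem hx hb
        have h5 := Set.ncard_le_ncard hs (Set.toFinite _)
        have hbb := (E.el B hB).sq b hb
        have e1 : x * b ≠ 1 := fun h => hxb (by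
          have : x * b = b * b := by rw [h, hbb]
          exact mul_right_cancel this)
        have e2 : x * b ≠ b := fun h => hx1 (by simpa using h)
        have e3 : x * b ≠ x := fun h => hb1 (by simpa using h)
        rw [Set.ncard_insert_of_notMem (by simp [Ne.symm hb1, Ne.symm hx1, Ne.symm e1]) (Set.toFinite _),
          Set.ncard_insert_of_notMem (by simp [Ne.symm hxb, Ne.symm e2]) (Set.toFinite _),
          Set.ncard_pair (Ne.symm e3)] at h5
        exact h5
      omega
    let φ : V →+ V := DistribSMul.toAddMonoidHom V b - AddMonoidHom.id V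
    have hφ : ∀ v, φ v = b • v - v := fun v => rfl
    have h4 : brk V B ≤ φ.range := by
      refine brk_le fun a ha m => ?_
      rcases hB2 a ha with rfl | rfl
      · rw [one_smul, sub_self]; exact zero_mem _
      · exact ⟨m, hφ m⟩
    have h5 : (fxd B : AddSubgroup V) = φ.ker := by
      ext v
      rw [mem_fxd, AddMonoidHom.mem_ker, hφ, sub_eq_zero]
      constructor
      · exact fun h => h b hb
      · intro h a ha
        rcases hB2 a ha with rfl | rfl
        · exact one_smul _ _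
        · exact h
    have h6 := E.exact B hB
    have h7 := φ.ker.card_mul_index
    have h8 : φ.ker.index = Nat.card φ.range := AddSubgroup.index_ker φ
    have h9 : 0 < Nat.card φ.ker := Nat.card_pos
    have h10 : Nat.card φ.range ≤ Nat.card B := by
      rw [h5, ← h7, h8, mul_comm (Nat.card B)] at h6
      exact Nat.le_of_mul_le_mul_left h6 h9
    exact (AddSubgroup.card_le_of_le h4).trans (h10.trans h3)
  · push Not at hb
    have h4 : brk V B ≤ ⊥ := by
      refine brk_le fun a ha m => ?_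
      rw [hb a ha, one_smul, sub_self]
      exact zero_mem _
    rw [le_bot_iff.1 h4, AddSubgroup.card_bot]
    omega

/-- the commutators of an element of a conjugate of `A` -/
theorem four_le {A : Subgroup X} (g : GB1 V EE A) (h4 : 4 ≤ Nat.card A) {x z : X} (hz : z ∈ MulAut.conj x • A)
    (hz1 : z ≠ 1) {W : AddSubgroup V} (hW : ∀ v, z • v - v ∈ W) : 4 ≤ Nat.card W := by
  obtain ⟨F, _, _, e, f, d, C, up, lo, h, hr, -⟩ := g
  rw [← hr, h.card_rt h2 hf] at h4
  rw [mem_cj, ← hr] at hz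
  obtain ⟨t, ht⟩ := (h.mem_rt h2 hf).1 hz
  have ht0 : t ≠ 0 := by
    intro h0
    rw [h0, h.up_zero hf] at ht
    apply hz1
    have e1 : z = x * (x⁻¹ * z * x) * x⁻¹ := by group
    rw [e1, ← ht]; group
  have hzt : z = x * up t * x⁻¹ := by rw [ht]; group
  have key : ∀ y : F, z • (x • f y) - x • f y = x • (e (t * y) + d (t * y ^ 2)) := by
    intro y
    rw [hzt, mul_smul, mul_smul, inv_smul_smul, h.up_f, ← smul_sub]
    congr 1
    abel
  refine h4.trans (Nat.card_le_card_of_injective (fun y : F => (⟨_, hW (x • f y)⟩ : W)) fun y y' hy => ?_)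
  have h5 : z • (x • f y) - x • f y = z • (x • f y') - x • f y' := congrArg Subtype.val hy
  rw [key, key] at h5
  have h6 := smul_left_cancel _ h5
  have h7 : e (t * y - t * y') + d (t * y ^ 2 - t * y' ^ 2) = 0 := by
    rw [map_sub, map_sub]
    have e1 : e (t * y) - e (t * y') + (d (t * y ^ 2) - d (t * y' ^ 2)) =
        (e (t * y) + d (t * y ^ 2)) - (e (t * y') + d (t * y' ^ 2)) := by abel
    rw [e1, h6, sub_self]
  have h8 := (n0 h h7).1
  exact mul_left_cancel₀ ht0 (sub_eq_zero.1 h8)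

/-- **all members of `EE` commute with the conjugates of `A` in `EE`** -/
theorem comm {Ps : Set (Subgroup X)} (hPs : PsH V S EE Ps) (htop : sSup Ps = ⊤) {A : Subgroup X} (hA : A ∈ EE)
    (h4 : 4 ≤ Nat.card A) (g : GB1 V EE A) :
    ∀ x : X, MulAut.conj x • A ∈ EE → ∀ B ∈ EE, ∀ a ∈ MulAut.conj x • A, ∀ b ∈ B, a * b = b * a := by
  by_contra hcon
  push Not at hcon
  obtain ⟨x₀, hx₀⟩ := hcon
  let Q : X → Prop := fun x => MulAut.conj x • A ∈ EE ∧ ∃ B ∈ EE, ∃ a ∈ MulAut.conj x • A, ∃ b ∈ B, a * b ≠ b * a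
  have hQ₀ : Q x₀ := ⟨hx₀.1, hx₀.2⟩
  -- a single element
  have hcj : ∀ (y : X), (∀ B ∈ EE, MulAut.conj y • B ∈ EE) → ∀ x, Q x → Q (y * x) := by
    rintro y hy x ⟨h1, B, hB, a, ha, b, hb, hab⟩
    refine ⟨by rw [map_mul, mul_smul]; exact hy _ h1, _, hy B hB, y * a * y⁻¹, ?_, y * b * y⁻¹, ?_, fun h5 => hab ?_⟩
    · rw [map_mul, mul_smul, mem_cj]
      have e1 : y⁻¹ * (y * a * y⁻¹) * y = a := by group
      rw [e1]; exact ha
    · rw [mem_cj]
      have e1 : y⁻¹ * (y * b * y⁻¹) * y = b := by group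
      rw [e1]; exact hb
    · have e1 : y * (a * b) * y⁻¹ = y * (b * a) * y⁻¹ := by
        calc y * (a * b) * y⁻¹ = y * a * y⁻¹ * (y * b * y⁻¹) := by group
          _ = y * b * y⁻¹ * (y * a * y⁻¹) := h5
          _ = y * (b * a) * y⁻¹ := by group
      exact mul_left_cancel (mul_right_cancel e1)
  have hS : ∀ s ∈ S, ∀ x, Q x → Q (s * x) := fun s hs => hcj s fun B hB => E.nS s hs B hB
  -- the elements of `K`
  have hK : ∀ (K : Subgroup X) (EP : Set (Subgroup X)), EP ⊆ EE → (∀ A ∈ EP, A ≤ K) →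
      (∀ A ∈ EE, A ∈ EP ∨ ∀ a ∈ A, ∀ m ∈ brk V K, a • m = m) → (∀ A ∈ EP, 4 ≤ Nat.card A → GB1 V EE A) →
      ∀ k ∈ K, ∀ x, Q x → Q (k * x) := by
    rintro K EP hEP hEK hd hg k hk x ⟨h1, B, hB, a, ha, b, hb, hab⟩
    have hc4 : 4 ≤ Nat.card ↥(MulAut.conj x • A) := by rw [card_cj]; exact h4
    rcases hd _ h1 with h5 | h5
    · exact absurd ((hg _ h5 hc4).comm h2 hf E h1 B hB a ha b hb) hab
    have hcK : ∀ y ∈ K, MulAut.conj y • MulAut.conj x • A = MulAut.conj x • A := fun y hy =>
      cj_of h2 hf hno E h1 h5 hy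
    rcases hd _ hB with h6 | h6
    · exfalso
      by_cases hB4 : 4 ≤ Nat.card B
      · exact hab ((hg _ h6 hB4).comm h2 hf E hB _ h1 b hb a ha).symm
      · -- `|B| ≤ 3`
        have hBK := hEK B h6
        have hbr : brk V B ≤ brk V K := brk_le fun y hy m => sub_mem_brk (hBK hy) m
        have hfx : ∀ y ∈ MulAut.conj x • A, ∀ m ∈ brk V B, y • m = m := fun y hy m hm => h5 y hy m (hbr hm)
        set z : X := b * a * b⁻¹ * a⁻¹ with hz
        have hzA : z ∈ MulAut.conj x • A := by
          refine mul_mem ?_ (inv_mem ha)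
          rw [← hcK b (hBK hb)]
          rw [mem_cj]
          have e1 : b⁻¹ * (b * a * b⁻¹) * b = a := by group
          rw [e1]; exact ha
        have hz1 : z ≠ 1 := by
          intro h7
          apply hab
          rw [hz] at h7
          have e1 : b * a = a * b := by
            calc b * a = (b * a * b⁻¹ * a⁻¹) * (a * b) := by group
              _ = a * b := by rw [h7, one_mul]
          exact e1.symm
        have hzW : ∀ v, z • v - v ∈ brk V B := by
          intro v
          have e1 : z • v - v = (b • (a * b⁻¹ * a⁻¹) • v - (a * b⁻¹ * a⁻¹) • v) + a • (b⁻¹ • (a⁻¹ • v) - a⁻¹ • v) := by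
            rw [smul_sub, smul_inv_smul, hz]
            simp only [mul_smul]
            abel
          rw [e1]
          refine add_mem (sub_mem_brk hb _) ?_
          have h7 : b⁻¹ • (a⁻¹ • v) - a⁻¹ • v ∈ brk V B := sub_mem_brk (inv_mem hb) _
          rw [hfx a ha _ h7]
          exact h7
        have h7 := four_le h2 hf hno E g h4 hzA hz1 hzW
        have h8 := card_brk h2 E hB (by omega)
        omega
    · have hBK : MulAut.conj k • B = B := cj_of h2 hf hno E hB h6 hk
      refine ⟨by rw [map_mul, mul_smul, hcK k hk]; exact h1, B, hB, a, ?_, b, hb, hab⟩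
      rw [map_mul, mul_smul, hcK k hk]; exact ha
  let T : Subgroup X :=
    { carrier := {y | ∀ x, Q x ↔ Q (y * x)}
      one_mem' := fun x => by rw [one_mul]
      mul_mem' := fun {p q} hp hq x => by rw [hq x, hp (q * x), mul_assoc]
      inv_mem' := fun {p} hp x => by rw [hp (p⁻¹ * x), mul_inv_cancel_left] }
  have hT : ∀ {R : Subgroup X}, (∀ y ∈ R, ∀ x, Q x → Q (y * x)) → R ≤ T := by
    intro R hR y hy x
    refine ⟨hR y hy x, fun h5 => ?_⟩
    have h6 := hR y⁻¹ (inv_mem hy) _ h5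
    rwa [inv_mul_cancel_left] at h6
  have hle : (⊤ : Subgroup X) ≤ T := by
    rw [← htop]
    refine sSup_le fun P hP => ?_
    rcases hPs P hP with h5 | ⟨K, EP, h5, h6, h7, h8, h9⟩
    · exact hT fun y hy => hcj y (h5 y hy)
    · exact h5.trans (sup_le (hT (hK K EP h6 h7 h8 h9)) (hT hS))
  have h5 : Q (x₀⁻¹ * x₀) := (hle (Subgroup.mem_top x₀⁻¹) x₀).1 hQ₀
  rw [inv_mul_cancel] at h5
  obtain ⟨-, B, hB, a, ha, b, hb, hab⟩ := h5
  rw [map_one, one_smul] at ha
  exact hab (g.comm h2 hf E hA B hB a ha b hb)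

end gal

end Cfsg.Agent.Omega.NOThreeL.RRed.Blk.Uni
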