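import Cfsg.Agent.Omega.NOThreeL.RRed.Blk.TypesGam

/-!
# NO-3L, box R, nonsplit blocks (#26560, #26972): two commuting exact groups

* `index_inf_mul` : `|V : A ⊓ C| |V : A ⊔ C| = |V : A| |V : C|`;
* **`sum_top`** : no over-offender, `B`, `B'` elementary abelian, commuting, exact, `B ∩ B' = 1`: `V = C_V(B) + C_V(B')`.
-/

set_option autoImplicit false
set_option linter.unusedSectionVars false

namespace Cfsg.Agent.Omega.NOThreeL.RRed.Blk.Uni

open Subgroup
open Cfsg.Agent.Omega.NOThreeL.RRed.NS (fxd mem_fxd)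
open Cfsg.Agent.Omega.NOThreeL.RRed.Blk.TypesGam (NO)

universe u v

theorem index_inf_mul {V : Type v} [AddCommGroup V] (A C : AddSubgroup V) :
    (A ⊓ C).index * (A ⊔ C).index = A.index * C.index := by
  have h1 : (A ⊓ C).relIndex C * C.index = (A ⊓ C).index := AddSubgroup.relIndex_mul_index inf_le_right
  have h2 : A.relIndex (C ⊔ A) * (C ⊔ A).index = A.index := AddSubgroup.relIndex_mul_index le_sup_right
  rw [AddSubgroup.inf_relIndex_right] at h1
  rw [AddSubgroup.relIndex_sup_right] at h2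
  rw [← h1, ← h2, sup_comm A C]
  ring

variable {X : Type u} {V : Type v} [Group X] [AddCommGroup V] [DistribMulAction X V]

/-- the product of two commuting subgroups -/
theorem mem_sup_comm {A B : Subgroup X} (hAB : ∀ a ∈ A, ∀ b ∈ B, a * b = b * a) {x : X} :
    x ∈ A ⊔ B ↔ ∃ a ∈ A, ∃ b ∈ B, a * b = x := by
  constructor
  · intro hx
    have h1 : A ≤ normalizer (B : Set X) := by
      have h2 : A ≤ centralizer (B : Set X) := fun a ha => mem_centralizer_iff.2 fun b hb => (hAB a ha b hb).symm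
      exact h2.trans (centralizer_le_normalizer _)
    have h2 : x ∈ ((A ⊔ B : Subgroup X) : Set X) := hx
    rw [coe_mul_of_left_le_normalizer_right _ _ h1] at h2
    obtain ⟨a, ha, b, hb, e⟩ := h2
    exact ⟨a, ha, b, hb, e⟩
  · rintro ⟨a, ha, b, hb, rfl⟩
    exact mul_mem (mem_sup_left ha) (mem_sup_right hb)

theorem card_sup [Finite X] {A B : Subgroup X} (h0 : A ⊓ B = ⊥) :
    Nat.card A * Nat.card B ≤ Nat.card (A ⊔ B : Subgroup X) := by
  rw [← Nat.card_prod]
  refine Nat.card_le_card_of_injective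
    (fun p : A × B => (⟨p.1 * p.2, mul_mem (mem_sup_left p.1.2) (mem_sup_right p.2.2)⟩ : (A ⊔ B : Subgroup X))) ?_
  rintro ⟨⟨a, ha⟩, b, hb⟩ ⟨⟨a', ha'⟩, b', hb'⟩ e
  have e1 : a * b = a' * b' := congrArg Subtype.val e
  have e2 : a'⁻¹ * a = b' * b⁻¹ := by
    rw [eq_mul_inv_iff_mul_eq, mul_assoc, e1, inv_mul_cancel_left]
  have h1 : a'⁻¹ * a ∈ A ⊓ B := by
    refine mem_inf.2 ⟨A.mul_mem (A.inv_mem ha') ha, ?_⟩
    rw [e2]
    exact B.mul_mem hb' (B.inv_mem hb)
  rw [h0, Subgroup.mem_bot] at h1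
  have h2 : a = a' := (inv_mul_eq_one.1 h1).symm
  subst h2
  have h3 : b = b' := mul_left_cancel e1
  subst h3
  rfl

/-- **Two commuting exact groups which meet trivially.** -/
theorem sum_top [Finite X] [Finite V] (hno : NO X V) {B B' : Subgroup X} (c : ∀ x ∈ B, ∀ y ∈ B, x * y = y * x)
    (s : ∀ x ∈ B, x * x = 1) (c' : ∀ x ∈ B', ∀ y ∈ B', x * y = y * x) (s' : ∀ x ∈ B', x * x = 1)
    (cc : ∀ x ∈ B, ∀ y ∈ B', x * y = y * x) (h : Nat.card V ≤ Nat.card B * Nat.card (fxd B : AddSubgroup V))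
    (h' : Nat.card V ≤ Nat.card B' * Nat.card (fxd B' : AddSubgroup V)) (h0 : B ⊓ B' = ⊥) :
    (fxd B : AddSubgroup V) ⊔ fxd B' = ⊤ := by
  have key : ∀ {A : Subgroup X}, Nat.card V ≤ Nat.card A * Nat.card (fxd A : AddSubgroup V) →
      (fxd A : AddSubgroup V).index ≤ Nat.card A := by
    intro A hA
    rw [← AddSubgroup.card_mul_index (fxd A : AddSubgroup V), mul_comm (Nat.card A)] at hA
    exact Nat.le_of_mul_le_mul_left hA Nat.card_pos
  have hi := key h
  have hi' := key h'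
  have hc : ∀ x ∈ B ⊔ B', ∀ y ∈ B ⊔ B', x * y = y * x := by
    intro x hx y hy
    obtain ⟨a, ha, b, hb, rfl⟩ := (mem_sup_comm cc).1 hx
    obtain ⟨a', ha', b', hb', rfl⟩ := (mem_sup_comm cc).1 hy
    calc a * b * (a' * b') = a * (b * a') * b' := by group
      _ = a * (a' * b) * b' := by rw [cc a' ha' b hb]
      _ = (a * a') * (b * b') := by group
      _ = (a' * a) * (b' * b) := by rw [c a ha a' ha', c' b hb b' hb']
      _ = a' * (a * b') * b := by group
      _ = a' * (b' * a) * b := by rw [cc a ha b' hb']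
      _ = _ := by group
  have hs : ∀ x ∈ B ⊔ B', x * x = 1 := by
    intro x hx
    obtain ⟨a, ha, b, hb, rfl⟩ := (mem_sup_comm cc).1 hx
    calc a * b * (a * b) = a * (b * a) * b := by group
      _ = a * (a * b) * b := by rw [cc a ha b hb]
      _ = (a * a) * (b * b) := by group
      _ = 1 := by rw [s a ha, s' b hb, one_mul]
  have hfx : (fxd (B ⊔ B') : AddSubgroup V) = fxd B ⊓ fxd B' := by
    apply le_antisymm
    · exact fun m hm => ⟨fun a ha => hm a (mem_sup_left ha), fun a ha => hm a (mem_sup_right ha)⟩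
    · rintro m ⟨h1, h2⟩ x hx
      obtain ⟨a, ha, b, hb, rfl⟩ := (mem_sup_comm cc).1 hx
      rw [mul_smul, h2 b hb, h1 a ha]
  have h1 := hno (B ⊔ B') hc hs
  rw [hfx] at h1
  have h2 := index_inf_mul (fxd B : AddSubgroup V) (fxd B')
  have h3 := card_sup h0
  rw [← AddSubgroup.index_eq_one]
  have hB : 0 < Nat.card B := Nat.card_pos
  have hB' : 0 < Nat.card B' := Nat.card_pos
  have h4 : ((fxd B : AddSubgroup V) ⊔ fxd B').index ≠ 0 := AddSubgroup.index_ne_zero_of_finite
  have h5 : Nat.card B * Nat.card B' * ((fxd B : AddSubgroup V) ⊔ fxd B').index ≤ Nat.card B * Nat.card B' * 1 := by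
    calc Nat.card B * Nat.card B' * ((fxd B : AddSubgroup V) ⊔ fxd B').index
        ≤ (fxd B ⊓ fxd B' : AddSubgroup V).index * ((fxd B : AddSubgroup V) ⊔ fxd B').index :=
          Nat.mul_le_mul_right _ (h3.trans h1)
      _ = (fxd B : AddSubgroup V).index * (fxd B' : AddSubgroup V).index := h2
      _ ≤ Nat.card B * Nat.card B' := Nat.mul_le_mul hi hi'
      _ = _ := (mul_one _).symm
  have h6 := Nat.le_of_mul_le_mul_left h5 (Nat.mul_pos hB hB')
  omega

end Cfsg.Agent.Omega.NOThreeL.RRed.Blk.Uni
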