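import Cfsg.Agent.Omega.NOThreeL.RRed.Blk.AsmPair
import Cfsg.Agent.Omega.NOThreeL.RRed.Blk.UniSum

/-!
# NO-3L, box R, nonsplit blocks (#26560, #26972): the frame over the lines of the conjugates of `A`

`X` acts faithfully on the elementary abelian 2-group `V`, no over-offender; `S` Sylow in `X`, `EE` a set of exact
quadratic subgroups of `S`, closed under conjugation into `S`; `A ∈ EE` has no exact proper subgroup; the conjugates of
`A` in `EE` commute with all members of `EE`.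

* `EA EE A` : the conjugates of `A` in `EE`; `Ln V EE A` : their lines `[V, B]`;
* `Hy` : the hypotheses;
* `Hy.disj` : `B ≠ B'` in `EA`: `B ∩ B' = 1`; `Hy.cent` : `B` centralises `[V, B']`;
* **`Hy.frame`** : `NS.Frame S ⊥ (EA EE A) (lines)`;
* **`Hy.clo_cent`** : `A ≤ K = ⟨A^K⟩`, `[V, K] ≤ C_V(B)`: `K` centralises `[V, B]`.
-/

set_option autoImplicit false
set_option linter.unusedSectionVars false

namespace Cfsg.Agent.Omega.NOThreeL.RRed.Blk.UniFrame

open Subgroup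
open Cfsg.Agent.Omega.NOThreeL.RRed.NS (fxd brk mem_fxd)
open Cfsg.Agent.Omega.NOThreeL.RRed.Blk.TypesGam (NO)
open Cfsg.Agent.Omega.NOThreeL.RRed.Blk.Types
open Cfsg.Agent.Omega.NOThreeL.RRed.Blk.Asm (Es)
open scoped Pointwise

universe u v

variable {X : Type u} {V : Type v} [Group X] [AddCommGroup V] [DistribMulAction X V]

/-- the conjugates of `A` in `EE` -/
def EA (EE : Set (Subgroup X)) (A : Subgroup X) : Set (Subgroup X) := {B | B ∈ EE ∧ ∃ x : X, B = MulAut.conj x • A}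

/-- their lines -/
abbrev Ln (V : Type v) [AddCommGroup V] [DistribMulAction X V] (EE : Set (Subgroup X)) (A : Subgroup X) : Type v :=
  {Y : AddSubgroup V // ∃ B ∈ EA EE A, brk V B = Y}

theorem card_mul_le [Finite X] (B B' : Subgroup X) :
    Nat.card B * Nat.card B' ≤ Nat.card (B ⊔ B' : Subgroup X) * Nat.card (B ⊓ B' : Subgroup X) := by
  have h1 : Nat.card (B ⊓ B' : Subgroup X) * (B ⊓ B').relIndex B' = Nat.card B' := by
    have := Subgroup.relIndex_mul_relIndex (⊥ : Subgroup X) (B ⊓ B') B' bot_le inf_le_right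
    rwa [relIndex_bot_left, relIndex_bot_left] at this
  have h2 : Nat.card B * B.relIndex (B ⊔ B') = Nat.card (B ⊔ B' : Subgroup X) := by
    have := Subgroup.relIndex_mul_relIndex (⊥ : Subgroup X) B (B ⊔ B') bot_le le_sup_left
    rwa [relIndex_bot_left, relIndex_bot_left] at this
  have h3 : B.relIndex B' ≤ B.relIndex (B ⊔ B') :=
    relIndex_le_of_le_right le_sup_right index_ne_zero_of_finite
  rw [inf_relIndex_right] at h1
  rw [← h1, ← h2]
  calc Nat.card B * (Nat.card (B ⊓ B' : Subgroup X) * B.relIndex B')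
      = Nat.card B * B.relIndex B' * Nat.card (B ⊓ B' : Subgroup X) := by ring
    _ ≤ Nat.card B * B.relIndex (B ⊔ B') * Nat.card (B ⊓ B' : Subgroup X) :=
        Nat.mul_le_mul_right _ (Nat.mul_le_mul_left _ h3)

/-- The hypotheses. -/
structure Hy (V : Type v) [AddCommGroup V] [DistribMulAction X V] (S : Sylow 2 X) (EE : Set (Subgroup X))
    (A : Subgroup X) : Prop where
  h2 : ∀ v : V, v + v = 0
  hf : ∀ x : X, (∀ v : V, x • v = v) → x = 1
  hno : NO X V
  E : Es (S : Subgroup X) EE V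
  EEc : ∀ B ∈ EE, ∀ x : X, MulAut.conj x • B ≤ S → MulAut.conj x • B ∈ EE
  hA : A ∈ EE
  noex : ∀ B ≤ A, B ≠ ⊥ → B ≠ A → Nat.card B * Nat.card (fxd B : AddSubgroup V) < Nat.card V
  ne : A ≠ ⊥
  cm : ∀ x : X, MulAut.conj x • A ∈ EE → ∀ B ∈ EE, ∀ a ∈ MulAut.conj x • A, ∀ b ∈ B, a * b = b * a

namespace Hy

variable [Finite X] [Finite V] {S : Sylow 2 X} {EE : Set (Subgroup X)} {A : Subgroup X} (h : Hy V S EE A)
include h

theorem comm {B B' : Subgroup X} (hB : B ∈ EA EE A) (hB' : B' ∈ EE) : ∀ a ∈ B, ∀ b ∈ B', a * b = b * a := by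
  obtain ⟨hB, x, rfl⟩ := hB
  exact h.cm x hB B' hB'

/-- no exact proper subgroup in a conjugate of `A` -/
theorem noex' {x : X} {D : Subgroup X} (hD : D ≤ MulAut.conj x • A) (h0 : D ≠ ⊥) (h1 : D ≠ MulAut.conj x • A) :
    Nat.card D * Nat.card (fxd D : AddSubgroup V) < Nat.card V := by
  set D' : Subgroup X := MulAut.conj x⁻¹ • D with hD'
  have e : MulAut.conj x • D' = D := by rw [hD', smul_smul, ← map_mul, mul_inv_cancel, map_one, one_smul]
  have h2 : D' ≤ A := by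
    have h3 := Subgroup.pointwise_smul_le_pointwise_smul_iff (a := MulAut.conj x⁻¹).2 hD
    rwa [smul_smul, ← map_mul, inv_mul_cancel, map_one, one_smul] at h3
  have h3 : D' ≠ ⊥ := by
    intro h4
    rw [h4] at e
    apply h0
    rw [← e, eq_bot_iff]
    intro y hy
    rw [mem_cj, mem_bot] at hy
    rw [mem_bot]
    have e1 : y = x * (x⁻¹ * y * x) * x⁻¹ := by group
    rw [e1, hy]
    group
  have h4 : D' ≠ A := by
    intro h5
    rw [h5] at e
    exact h1 e.symm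
  have h5 := h.noex D' h2 h3 h4
  have h6 : Nat.card D' = Nat.card D := by rw [hD', card_cj]
  have h7 : Nat.card (fxd D' : AddSubgroup V) = Nat.card (fxd D : AddSubgroup V) := by
    rw [← e]
    refine Nat.card_congr ⟨fun m => ⟨x • (m : V), ?_⟩, fun m => ⟨x⁻¹ • (m : V), ?_⟩, fun m => ?_, fun m => ?_⟩
    · rw [fxd_cj, inv_smul_smul]; exact m.2
    · exact (fxd_cj x D').1 m.2
    · exact Subtype.ext (inv_smul_smul _ _)
    · exact Subtype.ext (smul_inv_smul _ _)
  rwa [h6, h7] at h5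

/-- **different conjugates meet trivially** -/
theorem disj {B B' : Subgroup X} (hB : B ∈ EA EE A) (hB' : B' ∈ EA EE A) (hne : B ≠ B') : B ⊓ B' = ⊥ := by
  by_contra h0
  have hc := h.comm hB hB'.1
  have el := h.E.el B hB.1
  have el' := h.E.el B' hB'.1
  have els := el.sup el' hc
  have ex := Sit.index_le (h.E.exact B hB.1)
  have ex' := Sit.index_le (h.E.exact B' hB'.1)
  have h1 := h.hno (B ⊔ B') els.cm els.sq
  have h1' : Nat.card (B ⊔ B' : Subgroup X) ≤ ((fxd B : AddSubgroup V) ⊓ fxd B').index := by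
    refine h1.trans (Nat.le_of_dvd (Nat.pos_of_ne_zero AddSubgroup.index_ne_zero_of_finite)
      (AddSubgroup.index_dvd_of_le fun m hm => mem_fxd_sup (AddSubgroup.mem_inf.1 hm).1 (AddSubgroup.mem_inf.1 hm).2))
  have h2 := Uni.index_inf_mul (fxd B : AddSubgroup V) (fxd B')
  have h3 := card_mul_le B B'
  have hle : (fxd B : AddSubgroup V) ⊔ fxd B' ≤ fxd (B ⊓ B') :=
    sup_le (fun m hm a ha => hm a (mem_inf.1 ha).1) fun m hm a ha => hm a (mem_inf.1 ha).2
  have h4 : (fxd (B ⊓ B') : AddSubgroup V).index ≤ ((fxd B : AddSubgroup V) ⊔ fxd B').index :=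
    Nat.le_of_dvd (Nat.pos_of_ne_zero AddSubgroup.index_ne_zero_of_finite) (AddSubgroup.index_dvd_of_le hle)
  have h5 : Nat.card (B ⊔ B' : Subgroup X) * (fxd (B ⊓ B') : AddSubgroup V).index ≤
      Nat.card (B ⊔ B' : Subgroup X) * Nat.card (B ⊓ B' : Subgroup X) := by
    calc Nat.card (B ⊔ B' : Subgroup X) * (fxd (B ⊓ B') : AddSubgroup V).index
        ≤ ((fxd B : AddSubgroup V) ⊓ fxd B').index * ((fxd B : AddSubgroup V) ⊔ fxd B').index :=
          Nat.mul_le_mul h1' h4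
      _ = (fxd B : AddSubgroup V).index * (fxd B' : AddSubgroup V).index := h2
      _ ≤ Nat.card B * Nat.card B' := Nat.mul_le_mul ex ex'
      _ ≤ _ := h3
  have h6 : (fxd (B ⊓ B') : AddSubgroup V).index ≤ Nat.card (B ⊓ B' : Subgroup X) :=
    Nat.le_of_mul_le_mul_left h5 Nat.card_pos
  have h7 : Nat.card V ≤ Nat.card (B ⊓ B' : Subgroup X) * Nat.card (fxd (B ⊓ B') : AddSubgroup V) := by
    rw [← (fxd (B ⊓ B') : AddSubgroup V).card_mul_index, mul_comm]
    exact Nat.mul_le_mul_right _ h6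
  obtain ⟨x, hx⟩ := hB.2
  obtain ⟨y, hy⟩ := hB'.2
  have h8 : B ⊓ B' = B := by
    by_contra h9
    have := h.noex' (x := x) (D := B ⊓ B') (hx ▸ inf_le_left) h0 (hx ▸ h9)
    omega
  have h9 : B ≤ B' := inf_eq_left.1 h8
  apply hne
  refine Subgroup.eq_of_le_of_card_ge h9 ?_
  rw [hx, hy, card_cj, card_cj]

/-- **`B` centralises `[V, B']`** -/
theorem cent {B B' : Subgroup X} (hB : B ∈ EA EE A) (hB' : B' ∈ EA EE A) : brk V B' ≤ (fxd B : AddSubgroup V) := by
  by_cases hne : B = B'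
  · rw [← hne]
    exact h.E.quad B hB.1
  have hc := h.comm hB hB'.1
  have el := h.E.el B hB.1
  have el' := h.E.el B' hB'.1
  have htop := Uni.sum_top h.hno el.cm el.sq el'.cm el'.sq hc (h.E.exact B hB.1) (h.E.exact B' hB'.1)
    (h.disj hB hB' hne)
  refine brk_le fun b' hb' m => ?_
  have hm : m ∈ (fxd B : AddSubgroup V) ⊔ fxd B' := by rw [htop]; exact AddSubgroup.mem_top _
  obtain ⟨n, hn, n', hn', rfl⟩ := AddSubgroup.mem_sup.1 hm
  rw [mem_fxd]
  intro b hb
  have e1 : b' • (n + n') - (n + n') = b' • n - n := by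
    rw [smul_add, hn' b' hb']
    abel
  rw [e1, smul_sub, ← mul_smul, hc b hb b' hb', mul_smul, hn b hb]

theorem ne' {B : Subgroup X} (hB : B ∈ EA EE A) : ¬ B ≤ ⊥ := by
  obtain ⟨-, x, rfl⟩ := hB
  intro h1
  apply h.ne
  rw [eq_bot_iff]
  intro a ha
  have h2 : x * a * x⁻¹ ∈ MulAut.conj x • A := by
    rw [mem_cj]
    have e : x⁻¹ * (x * a * x⁻¹) * x = a := by group
    rwa [e]
  have h3 := mem_bot.1 (h1 h2)
  rw [mem_bot]
  have e : a = x⁻¹ * (x * a * x⁻¹) * x := by group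
  rw [e, h3]
  group

theorem mem_A : A ∈ EA EE A := ⟨h.hA, 1, by rw [map_one, one_smul]⟩

/-- **the frame** -/
theorem frame : NS.Frame S (⊥ : Subgroup X) (EA EE A) (fun Y : Ln V EE A => Y.1) where
  JN := inferInstance
  EES B hB := h.E.le B hB.1
  EEc B hB x hx := by
    obtain ⟨y, hy⟩ := hB.2
    exact ⟨h.EEc B hB.1 x hx, x * y, by rw [hy, smul_smul, ← map_mul]⟩
  typ B hB _ := ⟨⟨brk V B, B, hB, rfl⟩, rfl⟩
  ex b := by
    obtain ⟨Y, B, hB, e⟩ := b
    exact ⟨B, hB, h.ne' hB, e⟩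
  cent B hB c y hy a ha := by
    obtain ⟨Y, B', hB', e⟩ := c
    have h1 : y ∈ brk V B' := by rw [e]; exact hy
    exact h.cent hB hB' h1 a ha
  inj _ _ e := Subtype.ext e

/-- **(T1)** -/
theorem clo_cent {K : Subgroup X} (gen : K ≤ closure {y | ∃ g ∈ K, ∃ a ∈ A, y = g * a * g⁻¹}) {B : Subgroup X}
    (hB : B ∈ EA EE A) (hK : brk V K ≤ (fxd B : AddSubgroup V)) : brk V B ≤ (fxd K : AddSubgroup V) := by
  have hs := Asm.sit h.h2 h.hf h.hno
  refine (hs.cent (D := B) le_top (h.E.el B hB.1) (h.E.exact B hB.1) (h.E.quad B hB.1) le_top hK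
    (gen.trans (closure_mono ?_))).2
  rintro y ⟨g, hg, a, ha, rfl⟩
  exact ⟨g, hg, a, fun d hd => (h.comm hB h.hA d hd a ha).symm, rfl⟩

/-- **(T1)**, the commuting form -/
theorem clo_comm {K : Subgroup X} (gen : K ≤ closure {y | ∃ g ∈ K, ∃ a ∈ A, y = g * a * g⁻¹}) {B : Subgroup X}
    (hB : B ∈ EA EE A) (hK : brk V K ≤ (fxd B : AddSubgroup V)) : ∀ k ∈ K, ∀ b ∈ B, k * b = b * k := by
  have hs := Asm.sit h.h2 h.hf h.hno
  refine (hs.cent (D := B) le_top (h.E.el B hB.1) (h.E.exact B hB.1) (h.E.quad B hB.1) le_top hK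
    (gen.trans (closure_mono ?_))).1
  rintro y ⟨g, hg, a, ha, rfl⟩
  exact ⟨g, hg, a, fun d hd => (h.comm hB h.hA d hd a ha).symm, rfl⟩

end Hy

end Cfsg.Agent.Omega.NOThreeL.RRed.Blk.UniFrame
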