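import Cfsg.Agent.Omega.NOThreeL.RRed.Blk.UniAll
import Cfsg.Agent.Omega.NOThreeL.RRed.Blk.UniSD
import Cfsg.Agent.Omega.NOThreeL.RRed.Blk.AsmEEc

/-!
# NO-3L, box R, nonsplit blocks (#26560, #27472): (UNI) at group level

`Q : Nrm H U`, `S ≤ H`, no over-offender on `U`.

* `gb1_of`, `psH_of` : from `GBd`, `AcN` to 761's `GB1`, `PsH`;
* `hy_of` : `UniFrame.Hy` for `im Q A₀`, `A₀ ∈ EE S U`;
* **`uni_of`** : `A₀` is the root group of the `j`-th summand of a natural `P ≤ H` (`2 < |F|`), the other members of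
  `EE` centralise it ⟹ any two `GBd` with root group `im Q A₀` are equal.
-/

set_option autoImplicit false
set_option linter.unusedSectionVars false

namespace Cfsg.Agent.Omega.NOThreeL.RRed.Blk.UniOf

open Subgroup Cfsg Cfsg.Agent.ZN
open Cfsg.Agent.Omega.FFThm Cfsg.Agent.Lib.SL2Mat
open Cfsg.Agent.Omega.NO3S.ThmB Cfsg.Agent.Omega.NO3S.KeyRad
open Cfsg.Agent.Omega.NOThreeL.RSplit (Nrm)
open Cfsg.Agent.Omega.NOThreeL.RRed.NS
open Cfsg.Agent.Omega.NOThreeL.RRed.Blk.TypesNat (XH ph XH_faith no_XH imS two_of)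
open Cfsg.Agent.Omega.NOThreeL.RRed.Blk.Asm (Es)
open Cfsg.Agent.Omega.NOThreeL.RRed.Blk.AsmCore (EE im)
open Cfsg.Agent.Omega.NOThreeL.RRed.Blk.AsmN (NBd GBd AcN)
open Cfsg.Agent.Omega.NOThreeL.RRed.Blk.UniFrame (Hy)
open Cfsg.Agent.Omega.NOThreeL.RRed.Blk.Uni (GB1 PsH)
open scoped Pointwise

universe u v

section mod

variable {X : Type u} {V : Type v} [Group X] [AddCommGroup V] [DistribMulAction X V] [Finite X] [Finite V]

theorem gb1_of {EE : Set (Subgroup X)} {A : Subgroup X} (g : ∃ N C L Z : AddSubgroup V, GBd EE A N C L Z) :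
    GB1 V EE A := by
  obtain ⟨N, C, L, Z, g⟩ := g
  exact UniZ.GB1.of_GBd g

theorem psH_of {S : Subgroup X} {EE Ps : Set (Subgroup X)}
    (hPs : ∀ P ∈ Ps, (∀ g ∈ P, ∀ A ∈ EE, MulAut.conj g • A ∈ EE) ∨ ∃ K EP, AcN S EE P K EP V) : PsH V S EE Ps := by
  intro P hP
  rcases hPs P hP with h | ⟨K, EP, h⟩
  · exact Or.inl h
  · refine Or.inr ⟨K, EP, h.gen, h.EPE, h.EPK, h.dich, fun A hA h4 => ?_⟩
    obtain ⟨N, C, L, Z, g, -⟩ := h.gb hA h4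
    exact gb1_of ⟨N, C, L, Z, g⟩

end mod

variable {G : Type u} [Group G] [Finite G] {S : Sylow 2 G} {H U A₀ : Subgroup G} (Q : Nrm H U)
  (SH : (S : Subgroup G) ≤ H) (hno : NoOverM U H) (hU2 : IsElementaryAbelian 2 U)
  (hA₀ : A₀ ∈ EE (S : Subgroup G) U) {Ps : Set (Subgroup (XH Q))}
  (hPs : ∀ P ∈ Ps, (∀ g ∈ P, ∀ A ∈ im Q '' EE (S : Subgroup G) U, MulAut.conj g • A ∈ im Q '' EE (S : Subgroup G) U) ∨
    ∃ K EP, AcN (im Q (S : Subgroup G)) (im Q '' EE (S : Subgroup G) U) P K EP Q.Mod)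
  (htop : sSup Ps = ⊤) (h4 : 4 ≤ Nat.card (im Q A₀))
include SH hno hU2 hA₀ hPs htop h4

/-- **the frame hypotheses** -/
theorem hy_of (gb : ∃ N C L Z : AddSubgroup Q.Mod, GBd (im Q '' EE (S : Subgroup G) U) (im Q A₀) N C L Z) :
    Hy Q.Mod (imS Q S SH) (im Q '' EE (S : Subgroup G) U) (im Q A₀) :=
  UniZ.hy (two_of Q hU2) (fun x hx => XH_faith Q x hx) (no_XH Q hno) (AsmEsB.es_of Q SH hno hU2) (AsmG.EEc Q SH)
    (psH_of hPs) htop ⟨A₀, hA₀, rfl⟩ h4 (gb1_of gb)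

/-- **(UNI)**: any block with (SD) is the only one. -/
theorem uni_sd {N C L Z : AddSubgroup Q.Mod} (g : GBd (im Q '' EE (S : Subgroup G) U) (im Q A₀) N C L Z)
    (SD : ∀ s ∈ im Q (S : Subgroup G), (∀ m ∈ brk Q.Mod (im Q A₀), s • m ∈ brk Q.Mod (im Q A₀)) →
      ∀ m ∈ Z, s • m ∈ Z) {N' C' L' Z' : AddSubgroup Q.Mod}
    (g' : GBd (im Q '' EE (S : Subgroup G) U) (im Q A₀) N' C' L' Z') : N' = N ∧ C' = C ∧ L' = L ∧ Z' = Z :=
  UniAll.uni (hy_of Q SH hno hU2 hA₀ hPs htop h4 ⟨_, _, _, _, g⟩) h4 g g' SD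

/-- **(UNI)** at group level -/
theorem uni_of {F : Type} [Field F] [Finite F] [CharP F 2] {P V D : Subgroup G} {k : ℕ}
    {M : NatKM F (S : Subgroup G) P V D k} (h : Nb M) (hF : 2 < Nat.card F) (hPH : P ≤ H) (hVU : V ≤ U) {j : Fin k}
    (O : Cfsg.Agent.Omega.NO3S.ThmB.One M U A₀ j) (hAP : A₀ ≤ P)
    (oth : ∀ A ∈ im Q '' EE (S : Subgroup G) U, A ≠ im Q A₀ → ∀ a ∈ A, ∀ m ∈ Q.ad (blk M j), a • m = m)
    {N C L Z N' C' L' Z' : AddSubgroup Q.Mod} (g : GBd (im Q '' EE (S : Subgroup G) U) (im Q A₀) N C L Z)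
    (g' : GBd (im Q '' EE (S : Subgroup G) U) (im Q A₀) N' C' L' Z') :
    N = N' ∧ C = C' ∧ L = L' ∧ Z = Z' := by
  obtain ⟨p, hp, L₀, h1, h3, SD⟩ := UniSD.nbd_sd h hF Q hPH hVU O hAP
  have g₀ : GBd (im Q '' EE (S : Subgroup G) U) (im Q A₀) (Q.ad (blk M j))
      (Q.ad (centralizer ((A₀ ⊔ MulAut.conj p • A₀ : Subgroup G) : Set G))) L₀ (Q.ad (DD M j)) := ⟨h3, oth⟩
  obtain ⟨a1, a2, a3, a4⟩ := uni_sd Q SH hno hU2 hA₀ hPs htop h4 g₀ SD g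
  obtain ⟨b1, b2, b3, b4⟩ := uni_sd Q SH hno hU2 hA₀ hPs htop h4 g₀ SD g'
  exact ⟨a1.trans b1.symm, a2.trans b2.symm, a3.trans b3.symm, a4.trans b4.symm⟩

end Cfsg.Agent.Omega.NOThreeL.RRed.Blk.UniOf
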