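import Cfsg.Agent.Omega.NOThreeL.RRed.Blk.Uni
import Cfsg.Agent.Omega.NOThreeL.RRed.Blk.AsmN
import Cfsg.Agent.Omega.NOThreeL.RRed.Blk.UniFrame

/-!
# NO-3L, box R, blocks with a radical: two blocks with the same root group have the same radical (helper855 #26560, (SW))

* `hy` : 426's hypotheses `UniFrame.Hy` from `Uni.PsH`, `GB1`;
* `bl` : `NS.Bl` for the line of `A`;
* **`eq_Z`** : `BkD e f d C up lo`, `BkD e' f' d' C' up' lo'` with the same root group `A ∈ EE`, `|A| ≥ 4`, the other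
  members of `EE` centralise both blocks : `d'(F') = d(F)` (`eq_Z_hy`); the same for `GBd`.
-/

set_option autoImplicit false
set_option linter.unusedSectionVars false

namespace Cfsg.Agent.Omega.NOThreeL.RRed.Blk.UniZ

open Cfsg.Agent.Omega.NOThreeL.RRed.NS (fxd brk mem_fxd GB mem_GB Frame Bl)
open Cfsg.Agent.Omega.NOThreeL.RRed.Blk.TypesGam (NO rt up_mem)
open Cfsg.Agent.Omega.NOThreeL.RRed.Blk.GamD
open Cfsg.Agent.Omega.NOThreeL.RRed.Blk.Types
open Cfsg.Agent.Omega.NOThreeL.RRed.Blk.Asm (Es sit)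
open Cfsg.Agent.Omega.NOThreeL.RRed.Blk.AsmN (clo clo_cent lo_clo brk_clo_le NBd GBd)
open Cfsg.Agent.Omega.NOThreeL.RRed.Blk.UniFrame (EA Ln Hy)
open Cfsg.Agent.Omega.NOThreeL.RRed.Blk.Uni
open scoped Pointwise

universe u v w w'

variable {X : Type u} {V : Type v} [Group X] [AddCommGroup V] [DistribMulAction X V]

section blk

variable {F : Type w} [Field F] {e f d : F →+ V} {C : AddSubgroup V} {up lo : F → X}
variable (h : BkD e f d C up lo)
include h

theorem mem_fxd_of {t : F} (ht : t ≠ 0) {v : V} (hv : up t • v = v) (h2 : ∀ v : V, v + v = 0)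
    (hf : ∀ x : X, (∀ v : V, x • v = v) → x = 1) : v ∈ (fxd (rt up) : AddSubgroup V) := by
  obtain ⟨x, y, c, hc, rfl⟩ := h.dec v
  have h1 := up_sub h t x y hc
  rw [hv, sub_self] at h1
  have hy : y = 0 := (mul_eq_zero.1 (n0 h h1.symm).1).resolve_left ht
  intro a ha
  obtain ⟨s, rfl⟩ := (h.mem_rt h2 hf).1 ha
  have h3 := up_sub h s x y hc
  subst hy
  have e1 : e (s * 0) + d (s * 0 ^ 2) = 0 := by
    rw [zero_pow two_ne_zero, mul_zero, map_zero, map_zero, add_zero]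
  exact sub_eq_zero.1 (h3.trans e1)

/-- `A` has no exact proper subgroup -/
theorem noex [Finite X] [Finite V] [Finite F] (h2 : ∀ v : V, v + v = 0) (hf : ∀ x : X, (∀ v : V, x • v = v) → x = 1)
    (hno : NO X V) : ∀ B ≤ rt up, B ≠ ⊥ → B ≠ rt up → Nat.card B * Nat.card (fxd B : AddSubgroup V) < Nat.card V := by
  intro B hB hB0 hne
  have h1 : (fxd B : AddSubgroup V) ≤ fxd (rt up) := by
    obtain ⟨⟨b, hb⟩, hb1⟩ := Subgroup.ne_bot_iff_exists_ne_one.1 hB0
    intro v hv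
    obtain ⟨t, ht⟩ := (h.mem_rt h2 hf).1 (hB hb)
    refine mem_fxd_of h (t := t) (fun h0 => hb1 ?_) (by rw [ht]; exact hv _ hb) h2 hf
    apply Subtype.ext
    change b = 1
    rw [← ht, h0, h.up_zero hf]
  have h3 : Nat.card B < Nat.card (rt up) := by
    refine lt_of_le_of_ne (Subgroup.card_le_of_le hB) fun hc => hne (Subgroup.eq_of_le_of_card_ge hB hc.ge)
  have h4 := (sit h2 hf hno).no (rt up) le_top (rt_el h h2 hf).sq (rt_el h h2 hf).cm
  have h5 : 0 < Nat.card (fxd (rt up) : AddSubgroup V) := Nat.card_pos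
  calc Nat.card B * Nat.card (fxd B : AddSubgroup V) ≤ Nat.card B * Nat.card (fxd (rt up) : AddSubgroup V) :=
        Nat.mul_le_mul_left _ (AddSubgroup.card_le_of_le h1)
    _ < Nat.card (rt up) * Nat.card (fxd (rt up) : AddSubgroup V) := Nat.mul_lt_mul_of_pos_right h3 h5
    _ ≤ Nat.card V := h4

/-- `|V : C_V(A)| ≤ |F|` -/
theorem index_le [Finite V] [Finite F] (h2 : ∀ v : V, v + v = 0) (hf : ∀ x : X, (∀ v : V, x • v = v) → x = 1) :
    (fxd (rt up) : AddSubgroup V).index ≤ Nat.card F := by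
  obtain ⟨px, py, pc, hv, hpc⟩ := h.proj'
  have h1 : py.ker ≤ (fxd (rt up) : AddSubgroup V) := by
    intro v hv0
    rw [AddMonoidHom.mem_ker] at hv0
    refine mem_fxd_of h one_ne_zero ?_ h2 hf
    have h3 := up_sub h 1 (px v) (py v) (hpc v)
    rw [← hv v, hv0, mul_zero, one_mul, zero_pow two_ne_zero, map_zero, map_zero, add_zero, sub_eq_zero] at h3
    exact h3
  calc (fxd (rt up) : AddSubgroup V).index ≤ py.ker.index :=
        Nat.le_of_dvd (Nat.pos_of_ne_zero AddSubgroup.index_ne_zero_of_finite) (AddSubgroup.index_dvd_of_le h1)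
    _ = Nat.card py.range := AddSubgroup.index_ker py
    _ ≤ Nat.card F := Nat.card_le_card_of_injective _ Subtype.val_injective

/-- the block has order `q³` -/
theorem card_blk [Finite V] [Finite F] (hd : Function.Injective d) :
    Nat.card F ^ 3 ≤ Nat.card ((e.range ⊔ f.range) ⊔ d.range : AddSubgroup V) := by
  have e1 : Nat.card F ^ 3 = Nat.card (F × F × F) := by
    rw [Nat.card_prod, Nat.card_prod]; ring
  rw [e1]
  refine Nat.card_le_card_of_injective (fun p : F × F × F =>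
    (⟨e p.1 + f p.2.1 + d p.2.2, AddSubgroup.add_mem_sup (AddSubgroup.add_mem_sup ⟨_, rfl⟩ ⟨_, rfl⟩) ⟨_, rfl⟩⟩ :
      ((e.range ⊔ f.range) ⊔ d.range : AddSubgroup V))) ?_
  rintro ⟨x, y, z⟩ ⟨x', y', z'⟩ hp
  obtain ⟨h1, h3, h4⟩ := h.uniq (h.dC _) (h.dC _) (congrArg Subtype.val hp)
  simp only at h1 h3 h4
  rw [h1, h3, hd h4]

/-- a vector of the block which is fixed by `A` and the opposite root group -/
theorem mem_d {v : V} (hv : v ∈ (e.range ⊔ f.range) ⊔ d.range) (h1 : up 1 • v = v) (h3 : lo 1 • v = v) :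
    v ∈ d.range := by
  obtain ⟨_, hv', _, ⟨z, rfl⟩, rfl⟩ := AddSubgroup.mem_sup.1 hv
  obtain ⟨_, ⟨x, rfl⟩, _, ⟨y, rfl⟩, rfl⟩ := AddSubgroup.mem_sup.1 hv'
  have h4 := up_sub h 1 x y (h.dC z)
  rw [h1, sub_self] at h4
  have hy := (n0 h h4.symm).1
  rw [one_mul] at hy
  have h5 := up_sub h.swap 1 y x (h.dC z)
  rw [add_comm (f y), h3, sub_self] at h5
  have hx := (n0 h.swap h5.symm).1
  rw [one_mul] at hx
  rw [hx, hy, map_zero, map_zero, add_zero, zero_add]
  exact ⟨z, rfl⟩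

/-- every vector of the block can be moved into `e(F) + d(F)` -/
theorem tr_blk {v : V} (hv : v ∈ (e.range ⊔ f.range) ⊔ d.range) (h2 : ∀ v : V, v + v = 0) :
    ∃ g ∈ rt up ⊔ rt lo, g • v ∈ e.range ⊔ d.range := by
  have hF := h.two h2
  have key : ∀ x y, x ≠ 0 → ∀ c ∈ d.range, lo (y / x) • (e x + f y + c) ∈ e.range ⊔ d.range := by
    intro x y hx c hc
    obtain ⟨z, rfl⟩ := hc
    have e1 : lo (y / x) • (e x + f y + d z) = e x + (d (y / x * x ^ 2) + d z) := by
      rw [smul_add, smul_add, h.lo_e, h.lo_f, h.lo_c _ _ (h.dC z), div_mul_cancel₀ _ hx]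
      have e3 : f y + f y = 0 := by rw [← map_add, hF, map_zero]
      calc e x + f y + d (y / x * x ^ 2) + f y + d z = e x + (d (y / x * x ^ 2) + d z) + (f y + f y) := by abel
        _ = _ := by rw [e3, add_zero]
    rw [e1, ← map_add]
    exact AddSubgroup.add_mem_sup ⟨_, rfl⟩ ⟨_, rfl⟩
  obtain ⟨_, hv', _, ⟨z, rfl⟩, rfl⟩ := AddSubgroup.mem_sup.1 hv
  obtain ⟨_, ⟨x, rfl⟩, _, ⟨y, rfl⟩, rfl⟩ := AddSubgroup.mem_sup.1 hv'
  by_cases hx : x = 0
  · by_cases hy : y = 0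
    · refine ⟨1, one_mem _, ?_⟩
      rw [one_smul, hy, map_zero, add_zero]
      exact AddSubgroup.add_mem_sup ⟨_, rfl⟩ ⟨_, rfl⟩
    · refine ⟨lo (y / y) * up 1, mul_mem ((le_sup_right : rt lo ≤ _) (up_mem _)) ((le_sup_left : rt up ≤ _) (up_mem 1)), ?_⟩
      have e1 : up 1 • (e x + f y + d z) = e y + f y + d (1 * y ^ 2 + z) := by
        rw [smul_add, smul_add, h.up_e, h.up_f, h.up_c _ _ (h.dC z), hx, map_zero, map_add, one_mul]
        abel
      rw [mul_smul, e1]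
      exact key y y hy _ ⟨_, rfl⟩
  · exact ⟨lo (y / x), (le_sup_right : rt lo ≤ _) (up_mem _), key x y hx _ ⟨_, rfl⟩⟩

end blk

section main

variable [Finite X] [Finite V]

/-- the other members centralise `f`-, `e`- and `d`-part; the block group centralises their lines -/
theorem cent_clo {F : Type w} [Field F] {e f d : F →+ V} {C : AddSubgroup V} {up lo : F → X}
    (h : BkD e f d C up lo) (h2 : ∀ v : V, v + v = 0) (hf : ∀ x : X, (∀ v : V, x • v = v) → x = 1) (hno : NO X V)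
    {S : Sylow 2 X} {EE : Set (Subgroup X)} {A : Subgroup X} (H : Hy V S EE A) (hr : rt up = A)
    (oth : ∀ B ∈ EE, B ≠ A → ∀ b ∈ B, ∀ n ∈ (e.range ⊔ f.range) ⊔ d.range, b • n = n) {B : Subgroup X}
    (hB : B ∈ EA EE A) (hBA : B ≠ A) : brk V B ≤ fxd (clo up lo) := by
  refine (clo_cent h h2 hf hno (H.E.el B hB.1) (H.E.exact B hB.1) (H.E.quad B hB.1) (oth B hB.1 hBA) ?_).2
  intro δ hδ m hm
  rw [hr] at hδ
  exact mem_fxd.1 (H.cent H.mem_A hB hm) δ hδ

/-- a member with the line of `A` is `A` -/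
theorem eq_of_line {F : Type w} [Field F] [Finite F] {e f d : F →+ V} {C : AddSubgroup V} {up lo : F → X}
    (h : BkD e f d C up lo) (h2 : ∀ v : V, v + v = 0) (hf : ∀ x : X, (∀ v : V, x • v = v) → x = 1) (hno : NO X V)
    (h4 : 2 < Nat.card F) {S : Sylow 2 X} {EE : Set (Subgroup X)} {A : Subgroup X} (H : Hy V S EE A) (hr : rt up = A)
    (oth : ∀ B ∈ EE, B ≠ A → ∀ b ∈ B, ∀ n ∈ (e.range ⊔ f.range) ⊔ d.range, b • n = n) {B : Subgroup X}
    (hB : B ∈ EA EE A) (hBA : brk V B = brk V A) : B = A := by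
  by_contra hne
  have h1 := cent_clo h h2 hf hno H hr oth hB hne
  rw [hBA, ← hr, n6 h h2 hf h4] at h1
  have h3 := mem_fxd.1 (h1 ((le_sup_left : e.range ≤ _) ⟨1, rfl⟩)) (lo 1) (lo_clo 1)
  have h5 : e 1 + f 1 + d 1 = e 1 := by
    rw [h.lo_e, mul_one, one_mul, one_pow] at h3
    exact h3
  rw [add_assoc, add_eq_left] at h5
  exact one_ne_zero (n0 h.swap h5).1

/-- **(SW)** two blocks with the same root group have the same radical -/
theorem eq_Z_hy {F : Type w} [Field F] [Finite F] {F' : Type w'} [Field F'] [Finite F'] {e f d : F →+ V}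
    {C : AddSubgroup V} {up lo : F → X} {e' f' d' : F' →+ V} {C' : AddSubgroup V} {up' lo' : F' → X}
    (h : BkD e f d C up lo) (h' : BkD e' f' d' C' up' lo') (h2 : ∀ v : V, v + v = 0)
    (hf : ∀ x : X, (∀ v : V, x • v = v) → x = 1) (hno : NO X V) (h4 : 2 < Nat.card F)
    {S : Sylow 2 X} {EE : Set (Subgroup X)} {A : Subgroup X} (H : Hy V S EE A) (hr : rt up = A) (hr' : rt up' = A)
    (oth : ∀ B ∈ EE, B ≠ A → ∀ b ∈ B, ∀ n ∈ (e.range ⊔ f.range) ⊔ d.range, b • n = n)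
    (oth' : ∀ B ∈ EE, B ≠ A → ∀ b ∈ B, ∀ n ∈ (e'.range ⊔ f'.range) ⊔ d'.range, b • n = n)
    (SD : ∀ s ∈ S, (∀ m ∈ brk V A, s • m ∈ brk V A) → ∀ m ∈ d.range, s • m ∈ d.range) : d'.range = d.range := by
  have hq : Nat.card F' = Nat.card F := by rw [← h.card_rt h2 hf, ← h'.card_rt h2 hf, hr, hr']
  have h4' : 2 < Nat.card F' := hq ▸ h4
  rcases swap_or h h' h2 hf h4 h4' (hr'.trans hr.symm) with h1 | ⟨hd, hd', hZ, hL⟩
  · exact h1
  exfalso
  have hY : brk V A = e.range ⊔ d.range := by rw [← hr]; exact n6 h h2 hf h4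
  let b : Ln V EE A := ⟨brk V A, A, H.mem_A, rfl⟩
  have Fr := H.frame
  have hb : b.1 = e.range ⊔ d.range := hY
  -- the block
  have B : Bl S (⊥ : Subgroup X) (EA EE A) (fun Y : Ln V EE A => Y.1) b d.range e.range := by
    refine ⟨?_, ?_, by rw [inf_comm]; exact n5 h, ?_, ?_⟩
    · rw [hb]; exact le_sup_right
    · rw [hb]; exact le_sup_left
    · intro s hs hsY
      refine NS.smul_eq_of_le fun m hm => ?_
      rw [NS.mem_smul'] at hm
      have h5 := SD s hs (fun m hm => by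
        have h6 : s • m ∈ s • brk V A := by rw [NS.mem_smul', inv_smul_smul]; exact hm
        have h7 : s • brk V A = brk V A := hsY
        rwa [h7] at h6) _ hm
      rwa [smul_inv_smul] at h5
    · intro B hB _ hBY m hm
      have hBA : B = A := eq_of_line h h2 hf hno h4 H hr oth hB hBY
      rw [hb] at hm
      rw [hBA, ← hr]
      constructor
      · intro hc
        rcases of_cv h h2 hf hc with h5 | ⟨r, s, hr0, hs0, e1⟩
        · exact Or.inl h5
        · right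
          constructor
          · intro h6
            have h7 := n1 h h2 hf h6 hc
            rw [e1] at h7
            exact hr0 (n0 h h7).1
          · intro h6
            have h7 := n2 h h2 hf hd h6 hc
            rw [e1] at h7
            exact hr0 (n0 h h7).1
      · rintro (h5 | ⟨h5, h6⟩)
        · exact ⟨1, one_mem _, 0, by rw [h5, smul_zero, sub_zero]⟩
        · by_contra hc
          exact (n4 h hm hc).elim h6 h5
  -- `E`, `E'` are in `G_b`
  have hG1 : rt lo ≤ GB (fun Y : Ln V EE A => Y.1) b := by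
    intro x hx c hc y hy
    obtain ⟨Y, B₁, hB₁, rfl⟩ := c
    have hne : B₁ ≠ A := fun h5 => hc (Subtype.ext (congrArg (brk V) h5))
    obtain ⟨t, rfl⟩ := (h.swap.mem_rt h2 hf).1 hx
    exact mem_fxd.1 (cent_clo h h2 hf hno H hr oth hB₁ hne hy) _ (lo_clo t)
  have hG2 : rt lo' ≤ GB (fun Y : Ln V EE A => Y.1) b := by
    intro x hx c hc y hy
    obtain ⟨Y, B₁, hB₁, rfl⟩ := c
    have hne : B₁ ≠ A := fun h5 => hc (Subtype.ext (congrArg (brk V) h5))
    obtain ⟨t, rfl⟩ := (h'.swap.mem_rt h2 hf).1 hx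
    exact mem_fxd.1 (cent_clo h' h2 hf hno H hr' oth' hB₁ hne hy) _ (lo_clo t)
  -- a vector of `Z` fixed by `S ∩ G_b`
  obtain ⟨x, hx, hx0, hxT⟩ : ∃ x ∈ d.range, x ≠ 0 ∧ ∀ t ∈ (S : Subgroup X) ⊓ GB (fun Y : Ln V EE A => Y.1) b, t • x = x := by
    set T : Subgroup X := (S : Subgroup X) ⊓ GB (fun Y : Ln V EE A => Y.1) b with hT
    have hTd : ∀ t ∈ T, ∀ m ∈ d.range, t • m ∈ d.range := by
      intro t ht m hm
      have h5 := (Fr.T_l B ht).1
      have h6 : t • m ∈ t • d.range := by rw [NS.mem_smul', inv_smul_smul]; exact hm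
      rwa [h5] at h6
    let _ : MulAction T d.range :=
      { smul := fun t m => ⟨(t : X) • (m : V), hTd t t.2 m m.2⟩
        one_smul := fun m => Subtype.ext (one_smul X (m : V))
        mul_smul := fun s t m => Subtype.ext (mul_smul (s : X) (t : X) (m : V)) }
    have hTp : IsPGroup 2 T := S.isPGroup'.to_le inf_le_left
    have h20 : (2 : ℕ) ∣ Nat.card d.range := by
      have h5 : addOrderOf (⟨d 1, 1, rfl⟩ : d.range) = 2 := by
        refine addOrderOf_eq_prime ?_ fun h0 => one_ne_zero (hd ?_)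
        · apply Subtype.ext
          change 2 • d 1 = 0
          rw [two_smul, h2]
        · rw [map_zero]
          exact congrArg Subtype.val h0
      rw [← h5]
      exact addOrderOf_dvd_natCard _
    have : Fact (Nat.Prime 2) := ⟨Nat.prime_two⟩
    have hfix : (0 : d.range) ∈ MulAction.fixedPoints T d.range := fun t => Subtype.ext (smul_zero (t : X))
    obtain ⟨y, hy, hy0⟩ := hTp.exists_fixed_point_of_prime_dvd_card_of_fixed_point d.range h20 hfix
    refine ⟨y, y.2, fun h5 => hy0 (Subtype.ext h5.symm), fun t ht => ?_⟩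
    exact congrArg Subtype.val (hy ⟨t, ht⟩)
  have hne : ¬ A ≤ (⊥ : Subgroup X) := fun h5 => H.ne (le_bot_iff.1 h5)
  have hup1 : up 1 ∈ A := by rw [← hr]; exact up_mem 1
  refine Fr.false_of B (x := x) (A := A) (A₁ := rt lo) (A₂ := rt lo') (V := (e.range ⊔ f.range) ⊔ d.range)
    (q := Nat.card F) H.mem_A hne rfl hG1 hG2 hx hx0 hxT ?_ ?_ ?_ (card_blk h hd) ?_ ?_ ?_ ?_ ?_
  · rw [← hr]; exact index_le h h2 hf
  · exact index_le h.swap h2 hf
  · rw [← hq]; exact index_le h'.swap h2 hf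
  · rw [hb]
    exact sup_le_sup le_sup_left le_rfl
  · intro v hv hv1 hv2
    exact mem_d h hv (hv1 _ hup1) (hv2 _ (up_mem 1))
  · rintro _ ⟨z, rfl⟩ a ha
    obtain ⟨t, rfl⟩ := (h.swap.mem_rt h2 hf).1 ha
    exact h.lo_c t _ (h.dC z)
  · intro v hv
    rw [hb, ← hr]
    exact tr_blk h hv h2
  · intro z hz hz0
    rw [← hL] at hz
    obtain ⟨r, rfl⟩ := hz
    refine ⟨lo' 1, up_mem 1, fun h5 => ?_⟩
    rw [← hL, h'.lo_e, one_mul, one_mul] at h5
    obtain ⟨u, hu⟩ := h5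
    have h6 : f' r + e' (r - u) + d' (r ^ 2) = 0 := by
      rw [map_sub, ← sub_eq_zero.2 hu.symm]; abel
    have h7 : e' (r - u) + f' r ∈ C' := by
      have e1 : e' (r - u) + f' r = - d' (r ^ 2) := by
        rw [eq_neg_iff_add_eq_zero, ← h6]; abel
      rw [e1]
      exact C'.neg_mem (h'.dC _)
    apply hz0
    rw [(h'.ind _ _ h7).2, map_zero]

/-- 426's hypotheses -/
theorem hy (h2 : ∀ v : V, v + v = 0) (hf : ∀ x : X, (∀ v : V, x • v = v) → x = 1) (hno : NO X V) {S : Sylow 2 X}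
    {EE : Set (Subgroup X)} (E : Es (S : Subgroup X) EE V) (EEc : ∀ B ∈ EE, ∀ x : X, MulAut.conj x • B ≤ S →
      MulAut.conj x • B ∈ EE) {Ps : Set (Subgroup X)} (hPs : PsH V (S : Subgroup X) EE Ps) (htop : sSup Ps = ⊤)
    {A : Subgroup X} (hA : A ∈ EE) (h4 : 4 ≤ Nat.card A) (g : GB1 V EE A) : Hy V S EE A where
  h2 := h2
  hf := hf
  hno := hno
  E := E
  EEc := EEc
  hA := hA
  noex := by
    obtain ⟨F, _, _, e, f, d, C, up, lo, h, rfl, -⟩ := g
    exact noex h h2 hf hno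
  ne := by
    rintro rfl
    rw [Subgroup.card_bot] at h4
    omega
  cm := comm h2 hf hno E hPs htop hA h4 g

theorem GB1.of_GBd {EE : Set (Subgroup X)} {A : Subgroup X} {N C L Z : AddSubgroup V} (g : GBd EE A N C L Z) :
    GB1 V EE A := by
  obtain ⟨F, i1, i2, e, f, d, up, lo, h, hr, rfl, -, -⟩ := g.nb.ex
  exact ⟨F, i1, i2, e, f, d, C, up, lo, h, hr, g.oth⟩

/-- **(SW)** for `GBd` -/
theorem eq_Z {S : Sylow 2 X} {EE : Set (Subgroup X)} {A : Subgroup X} (H : Hy V S EE A) (h4 : 4 ≤ Nat.card A)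
    {N C L Z N' C' L' Z' : AddSubgroup V} (g : GBd EE A N C L Z) (g' : GBd EE A N' C' L' Z')
    (SD : ∀ s ∈ S, (∀ m ∈ brk V A, s • m ∈ brk V A) → ∀ m ∈ Z, s • m ∈ Z) : Z' = Z := by
  obtain ⟨F, i1, i2, e, f, d, up, lo, h, hr, rfl, rfl, rfl⟩ := g.nb.ex
  obtain ⟨F', i1', i2', e', f', d', up', lo', h', hr', rfl, rfl, rfl⟩ := g'.nb.ex
  have h5 : 2 < Nat.card F := by
    rw [← h.card_rt H.h2 H.hf, hr]; omega
  exact eq_Z_hy h h' H.h2 H.hf H.hno h5 H hr hr' g.oth g'.oth SD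

end main

end Cfsg.Agent.Omega.NOThreeL.RRed.Blk.UniZ
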